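import Cfsg.Agent.Lib.Helper2.HNMult.P2.Cert
set_option autoImplicit false
set_option maxRecDepth 1000000
set_option Elab.async false
namespace Cfsg.Agent.Lib.Helper2.HNMult.P2
open Cfsg.Agent.Lib.Helper4.Sparse
theorem tr_1228801 : chkTreeRange 7 piT parT 3 1228801 8192 = true := by decide +kernel
theorem tr_1236993 : chkTreeRange 7 piT parT 3 1236993 8192 = true := by decide +kernel
theorem tr_1245185 : chkTreeRange 7 piT parT 3 1245185 8192 = true := by decide +kernel
theorem tr_1253377 : chkTreeRange 7 piT parT 3 1253377 8192 = true := by decide +kernel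
theorem tr_1261569 : chkTreeRange 7 piT parT 3 1261569 8192 = true := by decide +kernel
theorem tr_1269761 : chkTreeRange 7 piT parT 3 1269761 8192 = true := by decide +kernel
theorem tr_1277953 : chkTreeRange 7 piT parT 3 1277953 8192 = true := by decide +kernel
theorem tr_1286145 : chkTreeRange 7 piT parT 3 1286145 8192 = true := by decide +kernel
theorem tr_1294337 : chkTreeRange 7 piT parT 3 1294337 8192 = true := by decide +kernel
theorem tr_1302529 : chkTreeRange 7 piT parT 3 1302529 8192 = true := by decide +kernel
theorem tr_1310721 : chkTreeRange 7 piT parT 3 1310721 8192 = true := by decide +kernel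
theorem tr_1318913 : chkTreeRange 7 piT parT 3 1318913 8192 = true := by decide +kernel
theorem tr_1327105 : chkTreeRange 7 piT parT 3 1327105 8192 = true := by decide +kernel
theorem tr_1335297 : chkTreeRange 7 piT parT 3 1335297 8192 = true := by decide +kernel
theorem tr_1343489 : chkTreeRange 7 piT parT 3 1343489 8192 = true := by decide +kernel
theorem treeP10 (j : ℕ) (h1 : 1228801 ≤ j) (h2 : j < 1351681) : chkTreeAt 7 piT parT 3 j = true := by
  rcases Nat.lt_or_ge j 1236993 with g0 | g0
  · exact chkTreeRange_spec 7 piT parT 3 1228801 8192 tr_1228801 j (by omega) (by omega)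
  rcases Nat.lt_or_ge j 1245185 with g1 | g1
  · exact chkTreeRange_spec 7 piT parT 3 1236993 8192 tr_1236993 j (by omega) (by omega)
  rcases Nat.lt_or_ge j 1253377 with g2 | g2
  · exact chkTreeRange_spec 7 piT parT 3 1245185 8192 tr_1245185 j (by omega) (by omega)
  rcases Nat.lt_or_ge j 1261569 with g3 | g3
  · exact chkTreeRange_spec 7 piT parT 3 1253377 8192 tr_1253377 j (by omega) (by omega)
  rcases Nat.lt_or_ge j 1269761 with g4 | g4
  · exact chkTreeRange_spec 7 piT parT 3 1261569 8192 tr_1261569 j (by omega) (by omega)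
  rcases Nat.lt_or_ge j 1277953 with g5 | g5
  · exact chkTreeRange_spec 7 piT parT 3 1269761 8192 tr_1269761 j (by omega) (by omega)
  rcases Nat.lt_or_ge j 1286145 with g6 | g6
  · exact chkTreeRange_spec 7 piT parT 3 1277953 8192 tr_1277953 j (by omega) (by omega)
  rcases Nat.lt_or_ge j 1294337 with g7 | g7
  · exact chkTreeRange_spec 7 piT parT 3 1286145 8192 tr_1286145 j (by omega) (by omega)
  rcases Nat.lt_or_ge j 1302529 with g8 | g8
  · exact chkTreeRange_spec 7 piT parT 3 1294337 8192 tr_1294337 j (by omega) (by omega)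
  rcases Nat.lt_or_ge j 1310721 with g9 | g9
  · exact chkTreeRange_spec 7 piT parT 3 1302529 8192 tr_1302529 j (by omega) (by omega)
  rcases Nat.lt_or_ge j 1318913 with g10 | g10
  · exact chkTreeRange_spec 7 piT parT 3 1310721 8192 tr_1310721 j (by omega) (by omega)
  rcases Nat.lt_or_ge j 1327105 with g11 | g11
  · exact chkTreeRange_spec 7 piT parT 3 1318913 8192 tr_1318913 j (by omega) (by omega)
  rcases Nat.lt_or_ge j 1335297 with g12 | g12
  · exact chkTreeRange_spec 7 piT parT 3 1327105 8192 tr_1327105 j (by omega) (by omega)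
  rcases Nat.lt_or_ge j 1343489 with g13 | g13
  · exact chkTreeRange_spec 7 piT parT 3 1335297 8192 tr_1335297 j (by omega) (by omega)
  exact chkTreeRange_spec 7 piT parT 3 1343489 8192 tr_1343489 j (by omega) (by omega)
end Cfsg.Agent.Lib.Helper2.HNMult.P2
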