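import Cfsg.Agent.Lib.Helper2.HNMult.P2.Cert
set_option autoImplicit false
set_option maxRecDepth 1000000
set_option Elab.async false
namespace Cfsg.Agent.Lib.Helper2.HNMult.P2
open Cfsg.Agent.Lib.Helper4.Sparse
theorem tr_737281 : chkTreeRange 7 piT parT 3 737281 8192 = true := by decide +kernel
theorem tr_745473 : chkTreeRange 7 piT parT 3 745473 8192 = true := by decide +kernel
theorem tr_753665 : chkTreeRange 7 piT parT 3 753665 8192 = true := by decide +kernel
theorem tr_761857 : chkTreeRange 7 piT parT 3 761857 8192 = true := by decide +kernel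
theorem tr_770049 : chkTreeRange 7 piT parT 3 770049 8192 = true := by decide +kernel
theorem tr_778241 : chkTreeRange 7 piT parT 3 778241 8192 = true := by decide +kernel
theorem tr_786433 : chkTreeRange 7 piT parT 3 786433 8192 = true := by decide +kernel
theorem tr_794625 : chkTreeRange 7 piT parT 3 794625 8192 = true := by decide +kernel
theorem tr_802817 : chkTreeRange 7 piT parT 3 802817 8192 = true := by decide +kernel
theorem tr_811009 : chkTreeRange 7 piT parT 3 811009 8192 = true := by decide +kernel
theorem tr_819201 : chkTreeRange 7 piT parT 3 819201 8192 = true := by decide +kernel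
theorem tr_827393 : chkTreeRange 7 piT parT 3 827393 8192 = true := by decide +kernel
theorem tr_835585 : chkTreeRange 7 piT parT 3 835585 8192 = true := by decide +kernel
theorem tr_843777 : chkTreeRange 7 piT parT 3 843777 8192 = true := by decide +kernel
theorem tr_851969 : chkTreeRange 7 piT parT 3 851969 8192 = true := by decide +kernel
theorem treeP6 (j : ℕ) (h1 : 737281 ≤ j) (h2 : j < 860161) : chkTreeAt 7 piT parT 3 j = true := by
  rcases Nat.lt_or_ge j 745473 with g0 | g0
  · exact chkTreeRange_spec 7 piT parT 3 737281 8192 tr_737281 j (by omega) (by omega)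
  rcases Nat.lt_or_ge j 753665 with g1 | g1
  · exact chkTreeRange_spec 7 piT parT 3 745473 8192 tr_745473 j (by omega) (by omega)
  rcases Nat.lt_or_ge j 761857 with g2 | g2
  · exact chkTreeRange_spec 7 piT parT 3 753665 8192 tr_753665 j (by omega) (by omega)
  rcases Nat.lt_or_ge j 770049 with g3 | g3
  · exact chkTreeRange_spec 7 piT parT 3 761857 8192 tr_761857 j (by omega) (by omega)
  rcases Nat.lt_or_ge j 778241 with g4 | g4
  · exact chkTreeRange_spec 7 piT parT 3 770049 8192 tr_770049 j (by omega) (by omega)
  rcases Nat.lt_or_ge j 786433 with g5 | g5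
  · exact chkTreeRange_spec 7 piT parT 3 778241 8192 tr_778241 j (by omega) (by omega)
  rcases Nat.lt_or_ge j 794625 with g6 | g6
  · exact chkTreeRange_spec 7 piT parT 3 786433 8192 tr_786433 j (by omega) (by omega)
  rcases Nat.lt_or_ge j 802817 with g7 | g7
  · exact chkTreeRange_spec 7 piT parT 3 794625 8192 tr_794625 j (by omega) (by omega)
  rcases Nat.lt_or_ge j 811009 with g8 | g8
  · exact chkTreeRange_spec 7 piT parT 3 802817 8192 tr_802817 j (by omega) (by omega)
  rcases Nat.lt_or_ge j 819201 with g9 | g9
  · exact chkTreeRange_spec 7 piT parT 3 811009 8192 tr_811009 j (by omega) (by omega)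
  rcases Nat.lt_or_ge j 827393 with g10 | g10
  · exact chkTreeRange_spec 7 piT parT 3 819201 8192 tr_819201 j (by omega) (by omega)
  rcases Nat.lt_or_ge j 835585 with g11 | g11
  · exact chkTreeRange_spec 7 piT parT 3 827393 8192 tr_827393 j (by omega) (by omega)
  rcases Nat.lt_or_ge j 843777 with g12 | g12
  · exact chkTreeRange_spec 7 piT parT 3 835585 8192 tr_835585 j (by omega) (by omega)
  rcases Nat.lt_or_ge j 851969 with g13 | g13
  · exact chkTreeRange_spec 7 piT parT 3 843777 8192 tr_843777 j (by omega) (by omega)
  exact chkTreeRange_spec 7 piT parT 3 851969 8192 tr_851969 j (by omega) (by omega)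
end Cfsg.Agent.Lib.Helper2.HNMult.P2
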