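import Cfsg.Agent.Lib.Helper2.HNMult.P2.Cert
set_option autoImplicit false
set_option maxRecDepth 1000000
set_option Elab.async false
namespace Cfsg.Agent.Lib.Helper2.HNMult.P2
open Cfsg.Agent.Lib.Helper4.Sparse
theorem tr_860161 : chkTreeRange 7 piT parT 3 860161 8192 = true := by decide +kernel
theorem tr_868353 : chkTreeRange 7 piT parT 3 868353 8192 = true := by decide +kernel
theorem tr_876545 : chkTreeRange 7 piT parT 3 876545 8192 = true := by decide +kernel
theorem tr_884737 : chkTreeRange 7 piT parT 3 884737 8192 = true := by decide +kernel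
theorem tr_892929 : chkTreeRange 7 piT parT 3 892929 8192 = true := by decide +kernel
theorem tr_901121 : chkTreeRange 7 piT parT 3 901121 8192 = true := by decide +kernel
theorem tr_909313 : chkTreeRange 7 piT parT 3 909313 8192 = true := by decide +kernel
theorem tr_917505 : chkTreeRange 7 piT parT 3 917505 8192 = true := by decide +kernel
theorem tr_925697 : chkTreeRange 7 piT parT 3 925697 8192 = true := by decide +kernel
theorem tr_933889 : chkTreeRange 7 piT parT 3 933889 8192 = true := by decide +kernel
theorem tr_942081 : chkTreeRange 7 piT parT 3 942081 8192 = true := by decide +kernel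
theorem tr_950273 : chkTreeRange 7 piT parT 3 950273 8192 = true := by decide +kernel
theorem tr_958465 : chkTreeRange 7 piT parT 3 958465 8192 = true := by decide +kernel
theorem tr_966657 : chkTreeRange 7 piT parT 3 966657 8192 = true := by decide +kernel
theorem tr_974849 : chkTreeRange 7 piT parT 3 974849 8192 = true := by decide +kernel
theorem treeP7 (j : ℕ) (h1 : 860161 ≤ j) (h2 : j < 983041) : chkTreeAt 7 piT parT 3 j = true := by
  rcases Nat.lt_or_ge j 868353 with g0 | g0
  · exact chkTreeRange_spec 7 piT parT 3 860161 8192 tr_860161 j (by omega) (by omega)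
  rcases Nat.lt_or_ge j 876545 with g1 | g1
  · exact chkTreeRange_spec 7 piT parT 3 868353 8192 tr_868353 j (by omega) (by omega)
  rcases Nat.lt_or_ge j 884737 with g2 | g2
  · exact chkTreeRange_spec 7 piT parT 3 876545 8192 tr_876545 j (by omega) (by omega)
  rcases Nat.lt_or_ge j 892929 with g3 | g3
  · exact chkTreeRange_spec 7 piT parT 3 884737 8192 tr_884737 j (by omega) (by omega)
  rcases Nat.lt_or_ge j 901121 with g4 | g4
  · exact chkTreeRange_spec 7 piT parT 3 892929 8192 tr_892929 j (by omega) (by omega)
  rcases Nat.lt_or_ge j 909313 with g5 | g5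
  · exact chkTreeRange_spec 7 piT parT 3 901121 8192 tr_901121 j (by omega) (by omega)
  rcases Nat.lt_or_ge j 917505 with g6 | g6
  · exact chkTreeRange_spec 7 piT parT 3 909313 8192 tr_909313 j (by omega) (by omega)
  rcases Nat.lt_or_ge j 925697 with g7 | g7
  · exact chkTreeRange_spec 7 piT parT 3 917505 8192 tr_917505 j (by omega) (by omega)
  rcases Nat.lt_or_ge j 933889 with g8 | g8
  · exact chkTreeRange_spec 7 piT parT 3 925697 8192 tr_925697 j (by omega) (by omega)
  rcases Nat.lt_or_ge j 942081 with g9 | g9
  · exact chkTreeRange_spec 7 piT parT 3 933889 8192 tr_933889 j (by omega) (by omega)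
  rcases Nat.lt_or_ge j 950273 with g10 | g10
  · exact chkTreeRange_spec 7 piT parT 3 942081 8192 tr_942081 j (by omega) (by omega)
  rcases Nat.lt_or_ge j 958465 with g11 | g11
  · exact chkTreeRange_spec 7 piT parT 3 950273 8192 tr_950273 j (by omega) (by omega)
  rcases Nat.lt_or_ge j 966657 with g12 | g12
  · exact chkTreeRange_spec 7 piT parT 3 958465 8192 tr_958465 j (by omega) (by omega)
  rcases Nat.lt_or_ge j 974849 with g13 | g13
  · exact chkTreeRange_spec 7 piT parT 3 966657 8192 tr_966657 j (by omega) (by omega)
  exact chkTreeRange_spec 7 piT parT 3 974849 8192 tr_974849 j (by omega) (by omega)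
end Cfsg.Agent.Lib.Helper2.HNMult.P2
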