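import Cfsg.Agent.Lib.Helper2.HNMult.P2.Cert
set_option autoImplicit false
set_option maxRecDepth 1000000
set_option Elab.async false
namespace Cfsg.Agent.Lib.Helper2.HNMult.P2
open Cfsg.Agent.Lib.Helper4.Sparse
theorem tr_1105921 : chkTreeRange 7 piT parT 3 1105921 8192 = true := by decide +kernel
theorem tr_1114113 : chkTreeRange 7 piT parT 3 1114113 8192 = true := by decide +kernel
theorem tr_1122305 : chkTreeRange 7 piT parT 3 1122305 8192 = true := by decide +kernel
theorem tr_1130497 : chkTreeRange 7 piT parT 3 1130497 8192 = true := by decide +kernel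
theorem tr_1138689 : chkTreeRange 7 piT parT 3 1138689 8192 = true := by decide +kernel
theorem tr_1146881 : chkTreeRange 7 piT parT 3 1146881 8192 = true := by decide +kernel
theorem tr_1155073 : chkTreeRange 7 piT parT 3 1155073 8192 = true := by decide +kernel
theorem tr_1163265 : chkTreeRange 7 piT parT 3 1163265 8192 = true := by decide +kernel
theorem tr_1171457 : chkTreeRange 7 piT parT 3 1171457 8192 = true := by decide +kernel
theorem tr_1179649 : chkTreeRange 7 piT parT 3 1179649 8192 = true := by decide +kernel
theorem tr_1187841 : chkTreeRange 7 piT parT 3 1187841 8192 = true := by decide +kernel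
theorem tr_1196033 : chkTreeRange 7 piT parT 3 1196033 8192 = true := by decide +kernel
theorem tr_1204225 : chkTreeRange 7 piT parT 3 1204225 8192 = true := by decide +kernel
theorem tr_1212417 : chkTreeRange 7 piT parT 3 1212417 8192 = true := by decide +kernel
theorem tr_1220609 : chkTreeRange 7 piT parT 3 1220609 8192 = true := by decide +kernel
theorem treeP9 (j : ℕ) (h1 : 1105921 ≤ j) (h2 : j < 1228801) : chkTreeAt 7 piT parT 3 j = true := by
  rcases Nat.lt_or_ge j 1114113 with g0 | g0
  · exact chkTreeRange_spec 7 piT parT 3 1105921 8192 tr_1105921 j (by omega) (by omega)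
  rcases Nat.lt_or_ge j 1122305 with g1 | g1
  · exact chkTreeRange_spec 7 piT parT 3 1114113 8192 tr_1114113 j (by omega) (by omega)
  rcases Nat.lt_or_ge j 1130497 with g2 | g2
  · exact chkTreeRange_spec 7 piT parT 3 1122305 8192 tr_1122305 j (by omega) (by omega)
  rcases Nat.lt_or_ge j 1138689 with g3 | g3
  · exact chkTreeRange_spec 7 piT parT 3 1130497 8192 tr_1130497 j (by omega) (by omega)
  rcases Nat.lt_or_ge j 1146881 with g4 | g4
  · exact chkTreeRange_spec 7 piT parT 3 1138689 8192 tr_1138689 j (by omega) (by omega)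
  rcases Nat.lt_or_ge j 1155073 with g5 | g5
  · exact chkTreeRange_spec 7 piT parT 3 1146881 8192 tr_1146881 j (by omega) (by omega)
  rcases Nat.lt_or_ge j 1163265 with g6 | g6
  · exact chkTreeRange_spec 7 piT parT 3 1155073 8192 tr_1155073 j (by omega) (by omega)
  rcases Nat.lt_or_ge j 1171457 with g7 | g7
  · exact chkTreeRange_spec 7 piT parT 3 1163265 8192 tr_1163265 j (by omega) (by omega)
  rcases Nat.lt_or_ge j 1179649 with g8 | g8
  · exact chkTreeRange_spec 7 piT parT 3 1171457 8192 tr_1171457 j (by omega) (by omega)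
  rcases Nat.lt_or_ge j 1187841 with g9 | g9
  · exact chkTreeRange_spec 7 piT parT 3 1179649 8192 tr_1179649 j (by omega) (by omega)
  rcases Nat.lt_or_ge j 1196033 with g10 | g10
  · exact chkTreeRange_spec 7 piT parT 3 1187841 8192 tr_1187841 j (by omega) (by omega)
  rcases Nat.lt_or_ge j 1204225 with g11 | g11
  · exact chkTreeRange_spec 7 piT parT 3 1196033 8192 tr_1196033 j (by omega) (by omega)
  rcases Nat.lt_or_ge j 1212417 with g12 | g12
  · exact chkTreeRange_spec 7 piT parT 3 1204225 8192 tr_1204225 j (by omega) (by omega)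
  rcases Nat.lt_or_ge j 1220609 with g13 | g13
  · exact chkTreeRange_spec 7 piT parT 3 1212417 8192 tr_1212417 j (by omega) (by omega)
  exact chkTreeRange_spec 7 piT parT 3 1220609 8192 tr_1220609 j (by omega) (by omega)
end Cfsg.Agent.Lib.Helper2.HNMult.P2
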