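import Cfsg.Agent.Lib.Helper2.HNMult.P2.P0
import Cfsg.Agent.Lib.Helper2.HNMult.P2.P1
import Cfsg.Agent.Lib.Helper2.HNMult.P2.P2
import Cfsg.Agent.Lib.Helper2.HNMult.P2.P3
import Cfsg.Agent.Lib.Helper2.HNMult.P2.P4
import Cfsg.Agent.Lib.Helper2.HNMult.P2.P5
import Cfsg.Agent.Lib.Helper2.HNMult.P2.P6
import Cfsg.Agent.Lib.Helper2.HNMult.P2.P7
import Cfsg.Agent.Lib.Helper2.HNMult.P2.P8
import Cfsg.Agent.Lib.Helper2.HNMult.P2.P9
import Cfsg.Agent.Lib.Helper2.HNMult.P2.P10
import Cfsg.Agent.Lib.Helper2.HNMult.P2.P11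
import Cfsg.Agent.Lib.Helper2.HNMult.P2.P12
set_option autoImplicit false
set_option maxRecDepth 1000000

/-! # The structural check of the data -/

namespace Cfsg.Agent.Lib.Helper2.HNMult.P2
open Cfsg.Agent.Lib.Helper1.StemSA Cfsg.Agent.Lib.Helper4.Sparse

theorem tree_all (j : ℕ) (h1 : 1 ≤ j) (h2 : j < 1539000) : chkTreeAt 7 piT parT 3 j = true := by
  rcases Nat.lt_or_ge j 122881 with g0 | g0
  · exact treeP0 j (by omega) g0
  rcases Nat.lt_or_ge j 245761 with g1 | g1
  · exact treeP1 j (by omega) g1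
  rcases Nat.lt_or_ge j 368641 with g2 | g2
  · exact treeP2 j (by omega) g2
  rcases Nat.lt_or_ge j 491521 with g3 | g3
  · exact treeP3 j (by omega) g3
  rcases Nat.lt_or_ge j 614401 with g4 | g4
  · exact treeP4 j (by omega) g4
  rcases Nat.lt_or_ge j 737281 with g5 | g5
  · exact treeP5 j (by omega) g5
  rcases Nat.lt_or_ge j 860161 with g6 | g6
  · exact treeP6 j (by omega) g6
  rcases Nat.lt_or_ge j 983041 with g7 | g7
  · exact treeP7 j (by omega) g7
  rcases Nat.lt_or_ge j 1105921 with g8 | g8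
  · exact treeP8 j (by omega) g8
  rcases Nat.lt_or_ge j 1228801 with g9 | g9
  · exact treeP9 j (by omega) g9
  rcases Nat.lt_or_ge j 1351681 with g10 | g10
  · exact treeP10 j (by omega) g10
  rcases Nat.lt_or_ge j 1474561 with g11 | g11
  · exact treeP11 j (by omega) g11
  exact treeP12 j (by omega) h2

theorem rels_lt : ∀ w ∈ rels, (∀ i ∈ w.1, i < 7) ∧ ∀ i ∈ w.2, i < 7 := by decide +kernel

/-- the structural check, from the bound on the tables -/
theorem chkStruct_of (hpi : ∀ i < 7, ∀ j < 1539000, piT i j < 1539000) : D.chkStruct = true :=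
  chkStruct_mkD 7 1539000 piT parT 3 rels hpi tree_all rels_lt

theorem D_ords : ∀ i < D.k, D.ords.getD i 0 = 0 := mkD_ords 7 1539000 piT parT 3 rels

theorem D_k : D.k = 7 := rfl
theorem D_m : D.m = 1539000 := rfl
theorem D_pi : D.pi = piT := rfl
theorem D_rels : D.rels = rels := rfl

end Cfsg.Agent.Lib.Helper2.HNMult.P2
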