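import Cfsg.Agent.Lib.Helper2.HNMult.P2.Cert
set_option autoImplicit false
set_option maxRecDepth 1000000
set_option Elab.async false
namespace Cfsg.Agent.Lib.Helper2.HNMult.P2
open Cfsg.Agent.Lib.Helper4.Sparse Cfsg.Agent.Lib.Helper2.SparseF
theorem ck_2424 : chkURangeF D C relF 796 1237356000 4964352 2048 = true := by decide +kernel
theorem ck_2425 : chkURangeF D C relF 796 1237356000 4966400 2048 = true := by decide +kernel
theorem ck_2426 : chkURangeF D C relF 796 1237356000 4968448 2048 = true := by decide +kernel
theorem ck_2427 : chkURangeF D C relF 796 1237356000 4970496 2048 = true := by decide +kernel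
theorem ck_2428 : chkURangeF D C relF 796 1237356000 4972544 2048 = true := by decide +kernel
theorem ck_2429 : chkURangeF D C relF 796 1237356000 4974592 2048 = true := by decide +kernel
theorem ck_2430 : chkURangeF D C relF 796 1237356000 4976640 2048 = true := by decide +kernel
theorem ck_2431 : chkURangeF D C relF 796 1237356000 4978688 2048 = true := by decide +kernel
theorem ck_2432 : chkURangeF D C relF 796 1237356000 4980736 2048 = true := by decide +kernel
theorem ck_2433 : chkURangeF D C relF 796 1237356000 4982784 2048 = true := by decide +kernel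
theorem ck_2434 : chkURangeF D C relF 796 1237356000 4984832 2048 = true := by decide +kernel
theorem ck_2435 : chkURangeF D C relF 796 1237356000 4986880 2048 = true := by decide +kernel
theorem ck_2436 : chkURangeF D C relF 796 1237356000 4988928 2048 = true := by decide +kernel
theorem ck_2437 : chkURangeF D C relF 796 1237356000 4990976 2048 = true := by decide +kernel
theorem ck_2438 : chkURangeF D C relF 796 1237356000 4993024 2048 = true := by decide +kernel
theorem ck_2439 : chkURangeF D C relF 796 1237356000 4995072 2048 = true := by decide +kernel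
theorem ck_2440 : chkURangeF D C relF 796 1237356000 4997120 2048 = true := by decide +kernel
theorem ck_2441 : chkURangeF D C relF 796 1237356000 4999168 2048 = true := by decide +kernel
theorem ck_2442 : chkURangeF D C relF 796 1237356000 5001216 2048 = true := by decide +kernel
theorem ck_2443 : chkURangeF D C relF 796 1237356000 5003264 2048 = true := by decide +kernel
theorem ck_2444 : chkURangeF D C relF 796 1237356000 5005312 2048 = true := by decide +kernel
theorem ck_2445 : chkURangeF D C relF 796 1237356000 5007360 2048 = true := by decide +kernel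
theorem ck_2446 : chkURangeF D C relF 796 1237356000 5009408 2048 = true := by decide +kernel
theorem ck_2447 : chkURangeF D C relF 796 1237356000 5011456 2048 = true := by decide +kernel
theorem chkU_101 (b : ℕ) (h1 : 4964352 ≤ b) (h2 : b < 5013504) : chkU D C b = true := by
  rcases Nat.lt_or_ge b 4966400 with g0 | g0
  · exact chkURangeF_spec C relF_hyp 1237356000 tc_eq 4964352 2048 ck_2424 b (by omega) (by omega)
  rcases Nat.lt_or_ge b 4968448 with g1 | g1
  · exact chkURangeF_spec C relF_hyp 1237356000 tc_eq 4966400 2048 ck_2425 b (by omega) (by omega)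
  rcases Nat.lt_or_ge b 4970496 with g2 | g2
  · exact chkURangeF_spec C relF_hyp 1237356000 tc_eq 4968448 2048 ck_2426 b (by omega) (by omega)
  rcases Nat.lt_or_ge b 4972544 with g3 | g3
  · exact chkURangeF_spec C relF_hyp 1237356000 tc_eq 4970496 2048 ck_2427 b (by omega) (by omega)
  rcases Nat.lt_or_ge b 4974592 with g4 | g4
  · exact chkURangeF_spec C relF_hyp 1237356000 tc_eq 4972544 2048 ck_2428 b (by omega) (by omega)
  rcases Nat.lt_or_ge b 4976640 with g5 | g5
  · exact chkURangeF_spec C relF_hyp 1237356000 tc_eq 4974592 2048 ck_2429 b (by omega) (by omega)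
  rcases Nat.lt_or_ge b 4978688 with g6 | g6
  · exact chkURangeF_spec C relF_hyp 1237356000 tc_eq 4976640 2048 ck_2430 b (by omega) (by omega)
  rcases Nat.lt_or_ge b 4980736 with g7 | g7
  · exact chkURangeF_spec C relF_hyp 1237356000 tc_eq 4978688 2048 ck_2431 b (by omega) (by omega)
  rcases Nat.lt_or_ge b 4982784 with g8 | g8
  · exact chkURangeF_spec C relF_hyp 1237356000 tc_eq 4980736 2048 ck_2432 b (by omega) (by omega)
  rcases Nat.lt_or_ge b 4984832 with g9 | g9
  · exact chkURangeF_spec C relF_hyp 1237356000 tc_eq 4982784 2048 ck_2433 b (by omega) (by omega)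
  rcases Nat.lt_or_ge b 4986880 with g10 | g10
  · exact chkURangeF_spec C relF_hyp 1237356000 tc_eq 4984832 2048 ck_2434 b (by omega) (by omega)
  rcases Nat.lt_or_ge b 4988928 with g11 | g11
  · exact chkURangeF_spec C relF_hyp 1237356000 tc_eq 4986880 2048 ck_2435 b (by omega) (by omega)
  rcases Nat.lt_or_ge b 4990976 with g12 | g12
  · exact chkURangeF_spec C relF_hyp 1237356000 tc_eq 4988928 2048 ck_2436 b (by omega) (by omega)
  rcases Nat.lt_or_ge b 4993024 with g13 | g13
  · exact chkURangeF_spec C relF_hyp 1237356000 tc_eq 4990976 2048 ck_2437 b (by omega) (by omega)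
  rcases Nat.lt_or_ge b 4995072 with g14 | g14
  · exact chkURangeF_spec C relF_hyp 1237356000 tc_eq 4993024 2048 ck_2438 b (by omega) (by omega)
  rcases Nat.lt_or_ge b 4997120 with g15 | g15
  · exact chkURangeF_spec C relF_hyp 1237356000 tc_eq 4995072 2048 ck_2439 b (by omega) (by omega)
  rcases Nat.lt_or_ge b 4999168 with g16 | g16
  · exact chkURangeF_spec C relF_hyp 1237356000 tc_eq 4997120 2048 ck_2440 b (by omega) (by omega)
  rcases Nat.lt_or_ge b 5001216 with g17 | g17
  · exact chkURangeF_spec C relF_hyp 1237356000 tc_eq 4999168 2048 ck_2441 b (by omega) (by omega)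
  rcases Nat.lt_or_ge b 5003264 with g18 | g18
  · exact chkURangeF_spec C relF_hyp 1237356000 tc_eq 5001216 2048 ck_2442 b (by omega) (by omega)
  rcases Nat.lt_or_ge b 5005312 with g19 | g19
  · exact chkURangeF_spec C relF_hyp 1237356000 tc_eq 5003264 2048 ck_2443 b (by omega) (by omega)
  rcases Nat.lt_or_ge b 5007360 with g20 | g20
  · exact chkURangeF_spec C relF_hyp 1237356000 tc_eq 5005312 2048 ck_2444 b (by omega) (by omega)
  rcases Nat.lt_or_ge b 5009408 with g21 | g21
  · exact chkURangeF_spec C relF_hyp 1237356000 tc_eq 5007360 2048 ck_2445 b (by omega) (by omega)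
  rcases Nat.lt_or_ge b 5011456 with g22 | g22
  · exact chkURangeF_spec C relF_hyp 1237356000 tc_eq 5009408 2048 ck_2446 b (by omega) (by omega)
  exact chkURangeF_spec C relF_hyp 1237356000 tc_eq 5011456 2048 ck_2447 b (by omega) (by omega)
end Cfsg.Agent.Lib.Helper2.HNMult.P2
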