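import Cfsg.Agent.Lib.Helper2.HNMult.P2.Cert
set_option autoImplicit false
set_option maxRecDepth 1000000
set_option Elab.async false
namespace Cfsg.Agent.Lib.Helper2.HNMult.P2
open Cfsg.Agent.Lib.Helper4.Sparse Cfsg.Agent.Lib.Helper2.SparseF
theorem ck_2520 : chkURangeF D C relF 796 1237356000 5160960 2048 = true := by decide +kernel
theorem ck_2521 : chkURangeF D C relF 796 1237356000 5163008 2048 = true := by decide +kernel
theorem ck_2522 : chkURangeF D C relF 796 1237356000 5165056 2048 = true := by decide +kernel
theorem ck_2523 : chkURangeF D C relF 796 1237356000 5167104 2048 = true := by decide +kernel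
theorem ck_2524 : chkURangeF D C relF 796 1237356000 5169152 2048 = true := by decide +kernel
theorem ck_2525 : chkURangeF D C relF 796 1237356000 5171200 2048 = true := by decide +kernel
theorem ck_2526 : chkURangeF D C relF 796 1237356000 5173248 2048 = true := by decide +kernel
theorem ck_2527 : chkURangeF D C relF 796 1237356000 5175296 2048 = true := by decide +kernel
theorem ck_2528 : chkURangeF D C relF 796 1237356000 5177344 2048 = true := by decide +kernel
theorem ck_2529 : chkURangeF D C relF 796 1237356000 5179392 2048 = true := by decide +kernel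
theorem ck_2530 : chkURangeF D C relF 796 1237356000 5181440 2048 = true := by decide +kernel
theorem ck_2531 : chkURangeF D C relF 796 1237356000 5183488 2048 = true := by decide +kernel
theorem ck_2532 : chkURangeF D C relF 796 1237356000 5185536 2048 = true := by decide +kernel
theorem ck_2533 : chkURangeF D C relF 796 1237356000 5187584 2048 = true := by decide +kernel
theorem ck_2534 : chkURangeF D C relF 796 1237356000 5189632 2048 = true := by decide +kernel
theorem ck_2535 : chkURangeF D C relF 796 1237356000 5191680 2048 = true := by decide +kernel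
theorem ck_2536 : chkURangeF D C relF 796 1237356000 5193728 2048 = true := by decide +kernel
theorem ck_2537 : chkURangeF D C relF 796 1237356000 5195776 2048 = true := by decide +kernel
theorem ck_2538 : chkURangeF D C relF 796 1237356000 5197824 2048 = true := by decide +kernel
theorem ck_2539 : chkURangeF D C relF 796 1237356000 5199872 2048 = true := by decide +kernel
theorem ck_2540 : chkURangeF D C relF 796 1237356000 5201920 2048 = true := by decide +kernel
theorem ck_2541 : chkURangeF D C relF 796 1237356000 5203968 2048 = true := by decide +kernel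
theorem ck_2542 : chkURangeF D C relF 796 1237356000 5206016 2048 = true := by decide +kernel
theorem ck_2543 : chkURangeF D C relF 796 1237356000 5208064 2048 = true := by decide +kernel
theorem chkU_105 (b : ℕ) (h1 : 5160960 ≤ b) (h2 : b < 5210112) : chkU D C b = true := by
  rcases Nat.lt_or_ge b 5163008 with g0 | g0
  · exact chkURangeF_spec C relF_hyp 1237356000 tc_eq 5160960 2048 ck_2520 b (by omega) (by omega)
  rcases Nat.lt_or_ge b 5165056 with g1 | g1
  · exact chkURangeF_spec C relF_hyp 1237356000 tc_eq 5163008 2048 ck_2521 b (by omega) (by omega)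
  rcases Nat.lt_or_ge b 5167104 with g2 | g2
  · exact chkURangeF_spec C relF_hyp 1237356000 tc_eq 5165056 2048 ck_2522 b (by omega) (by omega)
  rcases Nat.lt_or_ge b 5169152 with g3 | g3
  · exact chkURangeF_spec C relF_hyp 1237356000 tc_eq 5167104 2048 ck_2523 b (by omega) (by omega)
  rcases Nat.lt_or_ge b 5171200 with g4 | g4
  · exact chkURangeF_spec C relF_hyp 1237356000 tc_eq 5169152 2048 ck_2524 b (by omega) (by omega)
  rcases Nat.lt_or_ge b 5173248 with g5 | g5
  · exact chkURangeF_spec C relF_hyp 1237356000 tc_eq 5171200 2048 ck_2525 b (by omega) (by omega)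
  rcases Nat.lt_or_ge b 5175296 with g6 | g6
  · exact chkURangeF_spec C relF_hyp 1237356000 tc_eq 5173248 2048 ck_2526 b (by omega) (by omega)
  rcases Nat.lt_or_ge b 5177344 with g7 | g7
  · exact chkURangeF_spec C relF_hyp 1237356000 tc_eq 5175296 2048 ck_2527 b (by omega) (by omega)
  rcases Nat.lt_or_ge b 5179392 with g8 | g8
  · exact chkURangeF_spec C relF_hyp 1237356000 tc_eq 5177344 2048 ck_2528 b (by omega) (by omega)
  rcases Nat.lt_or_ge b 5181440 with g9 | g9
  · exact chkURangeF_spec C relF_hyp 1237356000 tc_eq 5179392 2048 ck_2529 b (by omega) (by omega)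
  rcases Nat.lt_or_ge b 5183488 with g10 | g10
  · exact chkURangeF_spec C relF_hyp 1237356000 tc_eq 5181440 2048 ck_2530 b (by omega) (by omega)
  rcases Nat.lt_or_ge b 5185536 with g11 | g11
  · exact chkURangeF_spec C relF_hyp 1237356000 tc_eq 5183488 2048 ck_2531 b (by omega) (by omega)
  rcases Nat.lt_or_ge b 5187584 with g12 | g12
  · exact chkURangeF_spec C relF_hyp 1237356000 tc_eq 5185536 2048 ck_2532 b (by omega) (by omega)
  rcases Nat.lt_or_ge b 5189632 with g13 | g13
  · exact chkURangeF_spec C relF_hyp 1237356000 tc_eq 5187584 2048 ck_2533 b (by omega) (by omega)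
  rcases Nat.lt_or_ge b 5191680 with g14 | g14
  · exact chkURangeF_spec C relF_hyp 1237356000 tc_eq 5189632 2048 ck_2534 b (by omega) (by omega)
  rcases Nat.lt_or_ge b 5193728 with g15 | g15
  · exact chkURangeF_spec C relF_hyp 1237356000 tc_eq 5191680 2048 ck_2535 b (by omega) (by omega)
  rcases Nat.lt_or_ge b 5195776 with g16 | g16
  · exact chkURangeF_spec C relF_hyp 1237356000 tc_eq 5193728 2048 ck_2536 b (by omega) (by omega)
  rcases Nat.lt_or_ge b 5197824 with g17 | g17
  · exact chkURangeF_spec C relF_hyp 1237356000 tc_eq 5195776 2048 ck_2537 b (by omega) (by omega)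
  rcases Nat.lt_or_ge b 5199872 with g18 | g18
  · exact chkURangeF_spec C relF_hyp 1237356000 tc_eq 5197824 2048 ck_2538 b (by omega) (by omega)
  rcases Nat.lt_or_ge b 5201920 with g19 | g19
  · exact chkURangeF_spec C relF_hyp 1237356000 tc_eq 5199872 2048 ck_2539 b (by omega) (by omega)
  rcases Nat.lt_or_ge b 5203968 with g20 | g20
  · exact chkURangeF_spec C relF_hyp 1237356000 tc_eq 5201920 2048 ck_2540 b (by omega) (by omega)
  rcases Nat.lt_or_ge b 5206016 with g21 | g21
  · exact chkURangeF_spec C relF_hyp 1237356000 tc_eq 5203968 2048 ck_2541 b (by omega) (by omega)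
  rcases Nat.lt_or_ge b 5208064 with g22 | g22
  · exact chkURangeF_spec C relF_hyp 1237356000 tc_eq 5206016 2048 ck_2542 b (by omega) (by omega)
  exact chkURangeF_spec C relF_hyp 1237356000 tc_eq 5208064 2048 ck_2543 b (by omega) (by omega)
end Cfsg.Agent.Lib.Helper2.HNMult.P2
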