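import Cfsg.Agent.Lib.Helper2.HNMult.P2.Cert
set_option autoImplicit false
set_option maxRecDepth 1000000
set_option Elab.async false
namespace Cfsg.Agent.Lib.Helper2.HNMult.P2
open Cfsg.Agent.Lib.Helper4.Sparse Cfsg.Agent.Lib.Helper2.SparseF
theorem ck_2592 : chkURangeF D C relF 796 1237356000 5308416 2048 = true := by decide +kernel
theorem ck_2593 : chkURangeF D C relF 796 1237356000 5310464 2048 = true := by decide +kernel
theorem ck_2594 : chkURangeF D C relF 796 1237356000 5312512 2048 = true := by decide +kernel
theorem ck_2595 : chkURangeF D C relF 796 1237356000 5314560 2048 = true := by decide +kernel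
theorem ck_2596 : chkURangeF D C relF 796 1237356000 5316608 2048 = true := by decide +kernel
theorem ck_2597 : chkURangeF D C relF 796 1237356000 5318656 2048 = true := by decide +kernel
theorem ck_2598 : chkURangeF D C relF 796 1237356000 5320704 2048 = true := by decide +kernel
theorem ck_2599 : chkURangeF D C relF 796 1237356000 5322752 2048 = true := by decide +kernel
theorem ck_2600 : chkURangeF D C relF 796 1237356000 5324800 2048 = true := by decide +kernel
theorem ck_2601 : chkURangeF D C relF 796 1237356000 5326848 2048 = true := by decide +kernel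
theorem ck_2602 : chkURangeF D C relF 796 1237356000 5328896 2048 = true := by decide +kernel
theorem ck_2603 : chkURangeF D C relF 796 1237356000 5330944 2048 = true := by decide +kernel
theorem ck_2604 : chkURangeF D C relF 796 1237356000 5332992 2048 = true := by decide +kernel
theorem ck_2605 : chkURangeF D C relF 796 1237356000 5335040 2048 = true := by decide +kernel
theorem ck_2606 : chkURangeF D C relF 796 1237356000 5337088 2048 = true := by decide +kernel
theorem ck_2607 : chkURangeF D C relF 796 1237356000 5339136 2048 = true := by decide +kernel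
theorem ck_2608 : chkURangeF D C relF 796 1237356000 5341184 2048 = true := by decide +kernel
theorem ck_2609 : chkURangeF D C relF 796 1237356000 5343232 2048 = true := by decide +kernel
theorem ck_2610 : chkURangeF D C relF 796 1237356000 5345280 2048 = true := by decide +kernel
theorem ck_2611 : chkURangeF D C relF 796 1237356000 5347328 2048 = true := by decide +kernel
theorem ck_2612 : chkURangeF D C relF 796 1237356000 5349376 2048 = true := by decide +kernel
theorem ck_2613 : chkURangeF D C relF 796 1237356000 5351424 2048 = true := by decide +kernel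
theorem ck_2614 : chkURangeF D C relF 796 1237356000 5353472 2048 = true := by decide +kernel
theorem ck_2615 : chkURangeF D C relF 796 1237356000 5355520 2048 = true := by decide +kernel
theorem chkU_108 (b : ℕ) (h1 : 5308416 ≤ b) (h2 : b < 5357568) : chkU D C b = true := by
  rcases Nat.lt_or_ge b 5310464 with g0 | g0
  · exact chkURangeF_spec C relF_hyp 1237356000 tc_eq 5308416 2048 ck_2592 b (by omega) (by omega)
  rcases Nat.lt_or_ge b 5312512 with g1 | g1
  · exact chkURangeF_spec C relF_hyp 1237356000 tc_eq 5310464 2048 ck_2593 b (by omega) (by omega)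
  rcases Nat.lt_or_ge b 5314560 with g2 | g2
  · exact chkURangeF_spec C relF_hyp 1237356000 tc_eq 5312512 2048 ck_2594 b (by omega) (by omega)
  rcases Nat.lt_or_ge b 5316608 with g3 | g3
  · exact chkURangeF_spec C relF_hyp 1237356000 tc_eq 5314560 2048 ck_2595 b (by omega) (by omega)
  rcases Nat.lt_or_ge b 5318656 with g4 | g4
  · exact chkURangeF_spec C relF_hyp 1237356000 tc_eq 5316608 2048 ck_2596 b (by omega) (by omega)
  rcases Nat.lt_or_ge b 5320704 with g5 | g5
  · exact chkURangeF_spec C relF_hyp 1237356000 tc_eq 5318656 2048 ck_2597 b (by omega) (by omega)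
  rcases Nat.lt_or_ge b 5322752 with g6 | g6
  · exact chkURangeF_spec C relF_hyp 1237356000 tc_eq 5320704 2048 ck_2598 b (by omega) (by omega)
  rcases Nat.lt_or_ge b 5324800 with g7 | g7
  · exact chkURangeF_spec C relF_hyp 1237356000 tc_eq 5322752 2048 ck_2599 b (by omega) (by omega)
  rcases Nat.lt_or_ge b 5326848 with g8 | g8
  · exact chkURangeF_spec C relF_hyp 1237356000 tc_eq 5324800 2048 ck_2600 b (by omega) (by omega)
  rcases Nat.lt_or_ge b 5328896 with g9 | g9
  · exact chkURangeF_spec C relF_hyp 1237356000 tc_eq 5326848 2048 ck_2601 b (by omega) (by omega)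
  rcases Nat.lt_or_ge b 5330944 with g10 | g10
  · exact chkURangeF_spec C relF_hyp 1237356000 tc_eq 5328896 2048 ck_2602 b (by omega) (by omega)
  rcases Nat.lt_or_ge b 5332992 with g11 | g11
  · exact chkURangeF_spec C relF_hyp 1237356000 tc_eq 5330944 2048 ck_2603 b (by omega) (by omega)
  rcases Nat.lt_or_ge b 5335040 with g12 | g12
  · exact chkURangeF_spec C relF_hyp 1237356000 tc_eq 5332992 2048 ck_2604 b (by omega) (by omega)
  rcases Nat.lt_or_ge b 5337088 with g13 | g13
  · exact chkURangeF_spec C relF_hyp 1237356000 tc_eq 5335040 2048 ck_2605 b (by omega) (by omega)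
  rcases Nat.lt_or_ge b 5339136 with g14 | g14
  · exact chkURangeF_spec C relF_hyp 1237356000 tc_eq 5337088 2048 ck_2606 b (by omega) (by omega)
  rcases Nat.lt_or_ge b 5341184 with g15 | g15
  · exact chkURangeF_spec C relF_hyp 1237356000 tc_eq 5339136 2048 ck_2607 b (by omega) (by omega)
  rcases Nat.lt_or_ge b 5343232 with g16 | g16
  · exact chkURangeF_spec C relF_hyp 1237356000 tc_eq 5341184 2048 ck_2608 b (by omega) (by omega)
  rcases Nat.lt_or_ge b 5345280 with g17 | g17
  · exact chkURangeF_spec C relF_hyp 1237356000 tc_eq 5343232 2048 ck_2609 b (by omega) (by omega)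
  rcases Nat.lt_or_ge b 5347328 with g18 | g18
  · exact chkURangeF_spec C relF_hyp 1237356000 tc_eq 5345280 2048 ck_2610 b (by omega) (by omega)
  rcases Nat.lt_or_ge b 5349376 with g19 | g19
  · exact chkURangeF_spec C relF_hyp 1237356000 tc_eq 5347328 2048 ck_2611 b (by omega) (by omega)
  rcases Nat.lt_or_ge b 5351424 with g20 | g20
  · exact chkURangeF_spec C relF_hyp 1237356000 tc_eq 5349376 2048 ck_2612 b (by omega) (by omega)
  rcases Nat.lt_or_ge b 5353472 with g21 | g21
  · exact chkURangeF_spec C relF_hyp 1237356000 tc_eq 5351424 2048 ck_2613 b (by omega) (by omega)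
  rcases Nat.lt_or_ge b 5355520 with g22 | g22
  · exact chkURangeF_spec C relF_hyp 1237356000 tc_eq 5353472 2048 ck_2614 b (by omega) (by omega)
  exact chkURangeF_spec C relF_hyp 1237356000 tc_eq 5355520 2048 ck_2615 b (by omega) (by omega)
end Cfsg.Agent.Lib.Helper2.HNMult.P2
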