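import Cfsg.Agent.Lib.Helper2.HNMult.P2.Cert
set_option autoImplicit false
set_option maxRecDepth 1000000
set_option Elab.async false
namespace Cfsg.Agent.Lib.Helper2.HNMult.P2
open Cfsg.Agent.Lib.Helper4.Sparse Cfsg.Agent.Lib.Helper2.SparseF
theorem ck_2664 : chkURangeF D C relF 796 1237356000 5455872 2048 = true := by decide +kernel
theorem ck_2665 : chkURangeF D C relF 796 1237356000 5457920 2048 = true := by decide +kernel
theorem ck_2666 : chkURangeF D C relF 796 1237356000 5459968 2048 = true := by decide +kernel
theorem ck_2667 : chkURangeF D C relF 796 1237356000 5462016 2048 = true := by decide +kernel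
theorem ck_2668 : chkURangeF D C relF 796 1237356000 5464064 2048 = true := by decide +kernel
theorem ck_2669 : chkURangeF D C relF 796 1237356000 5466112 2048 = true := by decide +kernel
theorem ck_2670 : chkURangeF D C relF 796 1237356000 5468160 2048 = true := by decide +kernel
theorem ck_2671 : chkURangeF D C relF 796 1237356000 5470208 2048 = true := by decide +kernel
theorem ck_2672 : chkURangeF D C relF 796 1237356000 5472256 2048 = true := by decide +kernel
theorem ck_2673 : chkURangeF D C relF 796 1237356000 5474304 2048 = true := by decide +kernel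
theorem ck_2674 : chkURangeF D C relF 796 1237356000 5476352 2048 = true := by decide +kernel
theorem ck_2675 : chkURangeF D C relF 796 1237356000 5478400 2048 = true := by decide +kernel
theorem ck_2676 : chkURangeF D C relF 796 1237356000 5480448 2048 = true := by decide +kernel
theorem ck_2677 : chkURangeF D C relF 796 1237356000 5482496 2048 = true := by decide +kernel
theorem ck_2678 : chkURangeF D C relF 796 1237356000 5484544 2048 = true := by decide +kernel
theorem ck_2679 : chkURangeF D C relF 796 1237356000 5486592 2048 = true := by decide +kernel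
theorem ck_2680 : chkURangeF D C relF 796 1237356000 5488640 2048 = true := by decide +kernel
theorem ck_2681 : chkURangeF D C relF 796 1237356000 5490688 2048 = true := by decide +kernel
theorem ck_2682 : chkURangeF D C relF 796 1237356000 5492736 2048 = true := by decide +kernel
theorem ck_2683 : chkURangeF D C relF 796 1237356000 5494784 2048 = true := by decide +kernel
theorem ck_2684 : chkURangeF D C relF 796 1237356000 5496832 2048 = true := by decide +kernel
theorem ck_2685 : chkURangeF D C relF 796 1237356000 5498880 2048 = true := by decide +kernel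
theorem ck_2686 : chkURangeF D C relF 796 1237356000 5500928 2048 = true := by decide +kernel
theorem ck_2687 : chkURangeF D C relF 796 1237356000 5502976 2048 = true := by decide +kernel
theorem chkU_111 (b : ℕ) (h1 : 5455872 ≤ b) (h2 : b < 5505024) : chkU D C b = true := by
  rcases Nat.lt_or_ge b 5457920 with g0 | g0
  · exact chkURangeF_spec C relF_hyp 1237356000 tc_eq 5455872 2048 ck_2664 b (by omega) (by omega)
  rcases Nat.lt_or_ge b 5459968 with g1 | g1
  · exact chkURangeF_spec C relF_hyp 1237356000 tc_eq 5457920 2048 ck_2665 b (by omega) (by omega)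
  rcases Nat.lt_or_ge b 5462016 with g2 | g2
  · exact chkURangeF_spec C relF_hyp 1237356000 tc_eq 5459968 2048 ck_2666 b (by omega) (by omega)
  rcases Nat.lt_or_ge b 5464064 with g3 | g3
  · exact chkURangeF_spec C relF_hyp 1237356000 tc_eq 5462016 2048 ck_2667 b (by omega) (by omega)
  rcases Nat.lt_or_ge b 5466112 with g4 | g4
  · exact chkURangeF_spec C relF_hyp 1237356000 tc_eq 5464064 2048 ck_2668 b (by omega) (by omega)
  rcases Nat.lt_or_ge b 5468160 with g5 | g5
  · exact chkURangeF_spec C relF_hyp 1237356000 tc_eq 5466112 2048 ck_2669 b (by omega) (by omega)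
  rcases Nat.lt_or_ge b 5470208 with g6 | g6
  · exact chkURangeF_spec C relF_hyp 1237356000 tc_eq 5468160 2048 ck_2670 b (by omega) (by omega)
  rcases Nat.lt_or_ge b 5472256 with g7 | g7
  · exact chkURangeF_spec C relF_hyp 1237356000 tc_eq 5470208 2048 ck_2671 b (by omega) (by omega)
  rcases Nat.lt_or_ge b 5474304 with g8 | g8
  · exact chkURangeF_spec C relF_hyp 1237356000 tc_eq 5472256 2048 ck_2672 b (by omega) (by omega)
  rcases Nat.lt_or_ge b 5476352 with g9 | g9
  · exact chkURangeF_spec C relF_hyp 1237356000 tc_eq 5474304 2048 ck_2673 b (by omega) (by omega)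
  rcases Nat.lt_or_ge b 5478400 with g10 | g10
  · exact chkURangeF_spec C relF_hyp 1237356000 tc_eq 5476352 2048 ck_2674 b (by omega) (by omega)
  rcases Nat.lt_or_ge b 5480448 with g11 | g11
  · exact chkURangeF_spec C relF_hyp 1237356000 tc_eq 5478400 2048 ck_2675 b (by omega) (by omega)
  rcases Nat.lt_or_ge b 5482496 with g12 | g12
  · exact chkURangeF_spec C relF_hyp 1237356000 tc_eq 5480448 2048 ck_2676 b (by omega) (by omega)
  rcases Nat.lt_or_ge b 5484544 with g13 | g13
  · exact chkURangeF_spec C relF_hyp 1237356000 tc_eq 5482496 2048 ck_2677 b (by omega) (by omega)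
  rcases Nat.lt_or_ge b 5486592 with g14 | g14
  · exact chkURangeF_spec C relF_hyp 1237356000 tc_eq 5484544 2048 ck_2678 b (by omega) (by omega)
  rcases Nat.lt_or_ge b 5488640 with g15 | g15
  · exact chkURangeF_spec C relF_hyp 1237356000 tc_eq 5486592 2048 ck_2679 b (by omega) (by omega)
  rcases Nat.lt_or_ge b 5490688 with g16 | g16
  · exact chkURangeF_spec C relF_hyp 1237356000 tc_eq 5488640 2048 ck_2680 b (by omega) (by omega)
  rcases Nat.lt_or_ge b 5492736 with g17 | g17
  · exact chkURangeF_spec C relF_hyp 1237356000 tc_eq 5490688 2048 ck_2681 b (by omega) (by omega)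
  rcases Nat.lt_or_ge b 5494784 with g18 | g18
  · exact chkURangeF_spec C relF_hyp 1237356000 tc_eq 5492736 2048 ck_2682 b (by omega) (by omega)
  rcases Nat.lt_or_ge b 5496832 with g19 | g19
  · exact chkURangeF_spec C relF_hyp 1237356000 tc_eq 5494784 2048 ck_2683 b (by omega) (by omega)
  rcases Nat.lt_or_ge b 5498880 with g20 | g20
  · exact chkURangeF_spec C relF_hyp 1237356000 tc_eq 5496832 2048 ck_2684 b (by omega) (by omega)
  rcases Nat.lt_or_ge b 5500928 with g21 | g21
  · exact chkURangeF_spec C relF_hyp 1237356000 tc_eq 5498880 2048 ck_2685 b (by omega) (by omega)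
  rcases Nat.lt_or_ge b 5502976 with g22 | g22
  · exact chkURangeF_spec C relF_hyp 1237356000 tc_eq 5500928 2048 ck_2686 b (by omega) (by omega)
  exact chkURangeF_spec C relF_hyp 1237356000 tc_eq 5502976 2048 ck_2687 b (by omega) (by omega)
end Cfsg.Agent.Lib.Helper2.HNMult.P2
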