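import Cfsg.Agent.Lib.Helper2.HNMult.P2.Cert
set_option autoImplicit false
set_option maxRecDepth 1000000
set_option Elab.async false
namespace Cfsg.Agent.Lib.Helper2.HNMult.P2
open Cfsg.Agent.Lib.Helper4.Sparse Cfsg.Agent.Lib.Helper2.SparseF
theorem ck_2736 : chkURangeF D C relF 796 1237356000 5603328 2048 = true := by decide +kernel
theorem ck_2737 : chkURangeF D C relF 796 1237356000 5605376 2048 = true := by decide +kernel
theorem ck_2738 : chkURangeF D C relF 796 1237356000 5607424 2048 = true := by decide +kernel
theorem ck_2739 : chkURangeF D C relF 796 1237356000 5609472 2048 = true := by decide +kernel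
theorem ck_2740 : chkURangeF D C relF 796 1237356000 5611520 2048 = true := by decide +kernel
theorem ck_2741 : chkURangeF D C relF 796 1237356000 5613568 2048 = true := by decide +kernel
theorem ck_2742 : chkURangeF D C relF 796 1237356000 5615616 2048 = true := by decide +kernel
theorem ck_2743 : chkURangeF D C relF 796 1237356000 5617664 2048 = true := by decide +kernel
theorem ck_2744 : chkURangeF D C relF 796 1237356000 5619712 2048 = true := by decide +kernel
theorem ck_2745 : chkURangeF D C relF 796 1237356000 5621760 2048 = true := by decide +kernel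
theorem ck_2746 : chkURangeF D C relF 796 1237356000 5623808 2048 = true := by decide +kernel
theorem ck_2747 : chkURangeF D C relF 796 1237356000 5625856 2048 = true := by decide +kernel
theorem ck_2748 : chkURangeF D C relF 796 1237356000 5627904 2048 = true := by decide +kernel
theorem ck_2749 : chkURangeF D C relF 796 1237356000 5629952 2048 = true := by decide +kernel
theorem ck_2750 : chkURangeF D C relF 796 1237356000 5632000 2048 = true := by decide +kernel
theorem ck_2751 : chkURangeF D C relF 796 1237356000 5634048 2048 = true := by decide +kernel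
theorem ck_2752 : chkURangeF D C relF 796 1237356000 5636096 2048 = true := by decide +kernel
theorem ck_2753 : chkURangeF D C relF 796 1237356000 5638144 2048 = true := by decide +kernel
theorem ck_2754 : chkURangeF D C relF 796 1237356000 5640192 2048 = true := by decide +kernel
theorem ck_2755 : chkURangeF D C relF 796 1237356000 5642240 2048 = true := by decide +kernel
theorem ck_2756 : chkURangeF D C relF 796 1237356000 5644288 2048 = true := by decide +kernel
theorem ck_2757 : chkURangeF D C relF 796 1237356000 5646336 2048 = true := by decide +kernel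
theorem ck_2758 : chkURangeF D C relF 796 1237356000 5648384 2048 = true := by decide +kernel
theorem ck_2759 : chkURangeF D C relF 796 1237356000 5650432 2048 = true := by decide +kernel
theorem chkU_114 (b : ℕ) (h1 : 5603328 ≤ b) (h2 : b < 5652480) : chkU D C b = true := by
  rcases Nat.lt_or_ge b 5605376 with g0 | g0
  · exact chkURangeF_spec C relF_hyp 1237356000 tc_eq 5603328 2048 ck_2736 b (by omega) (by omega)
  rcases Nat.lt_or_ge b 5607424 with g1 | g1
  · exact chkURangeF_spec C relF_hyp 1237356000 tc_eq 5605376 2048 ck_2737 b (by omega) (by omega)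
  rcases Nat.lt_or_ge b 5609472 with g2 | g2
  · exact chkURangeF_spec C relF_hyp 1237356000 tc_eq 5607424 2048 ck_2738 b (by omega) (by omega)
  rcases Nat.lt_or_ge b 5611520 with g3 | g3
  · exact chkURangeF_spec C relF_hyp 1237356000 tc_eq 5609472 2048 ck_2739 b (by omega) (by omega)
  rcases Nat.lt_or_ge b 5613568 with g4 | g4
  · exact chkURangeF_spec C relF_hyp 1237356000 tc_eq 5611520 2048 ck_2740 b (by omega) (by omega)
  rcases Nat.lt_or_ge b 5615616 with g5 | g5
  · exact chkURangeF_spec C relF_hyp 1237356000 tc_eq 5613568 2048 ck_2741 b (by omega) (by omega)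
  rcases Nat.lt_or_ge b 5617664 with g6 | g6
  · exact chkURangeF_spec C relF_hyp 1237356000 tc_eq 5615616 2048 ck_2742 b (by omega) (by omega)
  rcases Nat.lt_or_ge b 5619712 with g7 | g7
  · exact chkURangeF_spec C relF_hyp 1237356000 tc_eq 5617664 2048 ck_2743 b (by omega) (by omega)
  rcases Nat.lt_or_ge b 5621760 with g8 | g8
  · exact chkURangeF_spec C relF_hyp 1237356000 tc_eq 5619712 2048 ck_2744 b (by omega) (by omega)
  rcases Nat.lt_or_ge b 5623808 with g9 | g9
  · exact chkURangeF_spec C relF_hyp 1237356000 tc_eq 5621760 2048 ck_2745 b (by omega) (by omega)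
  rcases Nat.lt_or_ge b 5625856 with g10 | g10
  · exact chkURangeF_spec C relF_hyp 1237356000 tc_eq 5623808 2048 ck_2746 b (by omega) (by omega)
  rcases Nat.lt_or_ge b 5627904 with g11 | g11
  · exact chkURangeF_spec C relF_hyp 1237356000 tc_eq 5625856 2048 ck_2747 b (by omega) (by omega)
  rcases Nat.lt_or_ge b 5629952 with g12 | g12
  · exact chkURangeF_spec C relF_hyp 1237356000 tc_eq 5627904 2048 ck_2748 b (by omega) (by omega)
  rcases Nat.lt_or_ge b 5632000 with g13 | g13
  · exact chkURangeF_spec C relF_hyp 1237356000 tc_eq 5629952 2048 ck_2749 b (by omega) (by omega)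
  rcases Nat.lt_or_ge b 5634048 with g14 | g14
  · exact chkURangeF_spec C relF_hyp 1237356000 tc_eq 5632000 2048 ck_2750 b (by omega) (by omega)
  rcases Nat.lt_or_ge b 5636096 with g15 | g15
  · exact chkURangeF_spec C relF_hyp 1237356000 tc_eq 5634048 2048 ck_2751 b (by omega) (by omega)
  rcases Nat.lt_or_ge b 5638144 with g16 | g16
  · exact chkURangeF_spec C relF_hyp 1237356000 tc_eq 5636096 2048 ck_2752 b (by omega) (by omega)
  rcases Nat.lt_or_ge b 5640192 with g17 | g17
  · exact chkURangeF_spec C relF_hyp 1237356000 tc_eq 5638144 2048 ck_2753 b (by omega) (by omega)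
  rcases Nat.lt_or_ge b 5642240 with g18 | g18
  · exact chkURangeF_spec C relF_hyp 1237356000 tc_eq 5640192 2048 ck_2754 b (by omega) (by omega)
  rcases Nat.lt_or_ge b 5644288 with g19 | g19
  · exact chkURangeF_spec C relF_hyp 1237356000 tc_eq 5642240 2048 ck_2755 b (by omega) (by omega)
  rcases Nat.lt_or_ge b 5646336 with g20 | g20
  · exact chkURangeF_spec C relF_hyp 1237356000 tc_eq 5644288 2048 ck_2756 b (by omega) (by omega)
  rcases Nat.lt_or_ge b 5648384 with g21 | g21
  · exact chkURangeF_spec C relF_hyp 1237356000 tc_eq 5646336 2048 ck_2757 b (by omega) (by omega)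
  rcases Nat.lt_or_ge b 5650432 with g22 | g22
  · exact chkURangeF_spec C relF_hyp 1237356000 tc_eq 5648384 2048 ck_2758 b (by omega) (by omega)
  exact chkURangeF_spec C relF_hyp 1237356000 tc_eq 5650432 2048 ck_2759 b (by omega) (by omega)
end Cfsg.Agent.Lib.Helper2.HNMult.P2
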