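import Cfsg.Agent.Lib.Helper2.HNMult.P2.Cert
set_option autoImplicit false
set_option maxRecDepth 1000000
set_option Elab.async false
namespace Cfsg.Agent.Lib.Helper2.HNMult.P2
open Cfsg.Agent.Lib.Helper4.Sparse Cfsg.Agent.Lib.Helper2.SparseF
theorem ck_2760 : chkURangeF D C relF 796 1237356000 5652480 2048 = true := by decide +kernel
theorem ck_2761 : chkURangeF D C relF 796 1237356000 5654528 2048 = true := by decide +kernel
theorem ck_2762 : chkURangeF D C relF 796 1237356000 5656576 2048 = true := by decide +kernel
theorem ck_2763 : chkURangeF D C relF 796 1237356000 5658624 2048 = true := by decide +kernel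
theorem ck_2764 : chkURangeF D C relF 796 1237356000 5660672 2048 = true := by decide +kernel
theorem ck_2765 : chkURangeF D C relF 796 1237356000 5662720 2048 = true := by decide +kernel
theorem ck_2766 : chkURangeF D C relF 796 1237356000 5664768 2048 = true := by decide +kernel
theorem ck_2767 : chkURangeF D C relF 796 1237356000 5666816 2048 = true := by decide +kernel
theorem ck_2768 : chkURangeF D C relF 796 1237356000 5668864 2048 = true := by decide +kernel
theorem ck_2769 : chkURangeF D C relF 796 1237356000 5670912 2048 = true := by decide +kernel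
theorem ck_2770 : chkURangeF D C relF 796 1237356000 5672960 2048 = true := by decide +kernel
theorem ck_2771 : chkURangeF D C relF 796 1237356000 5675008 2048 = true := by decide +kernel
theorem ck_2772 : chkURangeF D C relF 796 1237356000 5677056 2048 = true := by decide +kernel
theorem ck_2773 : chkURangeF D C relF 796 1237356000 5679104 2048 = true := by decide +kernel
theorem ck_2774 : chkURangeF D C relF 796 1237356000 5681152 2048 = true := by decide +kernel
theorem ck_2775 : chkURangeF D C relF 796 1237356000 5683200 2048 = true := by decide +kernel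
theorem ck_2776 : chkURangeF D C relF 796 1237356000 5685248 2048 = true := by decide +kernel
theorem ck_2777 : chkURangeF D C relF 796 1237356000 5687296 2048 = true := by decide +kernel
theorem ck_2778 : chkURangeF D C relF 796 1237356000 5689344 2048 = true := by decide +kernel
theorem ck_2779 : chkURangeF D C relF 796 1237356000 5691392 2048 = true := by decide +kernel
theorem ck_2780 : chkURangeF D C relF 796 1237356000 5693440 2048 = true := by decide +kernel
theorem ck_2781 : chkURangeF D C relF 796 1237356000 5695488 2048 = true := by decide +kernel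
theorem ck_2782 : chkURangeF D C relF 796 1237356000 5697536 2048 = true := by decide +kernel
theorem ck_2783 : chkURangeF D C relF 796 1237356000 5699584 2048 = true := by decide +kernel
theorem chkU_115 (b : ℕ) (h1 : 5652480 ≤ b) (h2 : b < 5701632) : chkU D C b = true := by
  rcases Nat.lt_or_ge b 5654528 with g0 | g0
  · exact chkURangeF_spec C relF_hyp 1237356000 tc_eq 5652480 2048 ck_2760 b (by omega) (by omega)
  rcases Nat.lt_or_ge b 5656576 with g1 | g1
  · exact chkURangeF_spec C relF_hyp 1237356000 tc_eq 5654528 2048 ck_2761 b (by omega) (by omega)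
  rcases Nat.lt_or_ge b 5658624 with g2 | g2
  · exact chkURangeF_spec C relF_hyp 1237356000 tc_eq 5656576 2048 ck_2762 b (by omega) (by omega)
  rcases Nat.lt_or_ge b 5660672 with g3 | g3
  · exact chkURangeF_spec C relF_hyp 1237356000 tc_eq 5658624 2048 ck_2763 b (by omega) (by omega)
  rcases Nat.lt_or_ge b 5662720 with g4 | g4
  · exact chkURangeF_spec C relF_hyp 1237356000 tc_eq 5660672 2048 ck_2764 b (by omega) (by omega)
  rcases Nat.lt_or_ge b 5664768 with g5 | g5
  · exact chkURangeF_spec C relF_hyp 1237356000 tc_eq 5662720 2048 ck_2765 b (by omega) (by omega)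
  rcases Nat.lt_or_ge b 5666816 with g6 | g6
  · exact chkURangeF_spec C relF_hyp 1237356000 tc_eq 5664768 2048 ck_2766 b (by omega) (by omega)
  rcases Nat.lt_or_ge b 5668864 with g7 | g7
  · exact chkURangeF_spec C relF_hyp 1237356000 tc_eq 5666816 2048 ck_2767 b (by omega) (by omega)
  rcases Nat.lt_or_ge b 5670912 with g8 | g8
  · exact chkURangeF_spec C relF_hyp 1237356000 tc_eq 5668864 2048 ck_2768 b (by omega) (by omega)
  rcases Nat.lt_or_ge b 5672960 with g9 | g9
  · exact chkURangeF_spec C relF_hyp 1237356000 tc_eq 5670912 2048 ck_2769 b (by omega) (by omega)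
  rcases Nat.lt_or_ge b 5675008 with g10 | g10
  · exact chkURangeF_spec C relF_hyp 1237356000 tc_eq 5672960 2048 ck_2770 b (by omega) (by omega)
  rcases Nat.lt_or_ge b 5677056 with g11 | g11
  · exact chkURangeF_spec C relF_hyp 1237356000 tc_eq 5675008 2048 ck_2771 b (by omega) (by omega)
  rcases Nat.lt_or_ge b 5679104 with g12 | g12
  · exact chkURangeF_spec C relF_hyp 1237356000 tc_eq 5677056 2048 ck_2772 b (by omega) (by omega)
  rcases Nat.lt_or_ge b 5681152 with g13 | g13
  · exact chkURangeF_spec C relF_hyp 1237356000 tc_eq 5679104 2048 ck_2773 b (by omega) (by omega)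
  rcases Nat.lt_or_ge b 5683200 with g14 | g14
  · exact chkURangeF_spec C relF_hyp 1237356000 tc_eq 5681152 2048 ck_2774 b (by omega) (by omega)
  rcases Nat.lt_or_ge b 5685248 with g15 | g15
  · exact chkURangeF_spec C relF_hyp 1237356000 tc_eq 5683200 2048 ck_2775 b (by omega) (by omega)
  rcases Nat.lt_or_ge b 5687296 with g16 | g16
  · exact chkURangeF_spec C relF_hyp 1237356000 tc_eq 5685248 2048 ck_2776 b (by omega) (by omega)
  rcases Nat.lt_or_ge b 5689344 with g17 | g17
  · exact chkURangeF_spec C relF_hyp 1237356000 tc_eq 5687296 2048 ck_2777 b (by omega) (by omega)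
  rcases Nat.lt_or_ge b 5691392 with g18 | g18
  · exact chkURangeF_spec C relF_hyp 1237356000 tc_eq 5689344 2048 ck_2778 b (by omega) (by omega)
  rcases Nat.lt_or_ge b 5693440 with g19 | g19
  · exact chkURangeF_spec C relF_hyp 1237356000 tc_eq 5691392 2048 ck_2779 b (by omega) (by omega)
  rcases Nat.lt_or_ge b 5695488 with g20 | g20
  · exact chkURangeF_spec C relF_hyp 1237356000 tc_eq 5693440 2048 ck_2780 b (by omega) (by omega)
  rcases Nat.lt_or_ge b 5697536 with g21 | g21
  · exact chkURangeF_spec C relF_hyp 1237356000 tc_eq 5695488 2048 ck_2781 b (by omega) (by omega)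
  rcases Nat.lt_or_ge b 5699584 with g22 | g22
  · exact chkURangeF_spec C relF_hyp 1237356000 tc_eq 5697536 2048 ck_2782 b (by omega) (by omega)
  exact chkURangeF_spec C relF_hyp 1237356000 tc_eq 5699584 2048 ck_2783 b (by omega) (by omega)
end Cfsg.Agent.Lib.Helper2.HNMult.P2
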