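import Cfsg.Agent.Lib.Helper2.HNMult.P2.Cert
set_option autoImplicit false
set_option maxRecDepth 1000000
set_option Elab.async false
namespace Cfsg.Agent.Lib.Helper2.HNMult.P2
open Cfsg.Agent.Lib.Helper4.Sparse Cfsg.Agent.Lib.Helper2.SparseF
theorem ck_2880 : chkURangeF D C relF 796 1237356000 5898240 2048 = true := by decide +kernel
theorem ck_2881 : chkURangeF D C relF 796 1237356000 5900288 2048 = true := by decide +kernel
theorem ck_2882 : chkURangeF D C relF 796 1237356000 5902336 2048 = true := by decide +kernel
theorem ck_2883 : chkURangeF D C relF 796 1237356000 5904384 2048 = true := by decide +kernel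
theorem ck_2884 : chkURangeF D C relF 796 1237356000 5906432 2048 = true := by decide +kernel
theorem ck_2885 : chkURangeF D C relF 796 1237356000 5908480 2048 = true := by decide +kernel
theorem ck_2886 : chkURangeF D C relF 796 1237356000 5910528 2048 = true := by decide +kernel
theorem ck_2887 : chkURangeF D C relF 796 1237356000 5912576 2048 = true := by decide +kernel
theorem ck_2888 : chkURangeF D C relF 796 1237356000 5914624 2048 = true := by decide +kernel
theorem ck_2889 : chkURangeF D C relF 796 1237356000 5916672 2048 = true := by decide +kernel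
theorem ck_2890 : chkURangeF D C relF 796 1237356000 5918720 2048 = true := by decide +kernel
theorem ck_2891 : chkURangeF D C relF 796 1237356000 5920768 2048 = true := by decide +kernel
theorem ck_2892 : chkURangeF D C relF 796 1237356000 5922816 2048 = true := by decide +kernel
theorem ck_2893 : chkURangeF D C relF 796 1237356000 5924864 2048 = true := by decide +kernel
theorem ck_2894 : chkURangeF D C relF 796 1237356000 5926912 2048 = true := by decide +kernel
theorem ck_2895 : chkURangeF D C relF 796 1237356000 5928960 2048 = true := by decide +kernel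
theorem ck_2896 : chkURangeF D C relF 796 1237356000 5931008 2048 = true := by decide +kernel
theorem ck_2897 : chkURangeF D C relF 796 1237356000 5933056 2048 = true := by decide +kernel
theorem ck_2898 : chkURangeF D C relF 796 1237356000 5935104 2048 = true := by decide +kernel
theorem ck_2899 : chkURangeF D C relF 796 1237356000 5937152 2048 = true := by decide +kernel
theorem ck_2900 : chkURangeF D C relF 796 1237356000 5939200 2048 = true := by decide +kernel
theorem ck_2901 : chkURangeF D C relF 796 1237356000 5941248 2048 = true := by decide +kernel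
theorem ck_2902 : chkURangeF D C relF 796 1237356000 5943296 2048 = true := by decide +kernel
theorem ck_2903 : chkURangeF D C relF 796 1237356000 5945344 2048 = true := by decide +kernel
theorem chkU_120 (b : ℕ) (h1 : 5898240 ≤ b) (h2 : b < 5947392) : chkU D C b = true := by
  rcases Nat.lt_or_ge b 5900288 with g0 | g0
  · exact chkURangeF_spec C relF_hyp 1237356000 tc_eq 5898240 2048 ck_2880 b (by omega) (by omega)
  rcases Nat.lt_or_ge b 5902336 with g1 | g1
  · exact chkURangeF_spec C relF_hyp 1237356000 tc_eq 5900288 2048 ck_2881 b (by omega) (by omega)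
  rcases Nat.lt_or_ge b 5904384 with g2 | g2
  · exact chkURangeF_spec C relF_hyp 1237356000 tc_eq 5902336 2048 ck_2882 b (by omega) (by omega)
  rcases Nat.lt_or_ge b 5906432 with g3 | g3
  · exact chkURangeF_spec C relF_hyp 1237356000 tc_eq 5904384 2048 ck_2883 b (by omega) (by omega)
  rcases Nat.lt_or_ge b 5908480 with g4 | g4
  · exact chkURangeF_spec C relF_hyp 1237356000 tc_eq 5906432 2048 ck_2884 b (by omega) (by omega)
  rcases Nat.lt_or_ge b 5910528 with g5 | g5
  · exact chkURangeF_spec C relF_hyp 1237356000 tc_eq 5908480 2048 ck_2885 b (by omega) (by omega)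
  rcases Nat.lt_or_ge b 5912576 with g6 | g6
  · exact chkURangeF_spec C relF_hyp 1237356000 tc_eq 5910528 2048 ck_2886 b (by omega) (by omega)
  rcases Nat.lt_or_ge b 5914624 with g7 | g7
  · exact chkURangeF_spec C relF_hyp 1237356000 tc_eq 5912576 2048 ck_2887 b (by omega) (by omega)
  rcases Nat.lt_or_ge b 5916672 with g8 | g8
  · exact chkURangeF_spec C relF_hyp 1237356000 tc_eq 5914624 2048 ck_2888 b (by omega) (by omega)
  rcases Nat.lt_or_ge b 5918720 with g9 | g9
  · exact chkURangeF_spec C relF_hyp 1237356000 tc_eq 5916672 2048 ck_2889 b (by omega) (by omega)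
  rcases Nat.lt_or_ge b 5920768 with g10 | g10
  · exact chkURangeF_spec C relF_hyp 1237356000 tc_eq 5918720 2048 ck_2890 b (by omega) (by omega)
  rcases Nat.lt_or_ge b 5922816 with g11 | g11
  · exact chkURangeF_spec C relF_hyp 1237356000 tc_eq 5920768 2048 ck_2891 b (by omega) (by omega)
  rcases Nat.lt_or_ge b 5924864 with g12 | g12
  · exact chkURangeF_spec C relF_hyp 1237356000 tc_eq 5922816 2048 ck_2892 b (by omega) (by omega)
  rcases Nat.lt_or_ge b 5926912 with g13 | g13
  · exact chkURangeF_spec C relF_hyp 1237356000 tc_eq 5924864 2048 ck_2893 b (by omega) (by omega)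
  rcases Nat.lt_or_ge b 5928960 with g14 | g14
  · exact chkURangeF_spec C relF_hyp 1237356000 tc_eq 5926912 2048 ck_2894 b (by omega) (by omega)
  rcases Nat.lt_or_ge b 5931008 with g15 | g15
  · exact chkURangeF_spec C relF_hyp 1237356000 tc_eq 5928960 2048 ck_2895 b (by omega) (by omega)
  rcases Nat.lt_or_ge b 5933056 with g16 | g16
  · exact chkURangeF_spec C relF_hyp 1237356000 tc_eq 5931008 2048 ck_2896 b (by omega) (by omega)
  rcases Nat.lt_or_ge b 5935104 with g17 | g17
  · exact chkURangeF_spec C relF_hyp 1237356000 tc_eq 5933056 2048 ck_2897 b (by omega) (by omega)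
  rcases Nat.lt_or_ge b 5937152 with g18 | g18
  · exact chkURangeF_spec C relF_hyp 1237356000 tc_eq 5935104 2048 ck_2898 b (by omega) (by omega)
  rcases Nat.lt_or_ge b 5939200 with g19 | g19
  · exact chkURangeF_spec C relF_hyp 1237356000 tc_eq 5937152 2048 ck_2899 b (by omega) (by omega)
  rcases Nat.lt_or_ge b 5941248 with g20 | g20
  · exact chkURangeF_spec C relF_hyp 1237356000 tc_eq 5939200 2048 ck_2900 b (by omega) (by omega)
  rcases Nat.lt_or_ge b 5943296 with g21 | g21
  · exact chkURangeF_spec C relF_hyp 1237356000 tc_eq 5941248 2048 ck_2901 b (by omega) (by omega)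
  rcases Nat.lt_or_ge b 5945344 with g22 | g22
  · exact chkURangeF_spec C relF_hyp 1237356000 tc_eq 5943296 2048 ck_2902 b (by omega) (by omega)
  exact chkURangeF_spec C relF_hyp 1237356000 tc_eq 5945344 2048 ck_2903 b (by omega) (by omega)
end Cfsg.Agent.Lib.Helper2.HNMult.P2
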