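import Cfsg.Agent.Lib.Helper2.HNMult.P2.Cert
set_option autoImplicit false
set_option maxRecDepth 1000000
set_option Elab.async false
namespace Cfsg.Agent.Lib.Helper2.HNMult.P2
open Cfsg.Agent.Lib.Helper4.Sparse Cfsg.Agent.Lib.Helper2.SparseF
theorem ck_3024 : chkURangeF D C relF 796 1237356000 6193152 2048 = true := by decide +kernel
theorem ck_3025 : chkURangeF D C relF 796 1237356000 6195200 2048 = true := by decide +kernel
theorem ck_3026 : chkURangeF D C relF 796 1237356000 6197248 2048 = true := by decide +kernel
theorem ck_3027 : chkURangeF D C relF 796 1237356000 6199296 2048 = true := by decide +kernel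
theorem ck_3028 : chkURangeF D C relF 796 1237356000 6201344 2048 = true := by decide +kernel
theorem ck_3029 : chkURangeF D C relF 796 1237356000 6203392 2048 = true := by decide +kernel
theorem ck_3030 : chkURangeF D C relF 796 1237356000 6205440 2048 = true := by decide +kernel
theorem ck_3031 : chkURangeF D C relF 796 1237356000 6207488 2048 = true := by decide +kernel
theorem ck_3032 : chkURangeF D C relF 796 1237356000 6209536 2048 = true := by decide +kernel
theorem ck_3033 : chkURangeF D C relF 796 1237356000 6211584 2048 = true := by decide +kernel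
theorem ck_3034 : chkURangeF D C relF 796 1237356000 6213632 2048 = true := by decide +kernel
theorem ck_3035 : chkURangeF D C relF 796 1237356000 6215680 2048 = true := by decide +kernel
theorem ck_3036 : chkURangeF D C relF 796 1237356000 6217728 2048 = true := by decide +kernel
theorem ck_3037 : chkURangeF D C relF 796 1237356000 6219776 2048 = true := by decide +kernel
theorem ck_3038 : chkURangeF D C relF 796 1237356000 6221824 2048 = true := by decide +kernel
theorem ck_3039 : chkURangeF D C relF 796 1237356000 6223872 2048 = true := by decide +kernel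
theorem ck_3040 : chkURangeF D C relF 796 1237356000 6225920 2048 = true := by decide +kernel
theorem ck_3041 : chkURangeF D C relF 796 1237356000 6227968 2048 = true := by decide +kernel
theorem ck_3042 : chkURangeF D C relF 796 1237356000 6230016 2048 = true := by decide +kernel
theorem ck_3043 : chkURangeF D C relF 796 1237356000 6232064 2048 = true := by decide +kernel
theorem ck_3044 : chkURangeF D C relF 796 1237356000 6234112 2048 = true := by decide +kernel
theorem ck_3045 : chkURangeF D C relF 796 1237356000 6236160 2048 = true := by decide +kernel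
theorem ck_3046 : chkURangeF D C relF 796 1237356000 6238208 2048 = true := by decide +kernel
theorem ck_3047 : chkURangeF D C relF 796 1237356000 6240256 2048 = true := by decide +kernel
theorem chkU_126 (b : ℕ) (h1 : 6193152 ≤ b) (h2 : b < 6242304) : chkU D C b = true := by
  rcases Nat.lt_or_ge b 6195200 with g0 | g0
  · exact chkURangeF_spec C relF_hyp 1237356000 tc_eq 6193152 2048 ck_3024 b (by omega) (by omega)
  rcases Nat.lt_or_ge b 6197248 with g1 | g1
  · exact chkURangeF_spec C relF_hyp 1237356000 tc_eq 6195200 2048 ck_3025 b (by omega) (by omega)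
  rcases Nat.lt_or_ge b 6199296 with g2 | g2
  · exact chkURangeF_spec C relF_hyp 1237356000 tc_eq 6197248 2048 ck_3026 b (by omega) (by omega)
  rcases Nat.lt_or_ge b 6201344 with g3 | g3
  · exact chkURangeF_spec C relF_hyp 1237356000 tc_eq 6199296 2048 ck_3027 b (by omega) (by omega)
  rcases Nat.lt_or_ge b 6203392 with g4 | g4
  · exact chkURangeF_spec C relF_hyp 1237356000 tc_eq 6201344 2048 ck_3028 b (by omega) (by omega)
  rcases Nat.lt_or_ge b 6205440 with g5 | g5
  · exact chkURangeF_spec C relF_hyp 1237356000 tc_eq 6203392 2048 ck_3029 b (by omega) (by omega)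
  rcases Nat.lt_or_ge b 6207488 with g6 | g6
  · exact chkURangeF_spec C relF_hyp 1237356000 tc_eq 6205440 2048 ck_3030 b (by omega) (by omega)
  rcases Nat.lt_or_ge b 6209536 with g7 | g7
  · exact chkURangeF_spec C relF_hyp 1237356000 tc_eq 6207488 2048 ck_3031 b (by omega) (by omega)
  rcases Nat.lt_or_ge b 6211584 with g8 | g8
  · exact chkURangeF_spec C relF_hyp 1237356000 tc_eq 6209536 2048 ck_3032 b (by omega) (by omega)
  rcases Nat.lt_or_ge b 6213632 with g9 | g9
  · exact chkURangeF_spec C relF_hyp 1237356000 tc_eq 6211584 2048 ck_3033 b (by omega) (by omega)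
  rcases Nat.lt_or_ge b 6215680 with g10 | g10
  · exact chkURangeF_spec C relF_hyp 1237356000 tc_eq 6213632 2048 ck_3034 b (by omega) (by omega)
  rcases Nat.lt_or_ge b 6217728 with g11 | g11
  · exact chkURangeF_spec C relF_hyp 1237356000 tc_eq 6215680 2048 ck_3035 b (by omega) (by omega)
  rcases Nat.lt_or_ge b 6219776 with g12 | g12
  · exact chkURangeF_spec C relF_hyp 1237356000 tc_eq 6217728 2048 ck_3036 b (by omega) (by omega)
  rcases Nat.lt_or_ge b 6221824 with g13 | g13
  · exact chkURangeF_spec C relF_hyp 1237356000 tc_eq 6219776 2048 ck_3037 b (by omega) (by omega)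
  rcases Nat.lt_or_ge b 6223872 with g14 | g14
  · exact chkURangeF_spec C relF_hyp 1237356000 tc_eq 6221824 2048 ck_3038 b (by omega) (by omega)
  rcases Nat.lt_or_ge b 6225920 with g15 | g15
  · exact chkURangeF_spec C relF_hyp 1237356000 tc_eq 6223872 2048 ck_3039 b (by omega) (by omega)
  rcases Nat.lt_or_ge b 6227968 with g16 | g16
  · exact chkURangeF_spec C relF_hyp 1237356000 tc_eq 6225920 2048 ck_3040 b (by omega) (by omega)
  rcases Nat.lt_or_ge b 6230016 with g17 | g17
  · exact chkURangeF_spec C relF_hyp 1237356000 tc_eq 6227968 2048 ck_3041 b (by omega) (by omega)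
  rcases Nat.lt_or_ge b 6232064 with g18 | g18
  · exact chkURangeF_spec C relF_hyp 1237356000 tc_eq 6230016 2048 ck_3042 b (by omega) (by omega)
  rcases Nat.lt_or_ge b 6234112 with g19 | g19
  · exact chkURangeF_spec C relF_hyp 1237356000 tc_eq 6232064 2048 ck_3043 b (by omega) (by omega)
  rcases Nat.lt_or_ge b 6236160 with g20 | g20
  · exact chkURangeF_spec C relF_hyp 1237356000 tc_eq 6234112 2048 ck_3044 b (by omega) (by omega)
  rcases Nat.lt_or_ge b 6238208 with g21 | g21
  · exact chkURangeF_spec C relF_hyp 1237356000 tc_eq 6236160 2048 ck_3045 b (by omega) (by omega)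
  rcases Nat.lt_or_ge b 6240256 with g22 | g22
  · exact chkURangeF_spec C relF_hyp 1237356000 tc_eq 6238208 2048 ck_3046 b (by omega) (by omega)
  exact chkURangeF_spec C relF_hyp 1237356000 tc_eq 6240256 2048 ck_3047 b (by omega) (by omega)
end Cfsg.Agent.Lib.Helper2.HNMult.P2
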