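import Cfsg.Agent.Lib.Helper2.HNMult.P2.Cert
set_option autoImplicit false
set_option maxRecDepth 1000000
set_option Elab.async false
namespace Cfsg.Agent.Lib.Helper2.HNMult.P2
open Cfsg.Agent.Lib.Helper4.Sparse Cfsg.Agent.Lib.Helper2.SparseF
theorem ck_3048 : chkURangeF D C relF 796 1237356000 6242304 2048 = true := by decide +kernel
theorem ck_3049 : chkURangeF D C relF 796 1237356000 6244352 2048 = true := by decide +kernel
theorem ck_3050 : chkURangeF D C relF 796 1237356000 6246400 2048 = true := by decide +kernel
theorem ck_3051 : chkURangeF D C relF 796 1237356000 6248448 2048 = true := by decide +kernel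
theorem ck_3052 : chkURangeF D C relF 796 1237356000 6250496 2048 = true := by decide +kernel
theorem ck_3053 : chkURangeF D C relF 796 1237356000 6252544 2048 = true := by decide +kernel
theorem ck_3054 : chkURangeF D C relF 796 1237356000 6254592 2048 = true := by decide +kernel
theorem ck_3055 : chkURangeF D C relF 796 1237356000 6256640 2048 = true := by decide +kernel
theorem ck_3056 : chkURangeF D C relF 796 1237356000 6258688 2048 = true := by decide +kernel
theorem ck_3057 : chkURangeF D C relF 796 1237356000 6260736 2048 = true := by decide +kernel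
theorem ck_3058 : chkURangeF D C relF 796 1237356000 6262784 2048 = true := by decide +kernel
theorem ck_3059 : chkURangeF D C relF 796 1237356000 6264832 2048 = true := by decide +kernel
theorem ck_3060 : chkURangeF D C relF 796 1237356000 6266880 2048 = true := by decide +kernel
theorem ck_3061 : chkURangeF D C relF 796 1237356000 6268928 2048 = true := by decide +kernel
theorem ck_3062 : chkURangeF D C relF 796 1237356000 6270976 2048 = true := by decide +kernel
theorem ck_3063 : chkURangeF D C relF 796 1237356000 6273024 2048 = true := by decide +kernel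
theorem ck_3064 : chkURangeF D C relF 796 1237356000 6275072 2048 = true := by decide +kernel
theorem ck_3065 : chkURangeF D C relF 796 1237356000 6277120 2048 = true := by decide +kernel
theorem ck_3066 : chkURangeF D C relF 796 1237356000 6279168 2048 = true := by decide +kernel
theorem ck_3067 : chkURangeF D C relF 796 1237356000 6281216 2048 = true := by decide +kernel
theorem ck_3068 : chkURangeF D C relF 796 1237356000 6283264 2048 = true := by decide +kernel
theorem ck_3069 : chkURangeF D C relF 796 1237356000 6285312 2048 = true := by decide +kernel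
theorem ck_3070 : chkURangeF D C relF 796 1237356000 6287360 2048 = true := by decide +kernel
theorem ck_3071 : chkURangeF D C relF 796 1237356000 6289408 2048 = true := by decide +kernel
theorem chkU_127 (b : ℕ) (h1 : 6242304 ≤ b) (h2 : b < 6291456) : chkU D C b = true := by
  rcases Nat.lt_or_ge b 6244352 with g0 | g0
  · exact chkURangeF_spec C relF_hyp 1237356000 tc_eq 6242304 2048 ck_3048 b (by omega) (by omega)
  rcases Nat.lt_or_ge b 6246400 with g1 | g1
  · exact chkURangeF_spec C relF_hyp 1237356000 tc_eq 6244352 2048 ck_3049 b (by omega) (by omega)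
  rcases Nat.lt_or_ge b 6248448 with g2 | g2
  · exact chkURangeF_spec C relF_hyp 1237356000 tc_eq 6246400 2048 ck_3050 b (by omega) (by omega)
  rcases Nat.lt_or_ge b 6250496 with g3 | g3
  · exact chkURangeF_spec C relF_hyp 1237356000 tc_eq 6248448 2048 ck_3051 b (by omega) (by omega)
  rcases Nat.lt_or_ge b 6252544 with g4 | g4
  · exact chkURangeF_spec C relF_hyp 1237356000 tc_eq 6250496 2048 ck_3052 b (by omega) (by omega)
  rcases Nat.lt_or_ge b 6254592 with g5 | g5
  · exact chkURangeF_spec C relF_hyp 1237356000 tc_eq 6252544 2048 ck_3053 b (by omega) (by omega)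
  rcases Nat.lt_or_ge b 6256640 with g6 | g6
  · exact chkURangeF_spec C relF_hyp 1237356000 tc_eq 6254592 2048 ck_3054 b (by omega) (by omega)
  rcases Nat.lt_or_ge b 6258688 with g7 | g7
  · exact chkURangeF_spec C relF_hyp 1237356000 tc_eq 6256640 2048 ck_3055 b (by omega) (by omega)
  rcases Nat.lt_or_ge b 6260736 with g8 | g8
  · exact chkURangeF_spec C relF_hyp 1237356000 tc_eq 6258688 2048 ck_3056 b (by omega) (by omega)
  rcases Nat.lt_or_ge b 6262784 with g9 | g9
  · exact chkURangeF_spec C relF_hyp 1237356000 tc_eq 6260736 2048 ck_3057 b (by omega) (by omega)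
  rcases Nat.lt_or_ge b 6264832 with g10 | g10
  · exact chkURangeF_spec C relF_hyp 1237356000 tc_eq 6262784 2048 ck_3058 b (by omega) (by omega)
  rcases Nat.lt_or_ge b 6266880 with g11 | g11
  · exact chkURangeF_spec C relF_hyp 1237356000 tc_eq 6264832 2048 ck_3059 b (by omega) (by omega)
  rcases Nat.lt_or_ge b 6268928 with g12 | g12
  · exact chkURangeF_spec C relF_hyp 1237356000 tc_eq 6266880 2048 ck_3060 b (by omega) (by omega)
  rcases Nat.lt_or_ge b 6270976 with g13 | g13
  · exact chkURangeF_spec C relF_hyp 1237356000 tc_eq 6268928 2048 ck_3061 b (by omega) (by omega)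
  rcases Nat.lt_or_ge b 6273024 with g14 | g14
  · exact chkURangeF_spec C relF_hyp 1237356000 tc_eq 6270976 2048 ck_3062 b (by omega) (by omega)
  rcases Nat.lt_or_ge b 6275072 with g15 | g15
  · exact chkURangeF_spec C relF_hyp 1237356000 tc_eq 6273024 2048 ck_3063 b (by omega) (by omega)
  rcases Nat.lt_or_ge b 6277120 with g16 | g16
  · exact chkURangeF_spec C relF_hyp 1237356000 tc_eq 6275072 2048 ck_3064 b (by omega) (by omega)
  rcases Nat.lt_or_ge b 6279168 with g17 | g17
  · exact chkURangeF_spec C relF_hyp 1237356000 tc_eq 6277120 2048 ck_3065 b (by omega) (by omega)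
  rcases Nat.lt_or_ge b 6281216 with g18 | g18
  · exact chkURangeF_spec C relF_hyp 1237356000 tc_eq 6279168 2048 ck_3066 b (by omega) (by omega)
  rcases Nat.lt_or_ge b 6283264 with g19 | g19
  · exact chkURangeF_spec C relF_hyp 1237356000 tc_eq 6281216 2048 ck_3067 b (by omega) (by omega)
  rcases Nat.lt_or_ge b 6285312 with g20 | g20
  · exact chkURangeF_spec C relF_hyp 1237356000 tc_eq 6283264 2048 ck_3068 b (by omega) (by omega)
  rcases Nat.lt_or_ge b 6287360 with g21 | g21
  · exact chkURangeF_spec C relF_hyp 1237356000 tc_eq 6285312 2048 ck_3069 b (by omega) (by omega)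
  rcases Nat.lt_or_ge b 6289408 with g22 | g22
  · exact chkURangeF_spec C relF_hyp 1237356000 tc_eq 6287360 2048 ck_3070 b (by omega) (by omega)
  exact chkURangeF_spec C relF_hyp 1237356000 tc_eq 6289408 2048 ck_3071 b (by omega) (by omega)
end Cfsg.Agent.Lib.Helper2.HNMult.P2
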