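import Cfsg.Agent.Lib.Helper2.HNMult.P2.Cert
set_option autoImplicit false
set_option maxRecDepth 1000000
set_option Elab.async false
namespace Cfsg.Agent.Lib.Helper2.HNMult.P2
open Cfsg.Agent.Lib.Helper4.Sparse Cfsg.Agent.Lib.Helper2.SparseF
theorem ck_3192 : chkURangeF D C relF 796 1237356000 6537216 2048 = true := by decide +kernel
theorem ck_3193 : chkURangeF D C relF 796 1237356000 6539264 2048 = true := by decide +kernel
theorem ck_3194 : chkURangeF D C relF 796 1237356000 6541312 2048 = true := by decide +kernel
theorem ck_3195 : chkURangeF D C relF 796 1237356000 6543360 2048 = true := by decide +kernel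
theorem ck_3196 : chkURangeF D C relF 796 1237356000 6545408 2048 = true := by decide +kernel
theorem ck_3197 : chkURangeF D C relF 796 1237356000 6547456 2048 = true := by decide +kernel
theorem ck_3198 : chkURangeF D C relF 796 1237356000 6549504 2048 = true := by decide +kernel
theorem ck_3199 : chkURangeF D C relF 796 1237356000 6551552 2048 = true := by decide +kernel
theorem ck_3200 : chkURangeF D C relF 796 1237356000 6553600 2048 = true := by decide +kernel
theorem ck_3201 : chkURangeF D C relF 796 1237356000 6555648 2048 = true := by decide +kernel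
theorem ck_3202 : chkURangeF D C relF 796 1237356000 6557696 2048 = true := by decide +kernel
theorem ck_3203 : chkURangeF D C relF 796 1237356000 6559744 2048 = true := by decide +kernel
theorem ck_3204 : chkURangeF D C relF 796 1237356000 6561792 2048 = true := by decide +kernel
theorem ck_3205 : chkURangeF D C relF 796 1237356000 6563840 2048 = true := by decide +kernel
theorem ck_3206 : chkURangeF D C relF 796 1237356000 6565888 2048 = true := by decide +kernel
theorem ck_3207 : chkURangeF D C relF 796 1237356000 6567936 2048 = true := by decide +kernel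
theorem ck_3208 : chkURangeF D C relF 796 1237356000 6569984 2048 = true := by decide +kernel
theorem ck_3209 : chkURangeF D C relF 796 1237356000 6572032 2048 = true := by decide +kernel
theorem ck_3210 : chkURangeF D C relF 796 1237356000 6574080 2048 = true := by decide +kernel
theorem ck_3211 : chkURangeF D C relF 796 1237356000 6576128 2048 = true := by decide +kernel
theorem ck_3212 : chkURangeF D C relF 796 1237356000 6578176 2048 = true := by decide +kernel
theorem ck_3213 : chkURangeF D C relF 796 1237356000 6580224 2048 = true := by decide +kernel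
theorem ck_3214 : chkURangeF D C relF 796 1237356000 6582272 2048 = true := by decide +kernel
theorem ck_3215 : chkURangeF D C relF 796 1237356000 6584320 2048 = true := by decide +kernel
theorem chkU_133 (b : ℕ) (h1 : 6537216 ≤ b) (h2 : b < 6586368) : chkU D C b = true := by
  rcases Nat.lt_or_ge b 6539264 with g0 | g0
  · exact chkURangeF_spec C relF_hyp 1237356000 tc_eq 6537216 2048 ck_3192 b (by omega) (by omega)
  rcases Nat.lt_or_ge b 6541312 with g1 | g1
  · exact chkURangeF_spec C relF_hyp 1237356000 tc_eq 6539264 2048 ck_3193 b (by omega) (by omega)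
  rcases Nat.lt_or_ge b 6543360 with g2 | g2
  · exact chkURangeF_spec C relF_hyp 1237356000 tc_eq 6541312 2048 ck_3194 b (by omega) (by omega)
  rcases Nat.lt_or_ge b 6545408 with g3 | g3
  · exact chkURangeF_spec C relF_hyp 1237356000 tc_eq 6543360 2048 ck_3195 b (by omega) (by omega)
  rcases Nat.lt_or_ge b 6547456 with g4 | g4
  · exact chkURangeF_spec C relF_hyp 1237356000 tc_eq 6545408 2048 ck_3196 b (by omega) (by omega)
  rcases Nat.lt_or_ge b 6549504 with g5 | g5
  · exact chkURangeF_spec C relF_hyp 1237356000 tc_eq 6547456 2048 ck_3197 b (by omega) (by omega)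
  rcases Nat.lt_or_ge b 6551552 with g6 | g6
  · exact chkURangeF_spec C relF_hyp 1237356000 tc_eq 6549504 2048 ck_3198 b (by omega) (by omega)
  rcases Nat.lt_or_ge b 6553600 with g7 | g7
  · exact chkURangeF_spec C relF_hyp 1237356000 tc_eq 6551552 2048 ck_3199 b (by omega) (by omega)
  rcases Nat.lt_or_ge b 6555648 with g8 | g8
  · exact chkURangeF_spec C relF_hyp 1237356000 tc_eq 6553600 2048 ck_3200 b (by omega) (by omega)
  rcases Nat.lt_or_ge b 6557696 with g9 | g9
  · exact chkURangeF_spec C relF_hyp 1237356000 tc_eq 6555648 2048 ck_3201 b (by omega) (by omega)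
  rcases Nat.lt_or_ge b 6559744 with g10 | g10
  · exact chkURangeF_spec C relF_hyp 1237356000 tc_eq 6557696 2048 ck_3202 b (by omega) (by omega)
  rcases Nat.lt_or_ge b 6561792 with g11 | g11
  · exact chkURangeF_spec C relF_hyp 1237356000 tc_eq 6559744 2048 ck_3203 b (by omega) (by omega)
  rcases Nat.lt_or_ge b 6563840 with g12 | g12
  · exact chkURangeF_spec C relF_hyp 1237356000 tc_eq 6561792 2048 ck_3204 b (by omega) (by omega)
  rcases Nat.lt_or_ge b 6565888 with g13 | g13
  · exact chkURangeF_spec C relF_hyp 1237356000 tc_eq 6563840 2048 ck_3205 b (by omega) (by omega)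
  rcases Nat.lt_or_ge b 6567936 with g14 | g14
  · exact chkURangeF_spec C relF_hyp 1237356000 tc_eq 6565888 2048 ck_3206 b (by omega) (by omega)
  rcases Nat.lt_or_ge b 6569984 with g15 | g15
  · exact chkURangeF_spec C relF_hyp 1237356000 tc_eq 6567936 2048 ck_3207 b (by omega) (by omega)
  rcases Nat.lt_or_ge b 6572032 with g16 | g16
  · exact chkURangeF_spec C relF_hyp 1237356000 tc_eq 6569984 2048 ck_3208 b (by omega) (by omega)
  rcases Nat.lt_or_ge b 6574080 with g17 | g17
  · exact chkURangeF_spec C relF_hyp 1237356000 tc_eq 6572032 2048 ck_3209 b (by omega) (by omega)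
  rcases Nat.lt_or_ge b 6576128 with g18 | g18
  · exact chkURangeF_spec C relF_hyp 1237356000 tc_eq 6574080 2048 ck_3210 b (by omega) (by omega)
  rcases Nat.lt_or_ge b 6578176 with g19 | g19
  · exact chkURangeF_spec C relF_hyp 1237356000 tc_eq 6576128 2048 ck_3211 b (by omega) (by omega)
  rcases Nat.lt_or_ge b 6580224 with g20 | g20
  · exact chkURangeF_spec C relF_hyp 1237356000 tc_eq 6578176 2048 ck_3212 b (by omega) (by omega)
  rcases Nat.lt_or_ge b 6582272 with g21 | g21
  · exact chkURangeF_spec C relF_hyp 1237356000 tc_eq 6580224 2048 ck_3213 b (by omega) (by omega)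
  rcases Nat.lt_or_ge b 6584320 with g22 | g22
  · exact chkURangeF_spec C relF_hyp 1237356000 tc_eq 6582272 2048 ck_3214 b (by omega) (by omega)
  exact chkURangeF_spec C relF_hyp 1237356000 tc_eq 6584320 2048 ck_3215 b (by omega) (by omega)
end Cfsg.Agent.Lib.Helper2.HNMult.P2
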