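import Cfsg.Agent.Lib.Helper2.HNMult.P2.Cert
set_option autoImplicit false
set_option maxRecDepth 1000000
set_option Elab.async false
namespace Cfsg.Agent.Lib.Helper2.HNMult.P2
open Cfsg.Agent.Lib.Helper4.Sparse Cfsg.Agent.Lib.Helper2.SparseF
theorem ck_3264 : chkURangeF D C relF 796 1237356000 6684672 2048 = true := by decide +kernel
theorem ck_3265 : chkURangeF D C relF 796 1237356000 6686720 2048 = true := by decide +kernel
theorem ck_3266 : chkURangeF D C relF 796 1237356000 6688768 2048 = true := by decide +kernel
theorem ck_3267 : chkURangeF D C relF 796 1237356000 6690816 2048 = true := by decide +kernel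
theorem ck_3268 : chkURangeF D C relF 796 1237356000 6692864 2048 = true := by decide +kernel
theorem ck_3269 : chkURangeF D C relF 796 1237356000 6694912 2048 = true := by decide +kernel
theorem ck_3270 : chkURangeF D C relF 796 1237356000 6696960 2048 = true := by decide +kernel
theorem ck_3271 : chkURangeF D C relF 796 1237356000 6699008 2048 = true := by decide +kernel
theorem ck_3272 : chkURangeF D C relF 796 1237356000 6701056 2048 = true := by decide +kernel
theorem ck_3273 : chkURangeF D C relF 796 1237356000 6703104 2048 = true := by decide +kernel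
theorem ck_3274 : chkURangeF D C relF 796 1237356000 6705152 2048 = true := by decide +kernel
theorem ck_3275 : chkURangeF D C relF 796 1237356000 6707200 2048 = true := by decide +kernel
theorem ck_3276 : chkURangeF D C relF 796 1237356000 6709248 2048 = true := by decide +kernel
theorem ck_3277 : chkURangeF D C relF 796 1237356000 6711296 2048 = true := by decide +kernel
theorem ck_3278 : chkURangeF D C relF 796 1237356000 6713344 2048 = true := by decide +kernel
theorem ck_3279 : chkURangeF D C relF 796 1237356000 6715392 2048 = true := by decide +kernel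
theorem ck_3280 : chkURangeF D C relF 796 1237356000 6717440 2048 = true := by decide +kernel
theorem ck_3281 : chkURangeF D C relF 796 1237356000 6719488 2048 = true := by decide +kernel
theorem ck_3282 : chkURangeF D C relF 796 1237356000 6721536 2048 = true := by decide +kernel
theorem ck_3283 : chkURangeF D C relF 796 1237356000 6723584 2048 = true := by decide +kernel
theorem ck_3284 : chkURangeF D C relF 796 1237356000 6725632 2048 = true := by decide +kernel
theorem ck_3285 : chkURangeF D C relF 796 1237356000 6727680 2048 = true := by decide +kernel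
theorem ck_3286 : chkURangeF D C relF 796 1237356000 6729728 2048 = true := by decide +kernel
theorem ck_3287 : chkURangeF D C relF 796 1237356000 6731776 2048 = true := by decide +kernel
theorem chkU_136 (b : ℕ) (h1 : 6684672 ≤ b) (h2 : b < 6733824) : chkU D C b = true := by
  rcases Nat.lt_or_ge b 6686720 with g0 | g0
  · exact chkURangeF_spec C relF_hyp 1237356000 tc_eq 6684672 2048 ck_3264 b (by omega) (by omega)
  rcases Nat.lt_or_ge b 6688768 with g1 | g1
  · exact chkURangeF_spec C relF_hyp 1237356000 tc_eq 6686720 2048 ck_3265 b (by omega) (by omega)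
  rcases Nat.lt_or_ge b 6690816 with g2 | g2
  · exact chkURangeF_spec C relF_hyp 1237356000 tc_eq 6688768 2048 ck_3266 b (by omega) (by omega)
  rcases Nat.lt_or_ge b 6692864 with g3 | g3
  · exact chkURangeF_spec C relF_hyp 1237356000 tc_eq 6690816 2048 ck_3267 b (by omega) (by omega)
  rcases Nat.lt_or_ge b 6694912 with g4 | g4
  · exact chkURangeF_spec C relF_hyp 1237356000 tc_eq 6692864 2048 ck_3268 b (by omega) (by omega)
  rcases Nat.lt_or_ge b 6696960 with g5 | g5
  · exact chkURangeF_spec C relF_hyp 1237356000 tc_eq 6694912 2048 ck_3269 b (by omega) (by omega)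
  rcases Nat.lt_or_ge b 6699008 with g6 | g6
  · exact chkURangeF_spec C relF_hyp 1237356000 tc_eq 6696960 2048 ck_3270 b (by omega) (by omega)
  rcases Nat.lt_or_ge b 6701056 with g7 | g7
  · exact chkURangeF_spec C relF_hyp 1237356000 tc_eq 6699008 2048 ck_3271 b (by omega) (by omega)
  rcases Nat.lt_or_ge b 6703104 with g8 | g8
  · exact chkURangeF_spec C relF_hyp 1237356000 tc_eq 6701056 2048 ck_3272 b (by omega) (by omega)
  rcases Nat.lt_or_ge b 6705152 with g9 | g9
  · exact chkURangeF_spec C relF_hyp 1237356000 tc_eq 6703104 2048 ck_3273 b (by omega) (by omega)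
  rcases Nat.lt_or_ge b 6707200 with g10 | g10
  · exact chkURangeF_spec C relF_hyp 1237356000 tc_eq 6705152 2048 ck_3274 b (by omega) (by omega)
  rcases Nat.lt_or_ge b 6709248 with g11 | g11
  · exact chkURangeF_spec C relF_hyp 1237356000 tc_eq 6707200 2048 ck_3275 b (by omega) (by omega)
  rcases Nat.lt_or_ge b 6711296 with g12 | g12
  · exact chkURangeF_spec C relF_hyp 1237356000 tc_eq 6709248 2048 ck_3276 b (by omega) (by omega)
  rcases Nat.lt_or_ge b 6713344 with g13 | g13
  · exact chkURangeF_spec C relF_hyp 1237356000 tc_eq 6711296 2048 ck_3277 b (by omega) (by omega)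
  rcases Nat.lt_or_ge b 6715392 with g14 | g14
  · exact chkURangeF_spec C relF_hyp 1237356000 tc_eq 6713344 2048 ck_3278 b (by omega) (by omega)
  rcases Nat.lt_or_ge b 6717440 with g15 | g15
  · exact chkURangeF_spec C relF_hyp 1237356000 tc_eq 6715392 2048 ck_3279 b (by omega) (by omega)
  rcases Nat.lt_or_ge b 6719488 with g16 | g16
  · exact chkURangeF_spec C relF_hyp 1237356000 tc_eq 6717440 2048 ck_3280 b (by omega) (by omega)
  rcases Nat.lt_or_ge b 6721536 with g17 | g17
  · exact chkURangeF_spec C relF_hyp 1237356000 tc_eq 6719488 2048 ck_3281 b (by omega) (by omega)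
  rcases Nat.lt_or_ge b 6723584 with g18 | g18
  · exact chkURangeF_spec C relF_hyp 1237356000 tc_eq 6721536 2048 ck_3282 b (by omega) (by omega)
  rcases Nat.lt_or_ge b 6725632 with g19 | g19
  · exact chkURangeF_spec C relF_hyp 1237356000 tc_eq 6723584 2048 ck_3283 b (by omega) (by omega)
  rcases Nat.lt_or_ge b 6727680 with g20 | g20
  · exact chkURangeF_spec C relF_hyp 1237356000 tc_eq 6725632 2048 ck_3284 b (by omega) (by omega)
  rcases Nat.lt_or_ge b 6729728 with g21 | g21
  · exact chkURangeF_spec C relF_hyp 1237356000 tc_eq 6727680 2048 ck_3285 b (by omega) (by omega)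
  rcases Nat.lt_or_ge b 6731776 with g22 | g22
  · exact chkURangeF_spec C relF_hyp 1237356000 tc_eq 6729728 2048 ck_3286 b (by omega) (by omega)
  exact chkURangeF_spec C relF_hyp 1237356000 tc_eq 6731776 2048 ck_3287 b (by omega) (by omega)
end Cfsg.Agent.Lib.Helper2.HNMult.P2
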