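import Cfsg.Agent.Lib.Helper2.HNMult.P2.Cert
set_option autoImplicit false
set_option maxRecDepth 1000000
set_option Elab.async false
namespace Cfsg.Agent.Lib.Helper2.HNMult.P2
open Cfsg.Agent.Lib.Helper4.Sparse Cfsg.Agent.Lib.Helper2.SparseF
theorem ck_3408 : chkURangeF D C relF 796 1237356000 6979584 2048 = true := by decide +kernel
theorem ck_3409 : chkURangeF D C relF 796 1237356000 6981632 2048 = true := by decide +kernel
theorem ck_3410 : chkURangeF D C relF 796 1237356000 6983680 2048 = true := by decide +kernel
theorem ck_3411 : chkURangeF D C relF 796 1237356000 6985728 2048 = true := by decide +kernel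
theorem ck_3412 : chkURangeF D C relF 796 1237356000 6987776 2048 = true := by decide +kernel
theorem ck_3413 : chkURangeF D C relF 796 1237356000 6989824 2048 = true := by decide +kernel
theorem ck_3414 : chkURangeF D C relF 796 1237356000 6991872 2048 = true := by decide +kernel
theorem ck_3415 : chkURangeF D C relF 796 1237356000 6993920 2048 = true := by decide +kernel
theorem ck_3416 : chkURangeF D C relF 796 1237356000 6995968 2048 = true := by decide +kernel
theorem ck_3417 : chkURangeF D C relF 796 1237356000 6998016 2048 = true := by decide +kernel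
theorem ck_3418 : chkURangeF D C relF 796 1237356000 7000064 2048 = true := by decide +kernel
theorem ck_3419 : chkURangeF D C relF 796 1237356000 7002112 2048 = true := by decide +kernel
theorem ck_3420 : chkURangeF D C relF 796 1237356000 7004160 2048 = true := by decide +kernel
theorem ck_3421 : chkURangeF D C relF 796 1237356000 7006208 2048 = true := by decide +kernel
theorem ck_3422 : chkURangeF D C relF 796 1237356000 7008256 2048 = true := by decide +kernel
theorem ck_3423 : chkURangeF D C relF 796 1237356000 7010304 2048 = true := by decide +kernel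
theorem ck_3424 : chkURangeF D C relF 796 1237356000 7012352 2048 = true := by decide +kernel
theorem ck_3425 : chkURangeF D C relF 796 1237356000 7014400 2048 = true := by decide +kernel
theorem ck_3426 : chkURangeF D C relF 796 1237356000 7016448 2048 = true := by decide +kernel
theorem ck_3427 : chkURangeF D C relF 796 1237356000 7018496 2048 = true := by decide +kernel
theorem ck_3428 : chkURangeF D C relF 796 1237356000 7020544 2048 = true := by decide +kernel
theorem ck_3429 : chkURangeF D C relF 796 1237356000 7022592 2048 = true := by decide +kernel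
theorem ck_3430 : chkURangeF D C relF 796 1237356000 7024640 2048 = true := by decide +kernel
theorem ck_3431 : chkURangeF D C relF 796 1237356000 7026688 2048 = true := by decide +kernel
theorem chkU_142 (b : ℕ) (h1 : 6979584 ≤ b) (h2 : b < 7028736) : chkU D C b = true := by
  rcases Nat.lt_or_ge b 6981632 with g0 | g0
  · exact chkURangeF_spec C relF_hyp 1237356000 tc_eq 6979584 2048 ck_3408 b (by omega) (by omega)
  rcases Nat.lt_or_ge b 6983680 with g1 | g1
  · exact chkURangeF_spec C relF_hyp 1237356000 tc_eq 6981632 2048 ck_3409 b (by omega) (by omega)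
  rcases Nat.lt_or_ge b 6985728 with g2 | g2
  · exact chkURangeF_spec C relF_hyp 1237356000 tc_eq 6983680 2048 ck_3410 b (by omega) (by omega)
  rcases Nat.lt_or_ge b 6987776 with g3 | g3
  · exact chkURangeF_spec C relF_hyp 1237356000 tc_eq 6985728 2048 ck_3411 b (by omega) (by omega)
  rcases Nat.lt_or_ge b 6989824 with g4 | g4
  · exact chkURangeF_spec C relF_hyp 1237356000 tc_eq 6987776 2048 ck_3412 b (by omega) (by omega)
  rcases Nat.lt_or_ge b 6991872 with g5 | g5
  · exact chkURangeF_spec C relF_hyp 1237356000 tc_eq 6989824 2048 ck_3413 b (by omega) (by omega)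
  rcases Nat.lt_or_ge b 6993920 with g6 | g6
  · exact chkURangeF_spec C relF_hyp 1237356000 tc_eq 6991872 2048 ck_3414 b (by omega) (by omega)
  rcases Nat.lt_or_ge b 6995968 with g7 | g7
  · exact chkURangeF_spec C relF_hyp 1237356000 tc_eq 6993920 2048 ck_3415 b (by omega) (by omega)
  rcases Nat.lt_or_ge b 6998016 with g8 | g8
  · exact chkURangeF_spec C relF_hyp 1237356000 tc_eq 6995968 2048 ck_3416 b (by omega) (by omega)
  rcases Nat.lt_or_ge b 7000064 with g9 | g9
  · exact chkURangeF_spec C relF_hyp 1237356000 tc_eq 6998016 2048 ck_3417 b (by omega) (by omega)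
  rcases Nat.lt_or_ge b 7002112 with g10 | g10
  · exact chkURangeF_spec C relF_hyp 1237356000 tc_eq 7000064 2048 ck_3418 b (by omega) (by omega)
  rcases Nat.lt_or_ge b 7004160 with g11 | g11
  · exact chkURangeF_spec C relF_hyp 1237356000 tc_eq 7002112 2048 ck_3419 b (by omega) (by omega)
  rcases Nat.lt_or_ge b 7006208 with g12 | g12
  · exact chkURangeF_spec C relF_hyp 1237356000 tc_eq 7004160 2048 ck_3420 b (by omega) (by omega)
  rcases Nat.lt_or_ge b 7008256 with g13 | g13
  · exact chkURangeF_spec C relF_hyp 1237356000 tc_eq 7006208 2048 ck_3421 b (by omega) (by omega)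
  rcases Nat.lt_or_ge b 7010304 with g14 | g14
  · exact chkURangeF_spec C relF_hyp 1237356000 tc_eq 7008256 2048 ck_3422 b (by omega) (by omega)
  rcases Nat.lt_or_ge b 7012352 with g15 | g15
  · exact chkURangeF_spec C relF_hyp 1237356000 tc_eq 7010304 2048 ck_3423 b (by omega) (by omega)
  rcases Nat.lt_or_ge b 7014400 with g16 | g16
  · exact chkURangeF_spec C relF_hyp 1237356000 tc_eq 7012352 2048 ck_3424 b (by omega) (by omega)
  rcases Nat.lt_or_ge b 7016448 with g17 | g17
  · exact chkURangeF_spec C relF_hyp 1237356000 tc_eq 7014400 2048 ck_3425 b (by omega) (by omega)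
  rcases Nat.lt_or_ge b 7018496 with g18 | g18
  · exact chkURangeF_spec C relF_hyp 1237356000 tc_eq 7016448 2048 ck_3426 b (by omega) (by omega)
  rcases Nat.lt_or_ge b 7020544 with g19 | g19
  · exact chkURangeF_spec C relF_hyp 1237356000 tc_eq 7018496 2048 ck_3427 b (by omega) (by omega)
  rcases Nat.lt_or_ge b 7022592 with g20 | g20
  · exact chkURangeF_spec C relF_hyp 1237356000 tc_eq 7020544 2048 ck_3428 b (by omega) (by omega)
  rcases Nat.lt_or_ge b 7024640 with g21 | g21
  · exact chkURangeF_spec C relF_hyp 1237356000 tc_eq 7022592 2048 ck_3429 b (by omega) (by omega)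
  rcases Nat.lt_or_ge b 7026688 with g22 | g22
  · exact chkURangeF_spec C relF_hyp 1237356000 tc_eq 7024640 2048 ck_3430 b (by omega) (by omega)
  exact chkURangeF_spec C relF_hyp 1237356000 tc_eq 7026688 2048 ck_3431 b (by omega) (by omega)
end Cfsg.Agent.Lib.Helper2.HNMult.P2
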