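import Cfsg.Agent.Lib.Helper2.HNMult.P2.Cert
set_option autoImplicit false
set_option maxRecDepth 1000000
set_option Elab.async false
namespace Cfsg.Agent.Lib.Helper2.HNMult.P2
open Cfsg.Agent.Lib.Helper4.Sparse Cfsg.Agent.Lib.Helper2.SparseF
theorem ck_360 : chkURangeF D C relF 796 1237356000 737280 2048 = true := by decide +kernel
theorem ck_361 : chkURangeF D C relF 796 1237356000 739328 2048 = true := by decide +kernel
theorem ck_362 : chkURangeF D C relF 796 1237356000 741376 2048 = true := by decide +kernel
theorem ck_363 : chkURangeF D C relF 796 1237356000 743424 2048 = true := by decide +kernel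
theorem ck_364 : chkURangeF D C relF 796 1237356000 745472 2048 = true := by decide +kernel
theorem ck_365 : chkURangeF D C relF 796 1237356000 747520 2048 = true := by decide +kernel
theorem ck_366 : chkURangeF D C relF 796 1237356000 749568 2048 = true := by decide +kernel
theorem ck_367 : chkURangeF D C relF 796 1237356000 751616 2048 = true := by decide +kernel
theorem ck_368 : chkURangeF D C relF 796 1237356000 753664 2048 = true := by decide +kernel
theorem ck_369 : chkURangeF D C relF 796 1237356000 755712 2048 = true := by decide +kernel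
theorem ck_370 : chkURangeF D C relF 796 1237356000 757760 2048 = true := by decide +kernel
theorem ck_371 : chkURangeF D C relF 796 1237356000 759808 2048 = true := by decide +kernel
theorem ck_372 : chkURangeF D C relF 796 1237356000 761856 2048 = true := by decide +kernel
theorem ck_373 : chkURangeF D C relF 796 1237356000 763904 2048 = true := by decide +kernel
theorem ck_374 : chkURangeF D C relF 796 1237356000 765952 2048 = true := by decide +kernel
theorem ck_375 : chkURangeF D C relF 796 1237356000 768000 2048 = true := by decide +kernel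
theorem ck_376 : chkURangeF D C relF 796 1237356000 770048 2048 = true := by decide +kernel
theorem ck_377 : chkURangeF D C relF 796 1237356000 772096 2048 = true := by decide +kernel
theorem ck_378 : chkURangeF D C relF 796 1237356000 774144 2048 = true := by decide +kernel
theorem ck_379 : chkURangeF D C relF 796 1237356000 776192 2048 = true := by decide +kernel
theorem ck_380 : chkURangeF D C relF 796 1237356000 778240 2048 = true := by decide +kernel
theorem ck_381 : chkURangeF D C relF 796 1237356000 780288 2048 = true := by decide +kernel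
theorem ck_382 : chkURangeF D C relF 796 1237356000 782336 2048 = true := by decide +kernel
theorem ck_383 : chkURangeF D C relF 796 1237356000 784384 2048 = true := by decide +kernel
theorem chkU_15 (b : ℕ) (h1 : 737280 ≤ b) (h2 : b < 786432) : chkU D C b = true := by
  rcases Nat.lt_or_ge b 739328 with g0 | g0
  · exact chkURangeF_spec C relF_hyp 1237356000 tc_eq 737280 2048 ck_360 b (by omega) (by omega)
  rcases Nat.lt_or_ge b 741376 with g1 | g1
  · exact chkURangeF_spec C relF_hyp 1237356000 tc_eq 739328 2048 ck_361 b (by omega) (by omega)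
  rcases Nat.lt_or_ge b 743424 with g2 | g2
  · exact chkURangeF_spec C relF_hyp 1237356000 tc_eq 741376 2048 ck_362 b (by omega) (by omega)
  rcases Nat.lt_or_ge b 745472 with g3 | g3
  · exact chkURangeF_spec C relF_hyp 1237356000 tc_eq 743424 2048 ck_363 b (by omega) (by omega)
  rcases Nat.lt_or_ge b 747520 with g4 | g4
  · exact chkURangeF_spec C relF_hyp 1237356000 tc_eq 745472 2048 ck_364 b (by omega) (by omega)
  rcases Nat.lt_or_ge b 749568 with g5 | g5
  · exact chkURangeF_spec C relF_hyp 1237356000 tc_eq 747520 2048 ck_365 b (by omega) (by omega)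
  rcases Nat.lt_or_ge b 751616 with g6 | g6
  · exact chkURangeF_spec C relF_hyp 1237356000 tc_eq 749568 2048 ck_366 b (by omega) (by omega)
  rcases Nat.lt_or_ge b 753664 with g7 | g7
  · exact chkURangeF_spec C relF_hyp 1237356000 tc_eq 751616 2048 ck_367 b (by omega) (by omega)
  rcases Nat.lt_or_ge b 755712 with g8 | g8
  · exact chkURangeF_spec C relF_hyp 1237356000 tc_eq 753664 2048 ck_368 b (by omega) (by omega)
  rcases Nat.lt_or_ge b 757760 with g9 | g9
  · exact chkURangeF_spec C relF_hyp 1237356000 tc_eq 755712 2048 ck_369 b (by omega) (by omega)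
  rcases Nat.lt_or_ge b 759808 with g10 | g10
  · exact chkURangeF_spec C relF_hyp 1237356000 tc_eq 757760 2048 ck_370 b (by omega) (by omega)
  rcases Nat.lt_or_ge b 761856 with g11 | g11
  · exact chkURangeF_spec C relF_hyp 1237356000 tc_eq 759808 2048 ck_371 b (by omega) (by omega)
  rcases Nat.lt_or_ge b 763904 with g12 | g12
  · exact chkURangeF_spec C relF_hyp 1237356000 tc_eq 761856 2048 ck_372 b (by omega) (by omega)
  rcases Nat.lt_or_ge b 765952 with g13 | g13
  · exact chkURangeF_spec C relF_hyp 1237356000 tc_eq 763904 2048 ck_373 b (by omega) (by omega)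
  rcases Nat.lt_or_ge b 768000 with g14 | g14
  · exact chkURangeF_spec C relF_hyp 1237356000 tc_eq 765952 2048 ck_374 b (by omega) (by omega)
  rcases Nat.lt_or_ge b 770048 with g15 | g15
  · exact chkURangeF_spec C relF_hyp 1237356000 tc_eq 768000 2048 ck_375 b (by omega) (by omega)
  rcases Nat.lt_or_ge b 772096 with g16 | g16
  · exact chkURangeF_spec C relF_hyp 1237356000 tc_eq 770048 2048 ck_376 b (by omega) (by omega)
  rcases Nat.lt_or_ge b 774144 with g17 | g17
  · exact chkURangeF_spec C relF_hyp 1237356000 tc_eq 772096 2048 ck_377 b (by omega) (by omega)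
  rcases Nat.lt_or_ge b 776192 with g18 | g18
  · exact chkURangeF_spec C relF_hyp 1237356000 tc_eq 774144 2048 ck_378 b (by omega) (by omega)
  rcases Nat.lt_or_ge b 778240 with g19 | g19
  · exact chkURangeF_spec C relF_hyp 1237356000 tc_eq 776192 2048 ck_379 b (by omega) (by omega)
  rcases Nat.lt_or_ge b 780288 with g20 | g20
  · exact chkURangeF_spec C relF_hyp 1237356000 tc_eq 778240 2048 ck_380 b (by omega) (by omega)
  rcases Nat.lt_or_ge b 782336 with g21 | g21
  · exact chkURangeF_spec C relF_hyp 1237356000 tc_eq 780288 2048 ck_381 b (by omega) (by omega)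
  rcases Nat.lt_or_ge b 784384 with g22 | g22
  · exact chkURangeF_spec C relF_hyp 1237356000 tc_eq 782336 2048 ck_382 b (by omega) (by omega)
  exact chkURangeF_spec C relF_hyp 1237356000 tc_eq 784384 2048 ck_383 b (by omega) (by omega)
end Cfsg.Agent.Lib.Helper2.HNMult.P2
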