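import Cfsg.Agent.Lib.Helper2.HNMult.P2.Cert
set_option autoImplicit false
set_option maxRecDepth 1000000
set_option Elab.async false
namespace Cfsg.Agent.Lib.Helper2.HNMult.P2
open Cfsg.Agent.Lib.Helper4.Sparse Cfsg.Agent.Lib.Helper2.SparseF
theorem ck_3648 : chkURangeF D C relF 796 1237356000 7471104 2048 = true := by decide +kernel
theorem ck_3649 : chkURangeF D C relF 796 1237356000 7473152 2048 = true := by decide +kernel
theorem ck_3650 : chkURangeF D C relF 796 1237356000 7475200 2048 = true := by decide +kernel
theorem ck_3651 : chkURangeF D C relF 796 1237356000 7477248 2048 = true := by decide +kernel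
theorem ck_3652 : chkURangeF D C relF 796 1237356000 7479296 2048 = true := by decide +kernel
theorem ck_3653 : chkURangeF D C relF 796 1237356000 7481344 2048 = true := by decide +kernel
theorem ck_3654 : chkURangeF D C relF 796 1237356000 7483392 2048 = true := by decide +kernel
theorem ck_3655 : chkURangeF D C relF 796 1237356000 7485440 2048 = true := by decide +kernel
theorem ck_3656 : chkURangeF D C relF 796 1237356000 7487488 2048 = true := by decide +kernel
theorem ck_3657 : chkURangeF D C relF 796 1237356000 7489536 2048 = true := by decide +kernel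
theorem ck_3658 : chkURangeF D C relF 796 1237356000 7491584 2048 = true := by decide +kernel
theorem ck_3659 : chkURangeF D C relF 796 1237356000 7493632 2048 = true := by decide +kernel
theorem ck_3660 : chkURangeF D C relF 796 1237356000 7495680 2048 = true := by decide +kernel
theorem ck_3661 : chkURangeF D C relF 796 1237356000 7497728 2048 = true := by decide +kernel
theorem ck_3662 : chkURangeF D C relF 796 1237356000 7499776 2048 = true := by decide +kernel
theorem ck_3663 : chkURangeF D C relF 796 1237356000 7501824 2048 = true := by decide +kernel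
theorem ck_3664 : chkURangeF D C relF 796 1237356000 7503872 2048 = true := by decide +kernel
theorem ck_3665 : chkURangeF D C relF 796 1237356000 7505920 2048 = true := by decide +kernel
theorem ck_3666 : chkURangeF D C relF 796 1237356000 7507968 2048 = true := by decide +kernel
theorem ck_3667 : chkURangeF D C relF 796 1237356000 7510016 2048 = true := by decide +kernel
theorem ck_3668 : chkURangeF D C relF 796 1237356000 7512064 2048 = true := by decide +kernel
theorem ck_3669 : chkURangeF D C relF 796 1237356000 7514112 2048 = true := by decide +kernel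
theorem ck_3670 : chkURangeF D C relF 796 1237356000 7516160 2048 = true := by decide +kernel
theorem ck_3671 : chkURangeF D C relF 796 1237356000 7518208 2048 = true := by decide +kernel
theorem chkU_152 (b : ℕ) (h1 : 7471104 ≤ b) (h2 : b < 7520256) : chkU D C b = true := by
  rcases Nat.lt_or_ge b 7473152 with g0 | g0
  · exact chkURangeF_spec C relF_hyp 1237356000 tc_eq 7471104 2048 ck_3648 b (by omega) (by omega)
  rcases Nat.lt_or_ge b 7475200 with g1 | g1
  · exact chkURangeF_spec C relF_hyp 1237356000 tc_eq 7473152 2048 ck_3649 b (by omega) (by omega)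
  rcases Nat.lt_or_ge b 7477248 with g2 | g2
  · exact chkURangeF_spec C relF_hyp 1237356000 tc_eq 7475200 2048 ck_3650 b (by omega) (by omega)
  rcases Nat.lt_or_ge b 7479296 with g3 | g3
  · exact chkURangeF_spec C relF_hyp 1237356000 tc_eq 7477248 2048 ck_3651 b (by omega) (by omega)
  rcases Nat.lt_or_ge b 7481344 with g4 | g4
  · exact chkURangeF_spec C relF_hyp 1237356000 tc_eq 7479296 2048 ck_3652 b (by omega) (by omega)
  rcases Nat.lt_or_ge b 7483392 with g5 | g5
  · exact chkURangeF_spec C relF_hyp 1237356000 tc_eq 7481344 2048 ck_3653 b (by omega) (by omega)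
  rcases Nat.lt_or_ge b 7485440 with g6 | g6
  · exact chkURangeF_spec C relF_hyp 1237356000 tc_eq 7483392 2048 ck_3654 b (by omega) (by omega)
  rcases Nat.lt_or_ge b 7487488 with g7 | g7
  · exact chkURangeF_spec C relF_hyp 1237356000 tc_eq 7485440 2048 ck_3655 b (by omega) (by omega)
  rcases Nat.lt_or_ge b 7489536 with g8 | g8
  · exact chkURangeF_spec C relF_hyp 1237356000 tc_eq 7487488 2048 ck_3656 b (by omega) (by omega)
  rcases Nat.lt_or_ge b 7491584 with g9 | g9
  · exact chkURangeF_spec C relF_hyp 1237356000 tc_eq 7489536 2048 ck_3657 b (by omega) (by omega)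
  rcases Nat.lt_or_ge b 7493632 with g10 | g10
  · exact chkURangeF_spec C relF_hyp 1237356000 tc_eq 7491584 2048 ck_3658 b (by omega) (by omega)
  rcases Nat.lt_or_ge b 7495680 with g11 | g11
  · exact chkURangeF_spec C relF_hyp 1237356000 tc_eq 7493632 2048 ck_3659 b (by omega) (by omega)
  rcases Nat.lt_or_ge b 7497728 with g12 | g12
  · exact chkURangeF_spec C relF_hyp 1237356000 tc_eq 7495680 2048 ck_3660 b (by omega) (by omega)
  rcases Nat.lt_or_ge b 7499776 with g13 | g13
  · exact chkURangeF_spec C relF_hyp 1237356000 tc_eq 7497728 2048 ck_3661 b (by omega) (by omega)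
  rcases Nat.lt_or_ge b 7501824 with g14 | g14
  · exact chkURangeF_spec C relF_hyp 1237356000 tc_eq 7499776 2048 ck_3662 b (by omega) (by omega)
  rcases Nat.lt_or_ge b 7503872 with g15 | g15
  · exact chkURangeF_spec C relF_hyp 1237356000 tc_eq 7501824 2048 ck_3663 b (by omega) (by omega)
  rcases Nat.lt_or_ge b 7505920 with g16 | g16
  · exact chkURangeF_spec C relF_hyp 1237356000 tc_eq 7503872 2048 ck_3664 b (by omega) (by omega)
  rcases Nat.lt_or_ge b 7507968 with g17 | g17
  · exact chkURangeF_spec C relF_hyp 1237356000 tc_eq 7505920 2048 ck_3665 b (by omega) (by omega)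
  rcases Nat.lt_or_ge b 7510016 with g18 | g18
  · exact chkURangeF_spec C relF_hyp 1237356000 tc_eq 7507968 2048 ck_3666 b (by omega) (by omega)
  rcases Nat.lt_or_ge b 7512064 with g19 | g19
  · exact chkURangeF_spec C relF_hyp 1237356000 tc_eq 7510016 2048 ck_3667 b (by omega) (by omega)
  rcases Nat.lt_or_ge b 7514112 with g20 | g20
  · exact chkURangeF_spec C relF_hyp 1237356000 tc_eq 7512064 2048 ck_3668 b (by omega) (by omega)
  rcases Nat.lt_or_ge b 7516160 with g21 | g21
  · exact chkURangeF_spec C relF_hyp 1237356000 tc_eq 7514112 2048 ck_3669 b (by omega) (by omega)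
  rcases Nat.lt_or_ge b 7518208 with g22 | g22
  · exact chkURangeF_spec C relF_hyp 1237356000 tc_eq 7516160 2048 ck_3670 b (by omega) (by omega)
  exact chkURangeF_spec C relF_hyp 1237356000 tc_eq 7518208 2048 ck_3671 b (by omega) (by omega)
end Cfsg.Agent.Lib.Helper2.HNMult.P2
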