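import Cfsg.Agent.Lib.Helper2.HNMult.P2.Cert
set_option autoImplicit false
set_option maxRecDepth 1000000
set_option Elab.async false
namespace Cfsg.Agent.Lib.Helper2.HNMult.P2
open Cfsg.Agent.Lib.Helper4.Sparse Cfsg.Agent.Lib.Helper2.SparseF
theorem ck_3672 : chkURangeF D C relF 796 1237356000 7520256 2048 = true := by decide +kernel
theorem ck_3673 : chkURangeF D C relF 796 1237356000 7522304 2048 = true := by decide +kernel
theorem ck_3674 : chkURangeF D C relF 796 1237356000 7524352 2048 = true := by decide +kernel
theorem ck_3675 : chkURangeF D C relF 796 1237356000 7526400 2048 = true := by decide +kernel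
theorem ck_3676 : chkURangeF D C relF 796 1237356000 7528448 2048 = true := by decide +kernel
theorem ck_3677 : chkURangeF D C relF 796 1237356000 7530496 2048 = true := by decide +kernel
theorem ck_3678 : chkURangeF D C relF 796 1237356000 7532544 2048 = true := by decide +kernel
theorem ck_3679 : chkURangeF D C relF 796 1237356000 7534592 2048 = true := by decide +kernel
theorem ck_3680 : chkURangeF D C relF 796 1237356000 7536640 2048 = true := by decide +kernel
theorem ck_3681 : chkURangeF D C relF 796 1237356000 7538688 2048 = true := by decide +kernel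
theorem ck_3682 : chkURangeF D C relF 796 1237356000 7540736 2048 = true := by decide +kernel
theorem ck_3683 : chkURangeF D C relF 796 1237356000 7542784 2048 = true := by decide +kernel
theorem ck_3684 : chkURangeF D C relF 796 1237356000 7544832 2048 = true := by decide +kernel
theorem ck_3685 : chkURangeF D C relF 796 1237356000 7546880 2048 = true := by decide +kernel
theorem ck_3686 : chkURangeF D C relF 796 1237356000 7548928 2048 = true := by decide +kernel
theorem ck_3687 : chkURangeF D C relF 796 1237356000 7550976 2048 = true := by decide +kernel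
theorem ck_3688 : chkURangeF D C relF 796 1237356000 7553024 2048 = true := by decide +kernel
theorem ck_3689 : chkURangeF D C relF 796 1237356000 7555072 2048 = true := by decide +kernel
theorem ck_3690 : chkURangeF D C relF 796 1237356000 7557120 2048 = true := by decide +kernel
theorem ck_3691 : chkURangeF D C relF 796 1237356000 7559168 2048 = true := by decide +kernel
theorem ck_3692 : chkURangeF D C relF 796 1237356000 7561216 2048 = true := by decide +kernel
theorem ck_3693 : chkURangeF D C relF 796 1237356000 7563264 2048 = true := by decide +kernel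
theorem ck_3694 : chkURangeF D C relF 796 1237356000 7565312 2048 = true := by decide +kernel
theorem ck_3695 : chkURangeF D C relF 796 1237356000 7567360 2048 = true := by decide +kernel
theorem chkU_153 (b : ℕ) (h1 : 7520256 ≤ b) (h2 : b < 7569408) : chkU D C b = true := by
  rcases Nat.lt_or_ge b 7522304 with g0 | g0
  · exact chkURangeF_spec C relF_hyp 1237356000 tc_eq 7520256 2048 ck_3672 b (by omega) (by omega)
  rcases Nat.lt_or_ge b 7524352 with g1 | g1
  · exact chkURangeF_spec C relF_hyp 1237356000 tc_eq 7522304 2048 ck_3673 b (by omega) (by omega)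
  rcases Nat.lt_or_ge b 7526400 with g2 | g2
  · exact chkURangeF_spec C relF_hyp 1237356000 tc_eq 7524352 2048 ck_3674 b (by omega) (by omega)
  rcases Nat.lt_or_ge b 7528448 with g3 | g3
  · exact chkURangeF_spec C relF_hyp 1237356000 tc_eq 7526400 2048 ck_3675 b (by omega) (by omega)
  rcases Nat.lt_or_ge b 7530496 with g4 | g4
  · exact chkURangeF_spec C relF_hyp 1237356000 tc_eq 7528448 2048 ck_3676 b (by omega) (by omega)
  rcases Nat.lt_or_ge b 7532544 with g5 | g5
  · exact chkURangeF_spec C relF_hyp 1237356000 tc_eq 7530496 2048 ck_3677 b (by omega) (by omega)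
  rcases Nat.lt_or_ge b 7534592 with g6 | g6
  · exact chkURangeF_spec C relF_hyp 1237356000 tc_eq 7532544 2048 ck_3678 b (by omega) (by omega)
  rcases Nat.lt_or_ge b 7536640 with g7 | g7
  · exact chkURangeF_spec C relF_hyp 1237356000 tc_eq 7534592 2048 ck_3679 b (by omega) (by omega)
  rcases Nat.lt_or_ge b 7538688 with g8 | g8
  · exact chkURangeF_spec C relF_hyp 1237356000 tc_eq 7536640 2048 ck_3680 b (by omega) (by omega)
  rcases Nat.lt_or_ge b 7540736 with g9 | g9
  · exact chkURangeF_spec C relF_hyp 1237356000 tc_eq 7538688 2048 ck_3681 b (by omega) (by omega)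
  rcases Nat.lt_or_ge b 7542784 with g10 | g10
  · exact chkURangeF_spec C relF_hyp 1237356000 tc_eq 7540736 2048 ck_3682 b (by omega) (by omega)
  rcases Nat.lt_or_ge b 7544832 with g11 | g11
  · exact chkURangeF_spec C relF_hyp 1237356000 tc_eq 7542784 2048 ck_3683 b (by omega) (by omega)
  rcases Nat.lt_or_ge b 7546880 with g12 | g12
  · exact chkURangeF_spec C relF_hyp 1237356000 tc_eq 7544832 2048 ck_3684 b (by omega) (by omega)
  rcases Nat.lt_or_ge b 7548928 with g13 | g13
  · exact chkURangeF_spec C relF_hyp 1237356000 tc_eq 7546880 2048 ck_3685 b (by omega) (by omega)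
  rcases Nat.lt_or_ge b 7550976 with g14 | g14
  · exact chkURangeF_spec C relF_hyp 1237356000 tc_eq 7548928 2048 ck_3686 b (by omega) (by omega)
  rcases Nat.lt_or_ge b 7553024 with g15 | g15
  · exact chkURangeF_spec C relF_hyp 1237356000 tc_eq 7550976 2048 ck_3687 b (by omega) (by omega)
  rcases Nat.lt_or_ge b 7555072 with g16 | g16
  · exact chkURangeF_spec C relF_hyp 1237356000 tc_eq 7553024 2048 ck_3688 b (by omega) (by omega)
  rcases Nat.lt_or_ge b 7557120 with g17 | g17
  · exact chkURangeF_spec C relF_hyp 1237356000 tc_eq 7555072 2048 ck_3689 b (by omega) (by omega)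
  rcases Nat.lt_or_ge b 7559168 with g18 | g18
  · exact chkURangeF_spec C relF_hyp 1237356000 tc_eq 7557120 2048 ck_3690 b (by omega) (by omega)
  rcases Nat.lt_or_ge b 7561216 with g19 | g19
  · exact chkURangeF_spec C relF_hyp 1237356000 tc_eq 7559168 2048 ck_3691 b (by omega) (by omega)
  rcases Nat.lt_or_ge b 7563264 with g20 | g20
  · exact chkURangeF_spec C relF_hyp 1237356000 tc_eq 7561216 2048 ck_3692 b (by omega) (by omega)
  rcases Nat.lt_or_ge b 7565312 with g21 | g21
  · exact chkURangeF_spec C relF_hyp 1237356000 tc_eq 7563264 2048 ck_3693 b (by omega) (by omega)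
  rcases Nat.lt_or_ge b 7567360 with g22 | g22
  · exact chkURangeF_spec C relF_hyp 1237356000 tc_eq 7565312 2048 ck_3694 b (by omega) (by omega)
  exact chkURangeF_spec C relF_hyp 1237356000 tc_eq 7567360 2048 ck_3695 b (by omega) (by omega)
end Cfsg.Agent.Lib.Helper2.HNMult.P2
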