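import Cfsg.Agent.Lib.Helper2.HNMult.P2.Cert
set_option autoImplicit false
set_option maxRecDepth 1000000
set_option Elab.async false
namespace Cfsg.Agent.Lib.Helper2.HNMult.P2
open Cfsg.Agent.Lib.Helper4.Sparse Cfsg.Agent.Lib.Helper2.SparseF
theorem ck_3696 : chkURangeF D C relF 796 1237356000 7569408 2048 = true := by decide +kernel
theorem ck_3697 : chkURangeF D C relF 796 1237356000 7571456 2048 = true := by decide +kernel
theorem ck_3698 : chkURangeF D C relF 796 1237356000 7573504 2048 = true := by decide +kernel
theorem ck_3699 : chkURangeF D C relF 796 1237356000 7575552 2048 = true := by decide +kernel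
theorem ck_3700 : chkURangeF D C relF 796 1237356000 7577600 2048 = true := by decide +kernel
theorem ck_3701 : chkURangeF D C relF 796 1237356000 7579648 2048 = true := by decide +kernel
theorem ck_3702 : chkURangeF D C relF 796 1237356000 7581696 2048 = true := by decide +kernel
theorem ck_3703 : chkURangeF D C relF 796 1237356000 7583744 2048 = true := by decide +kernel
theorem ck_3704 : chkURangeF D C relF 796 1237356000 7585792 2048 = true := by decide +kernel
theorem ck_3705 : chkURangeF D C relF 796 1237356000 7587840 2048 = true := by decide +kernel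
theorem ck_3706 : chkURangeF D C relF 796 1237356000 7589888 2048 = true := by decide +kernel
theorem ck_3707 : chkURangeF D C relF 796 1237356000 7591936 2048 = true := by decide +kernel
theorem ck_3708 : chkURangeF D C relF 796 1237356000 7593984 2048 = true := by decide +kernel
theorem ck_3709 : chkURangeF D C relF 796 1237356000 7596032 2048 = true := by decide +kernel
theorem ck_3710 : chkURangeF D C relF 796 1237356000 7598080 2048 = true := by decide +kernel
theorem ck_3711 : chkURangeF D C relF 796 1237356000 7600128 2048 = true := by decide +kernel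
theorem ck_3712 : chkURangeF D C relF 796 1237356000 7602176 2048 = true := by decide +kernel
theorem ck_3713 : chkURangeF D C relF 796 1237356000 7604224 2048 = true := by decide +kernel
theorem ck_3714 : chkURangeF D C relF 796 1237356000 7606272 2048 = true := by decide +kernel
theorem ck_3715 : chkURangeF D C relF 796 1237356000 7608320 2048 = true := by decide +kernel
theorem ck_3716 : chkURangeF D C relF 796 1237356000 7610368 2048 = true := by decide +kernel
theorem ck_3717 : chkURangeF D C relF 796 1237356000 7612416 2048 = true := by decide +kernel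
theorem ck_3718 : chkURangeF D C relF 796 1237356000 7614464 2048 = true := by decide +kernel
theorem ck_3719 : chkURangeF D C relF 796 1237356000 7616512 2048 = true := by decide +kernel
theorem chkU_154 (b : ℕ) (h1 : 7569408 ≤ b) (h2 : b < 7618560) : chkU D C b = true := by
  rcases Nat.lt_or_ge b 7571456 with g0 | g0
  · exact chkURangeF_spec C relF_hyp 1237356000 tc_eq 7569408 2048 ck_3696 b (by omega) (by omega)
  rcases Nat.lt_or_ge b 7573504 with g1 | g1
  · exact chkURangeF_spec C relF_hyp 1237356000 tc_eq 7571456 2048 ck_3697 b (by omega) (by omega)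
  rcases Nat.lt_or_ge b 7575552 with g2 | g2
  · exact chkURangeF_spec C relF_hyp 1237356000 tc_eq 7573504 2048 ck_3698 b (by omega) (by omega)
  rcases Nat.lt_or_ge b 7577600 with g3 | g3
  · exact chkURangeF_spec C relF_hyp 1237356000 tc_eq 7575552 2048 ck_3699 b (by omega) (by omega)
  rcases Nat.lt_or_ge b 7579648 with g4 | g4
  · exact chkURangeF_spec C relF_hyp 1237356000 tc_eq 7577600 2048 ck_3700 b (by omega) (by omega)
  rcases Nat.lt_or_ge b 7581696 with g5 | g5
  · exact chkURangeF_spec C relF_hyp 1237356000 tc_eq 7579648 2048 ck_3701 b (by omega) (by omega)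
  rcases Nat.lt_or_ge b 7583744 with g6 | g6
  · exact chkURangeF_spec C relF_hyp 1237356000 tc_eq 7581696 2048 ck_3702 b (by omega) (by omega)
  rcases Nat.lt_or_ge b 7585792 with g7 | g7
  · exact chkURangeF_spec C relF_hyp 1237356000 tc_eq 7583744 2048 ck_3703 b (by omega) (by omega)
  rcases Nat.lt_or_ge b 7587840 with g8 | g8
  · exact chkURangeF_spec C relF_hyp 1237356000 tc_eq 7585792 2048 ck_3704 b (by omega) (by omega)
  rcases Nat.lt_or_ge b 7589888 with g9 | g9
  · exact chkURangeF_spec C relF_hyp 1237356000 tc_eq 7587840 2048 ck_3705 b (by omega) (by omega)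
  rcases Nat.lt_or_ge b 7591936 with g10 | g10
  · exact chkURangeF_spec C relF_hyp 1237356000 tc_eq 7589888 2048 ck_3706 b (by omega) (by omega)
  rcases Nat.lt_or_ge b 7593984 with g11 | g11
  · exact chkURangeF_spec C relF_hyp 1237356000 tc_eq 7591936 2048 ck_3707 b (by omega) (by omega)
  rcases Nat.lt_or_ge b 7596032 with g12 | g12
  · exact chkURangeF_spec C relF_hyp 1237356000 tc_eq 7593984 2048 ck_3708 b (by omega) (by omega)
  rcases Nat.lt_or_ge b 7598080 with g13 | g13
  · exact chkURangeF_spec C relF_hyp 1237356000 tc_eq 7596032 2048 ck_3709 b (by omega) (by omega)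
  rcases Nat.lt_or_ge b 7600128 with g14 | g14
  · exact chkURangeF_spec C relF_hyp 1237356000 tc_eq 7598080 2048 ck_3710 b (by omega) (by omega)
  rcases Nat.lt_or_ge b 7602176 with g15 | g15
  · exact chkURangeF_spec C relF_hyp 1237356000 tc_eq 7600128 2048 ck_3711 b (by omega) (by omega)
  rcases Nat.lt_or_ge b 7604224 with g16 | g16
  · exact chkURangeF_spec C relF_hyp 1237356000 tc_eq 7602176 2048 ck_3712 b (by omega) (by omega)
  rcases Nat.lt_or_ge b 7606272 with g17 | g17
  · exact chkURangeF_spec C relF_hyp 1237356000 tc_eq 7604224 2048 ck_3713 b (by omega) (by omega)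
  rcases Nat.lt_or_ge b 7608320 with g18 | g18
  · exact chkURangeF_spec C relF_hyp 1237356000 tc_eq 7606272 2048 ck_3714 b (by omega) (by omega)
  rcases Nat.lt_or_ge b 7610368 with g19 | g19
  · exact chkURangeF_spec C relF_hyp 1237356000 tc_eq 7608320 2048 ck_3715 b (by omega) (by omega)
  rcases Nat.lt_or_ge b 7612416 with g20 | g20
  · exact chkURangeF_spec C relF_hyp 1237356000 tc_eq 7610368 2048 ck_3716 b (by omega) (by omega)
  rcases Nat.lt_or_ge b 7614464 with g21 | g21
  · exact chkURangeF_spec C relF_hyp 1237356000 tc_eq 7612416 2048 ck_3717 b (by omega) (by omega)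
  rcases Nat.lt_or_ge b 7616512 with g22 | g22
  · exact chkURangeF_spec C relF_hyp 1237356000 tc_eq 7614464 2048 ck_3718 b (by omega) (by omega)
  exact chkURangeF_spec C relF_hyp 1237356000 tc_eq 7616512 2048 ck_3719 b (by omega) (by omega)
end Cfsg.Agent.Lib.Helper2.HNMult.P2
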