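import Cfsg.Agent.Lib.Helper2.HNMult.P2.Cert
set_option autoImplicit false
set_option maxRecDepth 1000000
set_option Elab.async false
namespace Cfsg.Agent.Lib.Helper2.HNMult.P2
open Cfsg.Agent.Lib.Helper4.Sparse Cfsg.Agent.Lib.Helper2.SparseF
theorem ck_3792 : chkURangeF D C relF 796 1237356000 7766016 2048 = true := by decide +kernel
theorem ck_3793 : chkURangeF D C relF 796 1237356000 7768064 2048 = true := by decide +kernel
theorem ck_3794 : chkURangeF D C relF 796 1237356000 7770112 2048 = true := by decide +kernel
theorem ck_3795 : chkURangeF D C relF 796 1237356000 7772160 2048 = true := by decide +kernel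
theorem ck_3796 : chkURangeF D C relF 796 1237356000 7774208 2048 = true := by decide +kernel
theorem ck_3797 : chkURangeF D C relF 796 1237356000 7776256 2048 = true := by decide +kernel
theorem ck_3798 : chkURangeF D C relF 796 1237356000 7778304 2048 = true := by decide +kernel
theorem ck_3799 : chkURangeF D C relF 796 1237356000 7780352 2048 = true := by decide +kernel
theorem ck_3800 : chkURangeF D C relF 796 1237356000 7782400 2048 = true := by decide +kernel
theorem ck_3801 : chkURangeF D C relF 796 1237356000 7784448 2048 = true := by decide +kernel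
theorem ck_3802 : chkURangeF D C relF 796 1237356000 7786496 2048 = true := by decide +kernel
theorem ck_3803 : chkURangeF D C relF 796 1237356000 7788544 2048 = true := by decide +kernel
theorem ck_3804 : chkURangeF D C relF 796 1237356000 7790592 2048 = true := by decide +kernel
theorem ck_3805 : chkURangeF D C relF 796 1237356000 7792640 2048 = true := by decide +kernel
theorem ck_3806 : chkURangeF D C relF 796 1237356000 7794688 2048 = true := by decide +kernel
theorem ck_3807 : chkURangeF D C relF 796 1237356000 7796736 2048 = true := by decide +kernel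
theorem ck_3808 : chkURangeF D C relF 796 1237356000 7798784 2048 = true := by decide +kernel
theorem ck_3809 : chkURangeF D C relF 796 1237356000 7800832 2048 = true := by decide +kernel
theorem ck_3810 : chkURangeF D C relF 796 1237356000 7802880 2048 = true := by decide +kernel
theorem ck_3811 : chkURangeF D C relF 796 1237356000 7804928 2048 = true := by decide +kernel
theorem ck_3812 : chkURangeF D C relF 796 1237356000 7806976 2048 = true := by decide +kernel
theorem ck_3813 : chkURangeF D C relF 796 1237356000 7809024 2048 = true := by decide +kernel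
theorem ck_3814 : chkURangeF D C relF 796 1237356000 7811072 2048 = true := by decide +kernel
theorem ck_3815 : chkURangeF D C relF 796 1237356000 7813120 2048 = true := by decide +kernel
theorem chkU_158 (b : ℕ) (h1 : 7766016 ≤ b) (h2 : b < 7815168) : chkU D C b = true := by
  rcases Nat.lt_or_ge b 7768064 with g0 | g0
  · exact chkURangeF_spec C relF_hyp 1237356000 tc_eq 7766016 2048 ck_3792 b (by omega) (by omega)
  rcases Nat.lt_or_ge b 7770112 with g1 | g1
  · exact chkURangeF_spec C relF_hyp 1237356000 tc_eq 7768064 2048 ck_3793 b (by omega) (by omega)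
  rcases Nat.lt_or_ge b 7772160 with g2 | g2
  · exact chkURangeF_spec C relF_hyp 1237356000 tc_eq 7770112 2048 ck_3794 b (by omega) (by omega)
  rcases Nat.lt_or_ge b 7774208 with g3 | g3
  · exact chkURangeF_spec C relF_hyp 1237356000 tc_eq 7772160 2048 ck_3795 b (by omega) (by omega)
  rcases Nat.lt_or_ge b 7776256 with g4 | g4
  · exact chkURangeF_spec C relF_hyp 1237356000 tc_eq 7774208 2048 ck_3796 b (by omega) (by omega)
  rcases Nat.lt_or_ge b 7778304 with g5 | g5
  · exact chkURangeF_spec C relF_hyp 1237356000 tc_eq 7776256 2048 ck_3797 b (by omega) (by omega)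
  rcases Nat.lt_or_ge b 7780352 with g6 | g6
  · exact chkURangeF_spec C relF_hyp 1237356000 tc_eq 7778304 2048 ck_3798 b (by omega) (by omega)
  rcases Nat.lt_or_ge b 7782400 with g7 | g7
  · exact chkURangeF_spec C relF_hyp 1237356000 tc_eq 7780352 2048 ck_3799 b (by omega) (by omega)
  rcases Nat.lt_or_ge b 7784448 with g8 | g8
  · exact chkURangeF_spec C relF_hyp 1237356000 tc_eq 7782400 2048 ck_3800 b (by omega) (by omega)
  rcases Nat.lt_or_ge b 7786496 with g9 | g9
  · exact chkURangeF_spec C relF_hyp 1237356000 tc_eq 7784448 2048 ck_3801 b (by omega) (by omega)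
  rcases Nat.lt_or_ge b 7788544 with g10 | g10
  · exact chkURangeF_spec C relF_hyp 1237356000 tc_eq 7786496 2048 ck_3802 b (by omega) (by omega)
  rcases Nat.lt_or_ge b 7790592 with g11 | g11
  · exact chkURangeF_spec C relF_hyp 1237356000 tc_eq 7788544 2048 ck_3803 b (by omega) (by omega)
  rcases Nat.lt_or_ge b 7792640 with g12 | g12
  · exact chkURangeF_spec C relF_hyp 1237356000 tc_eq 7790592 2048 ck_3804 b (by omega) (by omega)
  rcases Nat.lt_or_ge b 7794688 with g13 | g13
  · exact chkURangeF_spec C relF_hyp 1237356000 tc_eq 7792640 2048 ck_3805 b (by omega) (by omega)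
  rcases Nat.lt_or_ge b 7796736 with g14 | g14
  · exact chkURangeF_spec C relF_hyp 1237356000 tc_eq 7794688 2048 ck_3806 b (by omega) (by omega)
  rcases Nat.lt_or_ge b 7798784 with g15 | g15
  · exact chkURangeF_spec C relF_hyp 1237356000 tc_eq 7796736 2048 ck_3807 b (by omega) (by omega)
  rcases Nat.lt_or_ge b 7800832 with g16 | g16
  · exact chkURangeF_spec C relF_hyp 1237356000 tc_eq 7798784 2048 ck_3808 b (by omega) (by omega)
  rcases Nat.lt_or_ge b 7802880 with g17 | g17
  · exact chkURangeF_spec C relF_hyp 1237356000 tc_eq 7800832 2048 ck_3809 b (by omega) (by omega)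
  rcases Nat.lt_or_ge b 7804928 with g18 | g18
  · exact chkURangeF_spec C relF_hyp 1237356000 tc_eq 7802880 2048 ck_3810 b (by omega) (by omega)
  rcases Nat.lt_or_ge b 7806976 with g19 | g19
  · exact chkURangeF_spec C relF_hyp 1237356000 tc_eq 7804928 2048 ck_3811 b (by omega) (by omega)
  rcases Nat.lt_or_ge b 7809024 with g20 | g20
  · exact chkURangeF_spec C relF_hyp 1237356000 tc_eq 7806976 2048 ck_3812 b (by omega) (by omega)
  rcases Nat.lt_or_ge b 7811072 with g21 | g21
  · exact chkURangeF_spec C relF_hyp 1237356000 tc_eq 7809024 2048 ck_3813 b (by omega) (by omega)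
  rcases Nat.lt_or_ge b 7813120 with g22 | g22
  · exact chkURangeF_spec C relF_hyp 1237356000 tc_eq 7811072 2048 ck_3814 b (by omega) (by omega)
  exact chkURangeF_spec C relF_hyp 1237356000 tc_eq 7813120 2048 ck_3815 b (by omega) (by omega)
end Cfsg.Agent.Lib.Helper2.HNMult.P2
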