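import Cfsg.Agent.Lib.Helper2.HNMult.P2.Cert
set_option autoImplicit false
set_option maxRecDepth 1000000
set_option Elab.async false
namespace Cfsg.Agent.Lib.Helper2.HNMult.P2
open Cfsg.Agent.Lib.Helper4.Sparse Cfsg.Agent.Lib.Helper2.SparseF
theorem ck_384 : chkURangeF D C relF 796 1237356000 786432 2048 = true := by decide +kernel
theorem ck_385 : chkURangeF D C relF 796 1237356000 788480 2048 = true := by decide +kernel
theorem ck_386 : chkURangeF D C relF 796 1237356000 790528 2048 = true := by decide +kernel
theorem ck_387 : chkURangeF D C relF 796 1237356000 792576 2048 = true := by decide +kernel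
theorem ck_388 : chkURangeF D C relF 796 1237356000 794624 2048 = true := by decide +kernel
theorem ck_389 : chkURangeF D C relF 796 1237356000 796672 2048 = true := by decide +kernel
theorem ck_390 : chkURangeF D C relF 796 1237356000 798720 2048 = true := by decide +kernel
theorem ck_391 : chkURangeF D C relF 796 1237356000 800768 2048 = true := by decide +kernel
theorem ck_392 : chkURangeF D C relF 796 1237356000 802816 2048 = true := by decide +kernel
theorem ck_393 : chkURangeF D C relF 796 1237356000 804864 2048 = true := by decide +kernel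
theorem ck_394 : chkURangeF D C relF 796 1237356000 806912 2048 = true := by decide +kernel
theorem ck_395 : chkURangeF D C relF 796 1237356000 808960 2048 = true := by decide +kernel
theorem ck_396 : chkURangeF D C relF 796 1237356000 811008 2048 = true := by decide +kernel
theorem ck_397 : chkURangeF D C relF 796 1237356000 813056 2048 = true := by decide +kernel
theorem ck_398 : chkURangeF D C relF 796 1237356000 815104 2048 = true := by decide +kernel
theorem ck_399 : chkURangeF D C relF 796 1237356000 817152 2048 = true := by decide +kernel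
theorem ck_400 : chkURangeF D C relF 796 1237356000 819200 2048 = true := by decide +kernel
theorem ck_401 : chkURangeF D C relF 796 1237356000 821248 2048 = true := by decide +kernel
theorem ck_402 : chkURangeF D C relF 796 1237356000 823296 2048 = true := by decide +kernel
theorem ck_403 : chkURangeF D C relF 796 1237356000 825344 2048 = true := by decide +kernel
theorem ck_404 : chkURangeF D C relF 796 1237356000 827392 2048 = true := by decide +kernel
theorem ck_405 : chkURangeF D C relF 796 1237356000 829440 2048 = true := by decide +kernel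
theorem ck_406 : chkURangeF D C relF 796 1237356000 831488 2048 = true := by decide +kernel
theorem ck_407 : chkURangeF D C relF 796 1237356000 833536 2048 = true := by decide +kernel
theorem chkU_16 (b : ℕ) (h1 : 786432 ≤ b) (h2 : b < 835584) : chkU D C b = true := by
  rcases Nat.lt_or_ge b 788480 with g0 | g0
  · exact chkURangeF_spec C relF_hyp 1237356000 tc_eq 786432 2048 ck_384 b (by omega) (by omega)
  rcases Nat.lt_or_ge b 790528 with g1 | g1
  · exact chkURangeF_spec C relF_hyp 1237356000 tc_eq 788480 2048 ck_385 b (by omega) (by omega)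
  rcases Nat.lt_or_ge b 792576 with g2 | g2
  · exact chkURangeF_spec C relF_hyp 1237356000 tc_eq 790528 2048 ck_386 b (by omega) (by omega)
  rcases Nat.lt_or_ge b 794624 with g3 | g3
  · exact chkURangeF_spec C relF_hyp 1237356000 tc_eq 792576 2048 ck_387 b (by omega) (by omega)
  rcases Nat.lt_or_ge b 796672 with g4 | g4
  · exact chkURangeF_spec C relF_hyp 1237356000 tc_eq 794624 2048 ck_388 b (by omega) (by omega)
  rcases Nat.lt_or_ge b 798720 with g5 | g5
  · exact chkURangeF_spec C relF_hyp 1237356000 tc_eq 796672 2048 ck_389 b (by omega) (by omega)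
  rcases Nat.lt_or_ge b 800768 with g6 | g6
  · exact chkURangeF_spec C relF_hyp 1237356000 tc_eq 798720 2048 ck_390 b (by omega) (by omega)
  rcases Nat.lt_or_ge b 802816 with g7 | g7
  · exact chkURangeF_spec C relF_hyp 1237356000 tc_eq 800768 2048 ck_391 b (by omega) (by omega)
  rcases Nat.lt_or_ge b 804864 with g8 | g8
  · exact chkURangeF_spec C relF_hyp 1237356000 tc_eq 802816 2048 ck_392 b (by omega) (by omega)
  rcases Nat.lt_or_ge b 806912 with g9 | g9
  · exact chkURangeF_spec C relF_hyp 1237356000 tc_eq 804864 2048 ck_393 b (by omega) (by omega)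
  rcases Nat.lt_or_ge b 808960 with g10 | g10
  · exact chkURangeF_spec C relF_hyp 1237356000 tc_eq 806912 2048 ck_394 b (by omega) (by omega)
  rcases Nat.lt_or_ge b 811008 with g11 | g11
  · exact chkURangeF_spec C relF_hyp 1237356000 tc_eq 808960 2048 ck_395 b (by omega) (by omega)
  rcases Nat.lt_or_ge b 813056 with g12 | g12
  · exact chkURangeF_spec C relF_hyp 1237356000 tc_eq 811008 2048 ck_396 b (by omega) (by omega)
  rcases Nat.lt_or_ge b 815104 with g13 | g13
  · exact chkURangeF_spec C relF_hyp 1237356000 tc_eq 813056 2048 ck_397 b (by omega) (by omega)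
  rcases Nat.lt_or_ge b 817152 with g14 | g14
  · exact chkURangeF_spec C relF_hyp 1237356000 tc_eq 815104 2048 ck_398 b (by omega) (by omega)
  rcases Nat.lt_or_ge b 819200 with g15 | g15
  · exact chkURangeF_spec C relF_hyp 1237356000 tc_eq 817152 2048 ck_399 b (by omega) (by omega)
  rcases Nat.lt_or_ge b 821248 with g16 | g16
  · exact chkURangeF_spec C relF_hyp 1237356000 tc_eq 819200 2048 ck_400 b (by omega) (by omega)
  rcases Nat.lt_or_ge b 823296 with g17 | g17
  · exact chkURangeF_spec C relF_hyp 1237356000 tc_eq 821248 2048 ck_401 b (by omega) (by omega)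
  rcases Nat.lt_or_ge b 825344 with g18 | g18
  · exact chkURangeF_spec C relF_hyp 1237356000 tc_eq 823296 2048 ck_402 b (by omega) (by omega)
  rcases Nat.lt_or_ge b 827392 with g19 | g19
  · exact chkURangeF_spec C relF_hyp 1237356000 tc_eq 825344 2048 ck_403 b (by omega) (by omega)
  rcases Nat.lt_or_ge b 829440 with g20 | g20
  · exact chkURangeF_spec C relF_hyp 1237356000 tc_eq 827392 2048 ck_404 b (by omega) (by omega)
  rcases Nat.lt_or_ge b 831488 with g21 | g21
  · exact chkURangeF_spec C relF_hyp 1237356000 tc_eq 829440 2048 ck_405 b (by omega) (by omega)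
  rcases Nat.lt_or_ge b 833536 with g22 | g22
  · exact chkURangeF_spec C relF_hyp 1237356000 tc_eq 831488 2048 ck_406 b (by omega) (by omega)
  exact chkURangeF_spec C relF_hyp 1237356000 tc_eq 833536 2048 ck_407 b (by omega) (by omega)
end Cfsg.Agent.Lib.Helper2.HNMult.P2
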