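import Cfsg.Agent.Lib.Helper2.HNMult.P2.Cert
set_option autoImplicit false
set_option maxRecDepth 1000000
set_option Elab.async false
namespace Cfsg.Agent.Lib.Helper2.HNMult.P2
open Cfsg.Agent.Lib.Helper4.Sparse Cfsg.Agent.Lib.Helper2.SparseF
theorem ck_3888 : chkURangeF D C relF 796 1237356000 7962624 2048 = true := by decide +kernel
theorem ck_3889 : chkURangeF D C relF 796 1237356000 7964672 2048 = true := by decide +kernel
theorem ck_3890 : chkURangeF D C relF 796 1237356000 7966720 2048 = true := by decide +kernel
theorem ck_3891 : chkURangeF D C relF 796 1237356000 7968768 2048 = true := by decide +kernel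
theorem ck_3892 : chkURangeF D C relF 796 1237356000 7970816 2048 = true := by decide +kernel
theorem ck_3893 : chkURangeF D C relF 796 1237356000 7972864 2048 = true := by decide +kernel
theorem ck_3894 : chkURangeF D C relF 796 1237356000 7974912 2048 = true := by decide +kernel
theorem ck_3895 : chkURangeF D C relF 796 1237356000 7976960 2048 = true := by decide +kernel
theorem ck_3896 : chkURangeF D C relF 796 1237356000 7979008 2048 = true := by decide +kernel
theorem ck_3897 : chkURangeF D C relF 796 1237356000 7981056 2048 = true := by decide +kernel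
theorem ck_3898 : chkURangeF D C relF 796 1237356000 7983104 2048 = true := by decide +kernel
theorem ck_3899 : chkURangeF D C relF 796 1237356000 7985152 2048 = true := by decide +kernel
theorem ck_3900 : chkURangeF D C relF 796 1237356000 7987200 2048 = true := by decide +kernel
theorem ck_3901 : chkURangeF D C relF 796 1237356000 7989248 2048 = true := by decide +kernel
theorem ck_3902 : chkURangeF D C relF 796 1237356000 7991296 2048 = true := by decide +kernel
theorem ck_3903 : chkURangeF D C relF 796 1237356000 7993344 2048 = true := by decide +kernel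
theorem ck_3904 : chkURangeF D C relF 796 1237356000 7995392 2048 = true := by decide +kernel
theorem ck_3905 : chkURangeF D C relF 796 1237356000 7997440 2048 = true := by decide +kernel
theorem ck_3906 : chkURangeF D C relF 796 1237356000 7999488 2048 = true := by decide +kernel
theorem ck_3907 : chkURangeF D C relF 796 1237356000 8001536 2048 = true := by decide +kernel
theorem ck_3908 : chkURangeF D C relF 796 1237356000 8003584 2048 = true := by decide +kernel
theorem ck_3909 : chkURangeF D C relF 796 1237356000 8005632 2048 = true := by decide +kernel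
theorem ck_3910 : chkURangeF D C relF 796 1237356000 8007680 2048 = true := by decide +kernel
theorem ck_3911 : chkURangeF D C relF 796 1237356000 8009728 2048 = true := by decide +kernel
theorem chkU_162 (b : ℕ) (h1 : 7962624 ≤ b) (h2 : b < 8011776) : chkU D C b = true := by
  rcases Nat.lt_or_ge b 7964672 with g0 | g0
  · exact chkURangeF_spec C relF_hyp 1237356000 tc_eq 7962624 2048 ck_3888 b (by omega) (by omega)
  rcases Nat.lt_or_ge b 7966720 with g1 | g1
  · exact chkURangeF_spec C relF_hyp 1237356000 tc_eq 7964672 2048 ck_3889 b (by omega) (by omega)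
  rcases Nat.lt_or_ge b 7968768 with g2 | g2
  · exact chkURangeF_spec C relF_hyp 1237356000 tc_eq 7966720 2048 ck_3890 b (by omega) (by omega)
  rcases Nat.lt_or_ge b 7970816 with g3 | g3
  · exact chkURangeF_spec C relF_hyp 1237356000 tc_eq 7968768 2048 ck_3891 b (by omega) (by omega)
  rcases Nat.lt_or_ge b 7972864 with g4 | g4
  · exact chkURangeF_spec C relF_hyp 1237356000 tc_eq 7970816 2048 ck_3892 b (by omega) (by omega)
  rcases Nat.lt_or_ge b 7974912 with g5 | g5
  · exact chkURangeF_spec C relF_hyp 1237356000 tc_eq 7972864 2048 ck_3893 b (by omega) (by omega)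
  rcases Nat.lt_or_ge b 7976960 with g6 | g6
  · exact chkURangeF_spec C relF_hyp 1237356000 tc_eq 7974912 2048 ck_3894 b (by omega) (by omega)
  rcases Nat.lt_or_ge b 7979008 with g7 | g7
  · exact chkURangeF_spec C relF_hyp 1237356000 tc_eq 7976960 2048 ck_3895 b (by omega) (by omega)
  rcases Nat.lt_or_ge b 7981056 with g8 | g8
  · exact chkURangeF_spec C relF_hyp 1237356000 tc_eq 7979008 2048 ck_3896 b (by omega) (by omega)
  rcases Nat.lt_or_ge b 7983104 with g9 | g9
  · exact chkURangeF_spec C relF_hyp 1237356000 tc_eq 7981056 2048 ck_3897 b (by omega) (by omega)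
  rcases Nat.lt_or_ge b 7985152 with g10 | g10
  · exact chkURangeF_spec C relF_hyp 1237356000 tc_eq 7983104 2048 ck_3898 b (by omega) (by omega)
  rcases Nat.lt_or_ge b 7987200 with g11 | g11
  · exact chkURangeF_spec C relF_hyp 1237356000 tc_eq 7985152 2048 ck_3899 b (by omega) (by omega)
  rcases Nat.lt_or_ge b 7989248 with g12 | g12
  · exact chkURangeF_spec C relF_hyp 1237356000 tc_eq 7987200 2048 ck_3900 b (by omega) (by omega)
  rcases Nat.lt_or_ge b 7991296 with g13 | g13
  · exact chkURangeF_spec C relF_hyp 1237356000 tc_eq 7989248 2048 ck_3901 b (by omega) (by omega)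
  rcases Nat.lt_or_ge b 7993344 with g14 | g14
  · exact chkURangeF_spec C relF_hyp 1237356000 tc_eq 7991296 2048 ck_3902 b (by omega) (by omega)
  rcases Nat.lt_or_ge b 7995392 with g15 | g15
  · exact chkURangeF_spec C relF_hyp 1237356000 tc_eq 7993344 2048 ck_3903 b (by omega) (by omega)
  rcases Nat.lt_or_ge b 7997440 with g16 | g16
  · exact chkURangeF_spec C relF_hyp 1237356000 tc_eq 7995392 2048 ck_3904 b (by omega) (by omega)
  rcases Nat.lt_or_ge b 7999488 with g17 | g17
  · exact chkURangeF_spec C relF_hyp 1237356000 tc_eq 7997440 2048 ck_3905 b (by omega) (by omega)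
  rcases Nat.lt_or_ge b 8001536 with g18 | g18
  · exact chkURangeF_spec C relF_hyp 1237356000 tc_eq 7999488 2048 ck_3906 b (by omega) (by omega)
  rcases Nat.lt_or_ge b 8003584 with g19 | g19
  · exact chkURangeF_spec C relF_hyp 1237356000 tc_eq 8001536 2048 ck_3907 b (by omega) (by omega)
  rcases Nat.lt_or_ge b 8005632 with g20 | g20
  · exact chkURangeF_spec C relF_hyp 1237356000 tc_eq 8003584 2048 ck_3908 b (by omega) (by omega)
  rcases Nat.lt_or_ge b 8007680 with g21 | g21
  · exact chkURangeF_spec C relF_hyp 1237356000 tc_eq 8005632 2048 ck_3909 b (by omega) (by omega)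
  rcases Nat.lt_or_ge b 8009728 with g22 | g22
  · exact chkURangeF_spec C relF_hyp 1237356000 tc_eq 8007680 2048 ck_3910 b (by omega) (by omega)
  exact chkURangeF_spec C relF_hyp 1237356000 tc_eq 8009728 2048 ck_3911 b (by omega) (by omega)
end Cfsg.Agent.Lib.Helper2.HNMult.P2
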