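import Cfsg.Agent.Lib.Helper2.HNMult.P2.Cert
set_option autoImplicit false
set_option maxRecDepth 1000000
set_option Elab.async false
namespace Cfsg.Agent.Lib.Helper2.HNMult.P2
open Cfsg.Agent.Lib.Helper4.Sparse Cfsg.Agent.Lib.Helper2.SparseF
theorem ck_3912 : chkURangeF D C relF 796 1237356000 8011776 2048 = true := by decide +kernel
theorem ck_3913 : chkURangeF D C relF 796 1237356000 8013824 2048 = true := by decide +kernel
theorem ck_3914 : chkURangeF D C relF 796 1237356000 8015872 2048 = true := by decide +kernel
theorem ck_3915 : chkURangeF D C relF 796 1237356000 8017920 2048 = true := by decide +kernel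
theorem ck_3916 : chkURangeF D C relF 796 1237356000 8019968 2048 = true := by decide +kernel
theorem ck_3917 : chkURangeF D C relF 796 1237356000 8022016 2048 = true := by decide +kernel
theorem ck_3918 : chkURangeF D C relF 796 1237356000 8024064 2048 = true := by decide +kernel
theorem ck_3919 : chkURangeF D C relF 796 1237356000 8026112 2048 = true := by decide +kernel
theorem ck_3920 : chkURangeF D C relF 796 1237356000 8028160 2048 = true := by decide +kernel
theorem ck_3921 : chkURangeF D C relF 796 1237356000 8030208 2048 = true := by decide +kernel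
theorem ck_3922 : chkURangeF D C relF 796 1237356000 8032256 2048 = true := by decide +kernel
theorem ck_3923 : chkURangeF D C relF 796 1237356000 8034304 2048 = true := by decide +kernel
theorem ck_3924 : chkURangeF D C relF 796 1237356000 8036352 2048 = true := by decide +kernel
theorem ck_3925 : chkURangeF D C relF 796 1237356000 8038400 2048 = true := by decide +kernel
theorem ck_3926 : chkURangeF D C relF 796 1237356000 8040448 2048 = true := by decide +kernel
theorem ck_3927 : chkURangeF D C relF 796 1237356000 8042496 2048 = true := by decide +kernel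
theorem ck_3928 : chkURangeF D C relF 796 1237356000 8044544 2048 = true := by decide +kernel
theorem ck_3929 : chkURangeF D C relF 796 1237356000 8046592 2048 = true := by decide +kernel
theorem ck_3930 : chkURangeF D C relF 796 1237356000 8048640 2048 = true := by decide +kernel
theorem ck_3931 : chkURangeF D C relF 796 1237356000 8050688 2048 = true := by decide +kernel
theorem ck_3932 : chkURangeF D C relF 796 1237356000 8052736 2048 = true := by decide +kernel
theorem ck_3933 : chkURangeF D C relF 796 1237356000 8054784 2048 = true := by decide +kernel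
theorem ck_3934 : chkURangeF D C relF 796 1237356000 8056832 2048 = true := by decide +kernel
theorem ck_3935 : chkURangeF D C relF 796 1237356000 8058880 2048 = true := by decide +kernel
theorem chkU_163 (b : ℕ) (h1 : 8011776 ≤ b) (h2 : b < 8060928) : chkU D C b = true := by
  rcases Nat.lt_or_ge b 8013824 with g0 | g0
  · exact chkURangeF_spec C relF_hyp 1237356000 tc_eq 8011776 2048 ck_3912 b (by omega) (by omega)
  rcases Nat.lt_or_ge b 8015872 with g1 | g1
  · exact chkURangeF_spec C relF_hyp 1237356000 tc_eq 8013824 2048 ck_3913 b (by omega) (by omega)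
  rcases Nat.lt_or_ge b 8017920 with g2 | g2
  · exact chkURangeF_spec C relF_hyp 1237356000 tc_eq 8015872 2048 ck_3914 b (by omega) (by omega)
  rcases Nat.lt_or_ge b 8019968 with g3 | g3
  · exact chkURangeF_spec C relF_hyp 1237356000 tc_eq 8017920 2048 ck_3915 b (by omega) (by omega)
  rcases Nat.lt_or_ge b 8022016 with g4 | g4
  · exact chkURangeF_spec C relF_hyp 1237356000 tc_eq 8019968 2048 ck_3916 b (by omega) (by omega)
  rcases Nat.lt_or_ge b 8024064 with g5 | g5
  · exact chkURangeF_spec C relF_hyp 1237356000 tc_eq 8022016 2048 ck_3917 b (by omega) (by omega)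
  rcases Nat.lt_or_ge b 8026112 with g6 | g6
  · exact chkURangeF_spec C relF_hyp 1237356000 tc_eq 8024064 2048 ck_3918 b (by omega) (by omega)
  rcases Nat.lt_or_ge b 8028160 with g7 | g7
  · exact chkURangeF_spec C relF_hyp 1237356000 tc_eq 8026112 2048 ck_3919 b (by omega) (by omega)
  rcases Nat.lt_or_ge b 8030208 with g8 | g8
  · exact chkURangeF_spec C relF_hyp 1237356000 tc_eq 8028160 2048 ck_3920 b (by omega) (by omega)
  rcases Nat.lt_or_ge b 8032256 with g9 | g9
  · exact chkURangeF_spec C relF_hyp 1237356000 tc_eq 8030208 2048 ck_3921 b (by omega) (by omega)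
  rcases Nat.lt_or_ge b 8034304 with g10 | g10
  · exact chkURangeF_spec C relF_hyp 1237356000 tc_eq 8032256 2048 ck_3922 b (by omega) (by omega)
  rcases Nat.lt_or_ge b 8036352 with g11 | g11
  · exact chkURangeF_spec C relF_hyp 1237356000 tc_eq 8034304 2048 ck_3923 b (by omega) (by omega)
  rcases Nat.lt_or_ge b 8038400 with g12 | g12
  · exact chkURangeF_spec C relF_hyp 1237356000 tc_eq 8036352 2048 ck_3924 b (by omega) (by omega)
  rcases Nat.lt_or_ge b 8040448 with g13 | g13
  · exact chkURangeF_spec C relF_hyp 1237356000 tc_eq 8038400 2048 ck_3925 b (by omega) (by omega)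
  rcases Nat.lt_or_ge b 8042496 with g14 | g14
  · exact chkURangeF_spec C relF_hyp 1237356000 tc_eq 8040448 2048 ck_3926 b (by omega) (by omega)
  rcases Nat.lt_or_ge b 8044544 with g15 | g15
  · exact chkURangeF_spec C relF_hyp 1237356000 tc_eq 8042496 2048 ck_3927 b (by omega) (by omega)
  rcases Nat.lt_or_ge b 8046592 with g16 | g16
  · exact chkURangeF_spec C relF_hyp 1237356000 tc_eq 8044544 2048 ck_3928 b (by omega) (by omega)
  rcases Nat.lt_or_ge b 8048640 with g17 | g17
  · exact chkURangeF_spec C relF_hyp 1237356000 tc_eq 8046592 2048 ck_3929 b (by omega) (by omega)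
  rcases Nat.lt_or_ge b 8050688 with g18 | g18
  · exact chkURangeF_spec C relF_hyp 1237356000 tc_eq 8048640 2048 ck_3930 b (by omega) (by omega)
  rcases Nat.lt_or_ge b 8052736 with g19 | g19
  · exact chkURangeF_spec C relF_hyp 1237356000 tc_eq 8050688 2048 ck_3931 b (by omega) (by omega)
  rcases Nat.lt_or_ge b 8054784 with g20 | g20
  · exact chkURangeF_spec C relF_hyp 1237356000 tc_eq 8052736 2048 ck_3932 b (by omega) (by omega)
  rcases Nat.lt_or_ge b 8056832 with g21 | g21
  · exact chkURangeF_spec C relF_hyp 1237356000 tc_eq 8054784 2048 ck_3933 b (by omega) (by omega)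
  rcases Nat.lt_or_ge b 8058880 with g22 | g22
  · exact chkURangeF_spec C relF_hyp 1237356000 tc_eq 8056832 2048 ck_3934 b (by omega) (by omega)
  exact chkURangeF_spec C relF_hyp 1237356000 tc_eq 8058880 2048 ck_3935 b (by omega) (by omega)
end Cfsg.Agent.Lib.Helper2.HNMult.P2
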