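import Cfsg.Agent.Lib.Helper2.HNMult.P2.Cert
set_option autoImplicit false
set_option maxRecDepth 1000000
set_option Elab.async false
namespace Cfsg.Agent.Lib.Helper2.HNMult.P2
open Cfsg.Agent.Lib.Helper4.Sparse Cfsg.Agent.Lib.Helper2.SparseF
theorem ck_3960 : chkURangeF D C relF 796 1237356000 8110080 2048 = true := by decide +kernel
theorem ck_3961 : chkURangeF D C relF 796 1237356000 8112128 2048 = true := by decide +kernel
theorem ck_3962 : chkURangeF D C relF 796 1237356000 8114176 2048 = true := by decide +kernel
theorem ck_3963 : chkURangeF D C relF 796 1237356000 8116224 2048 = true := by decide +kernel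
theorem ck_3964 : chkURangeF D C relF 796 1237356000 8118272 2048 = true := by decide +kernel
theorem ck_3965 : chkURangeF D C relF 796 1237356000 8120320 2048 = true := by decide +kernel
theorem ck_3966 : chkURangeF D C relF 796 1237356000 8122368 2048 = true := by decide +kernel
theorem ck_3967 : chkURangeF D C relF 796 1237356000 8124416 2048 = true := by decide +kernel
theorem ck_3968 : chkURangeF D C relF 796 1237356000 8126464 2048 = true := by decide +kernel
theorem ck_3969 : chkURangeF D C relF 796 1237356000 8128512 2048 = true := by decide +kernel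
theorem ck_3970 : chkURangeF D C relF 796 1237356000 8130560 2048 = true := by decide +kernel
theorem ck_3971 : chkURangeF D C relF 796 1237356000 8132608 2048 = true := by decide +kernel
theorem ck_3972 : chkURangeF D C relF 796 1237356000 8134656 2048 = true := by decide +kernel
theorem ck_3973 : chkURangeF D C relF 796 1237356000 8136704 2048 = true := by decide +kernel
theorem ck_3974 : chkURangeF D C relF 796 1237356000 8138752 2048 = true := by decide +kernel
theorem ck_3975 : chkURangeF D C relF 796 1237356000 8140800 2048 = true := by decide +kernel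
theorem ck_3976 : chkURangeF D C relF 796 1237356000 8142848 2048 = true := by decide +kernel
theorem ck_3977 : chkURangeF D C relF 796 1237356000 8144896 2048 = true := by decide +kernel
theorem ck_3978 : chkURangeF D C relF 796 1237356000 8146944 2048 = true := by decide +kernel
theorem ck_3979 : chkURangeF D C relF 796 1237356000 8148992 2048 = true := by decide +kernel
theorem ck_3980 : chkURangeF D C relF 796 1237356000 8151040 2048 = true := by decide +kernel
theorem ck_3981 : chkURangeF D C relF 796 1237356000 8153088 2048 = true := by decide +kernel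
theorem ck_3982 : chkURangeF D C relF 796 1237356000 8155136 2048 = true := by decide +kernel
theorem ck_3983 : chkURangeF D C relF 796 1237356000 8157184 2048 = true := by decide +kernel
theorem chkU_165 (b : ℕ) (h1 : 8110080 ≤ b) (h2 : b < 8159232) : chkU D C b = true := by
  rcases Nat.lt_or_ge b 8112128 with g0 | g0
  · exact chkURangeF_spec C relF_hyp 1237356000 tc_eq 8110080 2048 ck_3960 b (by omega) (by omega)
  rcases Nat.lt_or_ge b 8114176 with g1 | g1
  · exact chkURangeF_spec C relF_hyp 1237356000 tc_eq 8112128 2048 ck_3961 b (by omega) (by omega)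
  rcases Nat.lt_or_ge b 8116224 with g2 | g2
  · exact chkURangeF_spec C relF_hyp 1237356000 tc_eq 8114176 2048 ck_3962 b (by omega) (by omega)
  rcases Nat.lt_or_ge b 8118272 with g3 | g3
  · exact chkURangeF_spec C relF_hyp 1237356000 tc_eq 8116224 2048 ck_3963 b (by omega) (by omega)
  rcases Nat.lt_or_ge b 8120320 with g4 | g4
  · exact chkURangeF_spec C relF_hyp 1237356000 tc_eq 8118272 2048 ck_3964 b (by omega) (by omega)
  rcases Nat.lt_or_ge b 8122368 with g5 | g5
  · exact chkURangeF_spec C relF_hyp 1237356000 tc_eq 8120320 2048 ck_3965 b (by omega) (by omega)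
  rcases Nat.lt_or_ge b 8124416 with g6 | g6
  · exact chkURangeF_spec C relF_hyp 1237356000 tc_eq 8122368 2048 ck_3966 b (by omega) (by omega)
  rcases Nat.lt_or_ge b 8126464 with g7 | g7
  · exact chkURangeF_spec C relF_hyp 1237356000 tc_eq 8124416 2048 ck_3967 b (by omega) (by omega)
  rcases Nat.lt_or_ge b 8128512 with g8 | g8
  · exact chkURangeF_spec C relF_hyp 1237356000 tc_eq 8126464 2048 ck_3968 b (by omega) (by omega)
  rcases Nat.lt_or_ge b 8130560 with g9 | g9
  · exact chkURangeF_spec C relF_hyp 1237356000 tc_eq 8128512 2048 ck_3969 b (by omega) (by omega)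
  rcases Nat.lt_or_ge b 8132608 with g10 | g10
  · exact chkURangeF_spec C relF_hyp 1237356000 tc_eq 8130560 2048 ck_3970 b (by omega) (by omega)
  rcases Nat.lt_or_ge b 8134656 with g11 | g11
  · exact chkURangeF_spec C relF_hyp 1237356000 tc_eq 8132608 2048 ck_3971 b (by omega) (by omega)
  rcases Nat.lt_or_ge b 8136704 with g12 | g12
  · exact chkURangeF_spec C relF_hyp 1237356000 tc_eq 8134656 2048 ck_3972 b (by omega) (by omega)
  rcases Nat.lt_or_ge b 8138752 with g13 | g13
  · exact chkURangeF_spec C relF_hyp 1237356000 tc_eq 8136704 2048 ck_3973 b (by omega) (by omega)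
  rcases Nat.lt_or_ge b 8140800 with g14 | g14
  · exact chkURangeF_spec C relF_hyp 1237356000 tc_eq 8138752 2048 ck_3974 b (by omega) (by omega)
  rcases Nat.lt_or_ge b 8142848 with g15 | g15
  · exact chkURangeF_spec C relF_hyp 1237356000 tc_eq 8140800 2048 ck_3975 b (by omega) (by omega)
  rcases Nat.lt_or_ge b 8144896 with g16 | g16
  · exact chkURangeF_spec C relF_hyp 1237356000 tc_eq 8142848 2048 ck_3976 b (by omega) (by omega)
  rcases Nat.lt_or_ge b 8146944 with g17 | g17
  · exact chkURangeF_spec C relF_hyp 1237356000 tc_eq 8144896 2048 ck_3977 b (by omega) (by omega)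
  rcases Nat.lt_or_ge b 8148992 with g18 | g18
  · exact chkURangeF_spec C relF_hyp 1237356000 tc_eq 8146944 2048 ck_3978 b (by omega) (by omega)
  rcases Nat.lt_or_ge b 8151040 with g19 | g19
  · exact chkURangeF_spec C relF_hyp 1237356000 tc_eq 8148992 2048 ck_3979 b (by omega) (by omega)
  rcases Nat.lt_or_ge b 8153088 with g20 | g20
  · exact chkURangeF_spec C relF_hyp 1237356000 tc_eq 8151040 2048 ck_3980 b (by omega) (by omega)
  rcases Nat.lt_or_ge b 8155136 with g21 | g21
  · exact chkURangeF_spec C relF_hyp 1237356000 tc_eq 8153088 2048 ck_3981 b (by omega) (by omega)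
  rcases Nat.lt_or_ge b 8157184 with g22 | g22
  · exact chkURangeF_spec C relF_hyp 1237356000 tc_eq 8155136 2048 ck_3982 b (by omega) (by omega)
  exact chkURangeF_spec C relF_hyp 1237356000 tc_eq 8157184 2048 ck_3983 b (by omega) (by omega)
end Cfsg.Agent.Lib.Helper2.HNMult.P2
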