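import Cfsg.Agent.Lib.Helper2.HNMult.P2.Cert
set_option autoImplicit false
set_option maxRecDepth 1000000
set_option Elab.async false
namespace Cfsg.Agent.Lib.Helper2.HNMult.P2
open Cfsg.Agent.Lib.Helper4.Sparse Cfsg.Agent.Lib.Helper2.SparseF
theorem ck_4008 : chkURangeF D C relF 796 1237356000 8208384 2048 = true := by decide +kernel
theorem ck_4009 : chkURangeF D C relF 796 1237356000 8210432 2048 = true := by decide +kernel
theorem ck_4010 : chkURangeF D C relF 796 1237356000 8212480 2048 = true := by decide +kernel
theorem ck_4011 : chkURangeF D C relF 796 1237356000 8214528 2048 = true := by decide +kernel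
theorem ck_4012 : chkURangeF D C relF 796 1237356000 8216576 2048 = true := by decide +kernel
theorem ck_4013 : chkURangeF D C relF 796 1237356000 8218624 2048 = true := by decide +kernel
theorem ck_4014 : chkURangeF D C relF 796 1237356000 8220672 2048 = true := by decide +kernel
theorem ck_4015 : chkURangeF D C relF 796 1237356000 8222720 2048 = true := by decide +kernel
theorem ck_4016 : chkURangeF D C relF 796 1237356000 8224768 2048 = true := by decide +kernel
theorem ck_4017 : chkURangeF D C relF 796 1237356000 8226816 2048 = true := by decide +kernel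
theorem ck_4018 : chkURangeF D C relF 796 1237356000 8228864 2048 = true := by decide +kernel
theorem ck_4019 : chkURangeF D C relF 796 1237356000 8230912 2048 = true := by decide +kernel
theorem ck_4020 : chkURangeF D C relF 796 1237356000 8232960 2048 = true := by decide +kernel
theorem ck_4021 : chkURangeF D C relF 796 1237356000 8235008 2048 = true := by decide +kernel
theorem ck_4022 : chkURangeF D C relF 796 1237356000 8237056 2048 = true := by decide +kernel
theorem ck_4023 : chkURangeF D C relF 796 1237356000 8239104 2048 = true := by decide +kernel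
theorem ck_4024 : chkURangeF D C relF 796 1237356000 8241152 2048 = true := by decide +kernel
theorem ck_4025 : chkURangeF D C relF 796 1237356000 8243200 2048 = true := by decide +kernel
theorem ck_4026 : chkURangeF D C relF 796 1237356000 8245248 2048 = true := by decide +kernel
theorem ck_4027 : chkURangeF D C relF 796 1237356000 8247296 2048 = true := by decide +kernel
theorem ck_4028 : chkURangeF D C relF 796 1237356000 8249344 2048 = true := by decide +kernel
theorem ck_4029 : chkURangeF D C relF 796 1237356000 8251392 2048 = true := by decide +kernel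
theorem ck_4030 : chkURangeF D C relF 796 1237356000 8253440 2048 = true := by decide +kernel
theorem ck_4031 : chkURangeF D C relF 796 1237356000 8255488 2048 = true := by decide +kernel
theorem chkU_167 (b : ℕ) (h1 : 8208384 ≤ b) (h2 : b < 8257536) : chkU D C b = true := by
  rcases Nat.lt_or_ge b 8210432 with g0 | g0
  · exact chkURangeF_spec C relF_hyp 1237356000 tc_eq 8208384 2048 ck_4008 b (by omega) (by omega)
  rcases Nat.lt_or_ge b 8212480 with g1 | g1
  · exact chkURangeF_spec C relF_hyp 1237356000 tc_eq 8210432 2048 ck_4009 b (by omega) (by omega)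
  rcases Nat.lt_or_ge b 8214528 with g2 | g2
  · exact chkURangeF_spec C relF_hyp 1237356000 tc_eq 8212480 2048 ck_4010 b (by omega) (by omega)
  rcases Nat.lt_or_ge b 8216576 with g3 | g3
  · exact chkURangeF_spec C relF_hyp 1237356000 tc_eq 8214528 2048 ck_4011 b (by omega) (by omega)
  rcases Nat.lt_or_ge b 8218624 with g4 | g4
  · exact chkURangeF_spec C relF_hyp 1237356000 tc_eq 8216576 2048 ck_4012 b (by omega) (by omega)
  rcases Nat.lt_or_ge b 8220672 with g5 | g5
  · exact chkURangeF_spec C relF_hyp 1237356000 tc_eq 8218624 2048 ck_4013 b (by omega) (by omega)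
  rcases Nat.lt_or_ge b 8222720 with g6 | g6
  · exact chkURangeF_spec C relF_hyp 1237356000 tc_eq 8220672 2048 ck_4014 b (by omega) (by omega)
  rcases Nat.lt_or_ge b 8224768 with g7 | g7
  · exact chkURangeF_spec C relF_hyp 1237356000 tc_eq 8222720 2048 ck_4015 b (by omega) (by omega)
  rcases Nat.lt_or_ge b 8226816 with g8 | g8
  · exact chkURangeF_spec C relF_hyp 1237356000 tc_eq 8224768 2048 ck_4016 b (by omega) (by omega)
  rcases Nat.lt_or_ge b 8228864 with g9 | g9
  · exact chkURangeF_spec C relF_hyp 1237356000 tc_eq 8226816 2048 ck_4017 b (by omega) (by omega)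
  rcases Nat.lt_or_ge b 8230912 with g10 | g10
  · exact chkURangeF_spec C relF_hyp 1237356000 tc_eq 8228864 2048 ck_4018 b (by omega) (by omega)
  rcases Nat.lt_or_ge b 8232960 with g11 | g11
  · exact chkURangeF_spec C relF_hyp 1237356000 tc_eq 8230912 2048 ck_4019 b (by omega) (by omega)
  rcases Nat.lt_or_ge b 8235008 with g12 | g12
  · exact chkURangeF_spec C relF_hyp 1237356000 tc_eq 8232960 2048 ck_4020 b (by omega) (by omega)
  rcases Nat.lt_or_ge b 8237056 with g13 | g13
  · exact chkURangeF_spec C relF_hyp 1237356000 tc_eq 8235008 2048 ck_4021 b (by omega) (by omega)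
  rcases Nat.lt_or_ge b 8239104 with g14 | g14
  · exact chkURangeF_spec C relF_hyp 1237356000 tc_eq 8237056 2048 ck_4022 b (by omega) (by omega)
  rcases Nat.lt_or_ge b 8241152 with g15 | g15
  · exact chkURangeF_spec C relF_hyp 1237356000 tc_eq 8239104 2048 ck_4023 b (by omega) (by omega)
  rcases Nat.lt_or_ge b 8243200 with g16 | g16
  · exact chkURangeF_spec C relF_hyp 1237356000 tc_eq 8241152 2048 ck_4024 b (by omega) (by omega)
  rcases Nat.lt_or_ge b 8245248 with g17 | g17
  · exact chkURangeF_spec C relF_hyp 1237356000 tc_eq 8243200 2048 ck_4025 b (by omega) (by omega)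
  rcases Nat.lt_or_ge b 8247296 with g18 | g18
  · exact chkURangeF_spec C relF_hyp 1237356000 tc_eq 8245248 2048 ck_4026 b (by omega) (by omega)
  rcases Nat.lt_or_ge b 8249344 with g19 | g19
  · exact chkURangeF_spec C relF_hyp 1237356000 tc_eq 8247296 2048 ck_4027 b (by omega) (by omega)
  rcases Nat.lt_or_ge b 8251392 with g20 | g20
  · exact chkURangeF_spec C relF_hyp 1237356000 tc_eq 8249344 2048 ck_4028 b (by omega) (by omega)
  rcases Nat.lt_or_ge b 8253440 with g21 | g21
  · exact chkURangeF_spec C relF_hyp 1237356000 tc_eq 8251392 2048 ck_4029 b (by omega) (by omega)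
  rcases Nat.lt_or_ge b 8255488 with g22 | g22
  · exact chkURangeF_spec C relF_hyp 1237356000 tc_eq 8253440 2048 ck_4030 b (by omega) (by omega)
  exact chkURangeF_spec C relF_hyp 1237356000 tc_eq 8255488 2048 ck_4031 b (by omega) (by omega)
end Cfsg.Agent.Lib.Helper2.HNMult.P2
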