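import Cfsg.Agent.Lib.Helper2.HNMult.P2.Cert
set_option autoImplicit false
set_option maxRecDepth 1000000
set_option Elab.async false
namespace Cfsg.Agent.Lib.Helper2.HNMult.P2
open Cfsg.Agent.Lib.Helper4.Sparse Cfsg.Agent.Lib.Helper2.SparseF
theorem ck_4104 : chkURangeF D C relF 796 1237356000 8404992 2048 = true := by decide +kernel
theorem ck_4105 : chkURangeF D C relF 796 1237356000 8407040 2048 = true := by decide +kernel
theorem ck_4106 : chkURangeF D C relF 796 1237356000 8409088 2048 = true := by decide +kernel
theorem ck_4107 : chkURangeF D C relF 796 1237356000 8411136 2048 = true := by decide +kernel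
theorem ck_4108 : chkURangeF D C relF 796 1237356000 8413184 2048 = true := by decide +kernel
theorem ck_4109 : chkURangeF D C relF 796 1237356000 8415232 2048 = true := by decide +kernel
theorem ck_4110 : chkURangeF D C relF 796 1237356000 8417280 2048 = true := by decide +kernel
theorem ck_4111 : chkURangeF D C relF 796 1237356000 8419328 2048 = true := by decide +kernel
theorem ck_4112 : chkURangeF D C relF 796 1237356000 8421376 2048 = true := by decide +kernel
theorem ck_4113 : chkURangeF D C relF 796 1237356000 8423424 2048 = true := by decide +kernel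
theorem ck_4114 : chkURangeF D C relF 796 1237356000 8425472 2048 = true := by decide +kernel
theorem ck_4115 : chkURangeF D C relF 796 1237356000 8427520 2048 = true := by decide +kernel
theorem ck_4116 : chkURangeF D C relF 796 1237356000 8429568 2048 = true := by decide +kernel
theorem ck_4117 : chkURangeF D C relF 796 1237356000 8431616 2048 = true := by decide +kernel
theorem ck_4118 : chkURangeF D C relF 796 1237356000 8433664 2048 = true := by decide +kernel
theorem ck_4119 : chkURangeF D C relF 796 1237356000 8435712 2048 = true := by decide +kernel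
theorem ck_4120 : chkURangeF D C relF 796 1237356000 8437760 2048 = true := by decide +kernel
theorem ck_4121 : chkURangeF D C relF 796 1237356000 8439808 2048 = true := by decide +kernel
theorem ck_4122 : chkURangeF D C relF 796 1237356000 8441856 2048 = true := by decide +kernel
theorem ck_4123 : chkURangeF D C relF 796 1237356000 8443904 2048 = true := by decide +kernel
theorem ck_4124 : chkURangeF D C relF 796 1237356000 8445952 2048 = true := by decide +kernel
theorem ck_4125 : chkURangeF D C relF 796 1237356000 8448000 2048 = true := by decide +kernel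
theorem ck_4126 : chkURangeF D C relF 796 1237356000 8450048 2048 = true := by decide +kernel
theorem ck_4127 : chkURangeF D C relF 796 1237356000 8452096 2048 = true := by decide +kernel
theorem chkU_171 (b : ℕ) (h1 : 8404992 ≤ b) (h2 : b < 8454144) : chkU D C b = true := by
  rcases Nat.lt_or_ge b 8407040 with g0 | g0
  · exact chkURangeF_spec C relF_hyp 1237356000 tc_eq 8404992 2048 ck_4104 b (by omega) (by omega)
  rcases Nat.lt_or_ge b 8409088 with g1 | g1
  · exact chkURangeF_spec C relF_hyp 1237356000 tc_eq 8407040 2048 ck_4105 b (by omega) (by omega)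
  rcases Nat.lt_or_ge b 8411136 with g2 | g2
  · exact chkURangeF_spec C relF_hyp 1237356000 tc_eq 8409088 2048 ck_4106 b (by omega) (by omega)
  rcases Nat.lt_or_ge b 8413184 with g3 | g3
  · exact chkURangeF_spec C relF_hyp 1237356000 tc_eq 8411136 2048 ck_4107 b (by omega) (by omega)
  rcases Nat.lt_or_ge b 8415232 with g4 | g4
  · exact chkURangeF_spec C relF_hyp 1237356000 tc_eq 8413184 2048 ck_4108 b (by omega) (by omega)
  rcases Nat.lt_or_ge b 8417280 with g5 | g5
  · exact chkURangeF_spec C relF_hyp 1237356000 tc_eq 8415232 2048 ck_4109 b (by omega) (by omega)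
  rcases Nat.lt_or_ge b 8419328 with g6 | g6
  · exact chkURangeF_spec C relF_hyp 1237356000 tc_eq 8417280 2048 ck_4110 b (by omega) (by omega)
  rcases Nat.lt_or_ge b 8421376 with g7 | g7
  · exact chkURangeF_spec C relF_hyp 1237356000 tc_eq 8419328 2048 ck_4111 b (by omega) (by omega)
  rcases Nat.lt_or_ge b 8423424 with g8 | g8
  · exact chkURangeF_spec C relF_hyp 1237356000 tc_eq 8421376 2048 ck_4112 b (by omega) (by omega)
  rcases Nat.lt_or_ge b 8425472 with g9 | g9
  · exact chkURangeF_spec C relF_hyp 1237356000 tc_eq 8423424 2048 ck_4113 b (by omega) (by omega)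
  rcases Nat.lt_or_ge b 8427520 with g10 | g10
  · exact chkURangeF_spec C relF_hyp 1237356000 tc_eq 8425472 2048 ck_4114 b (by omega) (by omega)
  rcases Nat.lt_or_ge b 8429568 with g11 | g11
  · exact chkURangeF_spec C relF_hyp 1237356000 tc_eq 8427520 2048 ck_4115 b (by omega) (by omega)
  rcases Nat.lt_or_ge b 8431616 with g12 | g12
  · exact chkURangeF_spec C relF_hyp 1237356000 tc_eq 8429568 2048 ck_4116 b (by omega) (by omega)
  rcases Nat.lt_or_ge b 8433664 with g13 | g13
  · exact chkURangeF_spec C relF_hyp 1237356000 tc_eq 8431616 2048 ck_4117 b (by omega) (by omega)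
  rcases Nat.lt_or_ge b 8435712 with g14 | g14
  · exact chkURangeF_spec C relF_hyp 1237356000 tc_eq 8433664 2048 ck_4118 b (by omega) (by omega)
  rcases Nat.lt_or_ge b 8437760 with g15 | g15
  · exact chkURangeF_spec C relF_hyp 1237356000 tc_eq 8435712 2048 ck_4119 b (by omega) (by omega)
  rcases Nat.lt_or_ge b 8439808 with g16 | g16
  · exact chkURangeF_spec C relF_hyp 1237356000 tc_eq 8437760 2048 ck_4120 b (by omega) (by omega)
  rcases Nat.lt_or_ge b 8441856 with g17 | g17
  · exact chkURangeF_spec C relF_hyp 1237356000 tc_eq 8439808 2048 ck_4121 b (by omega) (by omega)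
  rcases Nat.lt_or_ge b 8443904 with g18 | g18
  · exact chkURangeF_spec C relF_hyp 1237356000 tc_eq 8441856 2048 ck_4122 b (by omega) (by omega)
  rcases Nat.lt_or_ge b 8445952 with g19 | g19
  · exact chkURangeF_spec C relF_hyp 1237356000 tc_eq 8443904 2048 ck_4123 b (by omega) (by omega)
  rcases Nat.lt_or_ge b 8448000 with g20 | g20
  · exact chkURangeF_spec C relF_hyp 1237356000 tc_eq 8445952 2048 ck_4124 b (by omega) (by omega)
  rcases Nat.lt_or_ge b 8450048 with g21 | g21
  · exact chkURangeF_spec C relF_hyp 1237356000 tc_eq 8448000 2048 ck_4125 b (by omega) (by omega)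
  rcases Nat.lt_or_ge b 8452096 with g22 | g22
  · exact chkURangeF_spec C relF_hyp 1237356000 tc_eq 8450048 2048 ck_4126 b (by omega) (by omega)
  exact chkURangeF_spec C relF_hyp 1237356000 tc_eq 8452096 2048 ck_4127 b (by omega) (by omega)
end Cfsg.Agent.Lib.Helper2.HNMult.P2
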