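import Cfsg.Agent.Lib.Helper2.HNMult.P2.Cert
set_option autoImplicit false
set_option maxRecDepth 1000000
set_option Elab.async false
namespace Cfsg.Agent.Lib.Helper2.HNMult.P2
open Cfsg.Agent.Lib.Helper4.Sparse Cfsg.Agent.Lib.Helper2.SparseF
theorem ck_4152 : chkURangeF D C relF 796 1237356000 8503296 2048 = true := by decide +kernel
theorem ck_4153 : chkURangeF D C relF 796 1237356000 8505344 2048 = true := by decide +kernel
theorem ck_4154 : chkURangeF D C relF 796 1237356000 8507392 2048 = true := by decide +kernel
theorem ck_4155 : chkURangeF D C relF 796 1237356000 8509440 2048 = true := by decide +kernel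
theorem ck_4156 : chkURangeF D C relF 796 1237356000 8511488 2048 = true := by decide +kernel
theorem ck_4157 : chkURangeF D C relF 796 1237356000 8513536 2048 = true := by decide +kernel
theorem ck_4158 : chkURangeF D C relF 796 1237356000 8515584 2048 = true := by decide +kernel
theorem ck_4159 : chkURangeF D C relF 796 1237356000 8517632 2048 = true := by decide +kernel
theorem ck_4160 : chkURangeF D C relF 796 1237356000 8519680 2048 = true := by decide +kernel
theorem ck_4161 : chkURangeF D C relF 796 1237356000 8521728 2048 = true := by decide +kernel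
theorem ck_4162 : chkURangeF D C relF 796 1237356000 8523776 2048 = true := by decide +kernel
theorem ck_4163 : chkURangeF D C relF 796 1237356000 8525824 2048 = true := by decide +kernel
theorem ck_4164 : chkURangeF D C relF 796 1237356000 8527872 2048 = true := by decide +kernel
theorem ck_4165 : chkURangeF D C relF 796 1237356000 8529920 2048 = true := by decide +kernel
theorem ck_4166 : chkURangeF D C relF 796 1237356000 8531968 2048 = true := by decide +kernel
theorem ck_4167 : chkURangeF D C relF 796 1237356000 8534016 2048 = true := by decide +kernel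
theorem ck_4168 : chkURangeF D C relF 796 1237356000 8536064 2048 = true := by decide +kernel
theorem ck_4169 : chkURangeF D C relF 796 1237356000 8538112 2048 = true := by decide +kernel
theorem ck_4170 : chkURangeF D C relF 796 1237356000 8540160 2048 = true := by decide +kernel
theorem ck_4171 : chkURangeF D C relF 796 1237356000 8542208 2048 = true := by decide +kernel
theorem ck_4172 : chkURangeF D C relF 796 1237356000 8544256 2048 = true := by decide +kernel
theorem ck_4173 : chkURangeF D C relF 796 1237356000 8546304 2048 = true := by decide +kernel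
theorem ck_4174 : chkURangeF D C relF 796 1237356000 8548352 2048 = true := by decide +kernel
theorem ck_4175 : chkURangeF D C relF 796 1237356000 8550400 2048 = true := by decide +kernel
theorem chkU_173 (b : ℕ) (h1 : 8503296 ≤ b) (h2 : b < 8552448) : chkU D C b = true := by
  rcases Nat.lt_or_ge b 8505344 with g0 | g0
  · exact chkURangeF_spec C relF_hyp 1237356000 tc_eq 8503296 2048 ck_4152 b (by omega) (by omega)
  rcases Nat.lt_or_ge b 8507392 with g1 | g1
  · exact chkURangeF_spec C relF_hyp 1237356000 tc_eq 8505344 2048 ck_4153 b (by omega) (by omega)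
  rcases Nat.lt_or_ge b 8509440 with g2 | g2
  · exact chkURangeF_spec C relF_hyp 1237356000 tc_eq 8507392 2048 ck_4154 b (by omega) (by omega)
  rcases Nat.lt_or_ge b 8511488 with g3 | g3
  · exact chkURangeF_spec C relF_hyp 1237356000 tc_eq 8509440 2048 ck_4155 b (by omega) (by omega)
  rcases Nat.lt_or_ge b 8513536 with g4 | g4
  · exact chkURangeF_spec C relF_hyp 1237356000 tc_eq 8511488 2048 ck_4156 b (by omega) (by omega)
  rcases Nat.lt_or_ge b 8515584 with g5 | g5
  · exact chkURangeF_spec C relF_hyp 1237356000 tc_eq 8513536 2048 ck_4157 b (by omega) (by omega)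
  rcases Nat.lt_or_ge b 8517632 with g6 | g6
  · exact chkURangeF_spec C relF_hyp 1237356000 tc_eq 8515584 2048 ck_4158 b (by omega) (by omega)
  rcases Nat.lt_or_ge b 8519680 with g7 | g7
  · exact chkURangeF_spec C relF_hyp 1237356000 tc_eq 8517632 2048 ck_4159 b (by omega) (by omega)
  rcases Nat.lt_or_ge b 8521728 with g8 | g8
  · exact chkURangeF_spec C relF_hyp 1237356000 tc_eq 8519680 2048 ck_4160 b (by omega) (by omega)
  rcases Nat.lt_or_ge b 8523776 with g9 | g9
  · exact chkURangeF_spec C relF_hyp 1237356000 tc_eq 8521728 2048 ck_4161 b (by omega) (by omega)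
  rcases Nat.lt_or_ge b 8525824 with g10 | g10
  · exact chkURangeF_spec C relF_hyp 1237356000 tc_eq 8523776 2048 ck_4162 b (by omega) (by omega)
  rcases Nat.lt_or_ge b 8527872 with g11 | g11
  · exact chkURangeF_spec C relF_hyp 1237356000 tc_eq 8525824 2048 ck_4163 b (by omega) (by omega)
  rcases Nat.lt_or_ge b 8529920 with g12 | g12
  · exact chkURangeF_spec C relF_hyp 1237356000 tc_eq 8527872 2048 ck_4164 b (by omega) (by omega)
  rcases Nat.lt_or_ge b 8531968 with g13 | g13
  · exact chkURangeF_spec C relF_hyp 1237356000 tc_eq 8529920 2048 ck_4165 b (by omega) (by omega)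
  rcases Nat.lt_or_ge b 8534016 with g14 | g14
  · exact chkURangeF_spec C relF_hyp 1237356000 tc_eq 8531968 2048 ck_4166 b (by omega) (by omega)
  rcases Nat.lt_or_ge b 8536064 with g15 | g15
  · exact chkURangeF_spec C relF_hyp 1237356000 tc_eq 8534016 2048 ck_4167 b (by omega) (by omega)
  rcases Nat.lt_or_ge b 8538112 with g16 | g16
  · exact chkURangeF_spec C relF_hyp 1237356000 tc_eq 8536064 2048 ck_4168 b (by omega) (by omega)
  rcases Nat.lt_or_ge b 8540160 with g17 | g17
  · exact chkURangeF_spec C relF_hyp 1237356000 tc_eq 8538112 2048 ck_4169 b (by omega) (by omega)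
  rcases Nat.lt_or_ge b 8542208 with g18 | g18
  · exact chkURangeF_spec C relF_hyp 1237356000 tc_eq 8540160 2048 ck_4170 b (by omega) (by omega)
  rcases Nat.lt_or_ge b 8544256 with g19 | g19
  · exact chkURangeF_spec C relF_hyp 1237356000 tc_eq 8542208 2048 ck_4171 b (by omega) (by omega)
  rcases Nat.lt_or_ge b 8546304 with g20 | g20
  · exact chkURangeF_spec C relF_hyp 1237356000 tc_eq 8544256 2048 ck_4172 b (by omega) (by omega)
  rcases Nat.lt_or_ge b 8548352 with g21 | g21
  · exact chkURangeF_spec C relF_hyp 1237356000 tc_eq 8546304 2048 ck_4173 b (by omega) (by omega)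
  rcases Nat.lt_or_ge b 8550400 with g22 | g22
  · exact chkURangeF_spec C relF_hyp 1237356000 tc_eq 8548352 2048 ck_4174 b (by omega) (by omega)
  exact chkURangeF_spec C relF_hyp 1237356000 tc_eq 8550400 2048 ck_4175 b (by omega) (by omega)
end Cfsg.Agent.Lib.Helper2.HNMult.P2
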