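import Cfsg.Agent.Lib.Helper2.HNMult.P2.Cert
set_option autoImplicit false
set_option maxRecDepth 1000000
set_option Elab.async false
namespace Cfsg.Agent.Lib.Helper2.HNMult.P2
open Cfsg.Agent.Lib.Helper4.Sparse Cfsg.Agent.Lib.Helper2.SparseF
theorem ck_4272 : chkURangeF D C relF 796 1237356000 8749056 2048 = true := by decide +kernel
theorem ck_4273 : chkURangeF D C relF 796 1237356000 8751104 2048 = true := by decide +kernel
theorem ck_4274 : chkURangeF D C relF 796 1237356000 8753152 2048 = true := by decide +kernel
theorem ck_4275 : chkURangeF D C relF 796 1237356000 8755200 2048 = true := by decide +kernel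
theorem ck_4276 : chkURangeF D C relF 796 1237356000 8757248 2048 = true := by decide +kernel
theorem ck_4277 : chkURangeF D C relF 796 1237356000 8759296 2048 = true := by decide +kernel
theorem ck_4278 : chkURangeF D C relF 796 1237356000 8761344 2048 = true := by decide +kernel
theorem ck_4279 : chkURangeF D C relF 796 1237356000 8763392 2048 = true := by decide +kernel
theorem ck_4280 : chkURangeF D C relF 796 1237356000 8765440 2048 = true := by decide +kernel
theorem ck_4281 : chkURangeF D C relF 796 1237356000 8767488 2048 = true := by decide +kernel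
theorem ck_4282 : chkURangeF D C relF 796 1237356000 8769536 2048 = true := by decide +kernel
theorem ck_4283 : chkURangeF D C relF 796 1237356000 8771584 2048 = true := by decide +kernel
theorem ck_4284 : chkURangeF D C relF 796 1237356000 8773632 2048 = true := by decide +kernel
theorem ck_4285 : chkURangeF D C relF 796 1237356000 8775680 2048 = true := by decide +kernel
theorem ck_4286 : chkURangeF D C relF 796 1237356000 8777728 2048 = true := by decide +kernel
theorem ck_4287 : chkURangeF D C relF 796 1237356000 8779776 2048 = true := by decide +kernel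
theorem ck_4288 : chkURangeF D C relF 796 1237356000 8781824 2048 = true := by decide +kernel
theorem ck_4289 : chkURangeF D C relF 796 1237356000 8783872 2048 = true := by decide +kernel
theorem ck_4290 : chkURangeF D C relF 796 1237356000 8785920 2048 = true := by decide +kernel
theorem ck_4291 : chkURangeF D C relF 796 1237356000 8787968 2048 = true := by decide +kernel
theorem ck_4292 : chkURangeF D C relF 796 1237356000 8790016 2048 = true := by decide +kernel
theorem ck_4293 : chkURangeF D C relF 796 1237356000 8792064 2048 = true := by decide +kernel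
theorem ck_4294 : chkURangeF D C relF 796 1237356000 8794112 2048 = true := by decide +kernel
theorem ck_4295 : chkURangeF D C relF 796 1237356000 8796160 2048 = true := by decide +kernel
theorem chkU_178 (b : ℕ) (h1 : 8749056 ≤ b) (h2 : b < 8798208) : chkU D C b = true := by
  rcases Nat.lt_or_ge b 8751104 with g0 | g0
  · exact chkURangeF_spec C relF_hyp 1237356000 tc_eq 8749056 2048 ck_4272 b (by omega) (by omega)
  rcases Nat.lt_or_ge b 8753152 with g1 | g1
  · exact chkURangeF_spec C relF_hyp 1237356000 tc_eq 8751104 2048 ck_4273 b (by omega) (by omega)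
  rcases Nat.lt_or_ge b 8755200 with g2 | g2
  · exact chkURangeF_spec C relF_hyp 1237356000 tc_eq 8753152 2048 ck_4274 b (by omega) (by omega)
  rcases Nat.lt_or_ge b 8757248 with g3 | g3
  · exact chkURangeF_spec C relF_hyp 1237356000 tc_eq 8755200 2048 ck_4275 b (by omega) (by omega)
  rcases Nat.lt_or_ge b 8759296 with g4 | g4
  · exact chkURangeF_spec C relF_hyp 1237356000 tc_eq 8757248 2048 ck_4276 b (by omega) (by omega)
  rcases Nat.lt_or_ge b 8761344 with g5 | g5
  · exact chkURangeF_spec C relF_hyp 1237356000 tc_eq 8759296 2048 ck_4277 b (by omega) (by omega)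
  rcases Nat.lt_or_ge b 8763392 with g6 | g6
  · exact chkURangeF_spec C relF_hyp 1237356000 tc_eq 8761344 2048 ck_4278 b (by omega) (by omega)
  rcases Nat.lt_or_ge b 8765440 with g7 | g7
  · exact chkURangeF_spec C relF_hyp 1237356000 tc_eq 8763392 2048 ck_4279 b (by omega) (by omega)
  rcases Nat.lt_or_ge b 8767488 with g8 | g8
  · exact chkURangeF_spec C relF_hyp 1237356000 tc_eq 8765440 2048 ck_4280 b (by omega) (by omega)
  rcases Nat.lt_or_ge b 8769536 with g9 | g9
  · exact chkURangeF_spec C relF_hyp 1237356000 tc_eq 8767488 2048 ck_4281 b (by omega) (by omega)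
  rcases Nat.lt_or_ge b 8771584 with g10 | g10
  · exact chkURangeF_spec C relF_hyp 1237356000 tc_eq 8769536 2048 ck_4282 b (by omega) (by omega)
  rcases Nat.lt_or_ge b 8773632 with g11 | g11
  · exact chkURangeF_spec C relF_hyp 1237356000 tc_eq 8771584 2048 ck_4283 b (by omega) (by omega)
  rcases Nat.lt_or_ge b 8775680 with g12 | g12
  · exact chkURangeF_spec C relF_hyp 1237356000 tc_eq 8773632 2048 ck_4284 b (by omega) (by omega)
  rcases Nat.lt_or_ge b 8777728 with g13 | g13
  · exact chkURangeF_spec C relF_hyp 1237356000 tc_eq 8775680 2048 ck_4285 b (by omega) (by omega)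
  rcases Nat.lt_or_ge b 8779776 with g14 | g14
  · exact chkURangeF_spec C relF_hyp 1237356000 tc_eq 8777728 2048 ck_4286 b (by omega) (by omega)
  rcases Nat.lt_or_ge b 8781824 with g15 | g15
  · exact chkURangeF_spec C relF_hyp 1237356000 tc_eq 8779776 2048 ck_4287 b (by omega) (by omega)
  rcases Nat.lt_or_ge b 8783872 with g16 | g16
  · exact chkURangeF_spec C relF_hyp 1237356000 tc_eq 8781824 2048 ck_4288 b (by omega) (by omega)
  rcases Nat.lt_or_ge b 8785920 with g17 | g17
  · exact chkURangeF_spec C relF_hyp 1237356000 tc_eq 8783872 2048 ck_4289 b (by omega) (by omega)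
  rcases Nat.lt_or_ge b 8787968 with g18 | g18
  · exact chkURangeF_spec C relF_hyp 1237356000 tc_eq 8785920 2048 ck_4290 b (by omega) (by omega)
  rcases Nat.lt_or_ge b 8790016 with g19 | g19
  · exact chkURangeF_spec C relF_hyp 1237356000 tc_eq 8787968 2048 ck_4291 b (by omega) (by omega)
  rcases Nat.lt_or_ge b 8792064 with g20 | g20
  · exact chkURangeF_spec C relF_hyp 1237356000 tc_eq 8790016 2048 ck_4292 b (by omega) (by omega)
  rcases Nat.lt_or_ge b 8794112 with g21 | g21
  · exact chkURangeF_spec C relF_hyp 1237356000 tc_eq 8792064 2048 ck_4293 b (by omega) (by omega)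
  rcases Nat.lt_or_ge b 8796160 with g22 | g22
  · exact chkURangeF_spec C relF_hyp 1237356000 tc_eq 8794112 2048 ck_4294 b (by omega) (by omega)
  exact chkURangeF_spec C relF_hyp 1237356000 tc_eq 8796160 2048 ck_4295 b (by omega) (by omega)
end Cfsg.Agent.Lib.Helper2.HNMult.P2
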