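import Cfsg.Agent.Lib.Helper2.HNMult.P2.Cert
set_option autoImplicit false
set_option maxRecDepth 1000000
set_option Elab.async false
namespace Cfsg.Agent.Lib.Helper2.HNMult.P2
open Cfsg.Agent.Lib.Helper4.Sparse Cfsg.Agent.Lib.Helper2.SparseF
theorem ck_4296 : chkURangeF D C relF 796 1237356000 8798208 2048 = true := by decide +kernel
theorem ck_4297 : chkURangeF D C relF 796 1237356000 8800256 2048 = true := by decide +kernel
theorem ck_4298 : chkURangeF D C relF 796 1237356000 8802304 2048 = true := by decide +kernel
theorem ck_4299 : chkURangeF D C relF 796 1237356000 8804352 2048 = true := by decide +kernel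
theorem ck_4300 : chkURangeF D C relF 796 1237356000 8806400 2048 = true := by decide +kernel
theorem ck_4301 : chkURangeF D C relF 796 1237356000 8808448 2048 = true := by decide +kernel
theorem ck_4302 : chkURangeF D C relF 796 1237356000 8810496 2048 = true := by decide +kernel
theorem ck_4303 : chkURangeF D C relF 796 1237356000 8812544 2048 = true := by decide +kernel
theorem ck_4304 : chkURangeF D C relF 796 1237356000 8814592 2048 = true := by decide +kernel
theorem ck_4305 : chkURangeF D C relF 796 1237356000 8816640 2048 = true := by decide +kernel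
theorem ck_4306 : chkURangeF D C relF 796 1237356000 8818688 2048 = true := by decide +kernel
theorem ck_4307 : chkURangeF D C relF 796 1237356000 8820736 2048 = true := by decide +kernel
theorem ck_4308 : chkURangeF D C relF 796 1237356000 8822784 2048 = true := by decide +kernel
theorem ck_4309 : chkURangeF D C relF 796 1237356000 8824832 2048 = true := by decide +kernel
theorem ck_4310 : chkURangeF D C relF 796 1237356000 8826880 2048 = true := by decide +kernel
theorem ck_4311 : chkURangeF D C relF 796 1237356000 8828928 2048 = true := by decide +kernel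
theorem ck_4312 : chkURangeF D C relF 796 1237356000 8830976 2048 = true := by decide +kernel
theorem ck_4313 : chkURangeF D C relF 796 1237356000 8833024 2048 = true := by decide +kernel
theorem ck_4314 : chkURangeF D C relF 796 1237356000 8835072 2048 = true := by decide +kernel
theorem ck_4315 : chkURangeF D C relF 796 1237356000 8837120 2048 = true := by decide +kernel
theorem ck_4316 : chkURangeF D C relF 796 1237356000 8839168 2048 = true := by decide +kernel
theorem ck_4317 : chkURangeF D C relF 796 1237356000 8841216 2048 = true := by decide +kernel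
theorem ck_4318 : chkURangeF D C relF 796 1237356000 8843264 2048 = true := by decide +kernel
theorem ck_4319 : chkURangeF D C relF 796 1237356000 8845312 2048 = true := by decide +kernel
theorem chkU_179 (b : ℕ) (h1 : 8798208 ≤ b) (h2 : b < 8847360) : chkU D C b = true := by
  rcases Nat.lt_or_ge b 8800256 with g0 | g0
  · exact chkURangeF_spec C relF_hyp 1237356000 tc_eq 8798208 2048 ck_4296 b (by omega) (by omega)
  rcases Nat.lt_or_ge b 8802304 with g1 | g1
  · exact chkURangeF_spec C relF_hyp 1237356000 tc_eq 8800256 2048 ck_4297 b (by omega) (by omega)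
  rcases Nat.lt_or_ge b 8804352 with g2 | g2
  · exact chkURangeF_spec C relF_hyp 1237356000 tc_eq 8802304 2048 ck_4298 b (by omega) (by omega)
  rcases Nat.lt_or_ge b 8806400 with g3 | g3
  · exact chkURangeF_spec C relF_hyp 1237356000 tc_eq 8804352 2048 ck_4299 b (by omega) (by omega)
  rcases Nat.lt_or_ge b 8808448 with g4 | g4
  · exact chkURangeF_spec C relF_hyp 1237356000 tc_eq 8806400 2048 ck_4300 b (by omega) (by omega)
  rcases Nat.lt_or_ge b 8810496 with g5 | g5
  · exact chkURangeF_spec C relF_hyp 1237356000 tc_eq 8808448 2048 ck_4301 b (by omega) (by omega)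
  rcases Nat.lt_or_ge b 8812544 with g6 | g6
  · exact chkURangeF_spec C relF_hyp 1237356000 tc_eq 8810496 2048 ck_4302 b (by omega) (by omega)
  rcases Nat.lt_or_ge b 8814592 with g7 | g7
  · exact chkURangeF_spec C relF_hyp 1237356000 tc_eq 8812544 2048 ck_4303 b (by omega) (by omega)
  rcases Nat.lt_or_ge b 8816640 with g8 | g8
  · exact chkURangeF_spec C relF_hyp 1237356000 tc_eq 8814592 2048 ck_4304 b (by omega) (by omega)
  rcases Nat.lt_or_ge b 8818688 with g9 | g9
  · exact chkURangeF_spec C relF_hyp 1237356000 tc_eq 8816640 2048 ck_4305 b (by omega) (by omega)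
  rcases Nat.lt_or_ge b 8820736 with g10 | g10
  · exact chkURangeF_spec C relF_hyp 1237356000 tc_eq 8818688 2048 ck_4306 b (by omega) (by omega)
  rcases Nat.lt_or_ge b 8822784 with g11 | g11
  · exact chkURangeF_spec C relF_hyp 1237356000 tc_eq 8820736 2048 ck_4307 b (by omega) (by omega)
  rcases Nat.lt_or_ge b 8824832 with g12 | g12
  · exact chkURangeF_spec C relF_hyp 1237356000 tc_eq 8822784 2048 ck_4308 b (by omega) (by omega)
  rcases Nat.lt_or_ge b 8826880 with g13 | g13
  · exact chkURangeF_spec C relF_hyp 1237356000 tc_eq 8824832 2048 ck_4309 b (by omega) (by omega)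
  rcases Nat.lt_or_ge b 8828928 with g14 | g14
  · exact chkURangeF_spec C relF_hyp 1237356000 tc_eq 8826880 2048 ck_4310 b (by omega) (by omega)
  rcases Nat.lt_or_ge b 8830976 with g15 | g15
  · exact chkURangeF_spec C relF_hyp 1237356000 tc_eq 8828928 2048 ck_4311 b (by omega) (by omega)
  rcases Nat.lt_or_ge b 8833024 with g16 | g16
  · exact chkURangeF_spec C relF_hyp 1237356000 tc_eq 8830976 2048 ck_4312 b (by omega) (by omega)
  rcases Nat.lt_or_ge b 8835072 with g17 | g17
  · exact chkURangeF_spec C relF_hyp 1237356000 tc_eq 8833024 2048 ck_4313 b (by omega) (by omega)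
  rcases Nat.lt_or_ge b 8837120 with g18 | g18
  · exact chkURangeF_spec C relF_hyp 1237356000 tc_eq 8835072 2048 ck_4314 b (by omega) (by omega)
  rcases Nat.lt_or_ge b 8839168 with g19 | g19
  · exact chkURangeF_spec C relF_hyp 1237356000 tc_eq 8837120 2048 ck_4315 b (by omega) (by omega)
  rcases Nat.lt_or_ge b 8841216 with g20 | g20
  · exact chkURangeF_spec C relF_hyp 1237356000 tc_eq 8839168 2048 ck_4316 b (by omega) (by omega)
  rcases Nat.lt_or_ge b 8843264 with g21 | g21
  · exact chkURangeF_spec C relF_hyp 1237356000 tc_eq 8841216 2048 ck_4317 b (by omega) (by omega)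
  rcases Nat.lt_or_ge b 8845312 with g22 | g22
  · exact chkURangeF_spec C relF_hyp 1237356000 tc_eq 8843264 2048 ck_4318 b (by omega) (by omega)
  exact chkURangeF_spec C relF_hyp 1237356000 tc_eq 8845312 2048 ck_4319 b (by omega) (by omega)
end Cfsg.Agent.Lib.Helper2.HNMult.P2
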