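import Cfsg.Agent.Lib.Helper2.HNMult.P2.Cert
set_option autoImplicit false
set_option maxRecDepth 1000000
set_option Elab.async false
namespace Cfsg.Agent.Lib.Helper2.HNMult.P2
open Cfsg.Agent.Lib.Helper4.Sparse Cfsg.Agent.Lib.Helper2.SparseF
theorem ck_4464 : chkURangeF D C relF 796 1237356000 9142272 2048 = true := by decide +kernel
theorem ck_4465 : chkURangeF D C relF 796 1237356000 9144320 2048 = true := by decide +kernel
theorem ck_4466 : chkURangeF D C relF 796 1237356000 9146368 2048 = true := by decide +kernel
theorem ck_4467 : chkURangeF D C relF 796 1237356000 9148416 2048 = true := by decide +kernel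
theorem ck_4468 : chkURangeF D C relF 796 1237356000 9150464 2048 = true := by decide +kernel
theorem ck_4469 : chkURangeF D C relF 796 1237356000 9152512 2048 = true := by decide +kernel
theorem ck_4470 : chkURangeF D C relF 796 1237356000 9154560 2048 = true := by decide +kernel
theorem ck_4471 : chkURangeF D C relF 796 1237356000 9156608 2048 = true := by decide +kernel
theorem ck_4472 : chkURangeF D C relF 796 1237356000 9158656 2048 = true := by decide +kernel
theorem ck_4473 : chkURangeF D C relF 796 1237356000 9160704 2048 = true := by decide +kernel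
theorem ck_4474 : chkURangeF D C relF 796 1237356000 9162752 2048 = true := by decide +kernel
theorem ck_4475 : chkURangeF D C relF 796 1237356000 9164800 2048 = true := by decide +kernel
theorem ck_4476 : chkURangeF D C relF 796 1237356000 9166848 2048 = true := by decide +kernel
theorem ck_4477 : chkURangeF D C relF 796 1237356000 9168896 2048 = true := by decide +kernel
theorem ck_4478 : chkURangeF D C relF 796 1237356000 9170944 2048 = true := by decide +kernel
theorem ck_4479 : chkURangeF D C relF 796 1237356000 9172992 2048 = true := by decide +kernel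
theorem ck_4480 : chkURangeF D C relF 796 1237356000 9175040 2048 = true := by decide +kernel
theorem ck_4481 : chkURangeF D C relF 796 1237356000 9177088 2048 = true := by decide +kernel
theorem ck_4482 : chkURangeF D C relF 796 1237356000 9179136 2048 = true := by decide +kernel
theorem ck_4483 : chkURangeF D C relF 796 1237356000 9181184 2048 = true := by decide +kernel
theorem ck_4484 : chkURangeF D C relF 796 1237356000 9183232 2048 = true := by decide +kernel
theorem ck_4485 : chkURangeF D C relF 796 1237356000 9185280 2048 = true := by decide +kernel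
theorem ck_4486 : chkURangeF D C relF 796 1237356000 9187328 2048 = true := by decide +kernel
theorem ck_4487 : chkURangeF D C relF 796 1237356000 9189376 2048 = true := by decide +kernel
theorem chkU_186 (b : ℕ) (h1 : 9142272 ≤ b) (h2 : b < 9191424) : chkU D C b = true := by
  rcases Nat.lt_or_ge b 9144320 with g0 | g0
  · exact chkURangeF_spec C relF_hyp 1237356000 tc_eq 9142272 2048 ck_4464 b (by omega) (by omega)
  rcases Nat.lt_or_ge b 9146368 with g1 | g1
  · exact chkURangeF_spec C relF_hyp 1237356000 tc_eq 9144320 2048 ck_4465 b (by omega) (by omega)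
  rcases Nat.lt_or_ge b 9148416 with g2 | g2
  · exact chkURangeF_spec C relF_hyp 1237356000 tc_eq 9146368 2048 ck_4466 b (by omega) (by omega)
  rcases Nat.lt_or_ge b 9150464 with g3 | g3
  · exact chkURangeF_spec C relF_hyp 1237356000 tc_eq 9148416 2048 ck_4467 b (by omega) (by omega)
  rcases Nat.lt_or_ge b 9152512 with g4 | g4
  · exact chkURangeF_spec C relF_hyp 1237356000 tc_eq 9150464 2048 ck_4468 b (by omega) (by omega)
  rcases Nat.lt_or_ge b 9154560 with g5 | g5
  · exact chkURangeF_spec C relF_hyp 1237356000 tc_eq 9152512 2048 ck_4469 b (by omega) (by omega)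
  rcases Nat.lt_or_ge b 9156608 with g6 | g6
  · exact chkURangeF_spec C relF_hyp 1237356000 tc_eq 9154560 2048 ck_4470 b (by omega) (by omega)
  rcases Nat.lt_or_ge b 9158656 with g7 | g7
  · exact chkURangeF_spec C relF_hyp 1237356000 tc_eq 9156608 2048 ck_4471 b (by omega) (by omega)
  rcases Nat.lt_or_ge b 9160704 with g8 | g8
  · exact chkURangeF_spec C relF_hyp 1237356000 tc_eq 9158656 2048 ck_4472 b (by omega) (by omega)
  rcases Nat.lt_or_ge b 9162752 with g9 | g9
  · exact chkURangeF_spec C relF_hyp 1237356000 tc_eq 9160704 2048 ck_4473 b (by omega) (by omega)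
  rcases Nat.lt_or_ge b 9164800 with g10 | g10
  · exact chkURangeF_spec C relF_hyp 1237356000 tc_eq 9162752 2048 ck_4474 b (by omega) (by omega)
  rcases Nat.lt_or_ge b 9166848 with g11 | g11
  · exact chkURangeF_spec C relF_hyp 1237356000 tc_eq 9164800 2048 ck_4475 b (by omega) (by omega)
  rcases Nat.lt_or_ge b 9168896 with g12 | g12
  · exact chkURangeF_spec C relF_hyp 1237356000 tc_eq 9166848 2048 ck_4476 b (by omega) (by omega)
  rcases Nat.lt_or_ge b 9170944 with g13 | g13
  · exact chkURangeF_spec C relF_hyp 1237356000 tc_eq 9168896 2048 ck_4477 b (by omega) (by omega)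
  rcases Nat.lt_or_ge b 9172992 with g14 | g14
  · exact chkURangeF_spec C relF_hyp 1237356000 tc_eq 9170944 2048 ck_4478 b (by omega) (by omega)
  rcases Nat.lt_or_ge b 9175040 with g15 | g15
  · exact chkURangeF_spec C relF_hyp 1237356000 tc_eq 9172992 2048 ck_4479 b (by omega) (by omega)
  rcases Nat.lt_or_ge b 9177088 with g16 | g16
  · exact chkURangeF_spec C relF_hyp 1237356000 tc_eq 9175040 2048 ck_4480 b (by omega) (by omega)
  rcases Nat.lt_or_ge b 9179136 with g17 | g17
  · exact chkURangeF_spec C relF_hyp 1237356000 tc_eq 9177088 2048 ck_4481 b (by omega) (by omega)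
  rcases Nat.lt_or_ge b 9181184 with g18 | g18
  · exact chkURangeF_spec C relF_hyp 1237356000 tc_eq 9179136 2048 ck_4482 b (by omega) (by omega)
  rcases Nat.lt_or_ge b 9183232 with g19 | g19
  · exact chkURangeF_spec C relF_hyp 1237356000 tc_eq 9181184 2048 ck_4483 b (by omega) (by omega)
  rcases Nat.lt_or_ge b 9185280 with g20 | g20
  · exact chkURangeF_spec C relF_hyp 1237356000 tc_eq 9183232 2048 ck_4484 b (by omega) (by omega)
  rcases Nat.lt_or_ge b 9187328 with g21 | g21
  · exact chkURangeF_spec C relF_hyp 1237356000 tc_eq 9185280 2048 ck_4485 b (by omega) (by omega)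
  rcases Nat.lt_or_ge b 9189376 with g22 | g22
  · exact chkURangeF_spec C relF_hyp 1237356000 tc_eq 9187328 2048 ck_4486 b (by omega) (by omega)
  exact chkURangeF_spec C relF_hyp 1237356000 tc_eq 9189376 2048 ck_4487 b (by omega) (by omega)
end Cfsg.Agent.Lib.Helper2.HNMult.P2
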