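import Cfsg.Agent.Lib.Helper2.HNMult.P2.Cert
set_option autoImplicit false
set_option maxRecDepth 1000000
set_option Elab.async false
namespace Cfsg.Agent.Lib.Helper2.HNMult.P2
open Cfsg.Agent.Lib.Helper4.Sparse Cfsg.Agent.Lib.Helper2.SparseF
theorem ck_4488 : chkURangeF D C relF 796 1237356000 9191424 2048 = true := by decide +kernel
theorem ck_4489 : chkURangeF D C relF 796 1237356000 9193472 2048 = true := by decide +kernel
theorem ck_4490 : chkURangeF D C relF 796 1237356000 9195520 2048 = true := by decide +kernel
theorem ck_4491 : chkURangeF D C relF 796 1237356000 9197568 2048 = true := by decide +kernel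
theorem ck_4492 : chkURangeF D C relF 796 1237356000 9199616 2048 = true := by decide +kernel
theorem ck_4493 : chkURangeF D C relF 796 1237356000 9201664 2048 = true := by decide +kernel
theorem ck_4494 : chkURangeF D C relF 796 1237356000 9203712 2048 = true := by decide +kernel
theorem ck_4495 : chkURangeF D C relF 796 1237356000 9205760 2048 = true := by decide +kernel
theorem ck_4496 : chkURangeF D C relF 796 1237356000 9207808 2048 = true := by decide +kernel
theorem ck_4497 : chkURangeF D C relF 796 1237356000 9209856 2048 = true := by decide +kernel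
theorem ck_4498 : chkURangeF D C relF 796 1237356000 9211904 2048 = true := by decide +kernel
theorem ck_4499 : chkURangeF D C relF 796 1237356000 9213952 2048 = true := by decide +kernel
theorem ck_4500 : chkURangeF D C relF 796 1237356000 9216000 2048 = true := by decide +kernel
theorem ck_4501 : chkURangeF D C relF 796 1237356000 9218048 2048 = true := by decide +kernel
theorem ck_4502 : chkURangeF D C relF 796 1237356000 9220096 2048 = true := by decide +kernel
theorem ck_4503 : chkURangeF D C relF 796 1237356000 9222144 2048 = true := by decide +kernel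
theorem ck_4504 : chkURangeF D C relF 796 1237356000 9224192 2048 = true := by decide +kernel
theorem ck_4505 : chkURangeF D C relF 796 1237356000 9226240 2048 = true := by decide +kernel
theorem ck_4506 : chkURangeF D C relF 796 1237356000 9228288 2048 = true := by decide +kernel
theorem ck_4507 : chkURangeF D C relF 796 1237356000 9230336 2048 = true := by decide +kernel
theorem ck_4508 : chkURangeF D C relF 796 1237356000 9232384 2048 = true := by decide +kernel
theorem ck_4509 : chkURangeF D C relF 796 1237356000 9234432 2048 = true := by decide +kernel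
theorem ck_4510 : chkURangeF D C relF 796 1237356000 9236480 2048 = true := by decide +kernel
theorem ck_4511 : chkURangeF D C relF 796 1237356000 9238528 2048 = true := by decide +kernel
theorem chkU_187 (b : ℕ) (h1 : 9191424 ≤ b) (h2 : b < 9240576) : chkU D C b = true := by
  rcases Nat.lt_or_ge b 9193472 with g0 | g0
  · exact chkURangeF_spec C relF_hyp 1237356000 tc_eq 9191424 2048 ck_4488 b (by omega) (by omega)
  rcases Nat.lt_or_ge b 9195520 with g1 | g1
  · exact chkURangeF_spec C relF_hyp 1237356000 tc_eq 9193472 2048 ck_4489 b (by omega) (by omega)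
  rcases Nat.lt_or_ge b 9197568 with g2 | g2
  · exact chkURangeF_spec C relF_hyp 1237356000 tc_eq 9195520 2048 ck_4490 b (by omega) (by omega)
  rcases Nat.lt_or_ge b 9199616 with g3 | g3
  · exact chkURangeF_spec C relF_hyp 1237356000 tc_eq 9197568 2048 ck_4491 b (by omega) (by omega)
  rcases Nat.lt_or_ge b 9201664 with g4 | g4
  · exact chkURangeF_spec C relF_hyp 1237356000 tc_eq 9199616 2048 ck_4492 b (by omega) (by omega)
  rcases Nat.lt_or_ge b 9203712 with g5 | g5
  · exact chkURangeF_spec C relF_hyp 1237356000 tc_eq 9201664 2048 ck_4493 b (by omega) (by omega)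
  rcases Nat.lt_or_ge b 9205760 with g6 | g6
  · exact chkURangeF_spec C relF_hyp 1237356000 tc_eq 9203712 2048 ck_4494 b (by omega) (by omega)
  rcases Nat.lt_or_ge b 9207808 with g7 | g7
  · exact chkURangeF_spec C relF_hyp 1237356000 tc_eq 9205760 2048 ck_4495 b (by omega) (by omega)
  rcases Nat.lt_or_ge b 9209856 with g8 | g8
  · exact chkURangeF_spec C relF_hyp 1237356000 tc_eq 9207808 2048 ck_4496 b (by omega) (by omega)
  rcases Nat.lt_or_ge b 9211904 with g9 | g9
  · exact chkURangeF_spec C relF_hyp 1237356000 tc_eq 9209856 2048 ck_4497 b (by omega) (by omega)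
  rcases Nat.lt_or_ge b 9213952 with g10 | g10
  · exact chkURangeF_spec C relF_hyp 1237356000 tc_eq 9211904 2048 ck_4498 b (by omega) (by omega)
  rcases Nat.lt_or_ge b 9216000 with g11 | g11
  · exact chkURangeF_spec C relF_hyp 1237356000 tc_eq 9213952 2048 ck_4499 b (by omega) (by omega)
  rcases Nat.lt_or_ge b 9218048 with g12 | g12
  · exact chkURangeF_spec C relF_hyp 1237356000 tc_eq 9216000 2048 ck_4500 b (by omega) (by omega)
  rcases Nat.lt_or_ge b 9220096 with g13 | g13
  · exact chkURangeF_spec C relF_hyp 1237356000 tc_eq 9218048 2048 ck_4501 b (by omega) (by omega)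
  rcases Nat.lt_or_ge b 9222144 with g14 | g14
  · exact chkURangeF_spec C relF_hyp 1237356000 tc_eq 9220096 2048 ck_4502 b (by omega) (by omega)
  rcases Nat.lt_or_ge b 9224192 with g15 | g15
  · exact chkURangeF_spec C relF_hyp 1237356000 tc_eq 9222144 2048 ck_4503 b (by omega) (by omega)
  rcases Nat.lt_or_ge b 9226240 with g16 | g16
  · exact chkURangeF_spec C relF_hyp 1237356000 tc_eq 9224192 2048 ck_4504 b (by omega) (by omega)
  rcases Nat.lt_or_ge b 9228288 with g17 | g17
  · exact chkURangeF_spec C relF_hyp 1237356000 tc_eq 9226240 2048 ck_4505 b (by omega) (by omega)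
  rcases Nat.lt_or_ge b 9230336 with g18 | g18
  · exact chkURangeF_spec C relF_hyp 1237356000 tc_eq 9228288 2048 ck_4506 b (by omega) (by omega)
  rcases Nat.lt_or_ge b 9232384 with g19 | g19
  · exact chkURangeF_spec C relF_hyp 1237356000 tc_eq 9230336 2048 ck_4507 b (by omega) (by omega)
  rcases Nat.lt_or_ge b 9234432 with g20 | g20
  · exact chkURangeF_spec C relF_hyp 1237356000 tc_eq 9232384 2048 ck_4508 b (by omega) (by omega)
  rcases Nat.lt_or_ge b 9236480 with g21 | g21
  · exact chkURangeF_spec C relF_hyp 1237356000 tc_eq 9234432 2048 ck_4509 b (by omega) (by omega)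
  rcases Nat.lt_or_ge b 9238528 with g22 | g22
  · exact chkURangeF_spec C relF_hyp 1237356000 tc_eq 9236480 2048 ck_4510 b (by omega) (by omega)
  exact chkURangeF_spec C relF_hyp 1237356000 tc_eq 9238528 2048 ck_4511 b (by omega) (by omega)
end Cfsg.Agent.Lib.Helper2.HNMult.P2
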