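import Cfsg.Agent.Lib.Helper2.HNMult.P2.Cert
set_option autoImplicit false
set_option maxRecDepth 1000000
set_option Elab.async false
namespace Cfsg.Agent.Lib.Helper2.HNMult.P2
open Cfsg.Agent.Lib.Helper4.Sparse Cfsg.Agent.Lib.Helper2.SparseF
theorem ck_4512 : chkURangeF D C relF 796 1237356000 9240576 2048 = true := by decide +kernel
theorem ck_4513 : chkURangeF D C relF 796 1237356000 9242624 2048 = true := by decide +kernel
theorem ck_4514 : chkURangeF D C relF 796 1237356000 9244672 2048 = true := by decide +kernel
theorem ck_4515 : chkURangeF D C relF 796 1237356000 9246720 2048 = true := by decide +kernel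
theorem ck_4516 : chkURangeF D C relF 796 1237356000 9248768 2048 = true := by decide +kernel
theorem ck_4517 : chkURangeF D C relF 796 1237356000 9250816 2048 = true := by decide +kernel
theorem ck_4518 : chkURangeF D C relF 796 1237356000 9252864 2048 = true := by decide +kernel
theorem ck_4519 : chkURangeF D C relF 796 1237356000 9254912 2048 = true := by decide +kernel
theorem ck_4520 : chkURangeF D C relF 796 1237356000 9256960 2048 = true := by decide +kernel
theorem ck_4521 : chkURangeF D C relF 796 1237356000 9259008 2048 = true := by decide +kernel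
theorem ck_4522 : chkURangeF D C relF 796 1237356000 9261056 2048 = true := by decide +kernel
theorem ck_4523 : chkURangeF D C relF 796 1237356000 9263104 2048 = true := by decide +kernel
theorem ck_4524 : chkURangeF D C relF 796 1237356000 9265152 2048 = true := by decide +kernel
theorem ck_4525 : chkURangeF D C relF 796 1237356000 9267200 2048 = true := by decide +kernel
theorem ck_4526 : chkURangeF D C relF 796 1237356000 9269248 2048 = true := by decide +kernel
theorem ck_4527 : chkURangeF D C relF 796 1237356000 9271296 2048 = true := by decide +kernel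
theorem ck_4528 : chkURangeF D C relF 796 1237356000 9273344 2048 = true := by decide +kernel
theorem ck_4529 : chkURangeF D C relF 796 1237356000 9275392 2048 = true := by decide +kernel
theorem ck_4530 : chkURangeF D C relF 796 1237356000 9277440 2048 = true := by decide +kernel
theorem ck_4531 : chkURangeF D C relF 796 1237356000 9279488 2048 = true := by decide +kernel
theorem ck_4532 : chkURangeF D C relF 796 1237356000 9281536 2048 = true := by decide +kernel
theorem ck_4533 : chkURangeF D C relF 796 1237356000 9283584 2048 = true := by decide +kernel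
theorem ck_4534 : chkURangeF D C relF 796 1237356000 9285632 2048 = true := by decide +kernel
theorem ck_4535 : chkURangeF D C relF 796 1237356000 9287680 2048 = true := by decide +kernel
theorem chkU_188 (b : ℕ) (h1 : 9240576 ≤ b) (h2 : b < 9289728) : chkU D C b = true := by
  rcases Nat.lt_or_ge b 9242624 with g0 | g0
  · exact chkURangeF_spec C relF_hyp 1237356000 tc_eq 9240576 2048 ck_4512 b (by omega) (by omega)
  rcases Nat.lt_or_ge b 9244672 with g1 | g1
  · exact chkURangeF_spec C relF_hyp 1237356000 tc_eq 9242624 2048 ck_4513 b (by omega) (by omega)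
  rcases Nat.lt_or_ge b 9246720 with g2 | g2
  · exact chkURangeF_spec C relF_hyp 1237356000 tc_eq 9244672 2048 ck_4514 b (by omega) (by omega)
  rcases Nat.lt_or_ge b 9248768 with g3 | g3
  · exact chkURangeF_spec C relF_hyp 1237356000 tc_eq 9246720 2048 ck_4515 b (by omega) (by omega)
  rcases Nat.lt_or_ge b 9250816 with g4 | g4
  · exact chkURangeF_spec C relF_hyp 1237356000 tc_eq 9248768 2048 ck_4516 b (by omega) (by omega)
  rcases Nat.lt_or_ge b 9252864 with g5 | g5
  · exact chkURangeF_spec C relF_hyp 1237356000 tc_eq 9250816 2048 ck_4517 b (by omega) (by omega)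
  rcases Nat.lt_or_ge b 9254912 with g6 | g6
  · exact chkURangeF_spec C relF_hyp 1237356000 tc_eq 9252864 2048 ck_4518 b (by omega) (by omega)
  rcases Nat.lt_or_ge b 9256960 with g7 | g7
  · exact chkURangeF_spec C relF_hyp 1237356000 tc_eq 9254912 2048 ck_4519 b (by omega) (by omega)
  rcases Nat.lt_or_ge b 9259008 with g8 | g8
  · exact chkURangeF_spec C relF_hyp 1237356000 tc_eq 9256960 2048 ck_4520 b (by omega) (by omega)
  rcases Nat.lt_or_ge b 9261056 with g9 | g9
  · exact chkURangeF_spec C relF_hyp 1237356000 tc_eq 9259008 2048 ck_4521 b (by omega) (by omega)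
  rcases Nat.lt_or_ge b 9263104 with g10 | g10
  · exact chkURangeF_spec C relF_hyp 1237356000 tc_eq 9261056 2048 ck_4522 b (by omega) (by omega)
  rcases Nat.lt_or_ge b 9265152 with g11 | g11
  · exact chkURangeF_spec C relF_hyp 1237356000 tc_eq 9263104 2048 ck_4523 b (by omega) (by omega)
  rcases Nat.lt_or_ge b 9267200 with g12 | g12
  · exact chkURangeF_spec C relF_hyp 1237356000 tc_eq 9265152 2048 ck_4524 b (by omega) (by omega)
  rcases Nat.lt_or_ge b 9269248 with g13 | g13
  · exact chkURangeF_spec C relF_hyp 1237356000 tc_eq 9267200 2048 ck_4525 b (by omega) (by omega)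
  rcases Nat.lt_or_ge b 9271296 with g14 | g14
  · exact chkURangeF_spec C relF_hyp 1237356000 tc_eq 9269248 2048 ck_4526 b (by omega) (by omega)
  rcases Nat.lt_or_ge b 9273344 with g15 | g15
  · exact chkURangeF_spec C relF_hyp 1237356000 tc_eq 9271296 2048 ck_4527 b (by omega) (by omega)
  rcases Nat.lt_or_ge b 9275392 with g16 | g16
  · exact chkURangeF_spec C relF_hyp 1237356000 tc_eq 9273344 2048 ck_4528 b (by omega) (by omega)
  rcases Nat.lt_or_ge b 9277440 with g17 | g17
  · exact chkURangeF_spec C relF_hyp 1237356000 tc_eq 9275392 2048 ck_4529 b (by omega) (by omega)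
  rcases Nat.lt_or_ge b 9279488 with g18 | g18
  · exact chkURangeF_spec C relF_hyp 1237356000 tc_eq 9277440 2048 ck_4530 b (by omega) (by omega)
  rcases Nat.lt_or_ge b 9281536 with g19 | g19
  · exact chkURangeF_spec C relF_hyp 1237356000 tc_eq 9279488 2048 ck_4531 b (by omega) (by omega)
  rcases Nat.lt_or_ge b 9283584 with g20 | g20
  · exact chkURangeF_spec C relF_hyp 1237356000 tc_eq 9281536 2048 ck_4532 b (by omega) (by omega)
  rcases Nat.lt_or_ge b 9285632 with g21 | g21
  · exact chkURangeF_spec C relF_hyp 1237356000 tc_eq 9283584 2048 ck_4533 b (by omega) (by omega)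
  rcases Nat.lt_or_ge b 9287680 with g22 | g22
  · exact chkURangeF_spec C relF_hyp 1237356000 tc_eq 9285632 2048 ck_4534 b (by omega) (by omega)
  exact chkURangeF_spec C relF_hyp 1237356000 tc_eq 9287680 2048 ck_4535 b (by omega) (by omega)
end Cfsg.Agent.Lib.Helper2.HNMult.P2
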