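import Cfsg.Agent.Lib.Helper2.HNMult.P2.Cert
set_option autoImplicit false
set_option maxRecDepth 1000000
set_option Elab.async false
namespace Cfsg.Agent.Lib.Helper2.HNMult.P2
open Cfsg.Agent.Lib.Helper4.Sparse Cfsg.Agent.Lib.Helper2.SparseF
theorem ck_4584 : chkURangeF D C relF 796 1237356000 9388032 2048 = true := by decide +kernel
theorem ck_4585 : chkURangeF D C relF 796 1237356000 9390080 2048 = true := by decide +kernel
theorem ck_4586 : chkURangeF D C relF 796 1237356000 9392128 2048 = true := by decide +kernel
theorem ck_4587 : chkURangeF D C relF 796 1237356000 9394176 2048 = true := by decide +kernel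
theorem ck_4588 : chkURangeF D C relF 796 1237356000 9396224 2048 = true := by decide +kernel
theorem ck_4589 : chkURangeF D C relF 796 1237356000 9398272 2048 = true := by decide +kernel
theorem ck_4590 : chkURangeF D C relF 796 1237356000 9400320 2048 = true := by decide +kernel
theorem ck_4591 : chkURangeF D C relF 796 1237356000 9402368 2048 = true := by decide +kernel
theorem ck_4592 : chkURangeF D C relF 796 1237356000 9404416 2048 = true := by decide +kernel
theorem ck_4593 : chkURangeF D C relF 796 1237356000 9406464 2048 = true := by decide +kernel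
theorem ck_4594 : chkURangeF D C relF 796 1237356000 9408512 2048 = true := by decide +kernel
theorem ck_4595 : chkURangeF D C relF 796 1237356000 9410560 2048 = true := by decide +kernel
theorem ck_4596 : chkURangeF D C relF 796 1237356000 9412608 2048 = true := by decide +kernel
theorem ck_4597 : chkURangeF D C relF 796 1237356000 9414656 2048 = true := by decide +kernel
theorem ck_4598 : chkURangeF D C relF 796 1237356000 9416704 2048 = true := by decide +kernel
theorem ck_4599 : chkURangeF D C relF 796 1237356000 9418752 2048 = true := by decide +kernel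
theorem ck_4600 : chkURangeF D C relF 796 1237356000 9420800 2048 = true := by decide +kernel
theorem ck_4601 : chkURangeF D C relF 796 1237356000 9422848 2048 = true := by decide +kernel
theorem ck_4602 : chkURangeF D C relF 796 1237356000 9424896 2048 = true := by decide +kernel
theorem ck_4603 : chkURangeF D C relF 796 1237356000 9426944 2048 = true := by decide +kernel
theorem ck_4604 : chkURangeF D C relF 796 1237356000 9428992 2048 = true := by decide +kernel
theorem ck_4605 : chkURangeF D C relF 796 1237356000 9431040 2048 = true := by decide +kernel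
theorem ck_4606 : chkURangeF D C relF 796 1237356000 9433088 2048 = true := by decide +kernel
theorem ck_4607 : chkURangeF D C relF 796 1237356000 9435136 2048 = true := by decide +kernel
theorem chkU_191 (b : ℕ) (h1 : 9388032 ≤ b) (h2 : b < 9437184) : chkU D C b = true := by
  rcases Nat.lt_or_ge b 9390080 with g0 | g0
  · exact chkURangeF_spec C relF_hyp 1237356000 tc_eq 9388032 2048 ck_4584 b (by omega) (by omega)
  rcases Nat.lt_or_ge b 9392128 with g1 | g1
  · exact chkURangeF_spec C relF_hyp 1237356000 tc_eq 9390080 2048 ck_4585 b (by omega) (by omega)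
  rcases Nat.lt_or_ge b 9394176 with g2 | g2
  · exact chkURangeF_spec C relF_hyp 1237356000 tc_eq 9392128 2048 ck_4586 b (by omega) (by omega)
  rcases Nat.lt_or_ge b 9396224 with g3 | g3
  · exact chkURangeF_spec C relF_hyp 1237356000 tc_eq 9394176 2048 ck_4587 b (by omega) (by omega)
  rcases Nat.lt_or_ge b 9398272 with g4 | g4
  · exact chkURangeF_spec C relF_hyp 1237356000 tc_eq 9396224 2048 ck_4588 b (by omega) (by omega)
  rcases Nat.lt_or_ge b 9400320 with g5 | g5
  · exact chkURangeF_spec C relF_hyp 1237356000 tc_eq 9398272 2048 ck_4589 b (by omega) (by omega)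
  rcases Nat.lt_or_ge b 9402368 with g6 | g6
  · exact chkURangeF_spec C relF_hyp 1237356000 tc_eq 9400320 2048 ck_4590 b (by omega) (by omega)
  rcases Nat.lt_or_ge b 9404416 with g7 | g7
  · exact chkURangeF_spec C relF_hyp 1237356000 tc_eq 9402368 2048 ck_4591 b (by omega) (by omega)
  rcases Nat.lt_or_ge b 9406464 with g8 | g8
  · exact chkURangeF_spec C relF_hyp 1237356000 tc_eq 9404416 2048 ck_4592 b (by omega) (by omega)
  rcases Nat.lt_or_ge b 9408512 with g9 | g9
  · exact chkURangeF_spec C relF_hyp 1237356000 tc_eq 9406464 2048 ck_4593 b (by omega) (by omega)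
  rcases Nat.lt_or_ge b 9410560 with g10 | g10
  · exact chkURangeF_spec C relF_hyp 1237356000 tc_eq 9408512 2048 ck_4594 b (by omega) (by omega)
  rcases Nat.lt_or_ge b 9412608 with g11 | g11
  · exact chkURangeF_spec C relF_hyp 1237356000 tc_eq 9410560 2048 ck_4595 b (by omega) (by omega)
  rcases Nat.lt_or_ge b 9414656 with g12 | g12
  · exact chkURangeF_spec C relF_hyp 1237356000 tc_eq 9412608 2048 ck_4596 b (by omega) (by omega)
  rcases Nat.lt_or_ge b 9416704 with g13 | g13
  · exact chkURangeF_spec C relF_hyp 1237356000 tc_eq 9414656 2048 ck_4597 b (by omega) (by omega)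
  rcases Nat.lt_or_ge b 9418752 with g14 | g14
  · exact chkURangeF_spec C relF_hyp 1237356000 tc_eq 9416704 2048 ck_4598 b (by omega) (by omega)
  rcases Nat.lt_or_ge b 9420800 with g15 | g15
  · exact chkURangeF_spec C relF_hyp 1237356000 tc_eq 9418752 2048 ck_4599 b (by omega) (by omega)
  rcases Nat.lt_or_ge b 9422848 with g16 | g16
  · exact chkURangeF_spec C relF_hyp 1237356000 tc_eq 9420800 2048 ck_4600 b (by omega) (by omega)
  rcases Nat.lt_or_ge b 9424896 with g17 | g17
  · exact chkURangeF_spec C relF_hyp 1237356000 tc_eq 9422848 2048 ck_4601 b (by omega) (by omega)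
  rcases Nat.lt_or_ge b 9426944 with g18 | g18
  · exact chkURangeF_spec C relF_hyp 1237356000 tc_eq 9424896 2048 ck_4602 b (by omega) (by omega)
  rcases Nat.lt_or_ge b 9428992 with g19 | g19
  · exact chkURangeF_spec C relF_hyp 1237356000 tc_eq 9426944 2048 ck_4603 b (by omega) (by omega)
  rcases Nat.lt_or_ge b 9431040 with g20 | g20
  · exact chkURangeF_spec C relF_hyp 1237356000 tc_eq 9428992 2048 ck_4604 b (by omega) (by omega)
  rcases Nat.lt_or_ge b 9433088 with g21 | g21
  · exact chkURangeF_spec C relF_hyp 1237356000 tc_eq 9431040 2048 ck_4605 b (by omega) (by omega)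
  rcases Nat.lt_or_ge b 9435136 with g22 | g22
  · exact chkURangeF_spec C relF_hyp 1237356000 tc_eq 9433088 2048 ck_4606 b (by omega) (by omega)
  exact chkURangeF_spec C relF_hyp 1237356000 tc_eq 9435136 2048 ck_4607 b (by omega) (by omega)
end Cfsg.Agent.Lib.Helper2.HNMult.P2
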