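import Cfsg.Agent.Lib.Helper2.HNMult.P2.Cert
set_option autoImplicit false
set_option maxRecDepth 1000000
set_option Elab.async false
namespace Cfsg.Agent.Lib.Helper2.HNMult.P2
open Cfsg.Agent.Lib.Helper4.Sparse Cfsg.Agent.Lib.Helper2.SparseF
theorem ck_4680 : chkURangeF D C relF 796 1237356000 9584640 2048 = true := by decide +kernel
theorem ck_4681 : chkURangeF D C relF 796 1237356000 9586688 2048 = true := by decide +kernel
theorem ck_4682 : chkURangeF D C relF 796 1237356000 9588736 2048 = true := by decide +kernel
theorem ck_4683 : chkURangeF D C relF 796 1237356000 9590784 2048 = true := by decide +kernel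
theorem ck_4684 : chkURangeF D C relF 796 1237356000 9592832 2048 = true := by decide +kernel
theorem ck_4685 : chkURangeF D C relF 796 1237356000 9594880 2048 = true := by decide +kernel
theorem ck_4686 : chkURangeF D C relF 796 1237356000 9596928 2048 = true := by decide +kernel
theorem ck_4687 : chkURangeF D C relF 796 1237356000 9598976 2048 = true := by decide +kernel
theorem ck_4688 : chkURangeF D C relF 796 1237356000 9601024 2048 = true := by decide +kernel
theorem ck_4689 : chkURangeF D C relF 796 1237356000 9603072 2048 = true := by decide +kernel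
theorem ck_4690 : chkURangeF D C relF 796 1237356000 9605120 2048 = true := by decide +kernel
theorem ck_4691 : chkURangeF D C relF 796 1237356000 9607168 2048 = true := by decide +kernel
theorem ck_4692 : chkURangeF D C relF 796 1237356000 9609216 2048 = true := by decide +kernel
theorem ck_4693 : chkURangeF D C relF 796 1237356000 9611264 2048 = true := by decide +kernel
theorem ck_4694 : chkURangeF D C relF 796 1237356000 9613312 2048 = true := by decide +kernel
theorem ck_4695 : chkURangeF D C relF 796 1237356000 9615360 2048 = true := by decide +kernel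
theorem ck_4696 : chkURangeF D C relF 796 1237356000 9617408 2048 = true := by decide +kernel
theorem ck_4697 : chkURangeF D C relF 796 1237356000 9619456 2048 = true := by decide +kernel
theorem ck_4698 : chkURangeF D C relF 796 1237356000 9621504 2048 = true := by decide +kernel
theorem ck_4699 : chkURangeF D C relF 796 1237356000 9623552 2048 = true := by decide +kernel
theorem ck_4700 : chkURangeF D C relF 796 1237356000 9625600 2048 = true := by decide +kernel
theorem ck_4701 : chkURangeF D C relF 796 1237356000 9627648 2048 = true := by decide +kernel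
theorem ck_4702 : chkURangeF D C relF 796 1237356000 9629696 2048 = true := by decide +kernel
theorem ck_4703 : chkURangeF D C relF 796 1237356000 9631744 2048 = true := by decide +kernel
theorem chkU_195 (b : ℕ) (h1 : 9584640 ≤ b) (h2 : b < 9633792) : chkU D C b = true := by
  rcases Nat.lt_or_ge b 9586688 with g0 | g0
  · exact chkURangeF_spec C relF_hyp 1237356000 tc_eq 9584640 2048 ck_4680 b (by omega) (by omega)
  rcases Nat.lt_or_ge b 9588736 with g1 | g1
  · exact chkURangeF_spec C relF_hyp 1237356000 tc_eq 9586688 2048 ck_4681 b (by omega) (by omega)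
  rcases Nat.lt_or_ge b 9590784 with g2 | g2
  · exact chkURangeF_spec C relF_hyp 1237356000 tc_eq 9588736 2048 ck_4682 b (by omega) (by omega)
  rcases Nat.lt_or_ge b 9592832 with g3 | g3
  · exact chkURangeF_spec C relF_hyp 1237356000 tc_eq 9590784 2048 ck_4683 b (by omega) (by omega)
  rcases Nat.lt_or_ge b 9594880 with g4 | g4
  · exact chkURangeF_spec C relF_hyp 1237356000 tc_eq 9592832 2048 ck_4684 b (by omega) (by omega)
  rcases Nat.lt_or_ge b 9596928 with g5 | g5
  · exact chkURangeF_spec C relF_hyp 1237356000 tc_eq 9594880 2048 ck_4685 b (by omega) (by omega)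
  rcases Nat.lt_or_ge b 9598976 with g6 | g6
  · exact chkURangeF_spec C relF_hyp 1237356000 tc_eq 9596928 2048 ck_4686 b (by omega) (by omega)
  rcases Nat.lt_or_ge b 9601024 with g7 | g7
  · exact chkURangeF_spec C relF_hyp 1237356000 tc_eq 9598976 2048 ck_4687 b (by omega) (by omega)
  rcases Nat.lt_or_ge b 9603072 with g8 | g8
  · exact chkURangeF_spec C relF_hyp 1237356000 tc_eq 9601024 2048 ck_4688 b (by omega) (by omega)
  rcases Nat.lt_or_ge b 9605120 with g9 | g9
  · exact chkURangeF_spec C relF_hyp 1237356000 tc_eq 9603072 2048 ck_4689 b (by omega) (by omega)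
  rcases Nat.lt_or_ge b 9607168 with g10 | g10
  · exact chkURangeF_spec C relF_hyp 1237356000 tc_eq 9605120 2048 ck_4690 b (by omega) (by omega)
  rcases Nat.lt_or_ge b 9609216 with g11 | g11
  · exact chkURangeF_spec C relF_hyp 1237356000 tc_eq 9607168 2048 ck_4691 b (by omega) (by omega)
  rcases Nat.lt_or_ge b 9611264 with g12 | g12
  · exact chkURangeF_spec C relF_hyp 1237356000 tc_eq 9609216 2048 ck_4692 b (by omega) (by omega)
  rcases Nat.lt_or_ge b 9613312 with g13 | g13
  · exact chkURangeF_spec C relF_hyp 1237356000 tc_eq 9611264 2048 ck_4693 b (by omega) (by omega)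
  rcases Nat.lt_or_ge b 9615360 with g14 | g14
  · exact chkURangeF_spec C relF_hyp 1237356000 tc_eq 9613312 2048 ck_4694 b (by omega) (by omega)
  rcases Nat.lt_or_ge b 9617408 with g15 | g15
  · exact chkURangeF_spec C relF_hyp 1237356000 tc_eq 9615360 2048 ck_4695 b (by omega) (by omega)
  rcases Nat.lt_or_ge b 9619456 with g16 | g16
  · exact chkURangeF_spec C relF_hyp 1237356000 tc_eq 9617408 2048 ck_4696 b (by omega) (by omega)
  rcases Nat.lt_or_ge b 9621504 with g17 | g17
  · exact chkURangeF_spec C relF_hyp 1237356000 tc_eq 9619456 2048 ck_4697 b (by omega) (by omega)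
  rcases Nat.lt_or_ge b 9623552 with g18 | g18
  · exact chkURangeF_spec C relF_hyp 1237356000 tc_eq 9621504 2048 ck_4698 b (by omega) (by omega)
  rcases Nat.lt_or_ge b 9625600 with g19 | g19
  · exact chkURangeF_spec C relF_hyp 1237356000 tc_eq 9623552 2048 ck_4699 b (by omega) (by omega)
  rcases Nat.lt_or_ge b 9627648 with g20 | g20
  · exact chkURangeF_spec C relF_hyp 1237356000 tc_eq 9625600 2048 ck_4700 b (by omega) (by omega)
  rcases Nat.lt_or_ge b 9629696 with g21 | g21
  · exact chkURangeF_spec C relF_hyp 1237356000 tc_eq 9627648 2048 ck_4701 b (by omega) (by omega)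
  rcases Nat.lt_or_ge b 9631744 with g22 | g22
  · exact chkURangeF_spec C relF_hyp 1237356000 tc_eq 9629696 2048 ck_4702 b (by omega) (by omega)
  exact chkURangeF_spec C relF_hyp 1237356000 tc_eq 9631744 2048 ck_4703 b (by omega) (by omega)
end Cfsg.Agent.Lib.Helper2.HNMult.P2
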