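import Cfsg.Agent.Lib.Helper2.HNMult.P2.Cert
set_option autoImplicit false
set_option maxRecDepth 1000000
set_option Elab.async false
namespace Cfsg.Agent.Lib.Helper2.HNMult.P2
open Cfsg.Agent.Lib.Helper4.Sparse Cfsg.Agent.Lib.Helper2.SparseF
theorem ck_4728 : chkURangeF D C relF 796 1237356000 9682944 2048 = true := by decide +kernel
theorem ck_4729 : chkURangeF D C relF 796 1237356000 9684992 2048 = true := by decide +kernel
theorem ck_4730 : chkURangeF D C relF 796 1237356000 9687040 2048 = true := by decide +kernel
theorem ck_4731 : chkURangeF D C relF 796 1237356000 9689088 2048 = true := by decide +kernel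
theorem ck_4732 : chkURangeF D C relF 796 1237356000 9691136 2048 = true := by decide +kernel
theorem ck_4733 : chkURangeF D C relF 796 1237356000 9693184 2048 = true := by decide +kernel
theorem ck_4734 : chkURangeF D C relF 796 1237356000 9695232 2048 = true := by decide +kernel
theorem ck_4735 : chkURangeF D C relF 796 1237356000 9697280 2048 = true := by decide +kernel
theorem ck_4736 : chkURangeF D C relF 796 1237356000 9699328 2048 = true := by decide +kernel
theorem ck_4737 : chkURangeF D C relF 796 1237356000 9701376 2048 = true := by decide +kernel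
theorem ck_4738 : chkURangeF D C relF 796 1237356000 9703424 2048 = true := by decide +kernel
theorem ck_4739 : chkURangeF D C relF 796 1237356000 9705472 2048 = true := by decide +kernel
theorem ck_4740 : chkURangeF D C relF 796 1237356000 9707520 2048 = true := by decide +kernel
theorem ck_4741 : chkURangeF D C relF 796 1237356000 9709568 2048 = true := by decide +kernel
theorem ck_4742 : chkURangeF D C relF 796 1237356000 9711616 2048 = true := by decide +kernel
theorem ck_4743 : chkURangeF D C relF 796 1237356000 9713664 2048 = true := by decide +kernel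
theorem ck_4744 : chkURangeF D C relF 796 1237356000 9715712 2048 = true := by decide +kernel
theorem ck_4745 : chkURangeF D C relF 796 1237356000 9717760 2048 = true := by decide +kernel
theorem ck_4746 : chkURangeF D C relF 796 1237356000 9719808 2048 = true := by decide +kernel
theorem ck_4747 : chkURangeF D C relF 796 1237356000 9721856 2048 = true := by decide +kernel
theorem ck_4748 : chkURangeF D C relF 796 1237356000 9723904 2048 = true := by decide +kernel
theorem ck_4749 : chkURangeF D C relF 796 1237356000 9725952 2048 = true := by decide +kernel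
theorem ck_4750 : chkURangeF D C relF 796 1237356000 9728000 2048 = true := by decide +kernel
theorem ck_4751 : chkURangeF D C relF 796 1237356000 9730048 2048 = true := by decide +kernel
theorem chkU_197 (b : ℕ) (h1 : 9682944 ≤ b) (h2 : b < 9732096) : chkU D C b = true := by
  rcases Nat.lt_or_ge b 9684992 with g0 | g0
  · exact chkURangeF_spec C relF_hyp 1237356000 tc_eq 9682944 2048 ck_4728 b (by omega) (by omega)
  rcases Nat.lt_or_ge b 9687040 with g1 | g1
  · exact chkURangeF_spec C relF_hyp 1237356000 tc_eq 9684992 2048 ck_4729 b (by omega) (by omega)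
  rcases Nat.lt_or_ge b 9689088 with g2 | g2
  · exact chkURangeF_spec C relF_hyp 1237356000 tc_eq 9687040 2048 ck_4730 b (by omega) (by omega)
  rcases Nat.lt_or_ge b 9691136 with g3 | g3
  · exact chkURangeF_spec C relF_hyp 1237356000 tc_eq 9689088 2048 ck_4731 b (by omega) (by omega)
  rcases Nat.lt_or_ge b 9693184 with g4 | g4
  · exact chkURangeF_spec C relF_hyp 1237356000 tc_eq 9691136 2048 ck_4732 b (by omega) (by omega)
  rcases Nat.lt_or_ge b 9695232 with g5 | g5
  · exact chkURangeF_spec C relF_hyp 1237356000 tc_eq 9693184 2048 ck_4733 b (by omega) (by omega)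
  rcases Nat.lt_or_ge b 9697280 with g6 | g6
  · exact chkURangeF_spec C relF_hyp 1237356000 tc_eq 9695232 2048 ck_4734 b (by omega) (by omega)
  rcases Nat.lt_or_ge b 9699328 with g7 | g7
  · exact chkURangeF_spec C relF_hyp 1237356000 tc_eq 9697280 2048 ck_4735 b (by omega) (by omega)
  rcases Nat.lt_or_ge b 9701376 with g8 | g8
  · exact chkURangeF_spec C relF_hyp 1237356000 tc_eq 9699328 2048 ck_4736 b (by omega) (by omega)
  rcases Nat.lt_or_ge b 9703424 with g9 | g9
  · exact chkURangeF_spec C relF_hyp 1237356000 tc_eq 9701376 2048 ck_4737 b (by omega) (by omega)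
  rcases Nat.lt_or_ge b 9705472 with g10 | g10
  · exact chkURangeF_spec C relF_hyp 1237356000 tc_eq 9703424 2048 ck_4738 b (by omega) (by omega)
  rcases Nat.lt_or_ge b 9707520 with g11 | g11
  · exact chkURangeF_spec C relF_hyp 1237356000 tc_eq 9705472 2048 ck_4739 b (by omega) (by omega)
  rcases Nat.lt_or_ge b 9709568 with g12 | g12
  · exact chkURangeF_spec C relF_hyp 1237356000 tc_eq 9707520 2048 ck_4740 b (by omega) (by omega)
  rcases Nat.lt_or_ge b 9711616 with g13 | g13
  · exact chkURangeF_spec C relF_hyp 1237356000 tc_eq 9709568 2048 ck_4741 b (by omega) (by omega)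
  rcases Nat.lt_or_ge b 9713664 with g14 | g14
  · exact chkURangeF_spec C relF_hyp 1237356000 tc_eq 9711616 2048 ck_4742 b (by omega) (by omega)
  rcases Nat.lt_or_ge b 9715712 with g15 | g15
  · exact chkURangeF_spec C relF_hyp 1237356000 tc_eq 9713664 2048 ck_4743 b (by omega) (by omega)
  rcases Nat.lt_or_ge b 9717760 with g16 | g16
  · exact chkURangeF_spec C relF_hyp 1237356000 tc_eq 9715712 2048 ck_4744 b (by omega) (by omega)
  rcases Nat.lt_or_ge b 9719808 with g17 | g17
  · exact chkURangeF_spec C relF_hyp 1237356000 tc_eq 9717760 2048 ck_4745 b (by omega) (by omega)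
  rcases Nat.lt_or_ge b 9721856 with g18 | g18
  · exact chkURangeF_spec C relF_hyp 1237356000 tc_eq 9719808 2048 ck_4746 b (by omega) (by omega)
  rcases Nat.lt_or_ge b 9723904 with g19 | g19
  · exact chkURangeF_spec C relF_hyp 1237356000 tc_eq 9721856 2048 ck_4747 b (by omega) (by omega)
  rcases Nat.lt_or_ge b 9725952 with g20 | g20
  · exact chkURangeF_spec C relF_hyp 1237356000 tc_eq 9723904 2048 ck_4748 b (by omega) (by omega)
  rcases Nat.lt_or_ge b 9728000 with g21 | g21
  · exact chkURangeF_spec C relF_hyp 1237356000 tc_eq 9725952 2048 ck_4749 b (by omega) (by omega)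
  rcases Nat.lt_or_ge b 9730048 with g22 | g22
  · exact chkURangeF_spec C relF_hyp 1237356000 tc_eq 9728000 2048 ck_4750 b (by omega) (by omega)
  exact chkURangeF_spec C relF_hyp 1237356000 tc_eq 9730048 2048 ck_4751 b (by omega) (by omega)
end Cfsg.Agent.Lib.Helper2.HNMult.P2
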