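import Cfsg.Agent.Lib.Helper2.HNMult.P2.Cert
set_option autoImplicit false
set_option maxRecDepth 1000000
set_option Elab.async false
namespace Cfsg.Agent.Lib.Helper2.HNMult.P2
open Cfsg.Agent.Lib.Helper4.Sparse Cfsg.Agent.Lib.Helper2.SparseF
theorem ck_48 : chkURangeF D C relF 796 1237356000 98304 2048 = true := by decide +kernel
theorem ck_49 : chkURangeF D C relF 796 1237356000 100352 2048 = true := by decide +kernel
theorem ck_50 : chkURangeF D C relF 796 1237356000 102400 2048 = true := by decide +kernel
theorem ck_51 : chkURangeF D C relF 796 1237356000 104448 2048 = true := by decide +kernel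
theorem ck_52 : chkURangeF D C relF 796 1237356000 106496 2048 = true := by decide +kernel
theorem ck_53 : chkURangeF D C relF 796 1237356000 108544 2048 = true := by decide +kernel
theorem ck_54 : chkURangeF D C relF 796 1237356000 110592 2048 = true := by decide +kernel
theorem ck_55 : chkURangeF D C relF 796 1237356000 112640 2048 = true := by decide +kernel
theorem ck_56 : chkURangeF D C relF 796 1237356000 114688 2048 = true := by decide +kernel
theorem ck_57 : chkURangeF D C relF 796 1237356000 116736 2048 = true := by decide +kernel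
theorem ck_58 : chkURangeF D C relF 796 1237356000 118784 2048 = true := by decide +kernel
theorem ck_59 : chkURangeF D C relF 796 1237356000 120832 2048 = true := by decide +kernel
theorem ck_60 : chkURangeF D C relF 796 1237356000 122880 2048 = true := by decide +kernel
theorem ck_61 : chkURangeF D C relF 796 1237356000 124928 2048 = true := by decide +kernel
theorem ck_62 : chkURangeF D C relF 796 1237356000 126976 2048 = true := by decide +kernel
theorem ck_63 : chkURangeF D C relF 796 1237356000 129024 2048 = true := by decide +kernel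
theorem ck_64 : chkURangeF D C relF 796 1237356000 131072 2048 = true := by decide +kernel
theorem ck_65 : chkURangeF D C relF 796 1237356000 133120 2048 = true := by decide +kernel
theorem ck_66 : chkURangeF D C relF 796 1237356000 135168 2048 = true := by decide +kernel
theorem ck_67 : chkURangeF D C relF 796 1237356000 137216 2048 = true := by decide +kernel
theorem ck_68 : chkURangeF D C relF 796 1237356000 139264 2048 = true := by decide +kernel
theorem ck_69 : chkURangeF D C relF 796 1237356000 141312 2048 = true := by decide +kernel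
theorem ck_70 : chkURangeF D C relF 796 1237356000 143360 2048 = true := by decide +kernel
theorem ck_71 : chkURangeF D C relF 796 1237356000 145408 2048 = true := by decide +kernel
theorem chkU_2 (b : ℕ) (h1 : 98304 ≤ b) (h2 : b < 147456) : chkU D C b = true := by
  rcases Nat.lt_or_ge b 100352 with g0 | g0
  · exact chkURangeF_spec C relF_hyp 1237356000 tc_eq 98304 2048 ck_48 b (by omega) (by omega)
  rcases Nat.lt_or_ge b 102400 with g1 | g1
  · exact chkURangeF_spec C relF_hyp 1237356000 tc_eq 100352 2048 ck_49 b (by omega) (by omega)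
  rcases Nat.lt_or_ge b 104448 with g2 | g2
  · exact chkURangeF_spec C relF_hyp 1237356000 tc_eq 102400 2048 ck_50 b (by omega) (by omega)
  rcases Nat.lt_or_ge b 106496 with g3 | g3
  · exact chkURangeF_spec C relF_hyp 1237356000 tc_eq 104448 2048 ck_51 b (by omega) (by omega)
  rcases Nat.lt_or_ge b 108544 with g4 | g4
  · exact chkURangeF_spec C relF_hyp 1237356000 tc_eq 106496 2048 ck_52 b (by omega) (by omega)
  rcases Nat.lt_or_ge b 110592 with g5 | g5
  · exact chkURangeF_spec C relF_hyp 1237356000 tc_eq 108544 2048 ck_53 b (by omega) (by omega)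
  rcases Nat.lt_or_ge b 112640 with g6 | g6
  · exact chkURangeF_spec C relF_hyp 1237356000 tc_eq 110592 2048 ck_54 b (by omega) (by omega)
  rcases Nat.lt_or_ge b 114688 with g7 | g7
  · exact chkURangeF_spec C relF_hyp 1237356000 tc_eq 112640 2048 ck_55 b (by omega) (by omega)
  rcases Nat.lt_or_ge b 116736 with g8 | g8
  · exact chkURangeF_spec C relF_hyp 1237356000 tc_eq 114688 2048 ck_56 b (by omega) (by omega)
  rcases Nat.lt_or_ge b 118784 with g9 | g9
  · exact chkURangeF_spec C relF_hyp 1237356000 tc_eq 116736 2048 ck_57 b (by omega) (by omega)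
  rcases Nat.lt_or_ge b 120832 with g10 | g10
  · exact chkURangeF_spec C relF_hyp 1237356000 tc_eq 118784 2048 ck_58 b (by omega) (by omega)
  rcases Nat.lt_or_ge b 122880 with g11 | g11
  · exact chkURangeF_spec C relF_hyp 1237356000 tc_eq 120832 2048 ck_59 b (by omega) (by omega)
  rcases Nat.lt_or_ge b 124928 with g12 | g12
  · exact chkURangeF_spec C relF_hyp 1237356000 tc_eq 122880 2048 ck_60 b (by omega) (by omega)
  rcases Nat.lt_or_ge b 126976 with g13 | g13
  · exact chkURangeF_spec C relF_hyp 1237356000 tc_eq 124928 2048 ck_61 b (by omega) (by omega)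
  rcases Nat.lt_or_ge b 129024 with g14 | g14
  · exact chkURangeF_spec C relF_hyp 1237356000 tc_eq 126976 2048 ck_62 b (by omega) (by omega)
  rcases Nat.lt_or_ge b 131072 with g15 | g15
  · exact chkURangeF_spec C relF_hyp 1237356000 tc_eq 129024 2048 ck_63 b (by omega) (by omega)
  rcases Nat.lt_or_ge b 133120 with g16 | g16
  · exact chkURangeF_spec C relF_hyp 1237356000 tc_eq 131072 2048 ck_64 b (by omega) (by omega)
  rcases Nat.lt_or_ge b 135168 with g17 | g17
  · exact chkURangeF_spec C relF_hyp 1237356000 tc_eq 133120 2048 ck_65 b (by omega) (by omega)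
  rcases Nat.lt_or_ge b 137216 with g18 | g18
  · exact chkURangeF_spec C relF_hyp 1237356000 tc_eq 135168 2048 ck_66 b (by omega) (by omega)
  rcases Nat.lt_or_ge b 139264 with g19 | g19
  · exact chkURangeF_spec C relF_hyp 1237356000 tc_eq 137216 2048 ck_67 b (by omega) (by omega)
  rcases Nat.lt_or_ge b 141312 with g20 | g20
  · exact chkURangeF_spec C relF_hyp 1237356000 tc_eq 139264 2048 ck_68 b (by omega) (by omega)
  rcases Nat.lt_or_ge b 143360 with g21 | g21
  · exact chkURangeF_spec C relF_hyp 1237356000 tc_eq 141312 2048 ck_69 b (by omega) (by omega)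
  rcases Nat.lt_or_ge b 145408 with g22 | g22
  · exact chkURangeF_spec C relF_hyp 1237356000 tc_eq 143360 2048 ck_70 b (by omega) (by omega)
  exact chkURangeF_spec C relF_hyp 1237356000 tc_eq 145408 2048 ck_71 b (by omega) (by omega)
end Cfsg.Agent.Lib.Helper2.HNMult.P2
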