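import Cfsg.Agent.Lib.Helper2.HNMult.P2.Cert
set_option autoImplicit false
set_option maxRecDepth 1000000
set_option Elab.async false
namespace Cfsg.Agent.Lib.Helper2.HNMult.P2
open Cfsg.Agent.Lib.Helper4.Sparse Cfsg.Agent.Lib.Helper2.SparseF
theorem ck_480 : chkURangeF D C relF 796 1237356000 983040 2048 = true := by decide +kernel
theorem ck_481 : chkURangeF D C relF 796 1237356000 985088 2048 = true := by decide +kernel
theorem ck_482 : chkURangeF D C relF 796 1237356000 987136 2048 = true := by decide +kernel
theorem ck_483 : chkURangeF D C relF 796 1237356000 989184 2048 = true := by decide +kernel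
theorem ck_484 : chkURangeF D C relF 796 1237356000 991232 2048 = true := by decide +kernel
theorem ck_485 : chkURangeF D C relF 796 1237356000 993280 2048 = true := by decide +kernel
theorem ck_486 : chkURangeF D C relF 796 1237356000 995328 2048 = true := by decide +kernel
theorem ck_487 : chkURangeF D C relF 796 1237356000 997376 2048 = true := by decide +kernel
theorem ck_488 : chkURangeF D C relF 796 1237356000 999424 2048 = true := by decide +kernel
theorem ck_489 : chkURangeF D C relF 796 1237356000 1001472 2048 = true := by decide +kernel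
theorem ck_490 : chkURangeF D C relF 796 1237356000 1003520 2048 = true := by decide +kernel
theorem ck_491 : chkURangeF D C relF 796 1237356000 1005568 2048 = true := by decide +kernel
theorem ck_492 : chkURangeF D C relF 796 1237356000 1007616 2048 = true := by decide +kernel
theorem ck_493 : chkURangeF D C relF 796 1237356000 1009664 2048 = true := by decide +kernel
theorem ck_494 : chkURangeF D C relF 796 1237356000 1011712 2048 = true := by decide +kernel
theorem ck_495 : chkURangeF D C relF 796 1237356000 1013760 2048 = true := by decide +kernel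
theorem ck_496 : chkURangeF D C relF 796 1237356000 1015808 2048 = true := by decide +kernel
theorem ck_497 : chkURangeF D C relF 796 1237356000 1017856 2048 = true := by decide +kernel
theorem ck_498 : chkURangeF D C relF 796 1237356000 1019904 2048 = true := by decide +kernel
theorem ck_499 : chkURangeF D C relF 796 1237356000 1021952 2048 = true := by decide +kernel
theorem ck_500 : chkURangeF D C relF 796 1237356000 1024000 2048 = true := by decide +kernel
theorem ck_501 : chkURangeF D C relF 796 1237356000 1026048 2048 = true := by decide +kernel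
theorem ck_502 : chkURangeF D C relF 796 1237356000 1028096 2048 = true := by decide +kernel
theorem ck_503 : chkURangeF D C relF 796 1237356000 1030144 2048 = true := by decide +kernel
theorem chkU_20 (b : ℕ) (h1 : 983040 ≤ b) (h2 : b < 1032192) : chkU D C b = true := by
  rcases Nat.lt_or_ge b 985088 with g0 | g0
  · exact chkURangeF_spec C relF_hyp 1237356000 tc_eq 983040 2048 ck_480 b (by omega) (by omega)
  rcases Nat.lt_or_ge b 987136 with g1 | g1
  · exact chkURangeF_spec C relF_hyp 1237356000 tc_eq 985088 2048 ck_481 b (by omega) (by omega)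
  rcases Nat.lt_or_ge b 989184 with g2 | g2
  · exact chkURangeF_spec C relF_hyp 1237356000 tc_eq 987136 2048 ck_482 b (by omega) (by omega)
  rcases Nat.lt_or_ge b 991232 with g3 | g3
  · exact chkURangeF_spec C relF_hyp 1237356000 tc_eq 989184 2048 ck_483 b (by omega) (by omega)
  rcases Nat.lt_or_ge b 993280 with g4 | g4
  · exact chkURangeF_spec C relF_hyp 1237356000 tc_eq 991232 2048 ck_484 b (by omega) (by omega)
  rcases Nat.lt_or_ge b 995328 with g5 | g5
  · exact chkURangeF_spec C relF_hyp 1237356000 tc_eq 993280 2048 ck_485 b (by omega) (by omega)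
  rcases Nat.lt_or_ge b 997376 with g6 | g6
  · exact chkURangeF_spec C relF_hyp 1237356000 tc_eq 995328 2048 ck_486 b (by omega) (by omega)
  rcases Nat.lt_or_ge b 999424 with g7 | g7
  · exact chkURangeF_spec C relF_hyp 1237356000 tc_eq 997376 2048 ck_487 b (by omega) (by omega)
  rcases Nat.lt_or_ge b 1001472 with g8 | g8
  · exact chkURangeF_spec C relF_hyp 1237356000 tc_eq 999424 2048 ck_488 b (by omega) (by omega)
  rcases Nat.lt_or_ge b 1003520 with g9 | g9
  · exact chkURangeF_spec C relF_hyp 1237356000 tc_eq 1001472 2048 ck_489 b (by omega) (by omega)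
  rcases Nat.lt_or_ge b 1005568 with g10 | g10
  · exact chkURangeF_spec C relF_hyp 1237356000 tc_eq 1003520 2048 ck_490 b (by omega) (by omega)
  rcases Nat.lt_or_ge b 1007616 with g11 | g11
  · exact chkURangeF_spec C relF_hyp 1237356000 tc_eq 1005568 2048 ck_491 b (by omega) (by omega)
  rcases Nat.lt_or_ge b 1009664 with g12 | g12
  · exact chkURangeF_spec C relF_hyp 1237356000 tc_eq 1007616 2048 ck_492 b (by omega) (by omega)
  rcases Nat.lt_or_ge b 1011712 with g13 | g13
  · exact chkURangeF_spec C relF_hyp 1237356000 tc_eq 1009664 2048 ck_493 b (by omega) (by omega)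
  rcases Nat.lt_or_ge b 1013760 with g14 | g14
  · exact chkURangeF_spec C relF_hyp 1237356000 tc_eq 1011712 2048 ck_494 b (by omega) (by omega)
  rcases Nat.lt_or_ge b 1015808 with g15 | g15
  · exact chkURangeF_spec C relF_hyp 1237356000 tc_eq 1013760 2048 ck_495 b (by omega) (by omega)
  rcases Nat.lt_or_ge b 1017856 with g16 | g16
  · exact chkURangeF_spec C relF_hyp 1237356000 tc_eq 1015808 2048 ck_496 b (by omega) (by omega)
  rcases Nat.lt_or_ge b 1019904 with g17 | g17
  · exact chkURangeF_spec C relF_hyp 1237356000 tc_eq 1017856 2048 ck_497 b (by omega) (by omega)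
  rcases Nat.lt_or_ge b 1021952 with g18 | g18
  · exact chkURangeF_spec C relF_hyp 1237356000 tc_eq 1019904 2048 ck_498 b (by omega) (by omega)
  rcases Nat.lt_or_ge b 1024000 with g19 | g19
  · exact chkURangeF_spec C relF_hyp 1237356000 tc_eq 1021952 2048 ck_499 b (by omega) (by omega)
  rcases Nat.lt_or_ge b 1026048 with g20 | g20
  · exact chkURangeF_spec C relF_hyp 1237356000 tc_eq 1024000 2048 ck_500 b (by omega) (by omega)
  rcases Nat.lt_or_ge b 1028096 with g21 | g21
  · exact chkURangeF_spec C relF_hyp 1237356000 tc_eq 1026048 2048 ck_501 b (by omega) (by omega)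
  rcases Nat.lt_or_ge b 1030144 with g22 | g22
  · exact chkURangeF_spec C relF_hyp 1237356000 tc_eq 1028096 2048 ck_502 b (by omega) (by omega)
  exact chkURangeF_spec C relF_hyp 1237356000 tc_eq 1030144 2048 ck_503 b (by omega) (by omega)
end Cfsg.Agent.Lib.Helper2.HNMult.P2
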