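import Cfsg.Agent.Lib.Helper2.HNMult.P2.Cert
set_option autoImplicit false
set_option maxRecDepth 1000000
set_option Elab.async false
namespace Cfsg.Agent.Lib.Helper2.HNMult.P2
open Cfsg.Agent.Lib.Helper4.Sparse Cfsg.Agent.Lib.Helper2.SparseF
theorem ck_4800 : chkURangeF D C relF 796 1237356000 9830400 2048 = true := by decide +kernel
theorem ck_4801 : chkURangeF D C relF 796 1237356000 9832448 2048 = true := by decide +kernel
theorem ck_4802 : chkURangeF D C relF 796 1237356000 9834496 2048 = true := by decide +kernel
theorem ck_4803 : chkURangeF D C relF 796 1237356000 9836544 2048 = true := by decide +kernel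
theorem ck_4804 : chkURangeF D C relF 796 1237356000 9838592 2048 = true := by decide +kernel
theorem ck_4805 : chkURangeF D C relF 796 1237356000 9840640 2048 = true := by decide +kernel
theorem ck_4806 : chkURangeF D C relF 796 1237356000 9842688 2048 = true := by decide +kernel
theorem ck_4807 : chkURangeF D C relF 796 1237356000 9844736 2048 = true := by decide +kernel
theorem ck_4808 : chkURangeF D C relF 796 1237356000 9846784 2048 = true := by decide +kernel
theorem ck_4809 : chkURangeF D C relF 796 1237356000 9848832 2048 = true := by decide +kernel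
theorem ck_4810 : chkURangeF D C relF 796 1237356000 9850880 2048 = true := by decide +kernel
theorem ck_4811 : chkURangeF D C relF 796 1237356000 9852928 2048 = true := by decide +kernel
theorem ck_4812 : chkURangeF D C relF 796 1237356000 9854976 2048 = true := by decide +kernel
theorem ck_4813 : chkURangeF D C relF 796 1237356000 9857024 2048 = true := by decide +kernel
theorem ck_4814 : chkURangeF D C relF 796 1237356000 9859072 2048 = true := by decide +kernel
theorem ck_4815 : chkURangeF D C relF 796 1237356000 9861120 2048 = true := by decide +kernel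
theorem ck_4816 : chkURangeF D C relF 796 1237356000 9863168 2048 = true := by decide +kernel
theorem ck_4817 : chkURangeF D C relF 796 1237356000 9865216 2048 = true := by decide +kernel
theorem ck_4818 : chkURangeF D C relF 796 1237356000 9867264 2048 = true := by decide +kernel
theorem ck_4819 : chkURangeF D C relF 796 1237356000 9869312 2048 = true := by decide +kernel
theorem ck_4820 : chkURangeF D C relF 796 1237356000 9871360 2048 = true := by decide +kernel
theorem ck_4821 : chkURangeF D C relF 796 1237356000 9873408 2048 = true := by decide +kernel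
theorem ck_4822 : chkURangeF D C relF 796 1237356000 9875456 2048 = true := by decide +kernel
theorem ck_4823 : chkURangeF D C relF 796 1237356000 9877504 2048 = true := by decide +kernel
theorem chkU_200 (b : ℕ) (h1 : 9830400 ≤ b) (h2 : b < 9879552) : chkU D C b = true := by
  rcases Nat.lt_or_ge b 9832448 with g0 | g0
  · exact chkURangeF_spec C relF_hyp 1237356000 tc_eq 9830400 2048 ck_4800 b (by omega) (by omega)
  rcases Nat.lt_or_ge b 9834496 with g1 | g1
  · exact chkURangeF_spec C relF_hyp 1237356000 tc_eq 9832448 2048 ck_4801 b (by omega) (by omega)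
  rcases Nat.lt_or_ge b 9836544 with g2 | g2
  · exact chkURangeF_spec C relF_hyp 1237356000 tc_eq 9834496 2048 ck_4802 b (by omega) (by omega)
  rcases Nat.lt_or_ge b 9838592 with g3 | g3
  · exact chkURangeF_spec C relF_hyp 1237356000 tc_eq 9836544 2048 ck_4803 b (by omega) (by omega)
  rcases Nat.lt_or_ge b 9840640 with g4 | g4
  · exact chkURangeF_spec C relF_hyp 1237356000 tc_eq 9838592 2048 ck_4804 b (by omega) (by omega)
  rcases Nat.lt_or_ge b 9842688 with g5 | g5
  · exact chkURangeF_spec C relF_hyp 1237356000 tc_eq 9840640 2048 ck_4805 b (by omega) (by omega)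
  rcases Nat.lt_or_ge b 9844736 with g6 | g6
  · exact chkURangeF_spec C relF_hyp 1237356000 tc_eq 9842688 2048 ck_4806 b (by omega) (by omega)
  rcases Nat.lt_or_ge b 9846784 with g7 | g7
  · exact chkURangeF_spec C relF_hyp 1237356000 tc_eq 9844736 2048 ck_4807 b (by omega) (by omega)
  rcases Nat.lt_or_ge b 9848832 with g8 | g8
  · exact chkURangeF_spec C relF_hyp 1237356000 tc_eq 9846784 2048 ck_4808 b (by omega) (by omega)
  rcases Nat.lt_or_ge b 9850880 with g9 | g9
  · exact chkURangeF_spec C relF_hyp 1237356000 tc_eq 9848832 2048 ck_4809 b (by omega) (by omega)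
  rcases Nat.lt_or_ge b 9852928 with g10 | g10
  · exact chkURangeF_spec C relF_hyp 1237356000 tc_eq 9850880 2048 ck_4810 b (by omega) (by omega)
  rcases Nat.lt_or_ge b 9854976 with g11 | g11
  · exact chkURangeF_spec C relF_hyp 1237356000 tc_eq 9852928 2048 ck_4811 b (by omega) (by omega)
  rcases Nat.lt_or_ge b 9857024 with g12 | g12
  · exact chkURangeF_spec C relF_hyp 1237356000 tc_eq 9854976 2048 ck_4812 b (by omega) (by omega)
  rcases Nat.lt_or_ge b 9859072 with g13 | g13
  · exact chkURangeF_spec C relF_hyp 1237356000 tc_eq 9857024 2048 ck_4813 b (by omega) (by omega)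
  rcases Nat.lt_or_ge b 9861120 with g14 | g14
  · exact chkURangeF_spec C relF_hyp 1237356000 tc_eq 9859072 2048 ck_4814 b (by omega) (by omega)
  rcases Nat.lt_or_ge b 9863168 with g15 | g15
  · exact chkURangeF_spec C relF_hyp 1237356000 tc_eq 9861120 2048 ck_4815 b (by omega) (by omega)
  rcases Nat.lt_or_ge b 9865216 with g16 | g16
  · exact chkURangeF_spec C relF_hyp 1237356000 tc_eq 9863168 2048 ck_4816 b (by omega) (by omega)
  rcases Nat.lt_or_ge b 9867264 with g17 | g17
  · exact chkURangeF_spec C relF_hyp 1237356000 tc_eq 9865216 2048 ck_4817 b (by omega) (by omega)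
  rcases Nat.lt_or_ge b 9869312 with g18 | g18
  · exact chkURangeF_spec C relF_hyp 1237356000 tc_eq 9867264 2048 ck_4818 b (by omega) (by omega)
  rcases Nat.lt_or_ge b 9871360 with g19 | g19
  · exact chkURangeF_spec C relF_hyp 1237356000 tc_eq 9869312 2048 ck_4819 b (by omega) (by omega)
  rcases Nat.lt_or_ge b 9873408 with g20 | g20
  · exact chkURangeF_spec C relF_hyp 1237356000 tc_eq 9871360 2048 ck_4820 b (by omega) (by omega)
  rcases Nat.lt_or_ge b 9875456 with g21 | g21
  · exact chkURangeF_spec C relF_hyp 1237356000 tc_eq 9873408 2048 ck_4821 b (by omega) (by omega)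
  rcases Nat.lt_or_ge b 9877504 with g22 | g22
  · exact chkURangeF_spec C relF_hyp 1237356000 tc_eq 9875456 2048 ck_4822 b (by omega) (by omega)
  exact chkURangeF_spec C relF_hyp 1237356000 tc_eq 9877504 2048 ck_4823 b (by omega) (by omega)
end Cfsg.Agent.Lib.Helper2.HNMult.P2
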