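import Cfsg.Agent.Lib.Helper2.HNMult.P2.Cert
set_option autoImplicit false
set_option maxRecDepth 1000000
set_option Elab.async false
namespace Cfsg.Agent.Lib.Helper2.HNMult.P2
open Cfsg.Agent.Lib.Helper4.Sparse Cfsg.Agent.Lib.Helper2.SparseF
theorem ck_4824 : chkURangeF D C relF 796 1237356000 9879552 2048 = true := by decide +kernel
theorem ck_4825 : chkURangeF D C relF 796 1237356000 9881600 2048 = true := by decide +kernel
theorem ck_4826 : chkURangeF D C relF 796 1237356000 9883648 2048 = true := by decide +kernel
theorem ck_4827 : chkURangeF D C relF 796 1237356000 9885696 2048 = true := by decide +kernel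
theorem ck_4828 : chkURangeF D C relF 796 1237356000 9887744 2048 = true := by decide +kernel
theorem ck_4829 : chkURangeF D C relF 796 1237356000 9889792 2048 = true := by decide +kernel
theorem ck_4830 : chkURangeF D C relF 796 1237356000 9891840 2048 = true := by decide +kernel
theorem ck_4831 : chkURangeF D C relF 796 1237356000 9893888 2048 = true := by decide +kernel
theorem ck_4832 : chkURangeF D C relF 796 1237356000 9895936 2048 = true := by decide +kernel
theorem ck_4833 : chkURangeF D C relF 796 1237356000 9897984 2048 = true := by decide +kernel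
theorem ck_4834 : chkURangeF D C relF 796 1237356000 9900032 2048 = true := by decide +kernel
theorem ck_4835 : chkURangeF D C relF 796 1237356000 9902080 2048 = true := by decide +kernel
theorem ck_4836 : chkURangeF D C relF 796 1237356000 9904128 2048 = true := by decide +kernel
theorem ck_4837 : chkURangeF D C relF 796 1237356000 9906176 2048 = true := by decide +kernel
theorem ck_4838 : chkURangeF D C relF 796 1237356000 9908224 2048 = true := by decide +kernel
theorem ck_4839 : chkURangeF D C relF 796 1237356000 9910272 2048 = true := by decide +kernel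
theorem ck_4840 : chkURangeF D C relF 796 1237356000 9912320 2048 = true := by decide +kernel
theorem ck_4841 : chkURangeF D C relF 796 1237356000 9914368 2048 = true := by decide +kernel
theorem ck_4842 : chkURangeF D C relF 796 1237356000 9916416 2048 = true := by decide +kernel
theorem ck_4843 : chkURangeF D C relF 796 1237356000 9918464 2048 = true := by decide +kernel
theorem ck_4844 : chkURangeF D C relF 796 1237356000 9920512 2048 = true := by decide +kernel
theorem ck_4845 : chkURangeF D C relF 796 1237356000 9922560 2048 = true := by decide +kernel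
theorem ck_4846 : chkURangeF D C relF 796 1237356000 9924608 2048 = true := by decide +kernel
theorem ck_4847 : chkURangeF D C relF 796 1237356000 9926656 2048 = true := by decide +kernel
theorem chkU_201 (b : ℕ) (h1 : 9879552 ≤ b) (h2 : b < 9928704) : chkU D C b = true := by
  rcases Nat.lt_or_ge b 9881600 with g0 | g0
  · exact chkURangeF_spec C relF_hyp 1237356000 tc_eq 9879552 2048 ck_4824 b (by omega) (by omega)
  rcases Nat.lt_or_ge b 9883648 with g1 | g1
  · exact chkURangeF_spec C relF_hyp 1237356000 tc_eq 9881600 2048 ck_4825 b (by omega) (by omega)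
  rcases Nat.lt_or_ge b 9885696 with g2 | g2
  · exact chkURangeF_spec C relF_hyp 1237356000 tc_eq 9883648 2048 ck_4826 b (by omega) (by omega)
  rcases Nat.lt_or_ge b 9887744 with g3 | g3
  · exact chkURangeF_spec C relF_hyp 1237356000 tc_eq 9885696 2048 ck_4827 b (by omega) (by omega)
  rcases Nat.lt_or_ge b 9889792 with g4 | g4
  · exact chkURangeF_spec C relF_hyp 1237356000 tc_eq 9887744 2048 ck_4828 b (by omega) (by omega)
  rcases Nat.lt_or_ge b 9891840 with g5 | g5
  · exact chkURangeF_spec C relF_hyp 1237356000 tc_eq 9889792 2048 ck_4829 b (by omega) (by omega)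
  rcases Nat.lt_or_ge b 9893888 with g6 | g6
  · exact chkURangeF_spec C relF_hyp 1237356000 tc_eq 9891840 2048 ck_4830 b (by omega) (by omega)
  rcases Nat.lt_or_ge b 9895936 with g7 | g7
  · exact chkURangeF_spec C relF_hyp 1237356000 tc_eq 9893888 2048 ck_4831 b (by omega) (by omega)
  rcases Nat.lt_or_ge b 9897984 with g8 | g8
  · exact chkURangeF_spec C relF_hyp 1237356000 tc_eq 9895936 2048 ck_4832 b (by omega) (by omega)
  rcases Nat.lt_or_ge b 9900032 with g9 | g9
  · exact chkURangeF_spec C relF_hyp 1237356000 tc_eq 9897984 2048 ck_4833 b (by omega) (by omega)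
  rcases Nat.lt_or_ge b 9902080 with g10 | g10
  · exact chkURangeF_spec C relF_hyp 1237356000 tc_eq 9900032 2048 ck_4834 b (by omega) (by omega)
  rcases Nat.lt_or_ge b 9904128 with g11 | g11
  · exact chkURangeF_spec C relF_hyp 1237356000 tc_eq 9902080 2048 ck_4835 b (by omega) (by omega)
  rcases Nat.lt_or_ge b 9906176 with g12 | g12
  · exact chkURangeF_spec C relF_hyp 1237356000 tc_eq 9904128 2048 ck_4836 b (by omega) (by omega)
  rcases Nat.lt_or_ge b 9908224 with g13 | g13
  · exact chkURangeF_spec C relF_hyp 1237356000 tc_eq 9906176 2048 ck_4837 b (by omega) (by omega)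
  rcases Nat.lt_or_ge b 9910272 with g14 | g14
  · exact chkURangeF_spec C relF_hyp 1237356000 tc_eq 9908224 2048 ck_4838 b (by omega) (by omega)
  rcases Nat.lt_or_ge b 9912320 with g15 | g15
  · exact chkURangeF_spec C relF_hyp 1237356000 tc_eq 9910272 2048 ck_4839 b (by omega) (by omega)
  rcases Nat.lt_or_ge b 9914368 with g16 | g16
  · exact chkURangeF_spec C relF_hyp 1237356000 tc_eq 9912320 2048 ck_4840 b (by omega) (by omega)
  rcases Nat.lt_or_ge b 9916416 with g17 | g17
  · exact chkURangeF_spec C relF_hyp 1237356000 tc_eq 9914368 2048 ck_4841 b (by omega) (by omega)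
  rcases Nat.lt_or_ge b 9918464 with g18 | g18
  · exact chkURangeF_spec C relF_hyp 1237356000 tc_eq 9916416 2048 ck_4842 b (by omega) (by omega)
  rcases Nat.lt_or_ge b 9920512 with g19 | g19
  · exact chkURangeF_spec C relF_hyp 1237356000 tc_eq 9918464 2048 ck_4843 b (by omega) (by omega)
  rcases Nat.lt_or_ge b 9922560 with g20 | g20
  · exact chkURangeF_spec C relF_hyp 1237356000 tc_eq 9920512 2048 ck_4844 b (by omega) (by omega)
  rcases Nat.lt_or_ge b 9924608 with g21 | g21
  · exact chkURangeF_spec C relF_hyp 1237356000 tc_eq 9922560 2048 ck_4845 b (by omega) (by omega)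
  rcases Nat.lt_or_ge b 9926656 with g22 | g22
  · exact chkURangeF_spec C relF_hyp 1237356000 tc_eq 9924608 2048 ck_4846 b (by omega) (by omega)
  exact chkURangeF_spec C relF_hyp 1237356000 tc_eq 9926656 2048 ck_4847 b (by omega) (by omega)
end Cfsg.Agent.Lib.Helper2.HNMult.P2
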