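import Cfsg.Agent.Lib.Helper2.HNMult.P2.Cert
set_option autoImplicit false
set_option maxRecDepth 1000000
set_option Elab.async false
namespace Cfsg.Agent.Lib.Helper2.HNMult.P2
open Cfsg.Agent.Lib.Helper4.Sparse Cfsg.Agent.Lib.Helper2.SparseF
theorem ck_4872 : chkURangeF D C relF 796 1237356000 9977856 2048 = true := by decide +kernel
theorem ck_4873 : chkURangeF D C relF 796 1237356000 9979904 2048 = true := by decide +kernel
theorem ck_4874 : chkURangeF D C relF 796 1237356000 9981952 2048 = true := by decide +kernel
theorem ck_4875 : chkURangeF D C relF 796 1237356000 9984000 2048 = true := by decide +kernel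
theorem ck_4876 : chkURangeF D C relF 796 1237356000 9986048 2048 = true := by decide +kernel
theorem ck_4877 : chkURangeF D C relF 796 1237356000 9988096 2048 = true := by decide +kernel
theorem ck_4878 : chkURangeF D C relF 796 1237356000 9990144 2048 = true := by decide +kernel
theorem ck_4879 : chkURangeF D C relF 796 1237356000 9992192 2048 = true := by decide +kernel
theorem ck_4880 : chkURangeF D C relF 796 1237356000 9994240 2048 = true := by decide +kernel
theorem ck_4881 : chkURangeF D C relF 796 1237356000 9996288 2048 = true := by decide +kernel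
theorem ck_4882 : chkURangeF D C relF 796 1237356000 9998336 2048 = true := by decide +kernel
theorem ck_4883 : chkURangeF D C relF 796 1237356000 10000384 2048 = true := by decide +kernel
theorem ck_4884 : chkURangeF D C relF 796 1237356000 10002432 2048 = true := by decide +kernel
theorem ck_4885 : chkURangeF D C relF 796 1237356000 10004480 2048 = true := by decide +kernel
theorem ck_4886 : chkURangeF D C relF 796 1237356000 10006528 2048 = true := by decide +kernel
theorem ck_4887 : chkURangeF D C relF 796 1237356000 10008576 2048 = true := by decide +kernel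
theorem ck_4888 : chkURangeF D C relF 796 1237356000 10010624 2048 = true := by decide +kernel
theorem ck_4889 : chkURangeF D C relF 796 1237356000 10012672 2048 = true := by decide +kernel
theorem ck_4890 : chkURangeF D C relF 796 1237356000 10014720 2048 = true := by decide +kernel
theorem ck_4891 : chkURangeF D C relF 796 1237356000 10016768 2048 = true := by decide +kernel
theorem ck_4892 : chkURangeF D C relF 796 1237356000 10018816 2048 = true := by decide +kernel
theorem ck_4893 : chkURangeF D C relF 796 1237356000 10020864 2048 = true := by decide +kernel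
theorem ck_4894 : chkURangeF D C relF 796 1237356000 10022912 2048 = true := by decide +kernel
theorem ck_4895 : chkURangeF D C relF 796 1237356000 10024960 2048 = true := by decide +kernel
theorem chkU_203 (b : ℕ) (h1 : 9977856 ≤ b) (h2 : b < 10027008) : chkU D C b = true := by
  rcases Nat.lt_or_ge b 9979904 with g0 | g0
  · exact chkURangeF_spec C relF_hyp 1237356000 tc_eq 9977856 2048 ck_4872 b (by omega) (by omega)
  rcases Nat.lt_or_ge b 9981952 with g1 | g1
  · exact chkURangeF_spec C relF_hyp 1237356000 tc_eq 9979904 2048 ck_4873 b (by omega) (by omega)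
  rcases Nat.lt_or_ge b 9984000 with g2 | g2
  · exact chkURangeF_spec C relF_hyp 1237356000 tc_eq 9981952 2048 ck_4874 b (by omega) (by omega)
  rcases Nat.lt_or_ge b 9986048 with g3 | g3
  · exact chkURangeF_spec C relF_hyp 1237356000 tc_eq 9984000 2048 ck_4875 b (by omega) (by omega)
  rcases Nat.lt_or_ge b 9988096 with g4 | g4
  · exact chkURangeF_spec C relF_hyp 1237356000 tc_eq 9986048 2048 ck_4876 b (by omega) (by omega)
  rcases Nat.lt_or_ge b 9990144 with g5 | g5
  · exact chkURangeF_spec C relF_hyp 1237356000 tc_eq 9988096 2048 ck_4877 b (by omega) (by omega)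
  rcases Nat.lt_or_ge b 9992192 with g6 | g6
  · exact chkURangeF_spec C relF_hyp 1237356000 tc_eq 9990144 2048 ck_4878 b (by omega) (by omega)
  rcases Nat.lt_or_ge b 9994240 with g7 | g7
  · exact chkURangeF_spec C relF_hyp 1237356000 tc_eq 9992192 2048 ck_4879 b (by omega) (by omega)
  rcases Nat.lt_or_ge b 9996288 with g8 | g8
  · exact chkURangeF_spec C relF_hyp 1237356000 tc_eq 9994240 2048 ck_4880 b (by omega) (by omega)
  rcases Nat.lt_or_ge b 9998336 with g9 | g9
  · exact chkURangeF_spec C relF_hyp 1237356000 tc_eq 9996288 2048 ck_4881 b (by omega) (by omega)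
  rcases Nat.lt_or_ge b 10000384 with g10 | g10
  · exact chkURangeF_spec C relF_hyp 1237356000 tc_eq 9998336 2048 ck_4882 b (by omega) (by omega)
  rcases Nat.lt_or_ge b 10002432 with g11 | g11
  · exact chkURangeF_spec C relF_hyp 1237356000 tc_eq 10000384 2048 ck_4883 b (by omega) (by omega)
  rcases Nat.lt_or_ge b 10004480 with g12 | g12
  · exact chkURangeF_spec C relF_hyp 1237356000 tc_eq 10002432 2048 ck_4884 b (by omega) (by omega)
  rcases Nat.lt_or_ge b 10006528 with g13 | g13
  · exact chkURangeF_spec C relF_hyp 1237356000 tc_eq 10004480 2048 ck_4885 b (by omega) (by omega)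
  rcases Nat.lt_or_ge b 10008576 with g14 | g14
  · exact chkURangeF_spec C relF_hyp 1237356000 tc_eq 10006528 2048 ck_4886 b (by omega) (by omega)
  rcases Nat.lt_or_ge b 10010624 with g15 | g15
  · exact chkURangeF_spec C relF_hyp 1237356000 tc_eq 10008576 2048 ck_4887 b (by omega) (by omega)
  rcases Nat.lt_or_ge b 10012672 with g16 | g16
  · exact chkURangeF_spec C relF_hyp 1237356000 tc_eq 10010624 2048 ck_4888 b (by omega) (by omega)
  rcases Nat.lt_or_ge b 10014720 with g17 | g17
  · exact chkURangeF_spec C relF_hyp 1237356000 tc_eq 10012672 2048 ck_4889 b (by omega) (by omega)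
  rcases Nat.lt_or_ge b 10016768 with g18 | g18
  · exact chkURangeF_spec C relF_hyp 1237356000 tc_eq 10014720 2048 ck_4890 b (by omega) (by omega)
  rcases Nat.lt_or_ge b 10018816 with g19 | g19
  · exact chkURangeF_spec C relF_hyp 1237356000 tc_eq 10016768 2048 ck_4891 b (by omega) (by omega)
  rcases Nat.lt_or_ge b 10020864 with g20 | g20
  · exact chkURangeF_spec C relF_hyp 1237356000 tc_eq 10018816 2048 ck_4892 b (by omega) (by omega)
  rcases Nat.lt_or_ge b 10022912 with g21 | g21
  · exact chkURangeF_spec C relF_hyp 1237356000 tc_eq 10020864 2048 ck_4893 b (by omega) (by omega)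
  rcases Nat.lt_or_ge b 10024960 with g22 | g22
  · exact chkURangeF_spec C relF_hyp 1237356000 tc_eq 10022912 2048 ck_4894 b (by omega) (by omega)
  exact chkURangeF_spec C relF_hyp 1237356000 tc_eq 10024960 2048 ck_4895 b (by omega) (by omega)
end Cfsg.Agent.Lib.Helper2.HNMult.P2
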