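import Cfsg.Agent.Lib.Helper2.HNMult.P2.Cert
set_option autoImplicit false
set_option maxRecDepth 1000000
set_option Elab.async false
namespace Cfsg.Agent.Lib.Helper2.HNMult.P2
open Cfsg.Agent.Lib.Helper4.Sparse Cfsg.Agent.Lib.Helper2.SparseF
theorem ck_4944 : chkURangeF D C relF 796 1237356000 10125312 2048 = true := by decide +kernel
theorem ck_4945 : chkURangeF D C relF 796 1237356000 10127360 2048 = true := by decide +kernel
theorem ck_4946 : chkURangeF D C relF 796 1237356000 10129408 2048 = true := by decide +kernel
theorem ck_4947 : chkURangeF D C relF 796 1237356000 10131456 2048 = true := by decide +kernel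
theorem ck_4948 : chkURangeF D C relF 796 1237356000 10133504 2048 = true := by decide +kernel
theorem ck_4949 : chkURangeF D C relF 796 1237356000 10135552 2048 = true := by decide +kernel
theorem ck_4950 : chkURangeF D C relF 796 1237356000 10137600 2048 = true := by decide +kernel
theorem ck_4951 : chkURangeF D C relF 796 1237356000 10139648 2048 = true := by decide +kernel
theorem ck_4952 : chkURangeF D C relF 796 1237356000 10141696 2048 = true := by decide +kernel
theorem ck_4953 : chkURangeF D C relF 796 1237356000 10143744 2048 = true := by decide +kernel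
theorem ck_4954 : chkURangeF D C relF 796 1237356000 10145792 2048 = true := by decide +kernel
theorem ck_4955 : chkURangeF D C relF 796 1237356000 10147840 2048 = true := by decide +kernel
theorem ck_4956 : chkURangeF D C relF 796 1237356000 10149888 2048 = true := by decide +kernel
theorem ck_4957 : chkURangeF D C relF 796 1237356000 10151936 2048 = true := by decide +kernel
theorem ck_4958 : chkURangeF D C relF 796 1237356000 10153984 2048 = true := by decide +kernel
theorem ck_4959 : chkURangeF D C relF 796 1237356000 10156032 2048 = true := by decide +kernel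
theorem ck_4960 : chkURangeF D C relF 796 1237356000 10158080 2048 = true := by decide +kernel
theorem ck_4961 : chkURangeF D C relF 796 1237356000 10160128 2048 = true := by decide +kernel
theorem ck_4962 : chkURangeF D C relF 796 1237356000 10162176 2048 = true := by decide +kernel
theorem ck_4963 : chkURangeF D C relF 796 1237356000 10164224 2048 = true := by decide +kernel
theorem ck_4964 : chkURangeF D C relF 796 1237356000 10166272 2048 = true := by decide +kernel
theorem ck_4965 : chkURangeF D C relF 796 1237356000 10168320 2048 = true := by decide +kernel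
theorem ck_4966 : chkURangeF D C relF 796 1237356000 10170368 2048 = true := by decide +kernel
theorem ck_4967 : chkURangeF D C relF 796 1237356000 10172416 2048 = true := by decide +kernel
theorem chkU_206 (b : ℕ) (h1 : 10125312 ≤ b) (h2 : b < 10174464) : chkU D C b = true := by
  rcases Nat.lt_or_ge b 10127360 with g0 | g0
  · exact chkURangeF_spec C relF_hyp 1237356000 tc_eq 10125312 2048 ck_4944 b (by omega) (by omega)
  rcases Nat.lt_or_ge b 10129408 with g1 | g1
  · exact chkURangeF_spec C relF_hyp 1237356000 tc_eq 10127360 2048 ck_4945 b (by omega) (by omega)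
  rcases Nat.lt_or_ge b 10131456 with g2 | g2
  · exact chkURangeF_spec C relF_hyp 1237356000 tc_eq 10129408 2048 ck_4946 b (by omega) (by omega)
  rcases Nat.lt_or_ge b 10133504 with g3 | g3
  · exact chkURangeF_spec C relF_hyp 1237356000 tc_eq 10131456 2048 ck_4947 b (by omega) (by omega)
  rcases Nat.lt_or_ge b 10135552 with g4 | g4
  · exact chkURangeF_spec C relF_hyp 1237356000 tc_eq 10133504 2048 ck_4948 b (by omega) (by omega)
  rcases Nat.lt_or_ge b 10137600 with g5 | g5
  · exact chkURangeF_spec C relF_hyp 1237356000 tc_eq 10135552 2048 ck_4949 b (by omega) (by omega)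
  rcases Nat.lt_or_ge b 10139648 with g6 | g6
  · exact chkURangeF_spec C relF_hyp 1237356000 tc_eq 10137600 2048 ck_4950 b (by omega) (by omega)
  rcases Nat.lt_or_ge b 10141696 with g7 | g7
  · exact chkURangeF_spec C relF_hyp 1237356000 tc_eq 10139648 2048 ck_4951 b (by omega) (by omega)
  rcases Nat.lt_or_ge b 10143744 with g8 | g8
  · exact chkURangeF_spec C relF_hyp 1237356000 tc_eq 10141696 2048 ck_4952 b (by omega) (by omega)
  rcases Nat.lt_or_ge b 10145792 with g9 | g9
  · exact chkURangeF_spec C relF_hyp 1237356000 tc_eq 10143744 2048 ck_4953 b (by omega) (by omega)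
  rcases Nat.lt_or_ge b 10147840 with g10 | g10
  · exact chkURangeF_spec C relF_hyp 1237356000 tc_eq 10145792 2048 ck_4954 b (by omega) (by omega)
  rcases Nat.lt_or_ge b 10149888 with g11 | g11
  · exact chkURangeF_spec C relF_hyp 1237356000 tc_eq 10147840 2048 ck_4955 b (by omega) (by omega)
  rcases Nat.lt_or_ge b 10151936 with g12 | g12
  · exact chkURangeF_spec C relF_hyp 1237356000 tc_eq 10149888 2048 ck_4956 b (by omega) (by omega)
  rcases Nat.lt_or_ge b 10153984 with g13 | g13
  · exact chkURangeF_spec C relF_hyp 1237356000 tc_eq 10151936 2048 ck_4957 b (by omega) (by omega)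
  rcases Nat.lt_or_ge b 10156032 with g14 | g14
  · exact chkURangeF_spec C relF_hyp 1237356000 tc_eq 10153984 2048 ck_4958 b (by omega) (by omega)
  rcases Nat.lt_or_ge b 10158080 with g15 | g15
  · exact chkURangeF_spec C relF_hyp 1237356000 tc_eq 10156032 2048 ck_4959 b (by omega) (by omega)
  rcases Nat.lt_or_ge b 10160128 with g16 | g16
  · exact chkURangeF_spec C relF_hyp 1237356000 tc_eq 10158080 2048 ck_4960 b (by omega) (by omega)
  rcases Nat.lt_or_ge b 10162176 with g17 | g17
  · exact chkURangeF_spec C relF_hyp 1237356000 tc_eq 10160128 2048 ck_4961 b (by omega) (by omega)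
  rcases Nat.lt_or_ge b 10164224 with g18 | g18
  · exact chkURangeF_spec C relF_hyp 1237356000 tc_eq 10162176 2048 ck_4962 b (by omega) (by omega)
  rcases Nat.lt_or_ge b 10166272 with g19 | g19
  · exact chkURangeF_spec C relF_hyp 1237356000 tc_eq 10164224 2048 ck_4963 b (by omega) (by omega)
  rcases Nat.lt_or_ge b 10168320 with g20 | g20
  · exact chkURangeF_spec C relF_hyp 1237356000 tc_eq 10166272 2048 ck_4964 b (by omega) (by omega)
  rcases Nat.lt_or_ge b 10170368 with g21 | g21
  · exact chkURangeF_spec C relF_hyp 1237356000 tc_eq 10168320 2048 ck_4965 b (by omega) (by omega)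
  rcases Nat.lt_or_ge b 10172416 with g22 | g22
  · exact chkURangeF_spec C relF_hyp 1237356000 tc_eq 10170368 2048 ck_4966 b (by omega) (by omega)
  exact chkURangeF_spec C relF_hyp 1237356000 tc_eq 10172416 2048 ck_4967 b (by omega) (by omega)
end Cfsg.Agent.Lib.Helper2.HNMult.P2
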