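import Cfsg.Agent.Lib.Helper2.HNMult.P2.Cert
set_option autoImplicit false
set_option maxRecDepth 1000000
set_option Elab.async false
namespace Cfsg.Agent.Lib.Helper2.HNMult.P2
open Cfsg.Agent.Lib.Helper4.Sparse Cfsg.Agent.Lib.Helper2.SparseF
theorem ck_4968 : chkURangeF D C relF 796 1237356000 10174464 2048 = true := by decide +kernel
theorem ck_4969 : chkURangeF D C relF 796 1237356000 10176512 2048 = true := by decide +kernel
theorem ck_4970 : chkURangeF D C relF 796 1237356000 10178560 2048 = true := by decide +kernel
theorem ck_4971 : chkURangeF D C relF 796 1237356000 10180608 2048 = true := by decide +kernel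
theorem ck_4972 : chkURangeF D C relF 796 1237356000 10182656 2048 = true := by decide +kernel
theorem ck_4973 : chkURangeF D C relF 796 1237356000 10184704 2048 = true := by decide +kernel
theorem ck_4974 : chkURangeF D C relF 796 1237356000 10186752 2048 = true := by decide +kernel
theorem ck_4975 : chkURangeF D C relF 796 1237356000 10188800 2048 = true := by decide +kernel
theorem ck_4976 : chkURangeF D C relF 796 1237356000 10190848 2048 = true := by decide +kernel
theorem ck_4977 : chkURangeF D C relF 796 1237356000 10192896 2048 = true := by decide +kernel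
theorem ck_4978 : chkURangeF D C relF 796 1237356000 10194944 2048 = true := by decide +kernel
theorem ck_4979 : chkURangeF D C relF 796 1237356000 10196992 2048 = true := by decide +kernel
theorem ck_4980 : chkURangeF D C relF 796 1237356000 10199040 2048 = true := by decide +kernel
theorem ck_4981 : chkURangeF D C relF 796 1237356000 10201088 2048 = true := by decide +kernel
theorem ck_4982 : chkURangeF D C relF 796 1237356000 10203136 2048 = true := by decide +kernel
theorem ck_4983 : chkURangeF D C relF 796 1237356000 10205184 2048 = true := by decide +kernel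
theorem ck_4984 : chkURangeF D C relF 796 1237356000 10207232 2048 = true := by decide +kernel
theorem ck_4985 : chkURangeF D C relF 796 1237356000 10209280 2048 = true := by decide +kernel
theorem ck_4986 : chkURangeF D C relF 796 1237356000 10211328 2048 = true := by decide +kernel
theorem ck_4987 : chkURangeF D C relF 796 1237356000 10213376 2048 = true := by decide +kernel
theorem ck_4988 : chkURangeF D C relF 796 1237356000 10215424 2048 = true := by decide +kernel
theorem ck_4989 : chkURangeF D C relF 796 1237356000 10217472 2048 = true := by decide +kernel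
theorem ck_4990 : chkURangeF D C relF 796 1237356000 10219520 2048 = true := by decide +kernel
theorem ck_4991 : chkURangeF D C relF 796 1237356000 10221568 2048 = true := by decide +kernel
theorem chkU_207 (b : ℕ) (h1 : 10174464 ≤ b) (h2 : b < 10223616) : chkU D C b = true := by
  rcases Nat.lt_or_ge b 10176512 with g0 | g0
  · exact chkURangeF_spec C relF_hyp 1237356000 tc_eq 10174464 2048 ck_4968 b (by omega) (by omega)
  rcases Nat.lt_or_ge b 10178560 with g1 | g1
  · exact chkURangeF_spec C relF_hyp 1237356000 tc_eq 10176512 2048 ck_4969 b (by omega) (by omega)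
  rcases Nat.lt_or_ge b 10180608 with g2 | g2
  · exact chkURangeF_spec C relF_hyp 1237356000 tc_eq 10178560 2048 ck_4970 b (by omega) (by omega)
  rcases Nat.lt_or_ge b 10182656 with g3 | g3
  · exact chkURangeF_spec C relF_hyp 1237356000 tc_eq 10180608 2048 ck_4971 b (by omega) (by omega)
  rcases Nat.lt_or_ge b 10184704 with g4 | g4
  · exact chkURangeF_spec C relF_hyp 1237356000 tc_eq 10182656 2048 ck_4972 b (by omega) (by omega)
  rcases Nat.lt_or_ge b 10186752 with g5 | g5
  · exact chkURangeF_spec C relF_hyp 1237356000 tc_eq 10184704 2048 ck_4973 b (by omega) (by omega)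
  rcases Nat.lt_or_ge b 10188800 with g6 | g6
  · exact chkURangeF_spec C relF_hyp 1237356000 tc_eq 10186752 2048 ck_4974 b (by omega) (by omega)
  rcases Nat.lt_or_ge b 10190848 with g7 | g7
  · exact chkURangeF_spec C relF_hyp 1237356000 tc_eq 10188800 2048 ck_4975 b (by omega) (by omega)
  rcases Nat.lt_or_ge b 10192896 with g8 | g8
  · exact chkURangeF_spec C relF_hyp 1237356000 tc_eq 10190848 2048 ck_4976 b (by omega) (by omega)
  rcases Nat.lt_or_ge b 10194944 with g9 | g9
  · exact chkURangeF_spec C relF_hyp 1237356000 tc_eq 10192896 2048 ck_4977 b (by omega) (by omega)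
  rcases Nat.lt_or_ge b 10196992 with g10 | g10
  · exact chkURangeF_spec C relF_hyp 1237356000 tc_eq 10194944 2048 ck_4978 b (by omega) (by omega)
  rcases Nat.lt_or_ge b 10199040 with g11 | g11
  · exact chkURangeF_spec C relF_hyp 1237356000 tc_eq 10196992 2048 ck_4979 b (by omega) (by omega)
  rcases Nat.lt_or_ge b 10201088 with g12 | g12
  · exact chkURangeF_spec C relF_hyp 1237356000 tc_eq 10199040 2048 ck_4980 b (by omega) (by omega)
  rcases Nat.lt_or_ge b 10203136 with g13 | g13
  · exact chkURangeF_spec C relF_hyp 1237356000 tc_eq 10201088 2048 ck_4981 b (by omega) (by omega)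
  rcases Nat.lt_or_ge b 10205184 with g14 | g14
  · exact chkURangeF_spec C relF_hyp 1237356000 tc_eq 10203136 2048 ck_4982 b (by omega) (by omega)
  rcases Nat.lt_or_ge b 10207232 with g15 | g15
  · exact chkURangeF_spec C relF_hyp 1237356000 tc_eq 10205184 2048 ck_4983 b (by omega) (by omega)
  rcases Nat.lt_or_ge b 10209280 with g16 | g16
  · exact chkURangeF_spec C relF_hyp 1237356000 tc_eq 10207232 2048 ck_4984 b (by omega) (by omega)
  rcases Nat.lt_or_ge b 10211328 with g17 | g17
  · exact chkURangeF_spec C relF_hyp 1237356000 tc_eq 10209280 2048 ck_4985 b (by omega) (by omega)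
  rcases Nat.lt_or_ge b 10213376 with g18 | g18
  · exact chkURangeF_spec C relF_hyp 1237356000 tc_eq 10211328 2048 ck_4986 b (by omega) (by omega)
  rcases Nat.lt_or_ge b 10215424 with g19 | g19
  · exact chkURangeF_spec C relF_hyp 1237356000 tc_eq 10213376 2048 ck_4987 b (by omega) (by omega)
  rcases Nat.lt_or_ge b 10217472 with g20 | g20
  · exact chkURangeF_spec C relF_hyp 1237356000 tc_eq 10215424 2048 ck_4988 b (by omega) (by omega)
  rcases Nat.lt_or_ge b 10219520 with g21 | g21
  · exact chkURangeF_spec C relF_hyp 1237356000 tc_eq 10217472 2048 ck_4989 b (by omega) (by omega)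
  rcases Nat.lt_or_ge b 10221568 with g22 | g22
  · exact chkURangeF_spec C relF_hyp 1237356000 tc_eq 10219520 2048 ck_4990 b (by omega) (by omega)
  exact chkURangeF_spec C relF_hyp 1237356000 tc_eq 10221568 2048 ck_4991 b (by omega) (by omega)
end Cfsg.Agent.Lib.Helper2.HNMult.P2
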