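import Cfsg.Agent.Lib.Helper2.HNMult.P2.Cert
set_option autoImplicit false
set_option maxRecDepth 1000000
set_option Elab.async false
namespace Cfsg.Agent.Lib.Helper2.HNMult.P2
open Cfsg.Agent.Lib.Helper4.Sparse Cfsg.Agent.Lib.Helper2.SparseF
theorem ck_4992 : chkURangeF D C relF 796 1237356000 10223616 2048 = true := by decide +kernel
theorem ck_4993 : chkURangeF D C relF 796 1237356000 10225664 2048 = true := by decide +kernel
theorem ck_4994 : chkURangeF D C relF 796 1237356000 10227712 2048 = true := by decide +kernel
theorem ck_4995 : chkURangeF D C relF 796 1237356000 10229760 2048 = true := by decide +kernel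
theorem ck_4996 : chkURangeF D C relF 796 1237356000 10231808 2048 = true := by decide +kernel
theorem ck_4997 : chkURangeF D C relF 796 1237356000 10233856 2048 = true := by decide +kernel
theorem ck_4998 : chkURangeF D C relF 796 1237356000 10235904 2048 = true := by decide +kernel
theorem ck_4999 : chkURangeF D C relF 796 1237356000 10237952 2048 = true := by decide +kernel
theorem ck_5000 : chkURangeF D C relF 796 1237356000 10240000 2048 = true := by decide +kernel
theorem ck_5001 : chkURangeF D C relF 796 1237356000 10242048 2048 = true := by decide +kernel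
theorem ck_5002 : chkURangeF D C relF 796 1237356000 10244096 2048 = true := by decide +kernel
theorem ck_5003 : chkURangeF D C relF 796 1237356000 10246144 2048 = true := by decide +kernel
theorem ck_5004 : chkURangeF D C relF 796 1237356000 10248192 2048 = true := by decide +kernel
theorem ck_5005 : chkURangeF D C relF 796 1237356000 10250240 2048 = true := by decide +kernel
theorem ck_5006 : chkURangeF D C relF 796 1237356000 10252288 2048 = true := by decide +kernel
theorem ck_5007 : chkURangeF D C relF 796 1237356000 10254336 2048 = true := by decide +kernel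
theorem ck_5008 : chkURangeF D C relF 796 1237356000 10256384 2048 = true := by decide +kernel
theorem ck_5009 : chkURangeF D C relF 796 1237356000 10258432 2048 = true := by decide +kernel
theorem ck_5010 : chkURangeF D C relF 796 1237356000 10260480 2048 = true := by decide +kernel
theorem ck_5011 : chkURangeF D C relF 796 1237356000 10262528 2048 = true := by decide +kernel
theorem ck_5012 : chkURangeF D C relF 796 1237356000 10264576 2048 = true := by decide +kernel
theorem ck_5013 : chkURangeF D C relF 796 1237356000 10266624 2048 = true := by decide +kernel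
theorem ck_5014 : chkURangeF D C relF 796 1237356000 10268672 2048 = true := by decide +kernel
theorem ck_5015 : chkURangeF D C relF 796 1237356000 10270720 2048 = true := by decide +kernel
theorem chkU_208 (b : ℕ) (h1 : 10223616 ≤ b) (h2 : b < 10272768) : chkU D C b = true := by
  rcases Nat.lt_or_ge b 10225664 with g0 | g0
  · exact chkURangeF_spec C relF_hyp 1237356000 tc_eq 10223616 2048 ck_4992 b (by omega) (by omega)
  rcases Nat.lt_or_ge b 10227712 with g1 | g1
  · exact chkURangeF_spec C relF_hyp 1237356000 tc_eq 10225664 2048 ck_4993 b (by omega) (by omega)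
  rcases Nat.lt_or_ge b 10229760 with g2 | g2
  · exact chkURangeF_spec C relF_hyp 1237356000 tc_eq 10227712 2048 ck_4994 b (by omega) (by omega)
  rcases Nat.lt_or_ge b 10231808 with g3 | g3
  · exact chkURangeF_spec C relF_hyp 1237356000 tc_eq 10229760 2048 ck_4995 b (by omega) (by omega)
  rcases Nat.lt_or_ge b 10233856 with g4 | g4
  · exact chkURangeF_spec C relF_hyp 1237356000 tc_eq 10231808 2048 ck_4996 b (by omega) (by omega)
  rcases Nat.lt_or_ge b 10235904 with g5 | g5
  · exact chkURangeF_spec C relF_hyp 1237356000 tc_eq 10233856 2048 ck_4997 b (by omega) (by omega)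
  rcases Nat.lt_or_ge b 10237952 with g6 | g6
  · exact chkURangeF_spec C relF_hyp 1237356000 tc_eq 10235904 2048 ck_4998 b (by omega) (by omega)
  rcases Nat.lt_or_ge b 10240000 with g7 | g7
  · exact chkURangeF_spec C relF_hyp 1237356000 tc_eq 10237952 2048 ck_4999 b (by omega) (by omega)
  rcases Nat.lt_or_ge b 10242048 with g8 | g8
  · exact chkURangeF_spec C relF_hyp 1237356000 tc_eq 10240000 2048 ck_5000 b (by omega) (by omega)
  rcases Nat.lt_or_ge b 10244096 with g9 | g9
  · exact chkURangeF_spec C relF_hyp 1237356000 tc_eq 10242048 2048 ck_5001 b (by omega) (by omega)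
  rcases Nat.lt_or_ge b 10246144 with g10 | g10
  · exact chkURangeF_spec C relF_hyp 1237356000 tc_eq 10244096 2048 ck_5002 b (by omega) (by omega)
  rcases Nat.lt_or_ge b 10248192 with g11 | g11
  · exact chkURangeF_spec C relF_hyp 1237356000 tc_eq 10246144 2048 ck_5003 b (by omega) (by omega)
  rcases Nat.lt_or_ge b 10250240 with g12 | g12
  · exact chkURangeF_spec C relF_hyp 1237356000 tc_eq 10248192 2048 ck_5004 b (by omega) (by omega)
  rcases Nat.lt_or_ge b 10252288 with g13 | g13
  · exact chkURangeF_spec C relF_hyp 1237356000 tc_eq 10250240 2048 ck_5005 b (by omega) (by omega)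
  rcases Nat.lt_or_ge b 10254336 with g14 | g14
  · exact chkURangeF_spec C relF_hyp 1237356000 tc_eq 10252288 2048 ck_5006 b (by omega) (by omega)
  rcases Nat.lt_or_ge b 10256384 with g15 | g15
  · exact chkURangeF_spec C relF_hyp 1237356000 tc_eq 10254336 2048 ck_5007 b (by omega) (by omega)
  rcases Nat.lt_or_ge b 10258432 with g16 | g16
  · exact chkURangeF_spec C relF_hyp 1237356000 tc_eq 10256384 2048 ck_5008 b (by omega) (by omega)
  rcases Nat.lt_or_ge b 10260480 with g17 | g17
  · exact chkURangeF_spec C relF_hyp 1237356000 tc_eq 10258432 2048 ck_5009 b (by omega) (by omega)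
  rcases Nat.lt_or_ge b 10262528 with g18 | g18
  · exact chkURangeF_spec C relF_hyp 1237356000 tc_eq 10260480 2048 ck_5010 b (by omega) (by omega)
  rcases Nat.lt_or_ge b 10264576 with g19 | g19
  · exact chkURangeF_spec C relF_hyp 1237356000 tc_eq 10262528 2048 ck_5011 b (by omega) (by omega)
  rcases Nat.lt_or_ge b 10266624 with g20 | g20
  · exact chkURangeF_spec C relF_hyp 1237356000 tc_eq 10264576 2048 ck_5012 b (by omega) (by omega)
  rcases Nat.lt_or_ge b 10268672 with g21 | g21
  · exact chkURangeF_spec C relF_hyp 1237356000 tc_eq 10266624 2048 ck_5013 b (by omega) (by omega)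
  rcases Nat.lt_or_ge b 10270720 with g22 | g22
  · exact chkURangeF_spec C relF_hyp 1237356000 tc_eq 10268672 2048 ck_5014 b (by omega) (by omega)
  exact chkURangeF_spec C relF_hyp 1237356000 tc_eq 10270720 2048 ck_5015 b (by omega) (by omega)
end Cfsg.Agent.Lib.Helper2.HNMult.P2
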