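import Cfsg.Agent.Lib.Helper2.HNMult.P2.Cert
set_option autoImplicit false
set_option maxRecDepth 1000000
set_option Elab.async false
namespace Cfsg.Agent.Lib.Helper2.HNMult.P2
open Cfsg.Agent.Lib.Helper4.Sparse Cfsg.Agent.Lib.Helper2.SparseF
theorem ck_5088 : chkURangeF D C relF 796 1237356000 10420224 2048 = true := by decide +kernel
theorem ck_5089 : chkURangeF D C relF 796 1237356000 10422272 2048 = true := by decide +kernel
theorem ck_5090 : chkURangeF D C relF 796 1237356000 10424320 2048 = true := by decide +kernel
theorem ck_5091 : chkURangeF D C relF 796 1237356000 10426368 2048 = true := by decide +kernel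
theorem ck_5092 : chkURangeF D C relF 796 1237356000 10428416 2048 = true := by decide +kernel
theorem ck_5093 : chkURangeF D C relF 796 1237356000 10430464 2048 = true := by decide +kernel
theorem ck_5094 : chkURangeF D C relF 796 1237356000 10432512 2048 = true := by decide +kernel
theorem ck_5095 : chkURangeF D C relF 796 1237356000 10434560 2048 = true := by decide +kernel
theorem ck_5096 : chkURangeF D C relF 796 1237356000 10436608 2048 = true := by decide +kernel
theorem ck_5097 : chkURangeF D C relF 796 1237356000 10438656 2048 = true := by decide +kernel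
theorem ck_5098 : chkURangeF D C relF 796 1237356000 10440704 2048 = true := by decide +kernel
theorem ck_5099 : chkURangeF D C relF 796 1237356000 10442752 2048 = true := by decide +kernel
theorem ck_5100 : chkURangeF D C relF 796 1237356000 10444800 2048 = true := by decide +kernel
theorem ck_5101 : chkURangeF D C relF 796 1237356000 10446848 2048 = true := by decide +kernel
theorem ck_5102 : chkURangeF D C relF 796 1237356000 10448896 2048 = true := by decide +kernel
theorem ck_5103 : chkURangeF D C relF 796 1237356000 10450944 2048 = true := by decide +kernel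
theorem ck_5104 : chkURangeF D C relF 796 1237356000 10452992 2048 = true := by decide +kernel
theorem ck_5105 : chkURangeF D C relF 796 1237356000 10455040 2048 = true := by decide +kernel
theorem ck_5106 : chkURangeF D C relF 796 1237356000 10457088 2048 = true := by decide +kernel
theorem ck_5107 : chkURangeF D C relF 796 1237356000 10459136 2048 = true := by decide +kernel
theorem ck_5108 : chkURangeF D C relF 796 1237356000 10461184 2048 = true := by decide +kernel
theorem ck_5109 : chkURangeF D C relF 796 1237356000 10463232 2048 = true := by decide +kernel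
theorem ck_5110 : chkURangeF D C relF 796 1237356000 10465280 2048 = true := by decide +kernel
theorem ck_5111 : chkURangeF D C relF 796 1237356000 10467328 2048 = true := by decide +kernel
theorem chkU_212 (b : ℕ) (h1 : 10420224 ≤ b) (h2 : b < 10469376) : chkU D C b = true := by
  rcases Nat.lt_or_ge b 10422272 with g0 | g0
  · exact chkURangeF_spec C relF_hyp 1237356000 tc_eq 10420224 2048 ck_5088 b (by omega) (by omega)
  rcases Nat.lt_or_ge b 10424320 with g1 | g1
  · exact chkURangeF_spec C relF_hyp 1237356000 tc_eq 10422272 2048 ck_5089 b (by omega) (by omega)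
  rcases Nat.lt_or_ge b 10426368 with g2 | g2
  · exact chkURangeF_spec C relF_hyp 1237356000 tc_eq 10424320 2048 ck_5090 b (by omega) (by omega)
  rcases Nat.lt_or_ge b 10428416 with g3 | g3
  · exact chkURangeF_spec C relF_hyp 1237356000 tc_eq 10426368 2048 ck_5091 b (by omega) (by omega)
  rcases Nat.lt_or_ge b 10430464 with g4 | g4
  · exact chkURangeF_spec C relF_hyp 1237356000 tc_eq 10428416 2048 ck_5092 b (by omega) (by omega)
  rcases Nat.lt_or_ge b 10432512 with g5 | g5
  · exact chkURangeF_spec C relF_hyp 1237356000 tc_eq 10430464 2048 ck_5093 b (by omega) (by omega)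
  rcases Nat.lt_or_ge b 10434560 with g6 | g6
  · exact chkURangeF_spec C relF_hyp 1237356000 tc_eq 10432512 2048 ck_5094 b (by omega) (by omega)
  rcases Nat.lt_or_ge b 10436608 with g7 | g7
  · exact chkURangeF_spec C relF_hyp 1237356000 tc_eq 10434560 2048 ck_5095 b (by omega) (by omega)
  rcases Nat.lt_or_ge b 10438656 with g8 | g8
  · exact chkURangeF_spec C relF_hyp 1237356000 tc_eq 10436608 2048 ck_5096 b (by omega) (by omega)
  rcases Nat.lt_or_ge b 10440704 with g9 | g9
  · exact chkURangeF_spec C relF_hyp 1237356000 tc_eq 10438656 2048 ck_5097 b (by omega) (by omega)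
  rcases Nat.lt_or_ge b 10442752 with g10 | g10
  · exact chkURangeF_spec C relF_hyp 1237356000 tc_eq 10440704 2048 ck_5098 b (by omega) (by omega)
  rcases Nat.lt_or_ge b 10444800 with g11 | g11
  · exact chkURangeF_spec C relF_hyp 1237356000 tc_eq 10442752 2048 ck_5099 b (by omega) (by omega)
  rcases Nat.lt_or_ge b 10446848 with g12 | g12
  · exact chkURangeF_spec C relF_hyp 1237356000 tc_eq 10444800 2048 ck_5100 b (by omega) (by omega)
  rcases Nat.lt_or_ge b 10448896 with g13 | g13
  · exact chkURangeF_spec C relF_hyp 1237356000 tc_eq 10446848 2048 ck_5101 b (by omega) (by omega)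
  rcases Nat.lt_or_ge b 10450944 with g14 | g14
  · exact chkURangeF_spec C relF_hyp 1237356000 tc_eq 10448896 2048 ck_5102 b (by omega) (by omega)
  rcases Nat.lt_or_ge b 10452992 with g15 | g15
  · exact chkURangeF_spec C relF_hyp 1237356000 tc_eq 10450944 2048 ck_5103 b (by omega) (by omega)
  rcases Nat.lt_or_ge b 10455040 with g16 | g16
  · exact chkURangeF_spec C relF_hyp 1237356000 tc_eq 10452992 2048 ck_5104 b (by omega) (by omega)
  rcases Nat.lt_or_ge b 10457088 with g17 | g17
  · exact chkURangeF_spec C relF_hyp 1237356000 tc_eq 10455040 2048 ck_5105 b (by omega) (by omega)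
  rcases Nat.lt_or_ge b 10459136 with g18 | g18
  · exact chkURangeF_spec C relF_hyp 1237356000 tc_eq 10457088 2048 ck_5106 b (by omega) (by omega)
  rcases Nat.lt_or_ge b 10461184 with g19 | g19
  · exact chkURangeF_spec C relF_hyp 1237356000 tc_eq 10459136 2048 ck_5107 b (by omega) (by omega)
  rcases Nat.lt_or_ge b 10463232 with g20 | g20
  · exact chkURangeF_spec C relF_hyp 1237356000 tc_eq 10461184 2048 ck_5108 b (by omega) (by omega)
  rcases Nat.lt_or_ge b 10465280 with g21 | g21
  · exact chkURangeF_spec C relF_hyp 1237356000 tc_eq 10463232 2048 ck_5109 b (by omega) (by omega)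
  rcases Nat.lt_or_ge b 10467328 with g22 | g22
  · exact chkURangeF_spec C relF_hyp 1237356000 tc_eq 10465280 2048 ck_5110 b (by omega) (by omega)
  exact chkURangeF_spec C relF_hyp 1237356000 tc_eq 10467328 2048 ck_5111 b (by omega) (by omega)
end Cfsg.Agent.Lib.Helper2.HNMult.P2
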