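import Cfsg.Agent.Lib.Helper2.HNMult.P2.Cert
set_option autoImplicit false
set_option maxRecDepth 1000000
set_option Elab.async false
namespace Cfsg.Agent.Lib.Helper2.HNMult.P2
open Cfsg.Agent.Lib.Helper4.Sparse Cfsg.Agent.Lib.Helper2.SparseF
theorem ck_5136 : chkURangeF D C relF 796 1237356000 10518528 2048 = true := by decide +kernel
theorem ck_5137 : chkURangeF D C relF 796 1237356000 10520576 2048 = true := by decide +kernel
theorem ck_5138 : chkURangeF D C relF 796 1237356000 10522624 2048 = true := by decide +kernel
theorem ck_5139 : chkURangeF D C relF 796 1237356000 10524672 2048 = true := by decide +kernel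
theorem ck_5140 : chkURangeF D C relF 796 1237356000 10526720 2048 = true := by decide +kernel
theorem ck_5141 : chkURangeF D C relF 796 1237356000 10528768 2048 = true := by decide +kernel
theorem ck_5142 : chkURangeF D C relF 796 1237356000 10530816 2048 = true := by decide +kernel
theorem ck_5143 : chkURangeF D C relF 796 1237356000 10532864 2048 = true := by decide +kernel
theorem ck_5144 : chkURangeF D C relF 796 1237356000 10534912 2048 = true := by decide +kernel
theorem ck_5145 : chkURangeF D C relF 796 1237356000 10536960 2048 = true := by decide +kernel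
theorem ck_5146 : chkURangeF D C relF 796 1237356000 10539008 2048 = true := by decide +kernel
theorem ck_5147 : chkURangeF D C relF 796 1237356000 10541056 2048 = true := by decide +kernel
theorem ck_5148 : chkURangeF D C relF 796 1237356000 10543104 2048 = true := by decide +kernel
theorem ck_5149 : chkURangeF D C relF 796 1237356000 10545152 2048 = true := by decide +kernel
theorem ck_5150 : chkURangeF D C relF 796 1237356000 10547200 2048 = true := by decide +kernel
theorem ck_5151 : chkURangeF D C relF 796 1237356000 10549248 2048 = true := by decide +kernel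
theorem ck_5152 : chkURangeF D C relF 796 1237356000 10551296 2048 = true := by decide +kernel
theorem ck_5153 : chkURangeF D C relF 796 1237356000 10553344 2048 = true := by decide +kernel
theorem ck_5154 : chkURangeF D C relF 796 1237356000 10555392 2048 = true := by decide +kernel
theorem ck_5155 : chkURangeF D C relF 796 1237356000 10557440 2048 = true := by decide +kernel
theorem ck_5156 : chkURangeF D C relF 796 1237356000 10559488 2048 = true := by decide +kernel
theorem ck_5157 : chkURangeF D C relF 796 1237356000 10561536 2048 = true := by decide +kernel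
theorem ck_5158 : chkURangeF D C relF 796 1237356000 10563584 2048 = true := by decide +kernel
theorem ck_5159 : chkURangeF D C relF 796 1237356000 10565632 2048 = true := by decide +kernel
theorem chkU_214 (b : ℕ) (h1 : 10518528 ≤ b) (h2 : b < 10567680) : chkU D C b = true := by
  rcases Nat.lt_or_ge b 10520576 with g0 | g0
  · exact chkURangeF_spec C relF_hyp 1237356000 tc_eq 10518528 2048 ck_5136 b (by omega) (by omega)
  rcases Nat.lt_or_ge b 10522624 with g1 | g1
  · exact chkURangeF_spec C relF_hyp 1237356000 tc_eq 10520576 2048 ck_5137 b (by omega) (by omega)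
  rcases Nat.lt_or_ge b 10524672 with g2 | g2
  · exact chkURangeF_spec C relF_hyp 1237356000 tc_eq 10522624 2048 ck_5138 b (by omega) (by omega)
  rcases Nat.lt_or_ge b 10526720 with g3 | g3
  · exact chkURangeF_spec C relF_hyp 1237356000 tc_eq 10524672 2048 ck_5139 b (by omega) (by omega)
  rcases Nat.lt_or_ge b 10528768 with g4 | g4
  · exact chkURangeF_spec C relF_hyp 1237356000 tc_eq 10526720 2048 ck_5140 b (by omega) (by omega)
  rcases Nat.lt_or_ge b 10530816 with g5 | g5
  · exact chkURangeF_spec C relF_hyp 1237356000 tc_eq 10528768 2048 ck_5141 b (by omega) (by omega)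
  rcases Nat.lt_or_ge b 10532864 with g6 | g6
  · exact chkURangeF_spec C relF_hyp 1237356000 tc_eq 10530816 2048 ck_5142 b (by omega) (by omega)
  rcases Nat.lt_or_ge b 10534912 with g7 | g7
  · exact chkURangeF_spec C relF_hyp 1237356000 tc_eq 10532864 2048 ck_5143 b (by omega) (by omega)
  rcases Nat.lt_or_ge b 10536960 with g8 | g8
  · exact chkURangeF_spec C relF_hyp 1237356000 tc_eq 10534912 2048 ck_5144 b (by omega) (by omega)
  rcases Nat.lt_or_ge b 10539008 with g9 | g9
  · exact chkURangeF_spec C relF_hyp 1237356000 tc_eq 10536960 2048 ck_5145 b (by omega) (by omega)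
  rcases Nat.lt_or_ge b 10541056 with g10 | g10
  · exact chkURangeF_spec C relF_hyp 1237356000 tc_eq 10539008 2048 ck_5146 b (by omega) (by omega)
  rcases Nat.lt_or_ge b 10543104 with g11 | g11
  · exact chkURangeF_spec C relF_hyp 1237356000 tc_eq 10541056 2048 ck_5147 b (by omega) (by omega)
  rcases Nat.lt_or_ge b 10545152 with g12 | g12
  · exact chkURangeF_spec C relF_hyp 1237356000 tc_eq 10543104 2048 ck_5148 b (by omega) (by omega)
  rcases Nat.lt_or_ge b 10547200 with g13 | g13
  · exact chkURangeF_spec C relF_hyp 1237356000 tc_eq 10545152 2048 ck_5149 b (by omega) (by omega)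
  rcases Nat.lt_or_ge b 10549248 with g14 | g14
  · exact chkURangeF_spec C relF_hyp 1237356000 tc_eq 10547200 2048 ck_5150 b (by omega) (by omega)
  rcases Nat.lt_or_ge b 10551296 with g15 | g15
  · exact chkURangeF_spec C relF_hyp 1237356000 tc_eq 10549248 2048 ck_5151 b (by omega) (by omega)
  rcases Nat.lt_or_ge b 10553344 with g16 | g16
  · exact chkURangeF_spec C relF_hyp 1237356000 tc_eq 10551296 2048 ck_5152 b (by omega) (by omega)
  rcases Nat.lt_or_ge b 10555392 with g17 | g17
  · exact chkURangeF_spec C relF_hyp 1237356000 tc_eq 10553344 2048 ck_5153 b (by omega) (by omega)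
  rcases Nat.lt_or_ge b 10557440 with g18 | g18
  · exact chkURangeF_spec C relF_hyp 1237356000 tc_eq 10555392 2048 ck_5154 b (by omega) (by omega)
  rcases Nat.lt_or_ge b 10559488 with g19 | g19
  · exact chkURangeF_spec C relF_hyp 1237356000 tc_eq 10557440 2048 ck_5155 b (by omega) (by omega)
  rcases Nat.lt_or_ge b 10561536 with g20 | g20
  · exact chkURangeF_spec C relF_hyp 1237356000 tc_eq 10559488 2048 ck_5156 b (by omega) (by omega)
  rcases Nat.lt_or_ge b 10563584 with g21 | g21
  · exact chkURangeF_spec C relF_hyp 1237356000 tc_eq 10561536 2048 ck_5157 b (by omega) (by omega)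
  rcases Nat.lt_or_ge b 10565632 with g22 | g22
  · exact chkURangeF_spec C relF_hyp 1237356000 tc_eq 10563584 2048 ck_5158 b (by omega) (by omega)
  exact chkURangeF_spec C relF_hyp 1237356000 tc_eq 10565632 2048 ck_5159 b (by omega) (by omega)
end Cfsg.Agent.Lib.Helper2.HNMult.P2
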