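import Cfsg.Agent.Lib.Helper2.HNMult.P2.Cert
set_option autoImplicit false
set_option maxRecDepth 1000000
set_option Elab.async false
namespace Cfsg.Agent.Lib.Helper2.HNMult.P2
open Cfsg.Agent.Lib.Helper4.Sparse Cfsg.Agent.Lib.Helper2.SparseF
theorem ck_5160 : chkURangeF D C relF 796 1237356000 10567680 2048 = true := by decide +kernel
theorem ck_5161 : chkURangeF D C relF 796 1237356000 10569728 2048 = true := by decide +kernel
theorem ck_5162 : chkURangeF D C relF 796 1237356000 10571776 2048 = true := by decide +kernel
theorem ck_5163 : chkURangeF D C relF 796 1237356000 10573824 2048 = true := by decide +kernel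
theorem ck_5164 : chkURangeF D C relF 796 1237356000 10575872 2048 = true := by decide +kernel
theorem ck_5165 : chkURangeF D C relF 796 1237356000 10577920 2048 = true := by decide +kernel
theorem ck_5166 : chkURangeF D C relF 796 1237356000 10579968 2048 = true := by decide +kernel
theorem ck_5167 : chkURangeF D C relF 796 1237356000 10582016 2048 = true := by decide +kernel
theorem ck_5168 : chkURangeF D C relF 796 1237356000 10584064 2048 = true := by decide +kernel
theorem ck_5169 : chkURangeF D C relF 796 1237356000 10586112 2048 = true := by decide +kernel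
theorem ck_5170 : chkURangeF D C relF 796 1237356000 10588160 2048 = true := by decide +kernel
theorem ck_5171 : chkURangeF D C relF 796 1237356000 10590208 2048 = true := by decide +kernel
theorem ck_5172 : chkURangeF D C relF 796 1237356000 10592256 2048 = true := by decide +kernel
theorem ck_5173 : chkURangeF D C relF 796 1237356000 10594304 2048 = true := by decide +kernel
theorem ck_5174 : chkURangeF D C relF 796 1237356000 10596352 2048 = true := by decide +kernel
theorem ck_5175 : chkURangeF D C relF 796 1237356000 10598400 2048 = true := by decide +kernel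
theorem ck_5176 : chkURangeF D C relF 796 1237356000 10600448 2048 = true := by decide +kernel
theorem ck_5177 : chkURangeF D C relF 796 1237356000 10602496 2048 = true := by decide +kernel
theorem ck_5178 : chkURangeF D C relF 796 1237356000 10604544 2048 = true := by decide +kernel
theorem ck_5179 : chkURangeF D C relF 796 1237356000 10606592 2048 = true := by decide +kernel
theorem ck_5180 : chkURangeF D C relF 796 1237356000 10608640 2048 = true := by decide +kernel
theorem ck_5181 : chkURangeF D C relF 796 1237356000 10610688 2048 = true := by decide +kernel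
theorem ck_5182 : chkURangeF D C relF 796 1237356000 10612736 2048 = true := by decide +kernel
theorem ck_5183 : chkURangeF D C relF 796 1237356000 10614784 2048 = true := by decide +kernel
theorem chkU_215 (b : ℕ) (h1 : 10567680 ≤ b) (h2 : b < 10616832) : chkU D C b = true := by
  rcases Nat.lt_or_ge b 10569728 with g0 | g0
  · exact chkURangeF_spec C relF_hyp 1237356000 tc_eq 10567680 2048 ck_5160 b (by omega) (by omega)
  rcases Nat.lt_or_ge b 10571776 with g1 | g1
  · exact chkURangeF_spec C relF_hyp 1237356000 tc_eq 10569728 2048 ck_5161 b (by omega) (by omega)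
  rcases Nat.lt_or_ge b 10573824 with g2 | g2
  · exact chkURangeF_spec C relF_hyp 1237356000 tc_eq 10571776 2048 ck_5162 b (by omega) (by omega)
  rcases Nat.lt_or_ge b 10575872 with g3 | g3
  · exact chkURangeF_spec C relF_hyp 1237356000 tc_eq 10573824 2048 ck_5163 b (by omega) (by omega)
  rcases Nat.lt_or_ge b 10577920 with g4 | g4
  · exact chkURangeF_spec C relF_hyp 1237356000 tc_eq 10575872 2048 ck_5164 b (by omega) (by omega)
  rcases Nat.lt_or_ge b 10579968 with g5 | g5
  · exact chkURangeF_spec C relF_hyp 1237356000 tc_eq 10577920 2048 ck_5165 b (by omega) (by omega)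
  rcases Nat.lt_or_ge b 10582016 with g6 | g6
  · exact chkURangeF_spec C relF_hyp 1237356000 tc_eq 10579968 2048 ck_5166 b (by omega) (by omega)
  rcases Nat.lt_or_ge b 10584064 with g7 | g7
  · exact chkURangeF_spec C relF_hyp 1237356000 tc_eq 10582016 2048 ck_5167 b (by omega) (by omega)
  rcases Nat.lt_or_ge b 10586112 with g8 | g8
  · exact chkURangeF_spec C relF_hyp 1237356000 tc_eq 10584064 2048 ck_5168 b (by omega) (by omega)
  rcases Nat.lt_or_ge b 10588160 with g9 | g9
  · exact chkURangeF_spec C relF_hyp 1237356000 tc_eq 10586112 2048 ck_5169 b (by omega) (by omega)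
  rcases Nat.lt_or_ge b 10590208 with g10 | g10
  · exact chkURangeF_spec C relF_hyp 1237356000 tc_eq 10588160 2048 ck_5170 b (by omega) (by omega)
  rcases Nat.lt_or_ge b 10592256 with g11 | g11
  · exact chkURangeF_spec C relF_hyp 1237356000 tc_eq 10590208 2048 ck_5171 b (by omega) (by omega)
  rcases Nat.lt_or_ge b 10594304 with g12 | g12
  · exact chkURangeF_spec C relF_hyp 1237356000 tc_eq 10592256 2048 ck_5172 b (by omega) (by omega)
  rcases Nat.lt_or_ge b 10596352 with g13 | g13
  · exact chkURangeF_spec C relF_hyp 1237356000 tc_eq 10594304 2048 ck_5173 b (by omega) (by omega)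
  rcases Nat.lt_or_ge b 10598400 with g14 | g14
  · exact chkURangeF_spec C relF_hyp 1237356000 tc_eq 10596352 2048 ck_5174 b (by omega) (by omega)
  rcases Nat.lt_or_ge b 10600448 with g15 | g15
  · exact chkURangeF_spec C relF_hyp 1237356000 tc_eq 10598400 2048 ck_5175 b (by omega) (by omega)
  rcases Nat.lt_or_ge b 10602496 with g16 | g16
  · exact chkURangeF_spec C relF_hyp 1237356000 tc_eq 10600448 2048 ck_5176 b (by omega) (by omega)
  rcases Nat.lt_or_ge b 10604544 with g17 | g17
  · exact chkURangeF_spec C relF_hyp 1237356000 tc_eq 10602496 2048 ck_5177 b (by omega) (by omega)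
  rcases Nat.lt_or_ge b 10606592 with g18 | g18
  · exact chkURangeF_spec C relF_hyp 1237356000 tc_eq 10604544 2048 ck_5178 b (by omega) (by omega)
  rcases Nat.lt_or_ge b 10608640 with g19 | g19
  · exact chkURangeF_spec C relF_hyp 1237356000 tc_eq 10606592 2048 ck_5179 b (by omega) (by omega)
  rcases Nat.lt_or_ge b 10610688 with g20 | g20
  · exact chkURangeF_spec C relF_hyp 1237356000 tc_eq 10608640 2048 ck_5180 b (by omega) (by omega)
  rcases Nat.lt_or_ge b 10612736 with g21 | g21
  · exact chkURangeF_spec C relF_hyp 1237356000 tc_eq 10610688 2048 ck_5181 b (by omega) (by omega)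
  rcases Nat.lt_or_ge b 10614784 with g22 | g22
  · exact chkURangeF_spec C relF_hyp 1237356000 tc_eq 10612736 2048 ck_5182 b (by omega) (by omega)
  exact chkURangeF_spec C relF_hyp 1237356000 tc_eq 10614784 2048 ck_5183 b (by omega) (by omega)
end Cfsg.Agent.Lib.Helper2.HNMult.P2
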