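import Cfsg.Agent.Lib.Helper2.HNMult.P2.Cert
set_option autoImplicit false
set_option maxRecDepth 1000000
set_option Elab.async false
namespace Cfsg.Agent.Lib.Helper2.HNMult.P2
open Cfsg.Agent.Lib.Helper4.Sparse Cfsg.Agent.Lib.Helper2.SparseF
theorem ck_5208 : chkURangeF D C relF 796 1237356000 10665984 2048 = true := by decide +kernel
theorem ck_5209 : chkURangeF D C relF 796 1237356000 10668032 2048 = true := by decide +kernel
theorem ck_5210 : chkURangeF D C relF 796 1237356000 10670080 2048 = true := by decide +kernel
theorem ck_5211 : chkURangeF D C relF 796 1237356000 10672128 2048 = true := by decide +kernel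
theorem ck_5212 : chkURangeF D C relF 796 1237356000 10674176 2048 = true := by decide +kernel
theorem ck_5213 : chkURangeF D C relF 796 1237356000 10676224 2048 = true := by decide +kernel
theorem ck_5214 : chkURangeF D C relF 796 1237356000 10678272 2048 = true := by decide +kernel
theorem ck_5215 : chkURangeF D C relF 796 1237356000 10680320 2048 = true := by decide +kernel
theorem ck_5216 : chkURangeF D C relF 796 1237356000 10682368 2048 = true := by decide +kernel
theorem ck_5217 : chkURangeF D C relF 796 1237356000 10684416 2048 = true := by decide +kernel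
theorem ck_5218 : chkURangeF D C relF 796 1237356000 10686464 2048 = true := by decide +kernel
theorem ck_5219 : chkURangeF D C relF 796 1237356000 10688512 2048 = true := by decide +kernel
theorem ck_5220 : chkURangeF D C relF 796 1237356000 10690560 2048 = true := by decide +kernel
theorem ck_5221 : chkURangeF D C relF 796 1237356000 10692608 2048 = true := by decide +kernel
theorem ck_5222 : chkURangeF D C relF 796 1237356000 10694656 2048 = true := by decide +kernel
theorem ck_5223 : chkURangeF D C relF 796 1237356000 10696704 2048 = true := by decide +kernel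
theorem ck_5224 : chkURangeF D C relF 796 1237356000 10698752 2048 = true := by decide +kernel
theorem ck_5225 : chkURangeF D C relF 796 1237356000 10700800 2048 = true := by decide +kernel
theorem ck_5226 : chkURangeF D C relF 796 1237356000 10702848 2048 = true := by decide +kernel
theorem ck_5227 : chkURangeF D C relF 796 1237356000 10704896 2048 = true := by decide +kernel
theorem ck_5228 : chkURangeF D C relF 796 1237356000 10706944 2048 = true := by decide +kernel
theorem ck_5229 : chkURangeF D C relF 796 1237356000 10708992 2048 = true := by decide +kernel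
theorem ck_5230 : chkURangeF D C relF 796 1237356000 10711040 2048 = true := by decide +kernel
theorem ck_5231 : chkURangeF D C relF 796 1237356000 10713088 2048 = true := by decide +kernel
theorem chkU_217 (b : ℕ) (h1 : 10665984 ≤ b) (h2 : b < 10715136) : chkU D C b = true := by
  rcases Nat.lt_or_ge b 10668032 with g0 | g0
  · exact chkURangeF_spec C relF_hyp 1237356000 tc_eq 10665984 2048 ck_5208 b (by omega) (by omega)
  rcases Nat.lt_or_ge b 10670080 with g1 | g1
  · exact chkURangeF_spec C relF_hyp 1237356000 tc_eq 10668032 2048 ck_5209 b (by omega) (by omega)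
  rcases Nat.lt_or_ge b 10672128 with g2 | g2
  · exact chkURangeF_spec C relF_hyp 1237356000 tc_eq 10670080 2048 ck_5210 b (by omega) (by omega)
  rcases Nat.lt_or_ge b 10674176 with g3 | g3
  · exact chkURangeF_spec C relF_hyp 1237356000 tc_eq 10672128 2048 ck_5211 b (by omega) (by omega)
  rcases Nat.lt_or_ge b 10676224 with g4 | g4
  · exact chkURangeF_spec C relF_hyp 1237356000 tc_eq 10674176 2048 ck_5212 b (by omega) (by omega)
  rcases Nat.lt_or_ge b 10678272 with g5 | g5
  · exact chkURangeF_spec C relF_hyp 1237356000 tc_eq 10676224 2048 ck_5213 b (by omega) (by omega)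
  rcases Nat.lt_or_ge b 10680320 with g6 | g6
  · exact chkURangeF_spec C relF_hyp 1237356000 tc_eq 10678272 2048 ck_5214 b (by omega) (by omega)
  rcases Nat.lt_or_ge b 10682368 with g7 | g7
  · exact chkURangeF_spec C relF_hyp 1237356000 tc_eq 10680320 2048 ck_5215 b (by omega) (by omega)
  rcases Nat.lt_or_ge b 10684416 with g8 | g8
  · exact chkURangeF_spec C relF_hyp 1237356000 tc_eq 10682368 2048 ck_5216 b (by omega) (by omega)
  rcases Nat.lt_or_ge b 10686464 with g9 | g9
  · exact chkURangeF_spec C relF_hyp 1237356000 tc_eq 10684416 2048 ck_5217 b (by omega) (by omega)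
  rcases Nat.lt_or_ge b 10688512 with g10 | g10
  · exact chkURangeF_spec C relF_hyp 1237356000 tc_eq 10686464 2048 ck_5218 b (by omega) (by omega)
  rcases Nat.lt_or_ge b 10690560 with g11 | g11
  · exact chkURangeF_spec C relF_hyp 1237356000 tc_eq 10688512 2048 ck_5219 b (by omega) (by omega)
  rcases Nat.lt_or_ge b 10692608 with g12 | g12
  · exact chkURangeF_spec C relF_hyp 1237356000 tc_eq 10690560 2048 ck_5220 b (by omega) (by omega)
  rcases Nat.lt_or_ge b 10694656 with g13 | g13
  · exact chkURangeF_spec C relF_hyp 1237356000 tc_eq 10692608 2048 ck_5221 b (by omega) (by omega)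
  rcases Nat.lt_or_ge b 10696704 with g14 | g14
  · exact chkURangeF_spec C relF_hyp 1237356000 tc_eq 10694656 2048 ck_5222 b (by omega) (by omega)
  rcases Nat.lt_or_ge b 10698752 with g15 | g15
  · exact chkURangeF_spec C relF_hyp 1237356000 tc_eq 10696704 2048 ck_5223 b (by omega) (by omega)
  rcases Nat.lt_or_ge b 10700800 with g16 | g16
  · exact chkURangeF_spec C relF_hyp 1237356000 tc_eq 10698752 2048 ck_5224 b (by omega) (by omega)
  rcases Nat.lt_or_ge b 10702848 with g17 | g17
  · exact chkURangeF_spec C relF_hyp 1237356000 tc_eq 10700800 2048 ck_5225 b (by omega) (by omega)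
  rcases Nat.lt_or_ge b 10704896 with g18 | g18
  · exact chkURangeF_spec C relF_hyp 1237356000 tc_eq 10702848 2048 ck_5226 b (by omega) (by omega)
  rcases Nat.lt_or_ge b 10706944 with g19 | g19
  · exact chkURangeF_spec C relF_hyp 1237356000 tc_eq 10704896 2048 ck_5227 b (by omega) (by omega)
  rcases Nat.lt_or_ge b 10708992 with g20 | g20
  · exact chkURangeF_spec C relF_hyp 1237356000 tc_eq 10706944 2048 ck_5228 b (by omega) (by omega)
  rcases Nat.lt_or_ge b 10711040 with g21 | g21
  · exact chkURangeF_spec C relF_hyp 1237356000 tc_eq 10708992 2048 ck_5229 b (by omega) (by omega)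
  rcases Nat.lt_or_ge b 10713088 with g22 | g22
  · exact chkURangeF_spec C relF_hyp 1237356000 tc_eq 10711040 2048 ck_5230 b (by omega) (by omega)
  exact chkURangeF_spec C relF_hyp 1237356000 tc_eq 10713088 2048 ck_5231 b (by omega) (by omega)
end Cfsg.Agent.Lib.Helper2.HNMult.P2
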