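import Cfsg.Agent.Lib.Helper2.HNMult.P2.Cert
set_option autoImplicit false
set_option maxRecDepth 1000000
set_option Elab.async false
namespace Cfsg.Agent.Lib.Helper2.HNMult.P2
open Cfsg.Agent.Lib.Helper4.Sparse Cfsg.Agent.Lib.Helper2.SparseF
theorem ck_5256 : chkURangeF D C relF 796 1237356000 10764288 2048 = true := by decide +kernel
theorem ck_5257 : chkURangeF D C relF 796 1237356000 10766336 2048 = true := by decide +kernel
theorem ck_5258 : chkURangeF D C relF 796 1237356000 10768384 2048 = true := by decide +kernel
theorem ck_5259 : chkURangeF D C relF 796 1237356000 10770432 2048 = true := by decide +kernel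
theorem ck_5260 : chkURangeF D C relF 796 1237356000 10772480 1316 = true := by decide +kernel
theorem chkU_219 (b : ℕ) (h1 : 10764288 ≤ b) (h2 : b < 10773796) : chkU D C b = true := by
  rcases Nat.lt_or_ge b 10766336 with g0 | g0
  · exact chkURangeF_spec C relF_hyp 1237356000 tc_eq 10764288 2048 ck_5256 b (by omega) (by omega)
  rcases Nat.lt_or_ge b 10768384 with g1 | g1
  · exact chkURangeF_spec C relF_hyp 1237356000 tc_eq 10766336 2048 ck_5257 b (by omega) (by omega)
  rcases Nat.lt_or_ge b 10770432 with g2 | g2
  · exact chkURangeF_spec C relF_hyp 1237356000 tc_eq 10768384 2048 ck_5258 b (by omega) (by omega)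
  rcases Nat.lt_or_ge b 10772480 with g3 | g3
  · exact chkURangeF_spec C relF_hyp 1237356000 tc_eq 10770432 2048 ck_5259 b (by omega) (by omega)
  exact chkURangeF_spec C relF_hyp 1237356000 tc_eq 10772480 1316 ck_5260 b (by omega) (by omega)
end Cfsg.Agent.Lib.Helper2.HNMult.P2
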