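import Cfsg.Agent.Lib.Helper2.HNMult.P2.Cert
set_option autoImplicit false
set_option maxRecDepth 1000000
set_option Elab.async false
namespace Cfsg.Agent.Lib.Helper2.HNMult.P2
open Cfsg.Agent.Lib.Helper4.Sparse Cfsg.Agent.Lib.Helper2.SparseF
theorem ck_600 : chkURangeF D C relF 796 1237356000 1228800 2048 = true := by decide +kernel
theorem ck_601 : chkURangeF D C relF 796 1237356000 1230848 2048 = true := by decide +kernel
theorem ck_602 : chkURangeF D C relF 796 1237356000 1232896 2048 = true := by decide +kernel
theorem ck_603 : chkURangeF D C relF 796 1237356000 1234944 2048 = true := by decide +kernel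
theorem ck_604 : chkURangeF D C relF 796 1237356000 1236992 2048 = true := by decide +kernel
theorem ck_605 : chkURangeF D C relF 796 1237356000 1239040 2048 = true := by decide +kernel
theorem ck_606 : chkURangeF D C relF 796 1237356000 1241088 2048 = true := by decide +kernel
theorem ck_607 : chkURangeF D C relF 796 1237356000 1243136 2048 = true := by decide +kernel
theorem ck_608 : chkURangeF D C relF 796 1237356000 1245184 2048 = true := by decide +kernel
theorem ck_609 : chkURangeF D C relF 796 1237356000 1247232 2048 = true := by decide +kernel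
theorem ck_610 : chkURangeF D C relF 796 1237356000 1249280 2048 = true := by decide +kernel
theorem ck_611 : chkURangeF D C relF 796 1237356000 1251328 2048 = true := by decide +kernel
theorem ck_612 : chkURangeF D C relF 796 1237356000 1253376 2048 = true := by decide +kernel
theorem ck_613 : chkURangeF D C relF 796 1237356000 1255424 2048 = true := by decide +kernel
theorem ck_614 : chkURangeF D C relF 796 1237356000 1257472 2048 = true := by decide +kernel
theorem ck_615 : chkURangeF D C relF 796 1237356000 1259520 2048 = true := by decide +kernel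
theorem ck_616 : chkURangeF D C relF 796 1237356000 1261568 2048 = true := by decide +kernel
theorem ck_617 : chkURangeF D C relF 796 1237356000 1263616 2048 = true := by decide +kernel
theorem ck_618 : chkURangeF D C relF 796 1237356000 1265664 2048 = true := by decide +kernel
theorem ck_619 : chkURangeF D C relF 796 1237356000 1267712 2048 = true := by decide +kernel
theorem ck_620 : chkURangeF D C relF 796 1237356000 1269760 2048 = true := by decide +kernel
theorem ck_621 : chkURangeF D C relF 796 1237356000 1271808 2048 = true := by decide +kernel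
theorem ck_622 : chkURangeF D C relF 796 1237356000 1273856 2048 = true := by decide +kernel
theorem ck_623 : chkURangeF D C relF 796 1237356000 1275904 2048 = true := by decide +kernel
theorem chkU_25 (b : ℕ) (h1 : 1228800 ≤ b) (h2 : b < 1277952) : chkU D C b = true := by
  rcases Nat.lt_or_ge b 1230848 with g0 | g0
  · exact chkURangeF_spec C relF_hyp 1237356000 tc_eq 1228800 2048 ck_600 b (by omega) (by omega)
  rcases Nat.lt_or_ge b 1232896 with g1 | g1
  · exact chkURangeF_spec C relF_hyp 1237356000 tc_eq 1230848 2048 ck_601 b (by omega) (by omega)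
  rcases Nat.lt_or_ge b 1234944 with g2 | g2
  · exact chkURangeF_spec C relF_hyp 1237356000 tc_eq 1232896 2048 ck_602 b (by omega) (by omega)
  rcases Nat.lt_or_ge b 1236992 with g3 | g3
  · exact chkURangeF_spec C relF_hyp 1237356000 tc_eq 1234944 2048 ck_603 b (by omega) (by omega)
  rcases Nat.lt_or_ge b 1239040 with g4 | g4
  · exact chkURangeF_spec C relF_hyp 1237356000 tc_eq 1236992 2048 ck_604 b (by omega) (by omega)
  rcases Nat.lt_or_ge b 1241088 with g5 | g5
  · exact chkURangeF_spec C relF_hyp 1237356000 tc_eq 1239040 2048 ck_605 b (by omega) (by omega)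
  rcases Nat.lt_or_ge b 1243136 with g6 | g6
  · exact chkURangeF_spec C relF_hyp 1237356000 tc_eq 1241088 2048 ck_606 b (by omega) (by omega)
  rcases Nat.lt_or_ge b 1245184 with g7 | g7
  · exact chkURangeF_spec C relF_hyp 1237356000 tc_eq 1243136 2048 ck_607 b (by omega) (by omega)
  rcases Nat.lt_or_ge b 1247232 with g8 | g8
  · exact chkURangeF_spec C relF_hyp 1237356000 tc_eq 1245184 2048 ck_608 b (by omega) (by omega)
  rcases Nat.lt_or_ge b 1249280 with g9 | g9
  · exact chkURangeF_spec C relF_hyp 1237356000 tc_eq 1247232 2048 ck_609 b (by omega) (by omega)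
  rcases Nat.lt_or_ge b 1251328 with g10 | g10
  · exact chkURangeF_spec C relF_hyp 1237356000 tc_eq 1249280 2048 ck_610 b (by omega) (by omega)
  rcases Nat.lt_or_ge b 1253376 with g11 | g11
  · exact chkURangeF_spec C relF_hyp 1237356000 tc_eq 1251328 2048 ck_611 b (by omega) (by omega)
  rcases Nat.lt_or_ge b 1255424 with g12 | g12
  · exact chkURangeF_spec C relF_hyp 1237356000 tc_eq 1253376 2048 ck_612 b (by omega) (by omega)
  rcases Nat.lt_or_ge b 1257472 with g13 | g13
  · exact chkURangeF_spec C relF_hyp 1237356000 tc_eq 1255424 2048 ck_613 b (by omega) (by omega)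
  rcases Nat.lt_or_ge b 1259520 with g14 | g14
  · exact chkURangeF_spec C relF_hyp 1237356000 tc_eq 1257472 2048 ck_614 b (by omega) (by omega)
  rcases Nat.lt_or_ge b 1261568 with g15 | g15
  · exact chkURangeF_spec C relF_hyp 1237356000 tc_eq 1259520 2048 ck_615 b (by omega) (by omega)
  rcases Nat.lt_or_ge b 1263616 with g16 | g16
  · exact chkURangeF_spec C relF_hyp 1237356000 tc_eq 1261568 2048 ck_616 b (by omega) (by omega)
  rcases Nat.lt_or_ge b 1265664 with g17 | g17
  · exact chkURangeF_spec C relF_hyp 1237356000 tc_eq 1263616 2048 ck_617 b (by omega) (by omega)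
  rcases Nat.lt_or_ge b 1267712 with g18 | g18
  · exact chkURangeF_spec C relF_hyp 1237356000 tc_eq 1265664 2048 ck_618 b (by omega) (by omega)
  rcases Nat.lt_or_ge b 1269760 with g19 | g19
  · exact chkURangeF_spec C relF_hyp 1237356000 tc_eq 1267712 2048 ck_619 b (by omega) (by omega)
  rcases Nat.lt_or_ge b 1271808 with g20 | g20
  · exact chkURangeF_spec C relF_hyp 1237356000 tc_eq 1269760 2048 ck_620 b (by omega) (by omega)
  rcases Nat.lt_or_ge b 1273856 with g21 | g21
  · exact chkURangeF_spec C relF_hyp 1237356000 tc_eq 1271808 2048 ck_621 b (by omega) (by omega)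
  rcases Nat.lt_or_ge b 1275904 with g22 | g22
  · exact chkURangeF_spec C relF_hyp 1237356000 tc_eq 1273856 2048 ck_622 b (by omega) (by omega)
  exact chkURangeF_spec C relF_hyp 1237356000 tc_eq 1275904 2048 ck_623 b (by omega) (by omega)
end Cfsg.Agent.Lib.Helper2.HNMult.P2
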