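import Cfsg.Agent.Lib.Helper2.HNMult.P2.Cert
set_option autoImplicit false
set_option maxRecDepth 1000000
set_option Elab.async false
namespace Cfsg.Agent.Lib.Helper2.HNMult.P2
open Cfsg.Agent.Lib.Helper4.Sparse Cfsg.Agent.Lib.Helper2.SparseF
theorem ck_720 : chkURangeF D C relF 796 1237356000 1474560 2048 = true := by decide +kernel
theorem ck_721 : chkURangeF D C relF 796 1237356000 1476608 2048 = true := by decide +kernel
theorem ck_722 : chkURangeF D C relF 796 1237356000 1478656 2048 = true := by decide +kernel
theorem ck_723 : chkURangeF D C relF 796 1237356000 1480704 2048 = true := by decide +kernel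
theorem ck_724 : chkURangeF D C relF 796 1237356000 1482752 2048 = true := by decide +kernel
theorem ck_725 : chkURangeF D C relF 796 1237356000 1484800 2048 = true := by decide +kernel
theorem ck_726 : chkURangeF D C relF 796 1237356000 1486848 2048 = true := by decide +kernel
theorem ck_727 : chkURangeF D C relF 796 1237356000 1488896 2048 = true := by decide +kernel
theorem ck_728 : chkURangeF D C relF 796 1237356000 1490944 2048 = true := by decide +kernel
theorem ck_729 : chkURangeF D C relF 796 1237356000 1492992 2048 = true := by decide +kernel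
theorem ck_730 : chkURangeF D C relF 796 1237356000 1495040 2048 = true := by decide +kernel
theorem ck_731 : chkURangeF D C relF 796 1237356000 1497088 2048 = true := by decide +kernel
theorem ck_732 : chkURangeF D C relF 796 1237356000 1499136 2048 = true := by decide +kernel
theorem ck_733 : chkURangeF D C relF 796 1237356000 1501184 2048 = true := by decide +kernel
theorem ck_734 : chkURangeF D C relF 796 1237356000 1503232 2048 = true := by decide +kernel
theorem ck_735 : chkURangeF D C relF 796 1237356000 1505280 2048 = true := by decide +kernel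
theorem ck_736 : chkURangeF D C relF 796 1237356000 1507328 2048 = true := by decide +kernel
theorem ck_737 : chkURangeF D C relF 796 1237356000 1509376 2048 = true := by decide +kernel
theorem ck_738 : chkURangeF D C relF 796 1237356000 1511424 2048 = true := by decide +kernel
theorem ck_739 : chkURangeF D C relF 796 1237356000 1513472 2048 = true := by decide +kernel
theorem ck_740 : chkURangeF D C relF 796 1237356000 1515520 2048 = true := by decide +kernel
theorem ck_741 : chkURangeF D C relF 796 1237356000 1517568 2048 = true := by decide +kernel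
theorem ck_742 : chkURangeF D C relF 796 1237356000 1519616 2048 = true := by decide +kernel
theorem ck_743 : chkURangeF D C relF 796 1237356000 1521664 2048 = true := by decide +kernel
theorem chkU_30 (b : ℕ) (h1 : 1474560 ≤ b) (h2 : b < 1523712) : chkU D C b = true := by
  rcases Nat.lt_or_ge b 1476608 with g0 | g0
  · exact chkURangeF_spec C relF_hyp 1237356000 tc_eq 1474560 2048 ck_720 b (by omega) (by omega)
  rcases Nat.lt_or_ge b 1478656 with g1 | g1
  · exact chkURangeF_spec C relF_hyp 1237356000 tc_eq 1476608 2048 ck_721 b (by omega) (by omega)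
  rcases Nat.lt_or_ge b 1480704 with g2 | g2
  · exact chkURangeF_spec C relF_hyp 1237356000 tc_eq 1478656 2048 ck_722 b (by omega) (by omega)
  rcases Nat.lt_or_ge b 1482752 with g3 | g3
  · exact chkURangeF_spec C relF_hyp 1237356000 tc_eq 1480704 2048 ck_723 b (by omega) (by omega)
  rcases Nat.lt_or_ge b 1484800 with g4 | g4
  · exact chkURangeF_spec C relF_hyp 1237356000 tc_eq 1482752 2048 ck_724 b (by omega) (by omega)
  rcases Nat.lt_or_ge b 1486848 with g5 | g5
  · exact chkURangeF_spec C relF_hyp 1237356000 tc_eq 1484800 2048 ck_725 b (by omega) (by omega)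
  rcases Nat.lt_or_ge b 1488896 with g6 | g6
  · exact chkURangeF_spec C relF_hyp 1237356000 tc_eq 1486848 2048 ck_726 b (by omega) (by omega)
  rcases Nat.lt_or_ge b 1490944 with g7 | g7
  · exact chkURangeF_spec C relF_hyp 1237356000 tc_eq 1488896 2048 ck_727 b (by omega) (by omega)
  rcases Nat.lt_or_ge b 1492992 with g8 | g8
  · exact chkURangeF_spec C relF_hyp 1237356000 tc_eq 1490944 2048 ck_728 b (by omega) (by omega)
  rcases Nat.lt_or_ge b 1495040 with g9 | g9
  · exact chkURangeF_spec C relF_hyp 1237356000 tc_eq 1492992 2048 ck_729 b (by omega) (by omega)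
  rcases Nat.lt_or_ge b 1497088 with g10 | g10
  · exact chkURangeF_spec C relF_hyp 1237356000 tc_eq 1495040 2048 ck_730 b (by omega) (by omega)
  rcases Nat.lt_or_ge b 1499136 with g11 | g11
  · exact chkURangeF_spec C relF_hyp 1237356000 tc_eq 1497088 2048 ck_731 b (by omega) (by omega)
  rcases Nat.lt_or_ge b 1501184 with g12 | g12
  · exact chkURangeF_spec C relF_hyp 1237356000 tc_eq 1499136 2048 ck_732 b (by omega) (by omega)
  rcases Nat.lt_or_ge b 1503232 with g13 | g13
  · exact chkURangeF_spec C relF_hyp 1237356000 tc_eq 1501184 2048 ck_733 b (by omega) (by omega)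
  rcases Nat.lt_or_ge b 1505280 with g14 | g14
  · exact chkURangeF_spec C relF_hyp 1237356000 tc_eq 1503232 2048 ck_734 b (by omega) (by omega)
  rcases Nat.lt_or_ge b 1507328 with g15 | g15
  · exact chkURangeF_spec C relF_hyp 1237356000 tc_eq 1505280 2048 ck_735 b (by omega) (by omega)
  rcases Nat.lt_or_ge b 1509376 with g16 | g16
  · exact chkURangeF_spec C relF_hyp 1237356000 tc_eq 1507328 2048 ck_736 b (by omega) (by omega)
  rcases Nat.lt_or_ge b 1511424 with g17 | g17
  · exact chkURangeF_spec C relF_hyp 1237356000 tc_eq 1509376 2048 ck_737 b (by omega) (by omega)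
  rcases Nat.lt_or_ge b 1513472 with g18 | g18
  · exact chkURangeF_spec C relF_hyp 1237356000 tc_eq 1511424 2048 ck_738 b (by omega) (by omega)
  rcases Nat.lt_or_ge b 1515520 with g19 | g19
  · exact chkURangeF_spec C relF_hyp 1237356000 tc_eq 1513472 2048 ck_739 b (by omega) (by omega)
  rcases Nat.lt_or_ge b 1517568 with g20 | g20
  · exact chkURangeF_spec C relF_hyp 1237356000 tc_eq 1515520 2048 ck_740 b (by omega) (by omega)
  rcases Nat.lt_or_ge b 1519616 with g21 | g21
  · exact chkURangeF_spec C relF_hyp 1237356000 tc_eq 1517568 2048 ck_741 b (by omega) (by omega)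
  rcases Nat.lt_or_ge b 1521664 with g22 | g22
  · exact chkURangeF_spec C relF_hyp 1237356000 tc_eq 1519616 2048 ck_742 b (by omega) (by omega)
  exact chkURangeF_spec C relF_hyp 1237356000 tc_eq 1521664 2048 ck_743 b (by omega) (by omega)
end Cfsg.Agent.Lib.Helper2.HNMult.P2
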