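import Cfsg.Agent.Lib.Helper2.HNMult.P2.Cert
set_option autoImplicit false
set_option maxRecDepth 1000000
set_option Elab.async false
namespace Cfsg.Agent.Lib.Helper2.HNMult.P2
open Cfsg.Agent.Lib.Helper4.Sparse Cfsg.Agent.Lib.Helper2.SparseF
theorem ck_744 : chkURangeF D C relF 796 1237356000 1523712 2048 = true := by decide +kernel
theorem ck_745 : chkURangeF D C relF 796 1237356000 1525760 2048 = true := by decide +kernel
theorem ck_746 : chkURangeF D C relF 796 1237356000 1527808 2048 = true := by decide +kernel
theorem ck_747 : chkURangeF D C relF 796 1237356000 1529856 2048 = true := by decide +kernel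
theorem ck_748 : chkURangeF D C relF 796 1237356000 1531904 2048 = true := by decide +kernel
theorem ck_749 : chkURangeF D C relF 796 1237356000 1533952 2048 = true := by decide +kernel
theorem ck_750 : chkURangeF D C relF 796 1237356000 1536000 2048 = true := by decide +kernel
theorem ck_751 : chkURangeF D C relF 796 1237356000 1538048 2048 = true := by decide +kernel
theorem ck_752 : chkURangeF D C relF 796 1237356000 1540096 2048 = true := by decide +kernel
theorem ck_753 : chkURangeF D C relF 796 1237356000 1542144 2048 = true := by decide +kernel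
theorem ck_754 : chkURangeF D C relF 796 1237356000 1544192 2048 = true := by decide +kernel
theorem ck_755 : chkURangeF D C relF 796 1237356000 1546240 2048 = true := by decide +kernel
theorem ck_756 : chkURangeF D C relF 796 1237356000 1548288 2048 = true := by decide +kernel
theorem ck_757 : chkURangeF D C relF 796 1237356000 1550336 2048 = true := by decide +kernel
theorem ck_758 : chkURangeF D C relF 796 1237356000 1552384 2048 = true := by decide +kernel
theorem ck_759 : chkURangeF D C relF 796 1237356000 1554432 2048 = true := by decide +kernel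
theorem ck_760 : chkURangeF D C relF 796 1237356000 1556480 2048 = true := by decide +kernel
theorem ck_761 : chkURangeF D C relF 796 1237356000 1558528 2048 = true := by decide +kernel
theorem ck_762 : chkURangeF D C relF 796 1237356000 1560576 2048 = true := by decide +kernel
theorem ck_763 : chkURangeF D C relF 796 1237356000 1562624 2048 = true := by decide +kernel
theorem ck_764 : chkURangeF D C relF 796 1237356000 1564672 2048 = true := by decide +kernel
theorem ck_765 : chkURangeF D C relF 796 1237356000 1566720 2048 = true := by decide +kernel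
theorem ck_766 : chkURangeF D C relF 796 1237356000 1568768 2048 = true := by decide +kernel
theorem ck_767 : chkURangeF D C relF 796 1237356000 1570816 2048 = true := by decide +kernel
theorem chkU_31 (b : ℕ) (h1 : 1523712 ≤ b) (h2 : b < 1572864) : chkU D C b = true := by
  rcases Nat.lt_or_ge b 1525760 with g0 | g0
  · exact chkURangeF_spec C relF_hyp 1237356000 tc_eq 1523712 2048 ck_744 b (by omega) (by omega)
  rcases Nat.lt_or_ge b 1527808 with g1 | g1
  · exact chkURangeF_spec C relF_hyp 1237356000 tc_eq 1525760 2048 ck_745 b (by omega) (by omega)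
  rcases Nat.lt_or_ge b 1529856 with g2 | g2
  · exact chkURangeF_spec C relF_hyp 1237356000 tc_eq 1527808 2048 ck_746 b (by omega) (by omega)
  rcases Nat.lt_or_ge b 1531904 with g3 | g3
  · exact chkURangeF_spec C relF_hyp 1237356000 tc_eq 1529856 2048 ck_747 b (by omega) (by omega)
  rcases Nat.lt_or_ge b 1533952 with g4 | g4
  · exact chkURangeF_spec C relF_hyp 1237356000 tc_eq 1531904 2048 ck_748 b (by omega) (by omega)
  rcases Nat.lt_or_ge b 1536000 with g5 | g5
  · exact chkURangeF_spec C relF_hyp 1237356000 tc_eq 1533952 2048 ck_749 b (by omega) (by omega)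
  rcases Nat.lt_or_ge b 1538048 with g6 | g6
  · exact chkURangeF_spec C relF_hyp 1237356000 tc_eq 1536000 2048 ck_750 b (by omega) (by omega)
  rcases Nat.lt_or_ge b 1540096 with g7 | g7
  · exact chkURangeF_spec C relF_hyp 1237356000 tc_eq 1538048 2048 ck_751 b (by omega) (by omega)
  rcases Nat.lt_or_ge b 1542144 with g8 | g8
  · exact chkURangeF_spec C relF_hyp 1237356000 tc_eq 1540096 2048 ck_752 b (by omega) (by omega)
  rcases Nat.lt_or_ge b 1544192 with g9 | g9
  · exact chkURangeF_spec C relF_hyp 1237356000 tc_eq 1542144 2048 ck_753 b (by omega) (by omega)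
  rcases Nat.lt_or_ge b 1546240 with g10 | g10
  · exact chkURangeF_spec C relF_hyp 1237356000 tc_eq 1544192 2048 ck_754 b (by omega) (by omega)
  rcases Nat.lt_or_ge b 1548288 with g11 | g11
  · exact chkURangeF_spec C relF_hyp 1237356000 tc_eq 1546240 2048 ck_755 b (by omega) (by omega)
  rcases Nat.lt_or_ge b 1550336 with g12 | g12
  · exact chkURangeF_spec C relF_hyp 1237356000 tc_eq 1548288 2048 ck_756 b (by omega) (by omega)
  rcases Nat.lt_or_ge b 1552384 with g13 | g13
  · exact chkURangeF_spec C relF_hyp 1237356000 tc_eq 1550336 2048 ck_757 b (by omega) (by omega)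
  rcases Nat.lt_or_ge b 1554432 with g14 | g14
  · exact chkURangeF_spec C relF_hyp 1237356000 tc_eq 1552384 2048 ck_758 b (by omega) (by omega)
  rcases Nat.lt_or_ge b 1556480 with g15 | g15
  · exact chkURangeF_spec C relF_hyp 1237356000 tc_eq 1554432 2048 ck_759 b (by omega) (by omega)
  rcases Nat.lt_or_ge b 1558528 with g16 | g16
  · exact chkURangeF_spec C relF_hyp 1237356000 tc_eq 1556480 2048 ck_760 b (by omega) (by omega)
  rcases Nat.lt_or_ge b 1560576 with g17 | g17
  · exact chkURangeF_spec C relF_hyp 1237356000 tc_eq 1558528 2048 ck_761 b (by omega) (by omega)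
  rcases Nat.lt_or_ge b 1562624 with g18 | g18
  · exact chkURangeF_spec C relF_hyp 1237356000 tc_eq 1560576 2048 ck_762 b (by omega) (by omega)
  rcases Nat.lt_or_ge b 1564672 with g19 | g19
  · exact chkURangeF_spec C relF_hyp 1237356000 tc_eq 1562624 2048 ck_763 b (by omega) (by omega)
  rcases Nat.lt_or_ge b 1566720 with g20 | g20
  · exact chkURangeF_spec C relF_hyp 1237356000 tc_eq 1564672 2048 ck_764 b (by omega) (by omega)
  rcases Nat.lt_or_ge b 1568768 with g21 | g21
  · exact chkURangeF_spec C relF_hyp 1237356000 tc_eq 1566720 2048 ck_765 b (by omega) (by omega)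
  rcases Nat.lt_or_ge b 1570816 with g22 | g22
  · exact chkURangeF_spec C relF_hyp 1237356000 tc_eq 1568768 2048 ck_766 b (by omega) (by omega)
  exact chkURangeF_spec C relF_hyp 1237356000 tc_eq 1570816 2048 ck_767 b (by omega) (by omega)
end Cfsg.Agent.Lib.Helper2.HNMult.P2
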