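import Cfsg.Agent.Lib.Helper2.HNMult.P2.Cert
set_option autoImplicit false
set_option maxRecDepth 1000000
set_option Elab.async false
namespace Cfsg.Agent.Lib.Helper2.HNMult.P2
open Cfsg.Agent.Lib.Helper4.Sparse Cfsg.Agent.Lib.Helper2.SparseF
theorem ck_768 : chkURangeF D C relF 796 1237356000 1572864 2048 = true := by decide +kernel
theorem ck_769 : chkURangeF D C relF 796 1237356000 1574912 2048 = true := by decide +kernel
theorem ck_770 : chkURangeF D C relF 796 1237356000 1576960 2048 = true := by decide +kernel
theorem ck_771 : chkURangeF D C relF 796 1237356000 1579008 2048 = true := by decide +kernel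
theorem ck_772 : chkURangeF D C relF 796 1237356000 1581056 2048 = true := by decide +kernel
theorem ck_773 : chkURangeF D C relF 796 1237356000 1583104 2048 = true := by decide +kernel
theorem ck_774 : chkURangeF D C relF 796 1237356000 1585152 2048 = true := by decide +kernel
theorem ck_775 : chkURangeF D C relF 796 1237356000 1587200 2048 = true := by decide +kernel
theorem ck_776 : chkURangeF D C relF 796 1237356000 1589248 2048 = true := by decide +kernel
theorem ck_777 : chkURangeF D C relF 796 1237356000 1591296 2048 = true := by decide +kernel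
theorem ck_778 : chkURangeF D C relF 796 1237356000 1593344 2048 = true := by decide +kernel
theorem ck_779 : chkURangeF D C relF 796 1237356000 1595392 2048 = true := by decide +kernel
theorem ck_780 : chkURangeF D C relF 796 1237356000 1597440 2048 = true := by decide +kernel
theorem ck_781 : chkURangeF D C relF 796 1237356000 1599488 2048 = true := by decide +kernel
theorem ck_782 : chkURangeF D C relF 796 1237356000 1601536 2048 = true := by decide +kernel
theorem ck_783 : chkURangeF D C relF 796 1237356000 1603584 2048 = true := by decide +kernel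
theorem ck_784 : chkURangeF D C relF 796 1237356000 1605632 2048 = true := by decide +kernel
theorem ck_785 : chkURangeF D C relF 796 1237356000 1607680 2048 = true := by decide +kernel
theorem ck_786 : chkURangeF D C relF 796 1237356000 1609728 2048 = true := by decide +kernel
theorem ck_787 : chkURangeF D C relF 796 1237356000 1611776 2048 = true := by decide +kernel
theorem ck_788 : chkURangeF D C relF 796 1237356000 1613824 2048 = true := by decide +kernel
theorem ck_789 : chkURangeF D C relF 796 1237356000 1615872 2048 = true := by decide +kernel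
theorem ck_790 : chkURangeF D C relF 796 1237356000 1617920 2048 = true := by decide +kernel
theorem ck_791 : chkURangeF D C relF 796 1237356000 1619968 2048 = true := by decide +kernel
theorem chkU_32 (b : ℕ) (h1 : 1572864 ≤ b) (h2 : b < 1622016) : chkU D C b = true := by
  rcases Nat.lt_or_ge b 1574912 with g0 | g0
  · exact chkURangeF_spec C relF_hyp 1237356000 tc_eq 1572864 2048 ck_768 b (by omega) (by omega)
  rcases Nat.lt_or_ge b 1576960 with g1 | g1
  · exact chkURangeF_spec C relF_hyp 1237356000 tc_eq 1574912 2048 ck_769 b (by omega) (by omega)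
  rcases Nat.lt_or_ge b 1579008 with g2 | g2
  · exact chkURangeF_spec C relF_hyp 1237356000 tc_eq 1576960 2048 ck_770 b (by omega) (by omega)
  rcases Nat.lt_or_ge b 1581056 with g3 | g3
  · exact chkURangeF_spec C relF_hyp 1237356000 tc_eq 1579008 2048 ck_771 b (by omega) (by omega)
  rcases Nat.lt_or_ge b 1583104 with g4 | g4
  · exact chkURangeF_spec C relF_hyp 1237356000 tc_eq 1581056 2048 ck_772 b (by omega) (by omega)
  rcases Nat.lt_or_ge b 1585152 with g5 | g5
  · exact chkURangeF_spec C relF_hyp 1237356000 tc_eq 1583104 2048 ck_773 b (by omega) (by omega)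
  rcases Nat.lt_or_ge b 1587200 with g6 | g6
  · exact chkURangeF_spec C relF_hyp 1237356000 tc_eq 1585152 2048 ck_774 b (by omega) (by omega)
  rcases Nat.lt_or_ge b 1589248 with g7 | g7
  · exact chkURangeF_spec C relF_hyp 1237356000 tc_eq 1587200 2048 ck_775 b (by omega) (by omega)
  rcases Nat.lt_or_ge b 1591296 with g8 | g8
  · exact chkURangeF_spec C relF_hyp 1237356000 tc_eq 1589248 2048 ck_776 b (by omega) (by omega)
  rcases Nat.lt_or_ge b 1593344 with g9 | g9
  · exact chkURangeF_spec C relF_hyp 1237356000 tc_eq 1591296 2048 ck_777 b (by omega) (by omega)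
  rcases Nat.lt_or_ge b 1595392 with g10 | g10
  · exact chkURangeF_spec C relF_hyp 1237356000 tc_eq 1593344 2048 ck_778 b (by omega) (by omega)
  rcases Nat.lt_or_ge b 1597440 with g11 | g11
  · exact chkURangeF_spec C relF_hyp 1237356000 tc_eq 1595392 2048 ck_779 b (by omega) (by omega)
  rcases Nat.lt_or_ge b 1599488 with g12 | g12
  · exact chkURangeF_spec C relF_hyp 1237356000 tc_eq 1597440 2048 ck_780 b (by omega) (by omega)
  rcases Nat.lt_or_ge b 1601536 with g13 | g13
  · exact chkURangeF_spec C relF_hyp 1237356000 tc_eq 1599488 2048 ck_781 b (by omega) (by omega)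
  rcases Nat.lt_or_ge b 1603584 with g14 | g14
  · exact chkURangeF_spec C relF_hyp 1237356000 tc_eq 1601536 2048 ck_782 b (by omega) (by omega)
  rcases Nat.lt_or_ge b 1605632 with g15 | g15
  · exact chkURangeF_spec C relF_hyp 1237356000 tc_eq 1603584 2048 ck_783 b (by omega) (by omega)
  rcases Nat.lt_or_ge b 1607680 with g16 | g16
  · exact chkURangeF_spec C relF_hyp 1237356000 tc_eq 1605632 2048 ck_784 b (by omega) (by omega)
  rcases Nat.lt_or_ge b 1609728 with g17 | g17
  · exact chkURangeF_spec C relF_hyp 1237356000 tc_eq 1607680 2048 ck_785 b (by omega) (by omega)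
  rcases Nat.lt_or_ge b 1611776 with g18 | g18
  · exact chkURangeF_spec C relF_hyp 1237356000 tc_eq 1609728 2048 ck_786 b (by omega) (by omega)
  rcases Nat.lt_or_ge b 1613824 with g19 | g19
  · exact chkURangeF_spec C relF_hyp 1237356000 tc_eq 1611776 2048 ck_787 b (by omega) (by omega)
  rcases Nat.lt_or_ge b 1615872 with g20 | g20
  · exact chkURangeF_spec C relF_hyp 1237356000 tc_eq 1613824 2048 ck_788 b (by omega) (by omega)
  rcases Nat.lt_or_ge b 1617920 with g21 | g21
  · exact chkURangeF_spec C relF_hyp 1237356000 tc_eq 1615872 2048 ck_789 b (by omega) (by omega)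
  rcases Nat.lt_or_ge b 1619968 with g22 | g22
  · exact chkURangeF_spec C relF_hyp 1237356000 tc_eq 1617920 2048 ck_790 b (by omega) (by omega)
  exact chkURangeF_spec C relF_hyp 1237356000 tc_eq 1619968 2048 ck_791 b (by omega) (by omega)
end Cfsg.Agent.Lib.Helper2.HNMult.P2
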