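import Cfsg.Agent.Lib.Helper2.HNMult.P2.Cert
set_option autoImplicit false
set_option maxRecDepth 1000000
set_option Elab.async false
namespace Cfsg.Agent.Lib.Helper2.HNMult.P2
open Cfsg.Agent.Lib.Helper4.Sparse Cfsg.Agent.Lib.Helper2.SparseF
theorem ck_936 : chkURangeF D C relF 796 1237356000 1916928 2048 = true := by decide +kernel
theorem ck_937 : chkURangeF D C relF 796 1237356000 1918976 2048 = true := by decide +kernel
theorem ck_938 : chkURangeF D C relF 796 1237356000 1921024 2048 = true := by decide +kernel
theorem ck_939 : chkURangeF D C relF 796 1237356000 1923072 2048 = true := by decide +kernel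
theorem ck_940 : chkURangeF D C relF 796 1237356000 1925120 2048 = true := by decide +kernel
theorem ck_941 : chkURangeF D C relF 796 1237356000 1927168 2048 = true := by decide +kernel
theorem ck_942 : chkURangeF D C relF 796 1237356000 1929216 2048 = true := by decide +kernel
theorem ck_943 : chkURangeF D C relF 796 1237356000 1931264 2048 = true := by decide +kernel
theorem ck_944 : chkURangeF D C relF 796 1237356000 1933312 2048 = true := by decide +kernel
theorem ck_945 : chkURangeF D C relF 796 1237356000 1935360 2048 = true := by decide +kernel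
theorem ck_946 : chkURangeF D C relF 796 1237356000 1937408 2048 = true := by decide +kernel
theorem ck_947 : chkURangeF D C relF 796 1237356000 1939456 2048 = true := by decide +kernel
theorem ck_948 : chkURangeF D C relF 796 1237356000 1941504 2048 = true := by decide +kernel
theorem ck_949 : chkURangeF D C relF 796 1237356000 1943552 2048 = true := by decide +kernel
theorem ck_950 : chkURangeF D C relF 796 1237356000 1945600 2048 = true := by decide +kernel
theorem ck_951 : chkURangeF D C relF 796 1237356000 1947648 2048 = true := by decide +kernel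
theorem ck_952 : chkURangeF D C relF 796 1237356000 1949696 2048 = true := by decide +kernel
theorem ck_953 : chkURangeF D C relF 796 1237356000 1951744 2048 = true := by decide +kernel
theorem ck_954 : chkURangeF D C relF 796 1237356000 1953792 2048 = true := by decide +kernel
theorem ck_955 : chkURangeF D C relF 796 1237356000 1955840 2048 = true := by decide +kernel
theorem ck_956 : chkURangeF D C relF 796 1237356000 1957888 2048 = true := by decide +kernel
theorem ck_957 : chkURangeF D C relF 796 1237356000 1959936 2048 = true := by decide +kernel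
theorem ck_958 : chkURangeF D C relF 796 1237356000 1961984 2048 = true := by decide +kernel
theorem ck_959 : chkURangeF D C relF 796 1237356000 1964032 2048 = true := by decide +kernel
theorem chkU_39 (b : ℕ) (h1 : 1916928 ≤ b) (h2 : b < 1966080) : chkU D C b = true := by
  rcases Nat.lt_or_ge b 1918976 with g0 | g0
  · exact chkURangeF_spec C relF_hyp 1237356000 tc_eq 1916928 2048 ck_936 b (by omega) (by omega)
  rcases Nat.lt_or_ge b 1921024 with g1 | g1
  · exact chkURangeF_spec C relF_hyp 1237356000 tc_eq 1918976 2048 ck_937 b (by omega) (by omega)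
  rcases Nat.lt_or_ge b 1923072 with g2 | g2
  · exact chkURangeF_spec C relF_hyp 1237356000 tc_eq 1921024 2048 ck_938 b (by omega) (by omega)
  rcases Nat.lt_or_ge b 1925120 with g3 | g3
  · exact chkURangeF_spec C relF_hyp 1237356000 tc_eq 1923072 2048 ck_939 b (by omega) (by omega)
  rcases Nat.lt_or_ge b 1927168 with g4 | g4
  · exact chkURangeF_spec C relF_hyp 1237356000 tc_eq 1925120 2048 ck_940 b (by omega) (by omega)
  rcases Nat.lt_or_ge b 1929216 with g5 | g5
  · exact chkURangeF_spec C relF_hyp 1237356000 tc_eq 1927168 2048 ck_941 b (by omega) (by omega)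
  rcases Nat.lt_or_ge b 1931264 with g6 | g6
  · exact chkURangeF_spec C relF_hyp 1237356000 tc_eq 1929216 2048 ck_942 b (by omega) (by omega)
  rcases Nat.lt_or_ge b 1933312 with g7 | g7
  · exact chkURangeF_spec C relF_hyp 1237356000 tc_eq 1931264 2048 ck_943 b (by omega) (by omega)
  rcases Nat.lt_or_ge b 1935360 with g8 | g8
  · exact chkURangeF_spec C relF_hyp 1237356000 tc_eq 1933312 2048 ck_944 b (by omega) (by omega)
  rcases Nat.lt_or_ge b 1937408 with g9 | g9
  · exact chkURangeF_spec C relF_hyp 1237356000 tc_eq 1935360 2048 ck_945 b (by omega) (by omega)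
  rcases Nat.lt_or_ge b 1939456 with g10 | g10
  · exact chkURangeF_spec C relF_hyp 1237356000 tc_eq 1937408 2048 ck_946 b (by omega) (by omega)
  rcases Nat.lt_or_ge b 1941504 with g11 | g11
  · exact chkURangeF_spec C relF_hyp 1237356000 tc_eq 1939456 2048 ck_947 b (by omega) (by omega)
  rcases Nat.lt_or_ge b 1943552 with g12 | g12
  · exact chkURangeF_spec C relF_hyp 1237356000 tc_eq 1941504 2048 ck_948 b (by omega) (by omega)
  rcases Nat.lt_or_ge b 1945600 with g13 | g13
  · exact chkURangeF_spec C relF_hyp 1237356000 tc_eq 1943552 2048 ck_949 b (by omega) (by omega)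
  rcases Nat.lt_or_ge b 1947648 with g14 | g14
  · exact chkURangeF_spec C relF_hyp 1237356000 tc_eq 1945600 2048 ck_950 b (by omega) (by omega)
  rcases Nat.lt_or_ge b 1949696 with g15 | g15
  · exact chkURangeF_spec C relF_hyp 1237356000 tc_eq 1947648 2048 ck_951 b (by omega) (by omega)
  rcases Nat.lt_or_ge b 1951744 with g16 | g16
  · exact chkURangeF_spec C relF_hyp 1237356000 tc_eq 1949696 2048 ck_952 b (by omega) (by omega)
  rcases Nat.lt_or_ge b 1953792 with g17 | g17
  · exact chkURangeF_spec C relF_hyp 1237356000 tc_eq 1951744 2048 ck_953 b (by omega) (by omega)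
  rcases Nat.lt_or_ge b 1955840 with g18 | g18
  · exact chkURangeF_spec C relF_hyp 1237356000 tc_eq 1953792 2048 ck_954 b (by omega) (by omega)
  rcases Nat.lt_or_ge b 1957888 with g19 | g19
  · exact chkURangeF_spec C relF_hyp 1237356000 tc_eq 1955840 2048 ck_955 b (by omega) (by omega)
  rcases Nat.lt_or_ge b 1959936 with g20 | g20
  · exact chkURangeF_spec C relF_hyp 1237356000 tc_eq 1957888 2048 ck_956 b (by omega) (by omega)
  rcases Nat.lt_or_ge b 1961984 with g21 | g21
  · exact chkURangeF_spec C relF_hyp 1237356000 tc_eq 1959936 2048 ck_957 b (by omega) (by omega)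
  rcases Nat.lt_or_ge b 1964032 with g22 | g22
  · exact chkURangeF_spec C relF_hyp 1237356000 tc_eq 1961984 2048 ck_958 b (by omega) (by omega)
  exact chkURangeF_spec C relF_hyp 1237356000 tc_eq 1964032 2048 ck_959 b (by omega) (by omega)
end Cfsg.Agent.Lib.Helper2.HNMult.P2
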