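import Cfsg.Agent.Lib.Helper2.HNMult.P2.Cert
set_option autoImplicit false
set_option maxRecDepth 1000000
set_option Elab.async false
namespace Cfsg.Agent.Lib.Helper2.HNMult.P2
open Cfsg.Agent.Lib.Helper4.Sparse Cfsg.Agent.Lib.Helper2.SparseF
theorem ck_960 : chkURangeF D C relF 796 1237356000 1966080 2048 = true := by decide +kernel
theorem ck_961 : chkURangeF D C relF 796 1237356000 1968128 2048 = true := by decide +kernel
theorem ck_962 : chkURangeF D C relF 796 1237356000 1970176 2048 = true := by decide +kernel
theorem ck_963 : chkURangeF D C relF 796 1237356000 1972224 2048 = true := by decide +kernel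
theorem ck_964 : chkURangeF D C relF 796 1237356000 1974272 2048 = true := by decide +kernel
theorem ck_965 : chkURangeF D C relF 796 1237356000 1976320 2048 = true := by decide +kernel
theorem ck_966 : chkURangeF D C relF 796 1237356000 1978368 2048 = true := by decide +kernel
theorem ck_967 : chkURangeF D C relF 796 1237356000 1980416 2048 = true := by decide +kernel
theorem ck_968 : chkURangeF D C relF 796 1237356000 1982464 2048 = true := by decide +kernel
theorem ck_969 : chkURangeF D C relF 796 1237356000 1984512 2048 = true := by decide +kernel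
theorem ck_970 : chkURangeF D C relF 796 1237356000 1986560 2048 = true := by decide +kernel
theorem ck_971 : chkURangeF D C relF 796 1237356000 1988608 2048 = true := by decide +kernel
theorem ck_972 : chkURangeF D C relF 796 1237356000 1990656 2048 = true := by decide +kernel
theorem ck_973 : chkURangeF D C relF 796 1237356000 1992704 2048 = true := by decide +kernel
theorem ck_974 : chkURangeF D C relF 796 1237356000 1994752 2048 = true := by decide +kernel
theorem ck_975 : chkURangeF D C relF 796 1237356000 1996800 2048 = true := by decide +kernel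
theorem ck_976 : chkURangeF D C relF 796 1237356000 1998848 2048 = true := by decide +kernel
theorem ck_977 : chkURangeF D C relF 796 1237356000 2000896 2048 = true := by decide +kernel
theorem ck_978 : chkURangeF D C relF 796 1237356000 2002944 2048 = true := by decide +kernel
theorem ck_979 : chkURangeF D C relF 796 1237356000 2004992 2048 = true := by decide +kernel
theorem ck_980 : chkURangeF D C relF 796 1237356000 2007040 2048 = true := by decide +kernel
theorem ck_981 : chkURangeF D C relF 796 1237356000 2009088 2048 = true := by decide +kernel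
theorem ck_982 : chkURangeF D C relF 796 1237356000 2011136 2048 = true := by decide +kernel
theorem ck_983 : chkURangeF D C relF 796 1237356000 2013184 2048 = true := by decide +kernel
theorem chkU_40 (b : ℕ) (h1 : 1966080 ≤ b) (h2 : b < 2015232) : chkU D C b = true := by
  rcases Nat.lt_or_ge b 1968128 with g0 | g0
  · exact chkURangeF_spec C relF_hyp 1237356000 tc_eq 1966080 2048 ck_960 b (by omega) (by omega)
  rcases Nat.lt_or_ge b 1970176 with g1 | g1
  · exact chkURangeF_spec C relF_hyp 1237356000 tc_eq 1968128 2048 ck_961 b (by omega) (by omega)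
  rcases Nat.lt_or_ge b 1972224 with g2 | g2
  · exact chkURangeF_spec C relF_hyp 1237356000 tc_eq 1970176 2048 ck_962 b (by omega) (by omega)
  rcases Nat.lt_or_ge b 1974272 with g3 | g3
  · exact chkURangeF_spec C relF_hyp 1237356000 tc_eq 1972224 2048 ck_963 b (by omega) (by omega)
  rcases Nat.lt_or_ge b 1976320 with g4 | g4
  · exact chkURangeF_spec C relF_hyp 1237356000 tc_eq 1974272 2048 ck_964 b (by omega) (by omega)
  rcases Nat.lt_or_ge b 1978368 with g5 | g5
  · exact chkURangeF_spec C relF_hyp 1237356000 tc_eq 1976320 2048 ck_965 b (by omega) (by omega)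
  rcases Nat.lt_or_ge b 1980416 with g6 | g6
  · exact chkURangeF_spec C relF_hyp 1237356000 tc_eq 1978368 2048 ck_966 b (by omega) (by omega)
  rcases Nat.lt_or_ge b 1982464 with g7 | g7
  · exact chkURangeF_spec C relF_hyp 1237356000 tc_eq 1980416 2048 ck_967 b (by omega) (by omega)
  rcases Nat.lt_or_ge b 1984512 with g8 | g8
  · exact chkURangeF_spec C relF_hyp 1237356000 tc_eq 1982464 2048 ck_968 b (by omega) (by omega)
  rcases Nat.lt_or_ge b 1986560 with g9 | g9
  · exact chkURangeF_spec C relF_hyp 1237356000 tc_eq 1984512 2048 ck_969 b (by omega) (by omega)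
  rcases Nat.lt_or_ge b 1988608 with g10 | g10
  · exact chkURangeF_spec C relF_hyp 1237356000 tc_eq 1986560 2048 ck_970 b (by omega) (by omega)
  rcases Nat.lt_or_ge b 1990656 with g11 | g11
  · exact chkURangeF_spec C relF_hyp 1237356000 tc_eq 1988608 2048 ck_971 b (by omega) (by omega)
  rcases Nat.lt_or_ge b 1992704 with g12 | g12
  · exact chkURangeF_spec C relF_hyp 1237356000 tc_eq 1990656 2048 ck_972 b (by omega) (by omega)
  rcases Nat.lt_or_ge b 1994752 with g13 | g13
  · exact chkURangeF_spec C relF_hyp 1237356000 tc_eq 1992704 2048 ck_973 b (by omega) (by omega)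
  rcases Nat.lt_or_ge b 1996800 with g14 | g14
  · exact chkURangeF_spec C relF_hyp 1237356000 tc_eq 1994752 2048 ck_974 b (by omega) (by omega)
  rcases Nat.lt_or_ge b 1998848 with g15 | g15
  · exact chkURangeF_spec C relF_hyp 1237356000 tc_eq 1996800 2048 ck_975 b (by omega) (by omega)
  rcases Nat.lt_or_ge b 2000896 with g16 | g16
  · exact chkURangeF_spec C relF_hyp 1237356000 tc_eq 1998848 2048 ck_976 b (by omega) (by omega)
  rcases Nat.lt_or_ge b 2002944 with g17 | g17
  · exact chkURangeF_spec C relF_hyp 1237356000 tc_eq 2000896 2048 ck_977 b (by omega) (by omega)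
  rcases Nat.lt_or_ge b 2004992 with g18 | g18
  · exact chkURangeF_spec C relF_hyp 1237356000 tc_eq 2002944 2048 ck_978 b (by omega) (by omega)
  rcases Nat.lt_or_ge b 2007040 with g19 | g19
  · exact chkURangeF_spec C relF_hyp 1237356000 tc_eq 2004992 2048 ck_979 b (by omega) (by omega)
  rcases Nat.lt_or_ge b 2009088 with g20 | g20
  · exact chkURangeF_spec C relF_hyp 1237356000 tc_eq 2007040 2048 ck_980 b (by omega) (by omega)
  rcases Nat.lt_or_ge b 2011136 with g21 | g21
  · exact chkURangeF_spec C relF_hyp 1237356000 tc_eq 2009088 2048 ck_981 b (by omega) (by omega)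
  rcases Nat.lt_or_ge b 2013184 with g22 | g22
  · exact chkURangeF_spec C relF_hyp 1237356000 tc_eq 2011136 2048 ck_982 b (by omega) (by omega)
  exact chkURangeF_spec C relF_hyp 1237356000 tc_eq 2013184 2048 ck_983 b (by omega) (by omega)
end Cfsg.Agent.Lib.Helper2.HNMult.P2
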