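import Cfsg.Agent.Lib.Helper2.HNMult.P2.Cert
set_option autoImplicit false
set_option maxRecDepth 1000000
set_option Elab.async false
namespace Cfsg.Agent.Lib.Helper2.HNMult.P2
open Cfsg.Agent.Lib.Helper4.Sparse Cfsg.Agent.Lib.Helper2.SparseF
theorem ck_984 : chkURangeF D C relF 796 1237356000 2015232 2048 = true := by decide +kernel
theorem ck_985 : chkURangeF D C relF 796 1237356000 2017280 2048 = true := by decide +kernel
theorem ck_986 : chkURangeF D C relF 796 1237356000 2019328 2048 = true := by decide +kernel
theorem ck_987 : chkURangeF D C relF 796 1237356000 2021376 2048 = true := by decide +kernel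
theorem ck_988 : chkURangeF D C relF 796 1237356000 2023424 2048 = true := by decide +kernel
theorem ck_989 : chkURangeF D C relF 796 1237356000 2025472 2048 = true := by decide +kernel
theorem ck_990 : chkURangeF D C relF 796 1237356000 2027520 2048 = true := by decide +kernel
theorem ck_991 : chkURangeF D C relF 796 1237356000 2029568 2048 = true := by decide +kernel
theorem ck_992 : chkURangeF D C relF 796 1237356000 2031616 2048 = true := by decide +kernel
theorem ck_993 : chkURangeF D C relF 796 1237356000 2033664 2048 = true := by decide +kernel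
theorem ck_994 : chkURangeF D C relF 796 1237356000 2035712 2048 = true := by decide +kernel
theorem ck_995 : chkURangeF D C relF 796 1237356000 2037760 2048 = true := by decide +kernel
theorem ck_996 : chkURangeF D C relF 796 1237356000 2039808 2048 = true := by decide +kernel
theorem ck_997 : chkURangeF D C relF 796 1237356000 2041856 2048 = true := by decide +kernel
theorem ck_998 : chkURangeF D C relF 796 1237356000 2043904 2048 = true := by decide +kernel
theorem ck_999 : chkURangeF D C relF 796 1237356000 2045952 2048 = true := by decide +kernel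
theorem ck_1000 : chkURangeF D C relF 796 1237356000 2048000 2048 = true := by decide +kernel
theorem ck_1001 : chkURangeF D C relF 796 1237356000 2050048 2048 = true := by decide +kernel
theorem ck_1002 : chkURangeF D C relF 796 1237356000 2052096 2048 = true := by decide +kernel
theorem ck_1003 : chkURangeF D C relF 796 1237356000 2054144 2048 = true := by decide +kernel
theorem ck_1004 : chkURangeF D C relF 796 1237356000 2056192 2048 = true := by decide +kernel
theorem ck_1005 : chkURangeF D C relF 796 1237356000 2058240 2048 = true := by decide +kernel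
theorem ck_1006 : chkURangeF D C relF 796 1237356000 2060288 2048 = true := by decide +kernel
theorem ck_1007 : chkURangeF D C relF 796 1237356000 2062336 2048 = true := by decide +kernel
theorem chkU_41 (b : ℕ) (h1 : 2015232 ≤ b) (h2 : b < 2064384) : chkU D C b = true := by
  rcases Nat.lt_or_ge b 2017280 with g0 | g0
  · exact chkURangeF_spec C relF_hyp 1237356000 tc_eq 2015232 2048 ck_984 b (by omega) (by omega)
  rcases Nat.lt_or_ge b 2019328 with g1 | g1
  · exact chkURangeF_spec C relF_hyp 1237356000 tc_eq 2017280 2048 ck_985 b (by omega) (by omega)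
  rcases Nat.lt_or_ge b 2021376 with g2 | g2
  · exact chkURangeF_spec C relF_hyp 1237356000 tc_eq 2019328 2048 ck_986 b (by omega) (by omega)
  rcases Nat.lt_or_ge b 2023424 with g3 | g3
  · exact chkURangeF_spec C relF_hyp 1237356000 tc_eq 2021376 2048 ck_987 b (by omega) (by omega)
  rcases Nat.lt_or_ge b 2025472 with g4 | g4
  · exact chkURangeF_spec C relF_hyp 1237356000 tc_eq 2023424 2048 ck_988 b (by omega) (by omega)
  rcases Nat.lt_or_ge b 2027520 with g5 | g5
  · exact chkURangeF_spec C relF_hyp 1237356000 tc_eq 2025472 2048 ck_989 b (by omega) (by omega)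
  rcases Nat.lt_or_ge b 2029568 with g6 | g6
  · exact chkURangeF_spec C relF_hyp 1237356000 tc_eq 2027520 2048 ck_990 b (by omega) (by omega)
  rcases Nat.lt_or_ge b 2031616 with g7 | g7
  · exact chkURangeF_spec C relF_hyp 1237356000 tc_eq 2029568 2048 ck_991 b (by omega) (by omega)
  rcases Nat.lt_or_ge b 2033664 with g8 | g8
  · exact chkURangeF_spec C relF_hyp 1237356000 tc_eq 2031616 2048 ck_992 b (by omega) (by omega)
  rcases Nat.lt_or_ge b 2035712 with g9 | g9
  · exact chkURangeF_spec C relF_hyp 1237356000 tc_eq 2033664 2048 ck_993 b (by omega) (by omega)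
  rcases Nat.lt_or_ge b 2037760 with g10 | g10
  · exact chkURangeF_spec C relF_hyp 1237356000 tc_eq 2035712 2048 ck_994 b (by omega) (by omega)
  rcases Nat.lt_or_ge b 2039808 with g11 | g11
  · exact chkURangeF_spec C relF_hyp 1237356000 tc_eq 2037760 2048 ck_995 b (by omega) (by omega)
  rcases Nat.lt_or_ge b 2041856 with g12 | g12
  · exact chkURangeF_spec C relF_hyp 1237356000 tc_eq 2039808 2048 ck_996 b (by omega) (by omega)
  rcases Nat.lt_or_ge b 2043904 with g13 | g13
  · exact chkURangeF_spec C relF_hyp 1237356000 tc_eq 2041856 2048 ck_997 b (by omega) (by omega)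
  rcases Nat.lt_or_ge b 2045952 with g14 | g14
  · exact chkURangeF_spec C relF_hyp 1237356000 tc_eq 2043904 2048 ck_998 b (by omega) (by omega)
  rcases Nat.lt_or_ge b 2048000 with g15 | g15
  · exact chkURangeF_spec C relF_hyp 1237356000 tc_eq 2045952 2048 ck_999 b (by omega) (by omega)
  rcases Nat.lt_or_ge b 2050048 with g16 | g16
  · exact chkURangeF_spec C relF_hyp 1237356000 tc_eq 2048000 2048 ck_1000 b (by omega) (by omega)
  rcases Nat.lt_or_ge b 2052096 with g17 | g17
  · exact chkURangeF_spec C relF_hyp 1237356000 tc_eq 2050048 2048 ck_1001 b (by omega) (by omega)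
  rcases Nat.lt_or_ge b 2054144 with g18 | g18
  · exact chkURangeF_spec C relF_hyp 1237356000 tc_eq 2052096 2048 ck_1002 b (by omega) (by omega)
  rcases Nat.lt_or_ge b 2056192 with g19 | g19
  · exact chkURangeF_spec C relF_hyp 1237356000 tc_eq 2054144 2048 ck_1003 b (by omega) (by omega)
  rcases Nat.lt_or_ge b 2058240 with g20 | g20
  · exact chkURangeF_spec C relF_hyp 1237356000 tc_eq 2056192 2048 ck_1004 b (by omega) (by omega)
  rcases Nat.lt_or_ge b 2060288 with g21 | g21
  · exact chkURangeF_spec C relF_hyp 1237356000 tc_eq 2058240 2048 ck_1005 b (by omega) (by omega)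
  rcases Nat.lt_or_ge b 2062336 with g22 | g22
  · exact chkURangeF_spec C relF_hyp 1237356000 tc_eq 2060288 2048 ck_1006 b (by omega) (by omega)
  exact chkURangeF_spec C relF_hyp 1237356000 tc_eq 2062336 2048 ck_1007 b (by omega) (by omega)
end Cfsg.Agent.Lib.Helper2.HNMult.P2
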