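import Cfsg.Agent.Lib.Helper2.HNMult.P2.Cert
set_option autoImplicit false
set_option maxRecDepth 1000000
set_option Elab.async false
namespace Cfsg.Agent.Lib.Helper2.HNMult.P2
open Cfsg.Agent.Lib.Helper4.Sparse Cfsg.Agent.Lib.Helper2.SparseF
theorem ck_1056 : chkURangeF D C relF 796 1237356000 2162688 2048 = true := by decide +kernel
theorem ck_1057 : chkURangeF D C relF 796 1237356000 2164736 2048 = true := by decide +kernel
theorem ck_1058 : chkURangeF D C relF 796 1237356000 2166784 2048 = true := by decide +kernel
theorem ck_1059 : chkURangeF D C relF 796 1237356000 2168832 2048 = true := by decide +kernel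
theorem ck_1060 : chkURangeF D C relF 796 1237356000 2170880 2048 = true := by decide +kernel
theorem ck_1061 : chkURangeF D C relF 796 1237356000 2172928 2048 = true := by decide +kernel
theorem ck_1062 : chkURangeF D C relF 796 1237356000 2174976 2048 = true := by decide +kernel
theorem ck_1063 : chkURangeF D C relF 796 1237356000 2177024 2048 = true := by decide +kernel
theorem ck_1064 : chkURangeF D C relF 796 1237356000 2179072 2048 = true := by decide +kernel
theorem ck_1065 : chkURangeF D C relF 796 1237356000 2181120 2048 = true := by decide +kernel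
theorem ck_1066 : chkURangeF D C relF 796 1237356000 2183168 2048 = true := by decide +kernel
theorem ck_1067 : chkURangeF D C relF 796 1237356000 2185216 2048 = true := by decide +kernel
theorem ck_1068 : chkURangeF D C relF 796 1237356000 2187264 2048 = true := by decide +kernel
theorem ck_1069 : chkURangeF D C relF 796 1237356000 2189312 2048 = true := by decide +kernel
theorem ck_1070 : chkURangeF D C relF 796 1237356000 2191360 2048 = true := by decide +kernel
theorem ck_1071 : chkURangeF D C relF 796 1237356000 2193408 2048 = true := by decide +kernel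
theorem ck_1072 : chkURangeF D C relF 796 1237356000 2195456 2048 = true := by decide +kernel
theorem ck_1073 : chkURangeF D C relF 796 1237356000 2197504 2048 = true := by decide +kernel
theorem ck_1074 : chkURangeF D C relF 796 1237356000 2199552 2048 = true := by decide +kernel
theorem ck_1075 : chkURangeF D C relF 796 1237356000 2201600 2048 = true := by decide +kernel
theorem ck_1076 : chkURangeF D C relF 796 1237356000 2203648 2048 = true := by decide +kernel
theorem ck_1077 : chkURangeF D C relF 796 1237356000 2205696 2048 = true := by decide +kernel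
theorem ck_1078 : chkURangeF D C relF 796 1237356000 2207744 2048 = true := by decide +kernel
theorem ck_1079 : chkURangeF D C relF 796 1237356000 2209792 2048 = true := by decide +kernel
theorem chkU_44 (b : ℕ) (h1 : 2162688 ≤ b) (h2 : b < 2211840) : chkU D C b = true := by
  rcases Nat.lt_or_ge b 2164736 with g0 | g0
  · exact chkURangeF_spec C relF_hyp 1237356000 tc_eq 2162688 2048 ck_1056 b (by omega) (by omega)
  rcases Nat.lt_or_ge b 2166784 with g1 | g1
  · exact chkURangeF_spec C relF_hyp 1237356000 tc_eq 2164736 2048 ck_1057 b (by omega) (by omega)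
  rcases Nat.lt_or_ge b 2168832 with g2 | g2
  · exact chkURangeF_spec C relF_hyp 1237356000 tc_eq 2166784 2048 ck_1058 b (by omega) (by omega)
  rcases Nat.lt_or_ge b 2170880 with g3 | g3
  · exact chkURangeF_spec C relF_hyp 1237356000 tc_eq 2168832 2048 ck_1059 b (by omega) (by omega)
  rcases Nat.lt_or_ge b 2172928 with g4 | g4
  · exact chkURangeF_spec C relF_hyp 1237356000 tc_eq 2170880 2048 ck_1060 b (by omega) (by omega)
  rcases Nat.lt_or_ge b 2174976 with g5 | g5
  · exact chkURangeF_spec C relF_hyp 1237356000 tc_eq 2172928 2048 ck_1061 b (by omega) (by omega)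
  rcases Nat.lt_or_ge b 2177024 with g6 | g6
  · exact chkURangeF_spec C relF_hyp 1237356000 tc_eq 2174976 2048 ck_1062 b (by omega) (by omega)
  rcases Nat.lt_or_ge b 2179072 with g7 | g7
  · exact chkURangeF_spec C relF_hyp 1237356000 tc_eq 2177024 2048 ck_1063 b (by omega) (by omega)
  rcases Nat.lt_or_ge b 2181120 with g8 | g8
  · exact chkURangeF_spec C relF_hyp 1237356000 tc_eq 2179072 2048 ck_1064 b (by omega) (by omega)
  rcases Nat.lt_or_ge b 2183168 with g9 | g9
  · exact chkURangeF_spec C relF_hyp 1237356000 tc_eq 2181120 2048 ck_1065 b (by omega) (by omega)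
  rcases Nat.lt_or_ge b 2185216 with g10 | g10
  · exact chkURangeF_spec C relF_hyp 1237356000 tc_eq 2183168 2048 ck_1066 b (by omega) (by omega)
  rcases Nat.lt_or_ge b 2187264 with g11 | g11
  · exact chkURangeF_spec C relF_hyp 1237356000 tc_eq 2185216 2048 ck_1067 b (by omega) (by omega)
  rcases Nat.lt_or_ge b 2189312 with g12 | g12
  · exact chkURangeF_spec C relF_hyp 1237356000 tc_eq 2187264 2048 ck_1068 b (by omega) (by omega)
  rcases Nat.lt_or_ge b 2191360 with g13 | g13
  · exact chkURangeF_spec C relF_hyp 1237356000 tc_eq 2189312 2048 ck_1069 b (by omega) (by omega)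
  rcases Nat.lt_or_ge b 2193408 with g14 | g14
  · exact chkURangeF_spec C relF_hyp 1237356000 tc_eq 2191360 2048 ck_1070 b (by omega) (by omega)
  rcases Nat.lt_or_ge b 2195456 with g15 | g15
  · exact chkURangeF_spec C relF_hyp 1237356000 tc_eq 2193408 2048 ck_1071 b (by omega) (by omega)
  rcases Nat.lt_or_ge b 2197504 with g16 | g16
  · exact chkURangeF_spec C relF_hyp 1237356000 tc_eq 2195456 2048 ck_1072 b (by omega) (by omega)
  rcases Nat.lt_or_ge b 2199552 with g17 | g17
  · exact chkURangeF_spec C relF_hyp 1237356000 tc_eq 2197504 2048 ck_1073 b (by omega) (by omega)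
  rcases Nat.lt_or_ge b 2201600 with g18 | g18
  · exact chkURangeF_spec C relF_hyp 1237356000 tc_eq 2199552 2048 ck_1074 b (by omega) (by omega)
  rcases Nat.lt_or_ge b 2203648 with g19 | g19
  · exact chkURangeF_spec C relF_hyp 1237356000 tc_eq 2201600 2048 ck_1075 b (by omega) (by omega)
  rcases Nat.lt_or_ge b 2205696 with g20 | g20
  · exact chkURangeF_spec C relF_hyp 1237356000 tc_eq 2203648 2048 ck_1076 b (by omega) (by omega)
  rcases Nat.lt_or_ge b 2207744 with g21 | g21
  · exact chkURangeF_spec C relF_hyp 1237356000 tc_eq 2205696 2048 ck_1077 b (by omega) (by omega)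
  rcases Nat.lt_or_ge b 2209792 with g22 | g22
  · exact chkURangeF_spec C relF_hyp 1237356000 tc_eq 2207744 2048 ck_1078 b (by omega) (by omega)
  exact chkURangeF_spec C relF_hyp 1237356000 tc_eq 2209792 2048 ck_1079 b (by omega) (by omega)
end Cfsg.Agent.Lib.Helper2.HNMult.P2
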