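import Cfsg.Agent.Lib.Helper2.HNMult.P2.Cert
set_option autoImplicit false
set_option maxRecDepth 1000000
set_option Elab.async false
namespace Cfsg.Agent.Lib.Helper2.HNMult.P2
open Cfsg.Agent.Lib.Helper4.Sparse Cfsg.Agent.Lib.Helper2.SparseF
theorem ck_1152 : chkURangeF D C relF 796 1237356000 2359296 2048 = true := by decide +kernel
theorem ck_1153 : chkURangeF D C relF 796 1237356000 2361344 2048 = true := by decide +kernel
theorem ck_1154 : chkURangeF D C relF 796 1237356000 2363392 2048 = true := by decide +kernel
theorem ck_1155 : chkURangeF D C relF 796 1237356000 2365440 2048 = true := by decide +kernel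
theorem ck_1156 : chkURangeF D C relF 796 1237356000 2367488 2048 = true := by decide +kernel
theorem ck_1157 : chkURangeF D C relF 796 1237356000 2369536 2048 = true := by decide +kernel
theorem ck_1158 : chkURangeF D C relF 796 1237356000 2371584 2048 = true := by decide +kernel
theorem ck_1159 : chkURangeF D C relF 796 1237356000 2373632 2048 = true := by decide +kernel
theorem ck_1160 : chkURangeF D C relF 796 1237356000 2375680 2048 = true := by decide +kernel
theorem ck_1161 : chkURangeF D C relF 796 1237356000 2377728 2048 = true := by decide +kernel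
theorem ck_1162 : chkURangeF D C relF 796 1237356000 2379776 2048 = true := by decide +kernel
theorem ck_1163 : chkURangeF D C relF 796 1237356000 2381824 2048 = true := by decide +kernel
theorem ck_1164 : chkURangeF D C relF 796 1237356000 2383872 2048 = true := by decide +kernel
theorem ck_1165 : chkURangeF D C relF 796 1237356000 2385920 2048 = true := by decide +kernel
theorem ck_1166 : chkURangeF D C relF 796 1237356000 2387968 2048 = true := by decide +kernel
theorem ck_1167 : chkURangeF D C relF 796 1237356000 2390016 2048 = true := by decide +kernel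
theorem ck_1168 : chkURangeF D C relF 796 1237356000 2392064 2048 = true := by decide +kernel
theorem ck_1169 : chkURangeF D C relF 796 1237356000 2394112 2048 = true := by decide +kernel
theorem ck_1170 : chkURangeF D C relF 796 1237356000 2396160 2048 = true := by decide +kernel
theorem ck_1171 : chkURangeF D C relF 796 1237356000 2398208 2048 = true := by decide +kernel
theorem ck_1172 : chkURangeF D C relF 796 1237356000 2400256 2048 = true := by decide +kernel
theorem ck_1173 : chkURangeF D C relF 796 1237356000 2402304 2048 = true := by decide +kernel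
theorem ck_1174 : chkURangeF D C relF 796 1237356000 2404352 2048 = true := by decide +kernel
theorem ck_1175 : chkURangeF D C relF 796 1237356000 2406400 2048 = true := by decide +kernel
theorem chkU_48 (b : ℕ) (h1 : 2359296 ≤ b) (h2 : b < 2408448) : chkU D C b = true := by
  rcases Nat.lt_or_ge b 2361344 with g0 | g0
  · exact chkURangeF_spec C relF_hyp 1237356000 tc_eq 2359296 2048 ck_1152 b (by omega) (by omega)
  rcases Nat.lt_or_ge b 2363392 with g1 | g1
  · exact chkURangeF_spec C relF_hyp 1237356000 tc_eq 2361344 2048 ck_1153 b (by omega) (by omega)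
  rcases Nat.lt_or_ge b 2365440 with g2 | g2
  · exact chkURangeF_spec C relF_hyp 1237356000 tc_eq 2363392 2048 ck_1154 b (by omega) (by omega)
  rcases Nat.lt_or_ge b 2367488 with g3 | g3
  · exact chkURangeF_spec C relF_hyp 1237356000 tc_eq 2365440 2048 ck_1155 b (by omega) (by omega)
  rcases Nat.lt_or_ge b 2369536 with g4 | g4
  · exact chkURangeF_spec C relF_hyp 1237356000 tc_eq 2367488 2048 ck_1156 b (by omega) (by omega)
  rcases Nat.lt_or_ge b 2371584 with g5 | g5
  · exact chkURangeF_spec C relF_hyp 1237356000 tc_eq 2369536 2048 ck_1157 b (by omega) (by omega)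
  rcases Nat.lt_or_ge b 2373632 with g6 | g6
  · exact chkURangeF_spec C relF_hyp 1237356000 tc_eq 2371584 2048 ck_1158 b (by omega) (by omega)
  rcases Nat.lt_or_ge b 2375680 with g7 | g7
  · exact chkURangeF_spec C relF_hyp 1237356000 tc_eq 2373632 2048 ck_1159 b (by omega) (by omega)
  rcases Nat.lt_or_ge b 2377728 with g8 | g8
  · exact chkURangeF_spec C relF_hyp 1237356000 tc_eq 2375680 2048 ck_1160 b (by omega) (by omega)
  rcases Nat.lt_or_ge b 2379776 with g9 | g9
  · exact chkURangeF_spec C relF_hyp 1237356000 tc_eq 2377728 2048 ck_1161 b (by omega) (by omega)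
  rcases Nat.lt_or_ge b 2381824 with g10 | g10
  · exact chkURangeF_spec C relF_hyp 1237356000 tc_eq 2379776 2048 ck_1162 b (by omega) (by omega)
  rcases Nat.lt_or_ge b 2383872 with g11 | g11
  · exact chkURangeF_spec C relF_hyp 1237356000 tc_eq 2381824 2048 ck_1163 b (by omega) (by omega)
  rcases Nat.lt_or_ge b 2385920 with g12 | g12
  · exact chkURangeF_spec C relF_hyp 1237356000 tc_eq 2383872 2048 ck_1164 b (by omega) (by omega)
  rcases Nat.lt_or_ge b 2387968 with g13 | g13
  · exact chkURangeF_spec C relF_hyp 1237356000 tc_eq 2385920 2048 ck_1165 b (by omega) (by omega)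
  rcases Nat.lt_or_ge b 2390016 with g14 | g14
  · exact chkURangeF_spec C relF_hyp 1237356000 tc_eq 2387968 2048 ck_1166 b (by omega) (by omega)
  rcases Nat.lt_or_ge b 2392064 with g15 | g15
  · exact chkURangeF_spec C relF_hyp 1237356000 tc_eq 2390016 2048 ck_1167 b (by omega) (by omega)
  rcases Nat.lt_or_ge b 2394112 with g16 | g16
  · exact chkURangeF_spec C relF_hyp 1237356000 tc_eq 2392064 2048 ck_1168 b (by omega) (by omega)
  rcases Nat.lt_or_ge b 2396160 with g17 | g17
  · exact chkURangeF_spec C relF_hyp 1237356000 tc_eq 2394112 2048 ck_1169 b (by omega) (by omega)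
  rcases Nat.lt_or_ge b 2398208 with g18 | g18
  · exact chkURangeF_spec C relF_hyp 1237356000 tc_eq 2396160 2048 ck_1170 b (by omega) (by omega)
  rcases Nat.lt_or_ge b 2400256 with g19 | g19
  · exact chkURangeF_spec C relF_hyp 1237356000 tc_eq 2398208 2048 ck_1171 b (by omega) (by omega)
  rcases Nat.lt_or_ge b 2402304 with g20 | g20
  · exact chkURangeF_spec C relF_hyp 1237356000 tc_eq 2400256 2048 ck_1172 b (by omega) (by omega)
  rcases Nat.lt_or_ge b 2404352 with g21 | g21
  · exact chkURangeF_spec C relF_hyp 1237356000 tc_eq 2402304 2048 ck_1173 b (by omega) (by omega)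
  rcases Nat.lt_or_ge b 2406400 with g22 | g22
  · exact chkURangeF_spec C relF_hyp 1237356000 tc_eq 2404352 2048 ck_1174 b (by omega) (by omega)
  exact chkURangeF_spec C relF_hyp 1237356000 tc_eq 2406400 2048 ck_1175 b (by omega) (by omega)
end Cfsg.Agent.Lib.Helper2.HNMult.P2
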