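import Cfsg.Agent.Lib.Helper2.HNMult.P2.Cert
set_option autoImplicit false
set_option maxRecDepth 1000000
set_option Elab.async false
namespace Cfsg.Agent.Lib.Helper2.HNMult.P2
open Cfsg.Agent.Lib.Helper4.Sparse Cfsg.Agent.Lib.Helper2.SparseF
theorem ck_1272 : chkURangeF D C relF 796 1237356000 2605056 2048 = true := by decide +kernel
theorem ck_1273 : chkURangeF D C relF 796 1237356000 2607104 2048 = true := by decide +kernel
theorem ck_1274 : chkURangeF D C relF 796 1237356000 2609152 2048 = true := by decide +kernel
theorem ck_1275 : chkURangeF D C relF 796 1237356000 2611200 2048 = true := by decide +kernel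
theorem ck_1276 : chkURangeF D C relF 796 1237356000 2613248 2048 = true := by decide +kernel
theorem ck_1277 : chkURangeF D C relF 796 1237356000 2615296 2048 = true := by decide +kernel
theorem ck_1278 : chkURangeF D C relF 796 1237356000 2617344 2048 = true := by decide +kernel
theorem ck_1279 : chkURangeF D C relF 796 1237356000 2619392 2048 = true := by decide +kernel
theorem ck_1280 : chkURangeF D C relF 796 1237356000 2621440 2048 = true := by decide +kernel
theorem ck_1281 : chkURangeF D C relF 796 1237356000 2623488 2048 = true := by decide +kernel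
theorem ck_1282 : chkURangeF D C relF 796 1237356000 2625536 2048 = true := by decide +kernel
theorem ck_1283 : chkURangeF D C relF 796 1237356000 2627584 2048 = true := by decide +kernel
theorem ck_1284 : chkURangeF D C relF 796 1237356000 2629632 2048 = true := by decide +kernel
theorem ck_1285 : chkURangeF D C relF 796 1237356000 2631680 2048 = true := by decide +kernel
theorem ck_1286 : chkURangeF D C relF 796 1237356000 2633728 2048 = true := by decide +kernel
theorem ck_1287 : chkURangeF D C relF 796 1237356000 2635776 2048 = true := by decide +kernel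
theorem ck_1288 : chkURangeF D C relF 796 1237356000 2637824 2048 = true := by decide +kernel
theorem ck_1289 : chkURangeF D C relF 796 1237356000 2639872 2048 = true := by decide +kernel
theorem ck_1290 : chkURangeF D C relF 796 1237356000 2641920 2048 = true := by decide +kernel
theorem ck_1291 : chkURangeF D C relF 796 1237356000 2643968 2048 = true := by decide +kernel
theorem ck_1292 : chkURangeF D C relF 796 1237356000 2646016 2048 = true := by decide +kernel
theorem ck_1293 : chkURangeF D C relF 796 1237356000 2648064 2048 = true := by decide +kernel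
theorem ck_1294 : chkURangeF D C relF 796 1237356000 2650112 2048 = true := by decide +kernel
theorem ck_1295 : chkURangeF D C relF 796 1237356000 2652160 2048 = true := by decide +kernel
theorem chkU_53 (b : ℕ) (h1 : 2605056 ≤ b) (h2 : b < 2654208) : chkU D C b = true := by
  rcases Nat.lt_or_ge b 2607104 with g0 | g0
  · exact chkURangeF_spec C relF_hyp 1237356000 tc_eq 2605056 2048 ck_1272 b (by omega) (by omega)
  rcases Nat.lt_or_ge b 2609152 with g1 | g1
  · exact chkURangeF_spec C relF_hyp 1237356000 tc_eq 2607104 2048 ck_1273 b (by omega) (by omega)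
  rcases Nat.lt_or_ge b 2611200 with g2 | g2
  · exact chkURangeF_spec C relF_hyp 1237356000 tc_eq 2609152 2048 ck_1274 b (by omega) (by omega)
  rcases Nat.lt_or_ge b 2613248 with g3 | g3
  · exact chkURangeF_spec C relF_hyp 1237356000 tc_eq 2611200 2048 ck_1275 b (by omega) (by omega)
  rcases Nat.lt_or_ge b 2615296 with g4 | g4
  · exact chkURangeF_spec C relF_hyp 1237356000 tc_eq 2613248 2048 ck_1276 b (by omega) (by omega)
  rcases Nat.lt_or_ge b 2617344 with g5 | g5
  · exact chkURangeF_spec C relF_hyp 1237356000 tc_eq 2615296 2048 ck_1277 b (by omega) (by omega)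
  rcases Nat.lt_or_ge b 2619392 with g6 | g6
  · exact chkURangeF_spec C relF_hyp 1237356000 tc_eq 2617344 2048 ck_1278 b (by omega) (by omega)
  rcases Nat.lt_or_ge b 2621440 with g7 | g7
  · exact chkURangeF_spec C relF_hyp 1237356000 tc_eq 2619392 2048 ck_1279 b (by omega) (by omega)
  rcases Nat.lt_or_ge b 2623488 with g8 | g8
  · exact chkURangeF_spec C relF_hyp 1237356000 tc_eq 2621440 2048 ck_1280 b (by omega) (by omega)
  rcases Nat.lt_or_ge b 2625536 with g9 | g9
  · exact chkURangeF_spec C relF_hyp 1237356000 tc_eq 2623488 2048 ck_1281 b (by omega) (by omega)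
  rcases Nat.lt_or_ge b 2627584 with g10 | g10
  · exact chkURangeF_spec C relF_hyp 1237356000 tc_eq 2625536 2048 ck_1282 b (by omega) (by omega)
  rcases Nat.lt_or_ge b 2629632 with g11 | g11
  · exact chkURangeF_spec C relF_hyp 1237356000 tc_eq 2627584 2048 ck_1283 b (by omega) (by omega)
  rcases Nat.lt_or_ge b 2631680 with g12 | g12
  · exact chkURangeF_spec C relF_hyp 1237356000 tc_eq 2629632 2048 ck_1284 b (by omega) (by omega)
  rcases Nat.lt_or_ge b 2633728 with g13 | g13
  · exact chkURangeF_spec C relF_hyp 1237356000 tc_eq 2631680 2048 ck_1285 b (by omega) (by omega)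
  rcases Nat.lt_or_ge b 2635776 with g14 | g14
  · exact chkURangeF_spec C relF_hyp 1237356000 tc_eq 2633728 2048 ck_1286 b (by omega) (by omega)
  rcases Nat.lt_or_ge b 2637824 with g15 | g15
  · exact chkURangeF_spec C relF_hyp 1237356000 tc_eq 2635776 2048 ck_1287 b (by omega) (by omega)
  rcases Nat.lt_or_ge b 2639872 with g16 | g16
  · exact chkURangeF_spec C relF_hyp 1237356000 tc_eq 2637824 2048 ck_1288 b (by omega) (by omega)
  rcases Nat.lt_or_ge b 2641920 with g17 | g17
  · exact chkURangeF_spec C relF_hyp 1237356000 tc_eq 2639872 2048 ck_1289 b (by omega) (by omega)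
  rcases Nat.lt_or_ge b 2643968 with g18 | g18
  · exact chkURangeF_spec C relF_hyp 1237356000 tc_eq 2641920 2048 ck_1290 b (by omega) (by omega)
  rcases Nat.lt_or_ge b 2646016 with g19 | g19
  · exact chkURangeF_spec C relF_hyp 1237356000 tc_eq 2643968 2048 ck_1291 b (by omega) (by omega)
  rcases Nat.lt_or_ge b 2648064 with g20 | g20
  · exact chkURangeF_spec C relF_hyp 1237356000 tc_eq 2646016 2048 ck_1292 b (by omega) (by omega)
  rcases Nat.lt_or_ge b 2650112 with g21 | g21
  · exact chkURangeF_spec C relF_hyp 1237356000 tc_eq 2648064 2048 ck_1293 b (by omega) (by omega)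
  rcases Nat.lt_or_ge b 2652160 with g22 | g22
  · exact chkURangeF_spec C relF_hyp 1237356000 tc_eq 2650112 2048 ck_1294 b (by omega) (by omega)
  exact chkURangeF_spec C relF_hyp 1237356000 tc_eq 2652160 2048 ck_1295 b (by omega) (by omega)
end Cfsg.Agent.Lib.Helper2.HNMult.P2
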