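import Cfsg.Agent.Lib.Helper2.HNMult.P2.Cert
set_option autoImplicit false
set_option maxRecDepth 1000000
set_option Elab.async false
namespace Cfsg.Agent.Lib.Helper2.HNMult.P2
open Cfsg.Agent.Lib.Helper4.Sparse Cfsg.Agent.Lib.Helper2.SparseF
theorem ck_1320 : chkURangeF D C relF 796 1237356000 2703360 2048 = true := by decide +kernel
theorem ck_1321 : chkURangeF D C relF 796 1237356000 2705408 2048 = true := by decide +kernel
theorem ck_1322 : chkURangeF D C relF 796 1237356000 2707456 2048 = true := by decide +kernel
theorem ck_1323 : chkURangeF D C relF 796 1237356000 2709504 2048 = true := by decide +kernel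
theorem ck_1324 : chkURangeF D C relF 796 1237356000 2711552 2048 = true := by decide +kernel
theorem ck_1325 : chkURangeF D C relF 796 1237356000 2713600 2048 = true := by decide +kernel
theorem ck_1326 : chkURangeF D C relF 796 1237356000 2715648 2048 = true := by decide +kernel
theorem ck_1327 : chkURangeF D C relF 796 1237356000 2717696 2048 = true := by decide +kernel
theorem ck_1328 : chkURangeF D C relF 796 1237356000 2719744 2048 = true := by decide +kernel
theorem ck_1329 : chkURangeF D C relF 796 1237356000 2721792 2048 = true := by decide +kernel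
theorem ck_1330 : chkURangeF D C relF 796 1237356000 2723840 2048 = true := by decide +kernel
theorem ck_1331 : chkURangeF D C relF 796 1237356000 2725888 2048 = true := by decide +kernel
theorem ck_1332 : chkURangeF D C relF 796 1237356000 2727936 2048 = true := by decide +kernel
theorem ck_1333 : chkURangeF D C relF 796 1237356000 2729984 2048 = true := by decide +kernel
theorem ck_1334 : chkURangeF D C relF 796 1237356000 2732032 2048 = true := by decide +kernel
theorem ck_1335 : chkURangeF D C relF 796 1237356000 2734080 2048 = true := by decide +kernel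
theorem ck_1336 : chkURangeF D C relF 796 1237356000 2736128 2048 = true := by decide +kernel
theorem ck_1337 : chkURangeF D C relF 796 1237356000 2738176 2048 = true := by decide +kernel
theorem ck_1338 : chkURangeF D C relF 796 1237356000 2740224 2048 = true := by decide +kernel
theorem ck_1339 : chkURangeF D C relF 796 1237356000 2742272 2048 = true := by decide +kernel
theorem ck_1340 : chkURangeF D C relF 796 1237356000 2744320 2048 = true := by decide +kernel
theorem ck_1341 : chkURangeF D C relF 796 1237356000 2746368 2048 = true := by decide +kernel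
theorem ck_1342 : chkURangeF D C relF 796 1237356000 2748416 2048 = true := by decide +kernel
theorem ck_1343 : chkURangeF D C relF 796 1237356000 2750464 2048 = true := by decide +kernel
theorem chkU_55 (b : ℕ) (h1 : 2703360 ≤ b) (h2 : b < 2752512) : chkU D C b = true := by
  rcases Nat.lt_or_ge b 2705408 with g0 | g0
  · exact chkURangeF_spec C relF_hyp 1237356000 tc_eq 2703360 2048 ck_1320 b (by omega) (by omega)
  rcases Nat.lt_or_ge b 2707456 with g1 | g1
  · exact chkURangeF_spec C relF_hyp 1237356000 tc_eq 2705408 2048 ck_1321 b (by omega) (by omega)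
  rcases Nat.lt_or_ge b 2709504 with g2 | g2
  · exact chkURangeF_spec C relF_hyp 1237356000 tc_eq 2707456 2048 ck_1322 b (by omega) (by omega)
  rcases Nat.lt_or_ge b 2711552 with g3 | g3
  · exact chkURangeF_spec C relF_hyp 1237356000 tc_eq 2709504 2048 ck_1323 b (by omega) (by omega)
  rcases Nat.lt_or_ge b 2713600 with g4 | g4
  · exact chkURangeF_spec C relF_hyp 1237356000 tc_eq 2711552 2048 ck_1324 b (by omega) (by omega)
  rcases Nat.lt_or_ge b 2715648 with g5 | g5
  · exact chkURangeF_spec C relF_hyp 1237356000 tc_eq 2713600 2048 ck_1325 b (by omega) (by omega)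
  rcases Nat.lt_or_ge b 2717696 with g6 | g6
  · exact chkURangeF_spec C relF_hyp 1237356000 tc_eq 2715648 2048 ck_1326 b (by omega) (by omega)
  rcases Nat.lt_or_ge b 2719744 with g7 | g7
  · exact chkURangeF_spec C relF_hyp 1237356000 tc_eq 2717696 2048 ck_1327 b (by omega) (by omega)
  rcases Nat.lt_or_ge b 2721792 with g8 | g8
  · exact chkURangeF_spec C relF_hyp 1237356000 tc_eq 2719744 2048 ck_1328 b (by omega) (by omega)
  rcases Nat.lt_or_ge b 2723840 with g9 | g9
  · exact chkURangeF_spec C relF_hyp 1237356000 tc_eq 2721792 2048 ck_1329 b (by omega) (by omega)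
  rcases Nat.lt_or_ge b 2725888 with g10 | g10
  · exact chkURangeF_spec C relF_hyp 1237356000 tc_eq 2723840 2048 ck_1330 b (by omega) (by omega)
  rcases Nat.lt_or_ge b 2727936 with g11 | g11
  · exact chkURangeF_spec C relF_hyp 1237356000 tc_eq 2725888 2048 ck_1331 b (by omega) (by omega)
  rcases Nat.lt_or_ge b 2729984 with g12 | g12
  · exact chkURangeF_spec C relF_hyp 1237356000 tc_eq 2727936 2048 ck_1332 b (by omega) (by omega)
  rcases Nat.lt_or_ge b 2732032 with g13 | g13
  · exact chkURangeF_spec C relF_hyp 1237356000 tc_eq 2729984 2048 ck_1333 b (by omega) (by omega)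
  rcases Nat.lt_or_ge b 2734080 with g14 | g14
  · exact chkURangeF_spec C relF_hyp 1237356000 tc_eq 2732032 2048 ck_1334 b (by omega) (by omega)
  rcases Nat.lt_or_ge b 2736128 with g15 | g15
  · exact chkURangeF_spec C relF_hyp 1237356000 tc_eq 2734080 2048 ck_1335 b (by omega) (by omega)
  rcases Nat.lt_or_ge b 2738176 with g16 | g16
  · exact chkURangeF_spec C relF_hyp 1237356000 tc_eq 2736128 2048 ck_1336 b (by omega) (by omega)
  rcases Nat.lt_or_ge b 2740224 with g17 | g17
  · exact chkURangeF_spec C relF_hyp 1237356000 tc_eq 2738176 2048 ck_1337 b (by omega) (by omega)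
  rcases Nat.lt_or_ge b 2742272 with g18 | g18
  · exact chkURangeF_spec C relF_hyp 1237356000 tc_eq 2740224 2048 ck_1338 b (by omega) (by omega)
  rcases Nat.lt_or_ge b 2744320 with g19 | g19
  · exact chkURangeF_spec C relF_hyp 1237356000 tc_eq 2742272 2048 ck_1339 b (by omega) (by omega)
  rcases Nat.lt_or_ge b 2746368 with g20 | g20
  · exact chkURangeF_spec C relF_hyp 1237356000 tc_eq 2744320 2048 ck_1340 b (by omega) (by omega)
  rcases Nat.lt_or_ge b 2748416 with g21 | g21
  · exact chkURangeF_spec C relF_hyp 1237356000 tc_eq 2746368 2048 ck_1341 b (by omega) (by omega)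
  rcases Nat.lt_or_ge b 2750464 with g22 | g22
  · exact chkURangeF_spec C relF_hyp 1237356000 tc_eq 2748416 2048 ck_1342 b (by omega) (by omega)
  exact chkURangeF_spec C relF_hyp 1237356000 tc_eq 2750464 2048 ck_1343 b (by omega) (by omega)
end Cfsg.Agent.Lib.Helper2.HNMult.P2
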