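import Cfsg.Agent.Lib.Helper2.HNMult.P2.Cert
set_option autoImplicit false
set_option maxRecDepth 1000000
set_option Elab.async false
namespace Cfsg.Agent.Lib.Helper2.HNMult.P2
open Cfsg.Agent.Lib.Helper4.Sparse Cfsg.Agent.Lib.Helper2.SparseF
theorem ck_1440 : chkURangeF D C relF 796 1237356000 2949120 2048 = true := by decide +kernel
theorem ck_1441 : chkURangeF D C relF 796 1237356000 2951168 2048 = true := by decide +kernel
theorem ck_1442 : chkURangeF D C relF 796 1237356000 2953216 2048 = true := by decide +kernel
theorem ck_1443 : chkURangeF D C relF 796 1237356000 2955264 2048 = true := by decide +kernel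
theorem ck_1444 : chkURangeF D C relF 796 1237356000 2957312 2048 = true := by decide +kernel
theorem ck_1445 : chkURangeF D C relF 796 1237356000 2959360 2048 = true := by decide +kernel
theorem ck_1446 : chkURangeF D C relF 796 1237356000 2961408 2048 = true := by decide +kernel
theorem ck_1447 : chkURangeF D C relF 796 1237356000 2963456 2048 = true := by decide +kernel
theorem ck_1448 : chkURangeF D C relF 796 1237356000 2965504 2048 = true := by decide +kernel
theorem ck_1449 : chkURangeF D C relF 796 1237356000 2967552 2048 = true := by decide +kernel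
theorem ck_1450 : chkURangeF D C relF 796 1237356000 2969600 2048 = true := by decide +kernel
theorem ck_1451 : chkURangeF D C relF 796 1237356000 2971648 2048 = true := by decide +kernel
theorem ck_1452 : chkURangeF D C relF 796 1237356000 2973696 2048 = true := by decide +kernel
theorem ck_1453 : chkURangeF D C relF 796 1237356000 2975744 2048 = true := by decide +kernel
theorem ck_1454 : chkURangeF D C relF 796 1237356000 2977792 2048 = true := by decide +kernel
theorem ck_1455 : chkURangeF D C relF 796 1237356000 2979840 2048 = true := by decide +kernel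
theorem ck_1456 : chkURangeF D C relF 796 1237356000 2981888 2048 = true := by decide +kernel
theorem ck_1457 : chkURangeF D C relF 796 1237356000 2983936 2048 = true := by decide +kernel
theorem ck_1458 : chkURangeF D C relF 796 1237356000 2985984 2048 = true := by decide +kernel
theorem ck_1459 : chkURangeF D C relF 796 1237356000 2988032 2048 = true := by decide +kernel
theorem ck_1460 : chkURangeF D C relF 796 1237356000 2990080 2048 = true := by decide +kernel
theorem ck_1461 : chkURangeF D C relF 796 1237356000 2992128 2048 = true := by decide +kernel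
theorem ck_1462 : chkURangeF D C relF 796 1237356000 2994176 2048 = true := by decide +kernel
theorem ck_1463 : chkURangeF D C relF 796 1237356000 2996224 2048 = true := by decide +kernel
theorem chkU_60 (b : ℕ) (h1 : 2949120 ≤ b) (h2 : b < 2998272) : chkU D C b = true := by
  rcases Nat.lt_or_ge b 2951168 with g0 | g0
  · exact chkURangeF_spec C relF_hyp 1237356000 tc_eq 2949120 2048 ck_1440 b (by omega) (by omega)
  rcases Nat.lt_or_ge b 2953216 with g1 | g1
  · exact chkURangeF_spec C relF_hyp 1237356000 tc_eq 2951168 2048 ck_1441 b (by omega) (by omega)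
  rcases Nat.lt_or_ge b 2955264 with g2 | g2
  · exact chkURangeF_spec C relF_hyp 1237356000 tc_eq 2953216 2048 ck_1442 b (by omega) (by omega)
  rcases Nat.lt_or_ge b 2957312 with g3 | g3
  · exact chkURangeF_spec C relF_hyp 1237356000 tc_eq 2955264 2048 ck_1443 b (by omega) (by omega)
  rcases Nat.lt_or_ge b 2959360 with g4 | g4
  · exact chkURangeF_spec C relF_hyp 1237356000 tc_eq 2957312 2048 ck_1444 b (by omega) (by omega)
  rcases Nat.lt_or_ge b 2961408 with g5 | g5
  · exact chkURangeF_spec C relF_hyp 1237356000 tc_eq 2959360 2048 ck_1445 b (by omega) (by omega)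
  rcases Nat.lt_or_ge b 2963456 with g6 | g6
  · exact chkURangeF_spec C relF_hyp 1237356000 tc_eq 2961408 2048 ck_1446 b (by omega) (by omega)
  rcases Nat.lt_or_ge b 2965504 with g7 | g7
  · exact chkURangeF_spec C relF_hyp 1237356000 tc_eq 2963456 2048 ck_1447 b (by omega) (by omega)
  rcases Nat.lt_or_ge b 2967552 with g8 | g8
  · exact chkURangeF_spec C relF_hyp 1237356000 tc_eq 2965504 2048 ck_1448 b (by omega) (by omega)
  rcases Nat.lt_or_ge b 2969600 with g9 | g9
  · exact chkURangeF_spec C relF_hyp 1237356000 tc_eq 2967552 2048 ck_1449 b (by omega) (by omega)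
  rcases Nat.lt_or_ge b 2971648 with g10 | g10
  · exact chkURangeF_spec C relF_hyp 1237356000 tc_eq 2969600 2048 ck_1450 b (by omega) (by omega)
  rcases Nat.lt_or_ge b 2973696 with g11 | g11
  · exact chkURangeF_spec C relF_hyp 1237356000 tc_eq 2971648 2048 ck_1451 b (by omega) (by omega)
  rcases Nat.lt_or_ge b 2975744 with g12 | g12
  · exact chkURangeF_spec C relF_hyp 1237356000 tc_eq 2973696 2048 ck_1452 b (by omega) (by omega)
  rcases Nat.lt_or_ge b 2977792 with g13 | g13
  · exact chkURangeF_spec C relF_hyp 1237356000 tc_eq 2975744 2048 ck_1453 b (by omega) (by omega)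
  rcases Nat.lt_or_ge b 2979840 with g14 | g14
  · exact chkURangeF_spec C relF_hyp 1237356000 tc_eq 2977792 2048 ck_1454 b (by omega) (by omega)
  rcases Nat.lt_or_ge b 2981888 with g15 | g15
  · exact chkURangeF_spec C relF_hyp 1237356000 tc_eq 2979840 2048 ck_1455 b (by omega) (by omega)
  rcases Nat.lt_or_ge b 2983936 with g16 | g16
  · exact chkURangeF_spec C relF_hyp 1237356000 tc_eq 2981888 2048 ck_1456 b (by omega) (by omega)
  rcases Nat.lt_or_ge b 2985984 with g17 | g17
  · exact chkURangeF_spec C relF_hyp 1237356000 tc_eq 2983936 2048 ck_1457 b (by omega) (by omega)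
  rcases Nat.lt_or_ge b 2988032 with g18 | g18
  · exact chkURangeF_spec C relF_hyp 1237356000 tc_eq 2985984 2048 ck_1458 b (by omega) (by omega)
  rcases Nat.lt_or_ge b 2990080 with g19 | g19
  · exact chkURangeF_spec C relF_hyp 1237356000 tc_eq 2988032 2048 ck_1459 b (by omega) (by omega)
  rcases Nat.lt_or_ge b 2992128 with g20 | g20
  · exact chkURangeF_spec C relF_hyp 1237356000 tc_eq 2990080 2048 ck_1460 b (by omega) (by omega)
  rcases Nat.lt_or_ge b 2994176 with g21 | g21
  · exact chkURangeF_spec C relF_hyp 1237356000 tc_eq 2992128 2048 ck_1461 b (by omega) (by omega)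
  rcases Nat.lt_or_ge b 2996224 with g22 | g22
  · exact chkURangeF_spec C relF_hyp 1237356000 tc_eq 2994176 2048 ck_1462 b (by omega) (by omega)
  exact chkURangeF_spec C relF_hyp 1237356000 tc_eq 2996224 2048 ck_1463 b (by omega) (by omega)
end Cfsg.Agent.Lib.Helper2.HNMult.P2
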