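import Cfsg.Agent.Lib.Helper2.HNMult.P2.Cert
set_option autoImplicit false
set_option maxRecDepth 1000000
set_option Elab.async false
namespace Cfsg.Agent.Lib.Helper2.HNMult.P2
open Cfsg.Agent.Lib.Helper4.Sparse Cfsg.Agent.Lib.Helper2.SparseF
theorem ck_1464 : chkURangeF D C relF 796 1237356000 2998272 2048 = true := by decide +kernel
theorem ck_1465 : chkURangeF D C relF 796 1237356000 3000320 2048 = true := by decide +kernel
theorem ck_1466 : chkURangeF D C relF 796 1237356000 3002368 2048 = true := by decide +kernel
theorem ck_1467 : chkURangeF D C relF 796 1237356000 3004416 2048 = true := by decide +kernel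
theorem ck_1468 : chkURangeF D C relF 796 1237356000 3006464 2048 = true := by decide +kernel
theorem ck_1469 : chkURangeF D C relF 796 1237356000 3008512 2048 = true := by decide +kernel
theorem ck_1470 : chkURangeF D C relF 796 1237356000 3010560 2048 = true := by decide +kernel
theorem ck_1471 : chkURangeF D C relF 796 1237356000 3012608 2048 = true := by decide +kernel
theorem ck_1472 : chkURangeF D C relF 796 1237356000 3014656 2048 = true := by decide +kernel
theorem ck_1473 : chkURangeF D C relF 796 1237356000 3016704 2048 = true := by decide +kernel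
theorem ck_1474 : chkURangeF D C relF 796 1237356000 3018752 2048 = true := by decide +kernel
theorem ck_1475 : chkURangeF D C relF 796 1237356000 3020800 2048 = true := by decide +kernel
theorem ck_1476 : chkURangeF D C relF 796 1237356000 3022848 2048 = true := by decide +kernel
theorem ck_1477 : chkURangeF D C relF 796 1237356000 3024896 2048 = true := by decide +kernel
theorem ck_1478 : chkURangeF D C relF 796 1237356000 3026944 2048 = true := by decide +kernel
theorem ck_1479 : chkURangeF D C relF 796 1237356000 3028992 2048 = true := by decide +kernel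
theorem ck_1480 : chkURangeF D C relF 796 1237356000 3031040 2048 = true := by decide +kernel
theorem ck_1481 : chkURangeF D C relF 796 1237356000 3033088 2048 = true := by decide +kernel
theorem ck_1482 : chkURangeF D C relF 796 1237356000 3035136 2048 = true := by decide +kernel
theorem ck_1483 : chkURangeF D C relF 796 1237356000 3037184 2048 = true := by decide +kernel
theorem ck_1484 : chkURangeF D C relF 796 1237356000 3039232 2048 = true := by decide +kernel
theorem ck_1485 : chkURangeF D C relF 796 1237356000 3041280 2048 = true := by decide +kernel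
theorem ck_1486 : chkURangeF D C relF 796 1237356000 3043328 2048 = true := by decide +kernel
theorem ck_1487 : chkURangeF D C relF 796 1237356000 3045376 2048 = true := by decide +kernel
theorem chkU_61 (b : ℕ) (h1 : 2998272 ≤ b) (h2 : b < 3047424) : chkU D C b = true := by
  rcases Nat.lt_or_ge b 3000320 with g0 | g0
  · exact chkURangeF_spec C relF_hyp 1237356000 tc_eq 2998272 2048 ck_1464 b (by omega) (by omega)
  rcases Nat.lt_or_ge b 3002368 with g1 | g1
  · exact chkURangeF_spec C relF_hyp 1237356000 tc_eq 3000320 2048 ck_1465 b (by omega) (by omega)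
  rcases Nat.lt_or_ge b 3004416 with g2 | g2
  · exact chkURangeF_spec C relF_hyp 1237356000 tc_eq 3002368 2048 ck_1466 b (by omega) (by omega)
  rcases Nat.lt_or_ge b 3006464 with g3 | g3
  · exact chkURangeF_spec C relF_hyp 1237356000 tc_eq 3004416 2048 ck_1467 b (by omega) (by omega)
  rcases Nat.lt_or_ge b 3008512 with g4 | g4
  · exact chkURangeF_spec C relF_hyp 1237356000 tc_eq 3006464 2048 ck_1468 b (by omega) (by omega)
  rcases Nat.lt_or_ge b 3010560 with g5 | g5
  · exact chkURangeF_spec C relF_hyp 1237356000 tc_eq 3008512 2048 ck_1469 b (by omega) (by omega)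
  rcases Nat.lt_or_ge b 3012608 with g6 | g6
  · exact chkURangeF_spec C relF_hyp 1237356000 tc_eq 3010560 2048 ck_1470 b (by omega) (by omega)
  rcases Nat.lt_or_ge b 3014656 with g7 | g7
  · exact chkURangeF_spec C relF_hyp 1237356000 tc_eq 3012608 2048 ck_1471 b (by omega) (by omega)
  rcases Nat.lt_or_ge b 3016704 with g8 | g8
  · exact chkURangeF_spec C relF_hyp 1237356000 tc_eq 3014656 2048 ck_1472 b (by omega) (by omega)
  rcases Nat.lt_or_ge b 3018752 with g9 | g9
  · exact chkURangeF_spec C relF_hyp 1237356000 tc_eq 3016704 2048 ck_1473 b (by omega) (by omega)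
  rcases Nat.lt_or_ge b 3020800 with g10 | g10
  · exact chkURangeF_spec C relF_hyp 1237356000 tc_eq 3018752 2048 ck_1474 b (by omega) (by omega)
  rcases Nat.lt_or_ge b 3022848 with g11 | g11
  · exact chkURangeF_spec C relF_hyp 1237356000 tc_eq 3020800 2048 ck_1475 b (by omega) (by omega)
  rcases Nat.lt_or_ge b 3024896 with g12 | g12
  · exact chkURangeF_spec C relF_hyp 1237356000 tc_eq 3022848 2048 ck_1476 b (by omega) (by omega)
  rcases Nat.lt_or_ge b 3026944 with g13 | g13
  · exact chkURangeF_spec C relF_hyp 1237356000 tc_eq 3024896 2048 ck_1477 b (by omega) (by omega)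
  rcases Nat.lt_or_ge b 3028992 with g14 | g14
  · exact chkURangeF_spec C relF_hyp 1237356000 tc_eq 3026944 2048 ck_1478 b (by omega) (by omega)
  rcases Nat.lt_or_ge b 3031040 with g15 | g15
  · exact chkURangeF_spec C relF_hyp 1237356000 tc_eq 3028992 2048 ck_1479 b (by omega) (by omega)
  rcases Nat.lt_or_ge b 3033088 with g16 | g16
  · exact chkURangeF_spec C relF_hyp 1237356000 tc_eq 3031040 2048 ck_1480 b (by omega) (by omega)
  rcases Nat.lt_or_ge b 3035136 with g17 | g17
  · exact chkURangeF_spec C relF_hyp 1237356000 tc_eq 3033088 2048 ck_1481 b (by omega) (by omega)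
  rcases Nat.lt_or_ge b 3037184 with g18 | g18
  · exact chkURangeF_spec C relF_hyp 1237356000 tc_eq 3035136 2048 ck_1482 b (by omega) (by omega)
  rcases Nat.lt_or_ge b 3039232 with g19 | g19
  · exact chkURangeF_spec C relF_hyp 1237356000 tc_eq 3037184 2048 ck_1483 b (by omega) (by omega)
  rcases Nat.lt_or_ge b 3041280 with g20 | g20
  · exact chkURangeF_spec C relF_hyp 1237356000 tc_eq 3039232 2048 ck_1484 b (by omega) (by omega)
  rcases Nat.lt_or_ge b 3043328 with g21 | g21
  · exact chkURangeF_spec C relF_hyp 1237356000 tc_eq 3041280 2048 ck_1485 b (by omega) (by omega)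
  rcases Nat.lt_or_ge b 3045376 with g22 | g22
  · exact chkURangeF_spec C relF_hyp 1237356000 tc_eq 3043328 2048 ck_1486 b (by omega) (by omega)
  exact chkURangeF_spec C relF_hyp 1237356000 tc_eq 3045376 2048 ck_1487 b (by omega) (by omega)
end Cfsg.Agent.Lib.Helper2.HNMult.P2
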