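import Cfsg.Agent.Lib.Helper2.HNMult.P2.Cert
set_option autoImplicit false
set_option maxRecDepth 1000000
set_option Elab.async false
namespace Cfsg.Agent.Lib.Helper2.HNMult.P2
open Cfsg.Agent.Lib.Helper4.Sparse Cfsg.Agent.Lib.Helper2.SparseF
theorem ck_1560 : chkURangeF D C relF 796 1237356000 3194880 2048 = true := by decide +kernel
theorem ck_1561 : chkURangeF D C relF 796 1237356000 3196928 2048 = true := by decide +kernel
theorem ck_1562 : chkURangeF D C relF 796 1237356000 3198976 2048 = true := by decide +kernel
theorem ck_1563 : chkURangeF D C relF 796 1237356000 3201024 2048 = true := by decide +kernel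
theorem ck_1564 : chkURangeF D C relF 796 1237356000 3203072 2048 = true := by decide +kernel
theorem ck_1565 : chkURangeF D C relF 796 1237356000 3205120 2048 = true := by decide +kernel
theorem ck_1566 : chkURangeF D C relF 796 1237356000 3207168 2048 = true := by decide +kernel
theorem ck_1567 : chkURangeF D C relF 796 1237356000 3209216 2048 = true := by decide +kernel
theorem ck_1568 : chkURangeF D C relF 796 1237356000 3211264 2048 = true := by decide +kernel
theorem ck_1569 : chkURangeF D C relF 796 1237356000 3213312 2048 = true := by decide +kernel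
theorem ck_1570 : chkURangeF D C relF 796 1237356000 3215360 2048 = true := by decide +kernel
theorem ck_1571 : chkURangeF D C relF 796 1237356000 3217408 2048 = true := by decide +kernel
theorem ck_1572 : chkURangeF D C relF 796 1237356000 3219456 2048 = true := by decide +kernel
theorem ck_1573 : chkURangeF D C relF 796 1237356000 3221504 2048 = true := by decide +kernel
theorem ck_1574 : chkURangeF D C relF 796 1237356000 3223552 2048 = true := by decide +kernel
theorem ck_1575 : chkURangeF D C relF 796 1237356000 3225600 2048 = true := by decide +kernel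
theorem ck_1576 : chkURangeF D C relF 796 1237356000 3227648 2048 = true := by decide +kernel
theorem ck_1577 : chkURangeF D C relF 796 1237356000 3229696 2048 = true := by decide +kernel
theorem ck_1578 : chkURangeF D C relF 796 1237356000 3231744 2048 = true := by decide +kernel
theorem ck_1579 : chkURangeF D C relF 796 1237356000 3233792 2048 = true := by decide +kernel
theorem ck_1580 : chkURangeF D C relF 796 1237356000 3235840 2048 = true := by decide +kernel
theorem ck_1581 : chkURangeF D C relF 796 1237356000 3237888 2048 = true := by decide +kernel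
theorem ck_1582 : chkURangeF D C relF 796 1237356000 3239936 2048 = true := by decide +kernel
theorem ck_1583 : chkURangeF D C relF 796 1237356000 3241984 2048 = true := by decide +kernel
theorem chkU_65 (b : ℕ) (h1 : 3194880 ≤ b) (h2 : b < 3244032) : chkU D C b = true := by
  rcases Nat.lt_or_ge b 3196928 with g0 | g0
  · exact chkURangeF_spec C relF_hyp 1237356000 tc_eq 3194880 2048 ck_1560 b (by omega) (by omega)
  rcases Nat.lt_or_ge b 3198976 with g1 | g1
  · exact chkURangeF_spec C relF_hyp 1237356000 tc_eq 3196928 2048 ck_1561 b (by omega) (by omega)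
  rcases Nat.lt_or_ge b 3201024 with g2 | g2
  · exact chkURangeF_spec C relF_hyp 1237356000 tc_eq 3198976 2048 ck_1562 b (by omega) (by omega)
  rcases Nat.lt_or_ge b 3203072 with g3 | g3
  · exact chkURangeF_spec C relF_hyp 1237356000 tc_eq 3201024 2048 ck_1563 b (by omega) (by omega)
  rcases Nat.lt_or_ge b 3205120 with g4 | g4
  · exact chkURangeF_spec C relF_hyp 1237356000 tc_eq 3203072 2048 ck_1564 b (by omega) (by omega)
  rcases Nat.lt_or_ge b 3207168 with g5 | g5
  · exact chkURangeF_spec C relF_hyp 1237356000 tc_eq 3205120 2048 ck_1565 b (by omega) (by omega)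
  rcases Nat.lt_or_ge b 3209216 with g6 | g6
  · exact chkURangeF_spec C relF_hyp 1237356000 tc_eq 3207168 2048 ck_1566 b (by omega) (by omega)
  rcases Nat.lt_or_ge b 3211264 with g7 | g7
  · exact chkURangeF_spec C relF_hyp 1237356000 tc_eq 3209216 2048 ck_1567 b (by omega) (by omega)
  rcases Nat.lt_or_ge b 3213312 with g8 | g8
  · exact chkURangeF_spec C relF_hyp 1237356000 tc_eq 3211264 2048 ck_1568 b (by omega) (by omega)
  rcases Nat.lt_or_ge b 3215360 with g9 | g9
  · exact chkURangeF_spec C relF_hyp 1237356000 tc_eq 3213312 2048 ck_1569 b (by omega) (by omega)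
  rcases Nat.lt_or_ge b 3217408 with g10 | g10
  · exact chkURangeF_spec C relF_hyp 1237356000 tc_eq 3215360 2048 ck_1570 b (by omega) (by omega)
  rcases Nat.lt_or_ge b 3219456 with g11 | g11
  · exact chkURangeF_spec C relF_hyp 1237356000 tc_eq 3217408 2048 ck_1571 b (by omega) (by omega)
  rcases Nat.lt_or_ge b 3221504 with g12 | g12
  · exact chkURangeF_spec C relF_hyp 1237356000 tc_eq 3219456 2048 ck_1572 b (by omega) (by omega)
  rcases Nat.lt_or_ge b 3223552 with g13 | g13
  · exact chkURangeF_spec C relF_hyp 1237356000 tc_eq 3221504 2048 ck_1573 b (by omega) (by omega)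
  rcases Nat.lt_or_ge b 3225600 with g14 | g14
  · exact chkURangeF_spec C relF_hyp 1237356000 tc_eq 3223552 2048 ck_1574 b (by omega) (by omega)
  rcases Nat.lt_or_ge b 3227648 with g15 | g15
  · exact chkURangeF_spec C relF_hyp 1237356000 tc_eq 3225600 2048 ck_1575 b (by omega) (by omega)
  rcases Nat.lt_or_ge b 3229696 with g16 | g16
  · exact chkURangeF_spec C relF_hyp 1237356000 tc_eq 3227648 2048 ck_1576 b (by omega) (by omega)
  rcases Nat.lt_or_ge b 3231744 with g17 | g17
  · exact chkURangeF_spec C relF_hyp 1237356000 tc_eq 3229696 2048 ck_1577 b (by omega) (by omega)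
  rcases Nat.lt_or_ge b 3233792 with g18 | g18
  · exact chkURangeF_spec C relF_hyp 1237356000 tc_eq 3231744 2048 ck_1578 b (by omega) (by omega)
  rcases Nat.lt_or_ge b 3235840 with g19 | g19
  · exact chkURangeF_spec C relF_hyp 1237356000 tc_eq 3233792 2048 ck_1579 b (by omega) (by omega)
  rcases Nat.lt_or_ge b 3237888 with g20 | g20
  · exact chkURangeF_spec C relF_hyp 1237356000 tc_eq 3235840 2048 ck_1580 b (by omega) (by omega)
  rcases Nat.lt_or_ge b 3239936 with g21 | g21
  · exact chkURangeF_spec C relF_hyp 1237356000 tc_eq 3237888 2048 ck_1581 b (by omega) (by omega)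
  rcases Nat.lt_or_ge b 3241984 with g22 | g22
  · exact chkURangeF_spec C relF_hyp 1237356000 tc_eq 3239936 2048 ck_1582 b (by omega) (by omega)
  exact chkURangeF_spec C relF_hyp 1237356000 tc_eq 3241984 2048 ck_1583 b (by omega) (by omega)
end Cfsg.Agent.Lib.Helper2.HNMult.P2
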