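import Cfsg.Agent.Lib.Helper2.HNMult.P2.Cert
set_option autoImplicit false
set_option maxRecDepth 1000000
set_option Elab.async false
namespace Cfsg.Agent.Lib.Helper2.HNMult.P2
open Cfsg.Agent.Lib.Helper4.Sparse Cfsg.Agent.Lib.Helper2.SparseF
theorem ck_1632 : chkURangeF D C relF 796 1237356000 3342336 2048 = true := by decide +kernel
theorem ck_1633 : chkURangeF D C relF 796 1237356000 3344384 2048 = true := by decide +kernel
theorem ck_1634 : chkURangeF D C relF 796 1237356000 3346432 2048 = true := by decide +kernel
theorem ck_1635 : chkURangeF D C relF 796 1237356000 3348480 2048 = true := by decide +kernel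
theorem ck_1636 : chkURangeF D C relF 796 1237356000 3350528 2048 = true := by decide +kernel
theorem ck_1637 : chkURangeF D C relF 796 1237356000 3352576 2048 = true := by decide +kernel
theorem ck_1638 : chkURangeF D C relF 796 1237356000 3354624 2048 = true := by decide +kernel
theorem ck_1639 : chkURangeF D C relF 796 1237356000 3356672 2048 = true := by decide +kernel
theorem ck_1640 : chkURangeF D C relF 796 1237356000 3358720 2048 = true := by decide +kernel
theorem ck_1641 : chkURangeF D C relF 796 1237356000 3360768 2048 = true := by decide +kernel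
theorem ck_1642 : chkURangeF D C relF 796 1237356000 3362816 2048 = true := by decide +kernel
theorem ck_1643 : chkURangeF D C relF 796 1237356000 3364864 2048 = true := by decide +kernel
theorem ck_1644 : chkURangeF D C relF 796 1237356000 3366912 2048 = true := by decide +kernel
theorem ck_1645 : chkURangeF D C relF 796 1237356000 3368960 2048 = true := by decide +kernel
theorem ck_1646 : chkURangeF D C relF 796 1237356000 3371008 2048 = true := by decide +kernel
theorem ck_1647 : chkURangeF D C relF 796 1237356000 3373056 2048 = true := by decide +kernel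
theorem ck_1648 : chkURangeF D C relF 796 1237356000 3375104 2048 = true := by decide +kernel
theorem ck_1649 : chkURangeF D C relF 796 1237356000 3377152 2048 = true := by decide +kernel
theorem ck_1650 : chkURangeF D C relF 796 1237356000 3379200 2048 = true := by decide +kernel
theorem ck_1651 : chkURangeF D C relF 796 1237356000 3381248 2048 = true := by decide +kernel
theorem ck_1652 : chkURangeF D C relF 796 1237356000 3383296 2048 = true := by decide +kernel
theorem ck_1653 : chkURangeF D C relF 796 1237356000 3385344 2048 = true := by decide +kernel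
theorem ck_1654 : chkURangeF D C relF 796 1237356000 3387392 2048 = true := by decide +kernel
theorem ck_1655 : chkURangeF D C relF 796 1237356000 3389440 2048 = true := by decide +kernel
theorem chkU_68 (b : ℕ) (h1 : 3342336 ≤ b) (h2 : b < 3391488) : chkU D C b = true := by
  rcases Nat.lt_or_ge b 3344384 with g0 | g0
  · exact chkURangeF_spec C relF_hyp 1237356000 tc_eq 3342336 2048 ck_1632 b (by omega) (by omega)
  rcases Nat.lt_or_ge b 3346432 with g1 | g1
  · exact chkURangeF_spec C relF_hyp 1237356000 tc_eq 3344384 2048 ck_1633 b (by omega) (by omega)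
  rcases Nat.lt_or_ge b 3348480 with g2 | g2
  · exact chkURangeF_spec C relF_hyp 1237356000 tc_eq 3346432 2048 ck_1634 b (by omega) (by omega)
  rcases Nat.lt_or_ge b 3350528 with g3 | g3
  · exact chkURangeF_spec C relF_hyp 1237356000 tc_eq 3348480 2048 ck_1635 b (by omega) (by omega)
  rcases Nat.lt_or_ge b 3352576 with g4 | g4
  · exact chkURangeF_spec C relF_hyp 1237356000 tc_eq 3350528 2048 ck_1636 b (by omega) (by omega)
  rcases Nat.lt_or_ge b 3354624 with g5 | g5
  · exact chkURangeF_spec C relF_hyp 1237356000 tc_eq 3352576 2048 ck_1637 b (by omega) (by omega)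
  rcases Nat.lt_or_ge b 3356672 with g6 | g6
  · exact chkURangeF_spec C relF_hyp 1237356000 tc_eq 3354624 2048 ck_1638 b (by omega) (by omega)
  rcases Nat.lt_or_ge b 3358720 with g7 | g7
  · exact chkURangeF_spec C relF_hyp 1237356000 tc_eq 3356672 2048 ck_1639 b (by omega) (by omega)
  rcases Nat.lt_or_ge b 3360768 with g8 | g8
  · exact chkURangeF_spec C relF_hyp 1237356000 tc_eq 3358720 2048 ck_1640 b (by omega) (by omega)
  rcases Nat.lt_or_ge b 3362816 with g9 | g9
  · exact chkURangeF_spec C relF_hyp 1237356000 tc_eq 3360768 2048 ck_1641 b (by omega) (by omega)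
  rcases Nat.lt_or_ge b 3364864 with g10 | g10
  · exact chkURangeF_spec C relF_hyp 1237356000 tc_eq 3362816 2048 ck_1642 b (by omega) (by omega)
  rcases Nat.lt_or_ge b 3366912 with g11 | g11
  · exact chkURangeF_spec C relF_hyp 1237356000 tc_eq 3364864 2048 ck_1643 b (by omega) (by omega)
  rcases Nat.lt_or_ge b 3368960 with g12 | g12
  · exact chkURangeF_spec C relF_hyp 1237356000 tc_eq 3366912 2048 ck_1644 b (by omega) (by omega)
  rcases Nat.lt_or_ge b 3371008 with g13 | g13
  · exact chkURangeF_spec C relF_hyp 1237356000 tc_eq 3368960 2048 ck_1645 b (by omega) (by omega)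
  rcases Nat.lt_or_ge b 3373056 with g14 | g14
  · exact chkURangeF_spec C relF_hyp 1237356000 tc_eq 3371008 2048 ck_1646 b (by omega) (by omega)
  rcases Nat.lt_or_ge b 3375104 with g15 | g15
  · exact chkURangeF_spec C relF_hyp 1237356000 tc_eq 3373056 2048 ck_1647 b (by omega) (by omega)
  rcases Nat.lt_or_ge b 3377152 with g16 | g16
  · exact chkURangeF_spec C relF_hyp 1237356000 tc_eq 3375104 2048 ck_1648 b (by omega) (by omega)
  rcases Nat.lt_or_ge b 3379200 with g17 | g17
  · exact chkURangeF_spec C relF_hyp 1237356000 tc_eq 3377152 2048 ck_1649 b (by omega) (by omega)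
  rcases Nat.lt_or_ge b 3381248 with g18 | g18
  · exact chkURangeF_spec C relF_hyp 1237356000 tc_eq 3379200 2048 ck_1650 b (by omega) (by omega)
  rcases Nat.lt_or_ge b 3383296 with g19 | g19
  · exact chkURangeF_spec C relF_hyp 1237356000 tc_eq 3381248 2048 ck_1651 b (by omega) (by omega)
  rcases Nat.lt_or_ge b 3385344 with g20 | g20
  · exact chkURangeF_spec C relF_hyp 1237356000 tc_eq 3383296 2048 ck_1652 b (by omega) (by omega)
  rcases Nat.lt_or_ge b 3387392 with g21 | g21
  · exact chkURangeF_spec C relF_hyp 1237356000 tc_eq 3385344 2048 ck_1653 b (by omega) (by omega)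
  rcases Nat.lt_or_ge b 3389440 with g22 | g22
  · exact chkURangeF_spec C relF_hyp 1237356000 tc_eq 3387392 2048 ck_1654 b (by omega) (by omega)
  exact chkURangeF_spec C relF_hyp 1237356000 tc_eq 3389440 2048 ck_1655 b (by omega) (by omega)
end Cfsg.Agent.Lib.Helper2.HNMult.P2
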