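import Cfsg.Agent.Lib.Helper2.HNMult.P2.Cert
set_option autoImplicit false
set_option maxRecDepth 1000000
set_option Elab.async false
namespace Cfsg.Agent.Lib.Helper2.HNMult.P2
open Cfsg.Agent.Lib.Helper4.Sparse Cfsg.Agent.Lib.Helper2.SparseF
theorem ck_1680 : chkURangeF D C relF 796 1237356000 3440640 2048 = true := by decide +kernel
theorem ck_1681 : chkURangeF D C relF 796 1237356000 3442688 2048 = true := by decide +kernel
theorem ck_1682 : chkURangeF D C relF 796 1237356000 3444736 2048 = true := by decide +kernel
theorem ck_1683 : chkURangeF D C relF 796 1237356000 3446784 2048 = true := by decide +kernel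
theorem ck_1684 : chkURangeF D C relF 796 1237356000 3448832 2048 = true := by decide +kernel
theorem ck_1685 : chkURangeF D C relF 796 1237356000 3450880 2048 = true := by decide +kernel
theorem ck_1686 : chkURangeF D C relF 796 1237356000 3452928 2048 = true := by decide +kernel
theorem ck_1687 : chkURangeF D C relF 796 1237356000 3454976 2048 = true := by decide +kernel
theorem ck_1688 : chkURangeF D C relF 796 1237356000 3457024 2048 = true := by decide +kernel
theorem ck_1689 : chkURangeF D C relF 796 1237356000 3459072 2048 = true := by decide +kernel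
theorem ck_1690 : chkURangeF D C relF 796 1237356000 3461120 2048 = true := by decide +kernel
theorem ck_1691 : chkURangeF D C relF 796 1237356000 3463168 2048 = true := by decide +kernel
theorem ck_1692 : chkURangeF D C relF 796 1237356000 3465216 2048 = true := by decide +kernel
theorem ck_1693 : chkURangeF D C relF 796 1237356000 3467264 2048 = true := by decide +kernel
theorem ck_1694 : chkURangeF D C relF 796 1237356000 3469312 2048 = true := by decide +kernel
theorem ck_1695 : chkURangeF D C relF 796 1237356000 3471360 2048 = true := by decide +kernel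
theorem ck_1696 : chkURangeF D C relF 796 1237356000 3473408 2048 = true := by decide +kernel
theorem ck_1697 : chkURangeF D C relF 796 1237356000 3475456 2048 = true := by decide +kernel
theorem ck_1698 : chkURangeF D C relF 796 1237356000 3477504 2048 = true := by decide +kernel
theorem ck_1699 : chkURangeF D C relF 796 1237356000 3479552 2048 = true := by decide +kernel
theorem ck_1700 : chkURangeF D C relF 796 1237356000 3481600 2048 = true := by decide +kernel
theorem ck_1701 : chkURangeF D C relF 796 1237356000 3483648 2048 = true := by decide +kernel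
theorem ck_1702 : chkURangeF D C relF 796 1237356000 3485696 2048 = true := by decide +kernel
theorem ck_1703 : chkURangeF D C relF 796 1237356000 3487744 2048 = true := by decide +kernel
theorem chkU_70 (b : ℕ) (h1 : 3440640 ≤ b) (h2 : b < 3489792) : chkU D C b = true := by
  rcases Nat.lt_or_ge b 3442688 with g0 | g0
  · exact chkURangeF_spec C relF_hyp 1237356000 tc_eq 3440640 2048 ck_1680 b (by omega) (by omega)
  rcases Nat.lt_or_ge b 3444736 with g1 | g1
  · exact chkURangeF_spec C relF_hyp 1237356000 tc_eq 3442688 2048 ck_1681 b (by omega) (by omega)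
  rcases Nat.lt_or_ge b 3446784 with g2 | g2
  · exact chkURangeF_spec C relF_hyp 1237356000 tc_eq 3444736 2048 ck_1682 b (by omega) (by omega)
  rcases Nat.lt_or_ge b 3448832 with g3 | g3
  · exact chkURangeF_spec C relF_hyp 1237356000 tc_eq 3446784 2048 ck_1683 b (by omega) (by omega)
  rcases Nat.lt_or_ge b 3450880 with g4 | g4
  · exact chkURangeF_spec C relF_hyp 1237356000 tc_eq 3448832 2048 ck_1684 b (by omega) (by omega)
  rcases Nat.lt_or_ge b 3452928 with g5 | g5
  · exact chkURangeF_spec C relF_hyp 1237356000 tc_eq 3450880 2048 ck_1685 b (by omega) (by omega)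
  rcases Nat.lt_or_ge b 3454976 with g6 | g6
  · exact chkURangeF_spec C relF_hyp 1237356000 tc_eq 3452928 2048 ck_1686 b (by omega) (by omega)
  rcases Nat.lt_or_ge b 3457024 with g7 | g7
  · exact chkURangeF_spec C relF_hyp 1237356000 tc_eq 3454976 2048 ck_1687 b (by omega) (by omega)
  rcases Nat.lt_or_ge b 3459072 with g8 | g8
  · exact chkURangeF_spec C relF_hyp 1237356000 tc_eq 3457024 2048 ck_1688 b (by omega) (by omega)
  rcases Nat.lt_or_ge b 3461120 with g9 | g9
  · exact chkURangeF_spec C relF_hyp 1237356000 tc_eq 3459072 2048 ck_1689 b (by omega) (by omega)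
  rcases Nat.lt_or_ge b 3463168 with g10 | g10
  · exact chkURangeF_spec C relF_hyp 1237356000 tc_eq 3461120 2048 ck_1690 b (by omega) (by omega)
  rcases Nat.lt_or_ge b 3465216 with g11 | g11
  · exact chkURangeF_spec C relF_hyp 1237356000 tc_eq 3463168 2048 ck_1691 b (by omega) (by omega)
  rcases Nat.lt_or_ge b 3467264 with g12 | g12
  · exact chkURangeF_spec C relF_hyp 1237356000 tc_eq 3465216 2048 ck_1692 b (by omega) (by omega)
  rcases Nat.lt_or_ge b 3469312 with g13 | g13
  · exact chkURangeF_spec C relF_hyp 1237356000 tc_eq 3467264 2048 ck_1693 b (by omega) (by omega)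
  rcases Nat.lt_or_ge b 3471360 with g14 | g14
  · exact chkURangeF_spec C relF_hyp 1237356000 tc_eq 3469312 2048 ck_1694 b (by omega) (by omega)
  rcases Nat.lt_or_ge b 3473408 with g15 | g15
  · exact chkURangeF_spec C relF_hyp 1237356000 tc_eq 3471360 2048 ck_1695 b (by omega) (by omega)
  rcases Nat.lt_or_ge b 3475456 with g16 | g16
  · exact chkURangeF_spec C relF_hyp 1237356000 tc_eq 3473408 2048 ck_1696 b (by omega) (by omega)
  rcases Nat.lt_or_ge b 3477504 with g17 | g17
  · exact chkURangeF_spec C relF_hyp 1237356000 tc_eq 3475456 2048 ck_1697 b (by omega) (by omega)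
  rcases Nat.lt_or_ge b 3479552 with g18 | g18
  · exact chkURangeF_spec C relF_hyp 1237356000 tc_eq 3477504 2048 ck_1698 b (by omega) (by omega)
  rcases Nat.lt_or_ge b 3481600 with g19 | g19
  · exact chkURangeF_spec C relF_hyp 1237356000 tc_eq 3479552 2048 ck_1699 b (by omega) (by omega)
  rcases Nat.lt_or_ge b 3483648 with g20 | g20
  · exact chkURangeF_spec C relF_hyp 1237356000 tc_eq 3481600 2048 ck_1700 b (by omega) (by omega)
  rcases Nat.lt_or_ge b 3485696 with g21 | g21
  · exact chkURangeF_spec C relF_hyp 1237356000 tc_eq 3483648 2048 ck_1701 b (by omega) (by omega)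
  rcases Nat.lt_or_ge b 3487744 with g22 | g22
  · exact chkURangeF_spec C relF_hyp 1237356000 tc_eq 3485696 2048 ck_1702 b (by omega) (by omega)
  exact chkURangeF_spec C relF_hyp 1237356000 tc_eq 3487744 2048 ck_1703 b (by omega) (by omega)
end Cfsg.Agent.Lib.Helper2.HNMult.P2
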