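import Cfsg.Agent.Lib.Helper2.HNMult.P2.Cert
set_option autoImplicit false
set_option maxRecDepth 1000000
set_option Elab.async false
namespace Cfsg.Agent.Lib.Helper2.HNMult.P2
open Cfsg.Agent.Lib.Helper4.Sparse Cfsg.Agent.Lib.Helper2.SparseF
theorem ck_1848 : chkURangeF D C relF 796 1237356000 3784704 2048 = true := by decide +kernel
theorem ck_1849 : chkURangeF D C relF 796 1237356000 3786752 2048 = true := by decide +kernel
theorem ck_1850 : chkURangeF D C relF 796 1237356000 3788800 2048 = true := by decide +kernel
theorem ck_1851 : chkURangeF D C relF 796 1237356000 3790848 2048 = true := by decide +kernel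
theorem ck_1852 : chkURangeF D C relF 796 1237356000 3792896 2048 = true := by decide +kernel
theorem ck_1853 : chkURangeF D C relF 796 1237356000 3794944 2048 = true := by decide +kernel
theorem ck_1854 : chkURangeF D C relF 796 1237356000 3796992 2048 = true := by decide +kernel
theorem ck_1855 : chkURangeF D C relF 796 1237356000 3799040 2048 = true := by decide +kernel
theorem ck_1856 : chkURangeF D C relF 796 1237356000 3801088 2048 = true := by decide +kernel
theorem ck_1857 : chkURangeF D C relF 796 1237356000 3803136 2048 = true := by decide +kernel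
theorem ck_1858 : chkURangeF D C relF 796 1237356000 3805184 2048 = true := by decide +kernel
theorem ck_1859 : chkURangeF D C relF 796 1237356000 3807232 2048 = true := by decide +kernel
theorem ck_1860 : chkURangeF D C relF 796 1237356000 3809280 2048 = true := by decide +kernel
theorem ck_1861 : chkURangeF D C relF 796 1237356000 3811328 2048 = true := by decide +kernel
theorem ck_1862 : chkURangeF D C relF 796 1237356000 3813376 2048 = true := by decide +kernel
theorem ck_1863 : chkURangeF D C relF 796 1237356000 3815424 2048 = true := by decide +kernel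
theorem ck_1864 : chkURangeF D C relF 796 1237356000 3817472 2048 = true := by decide +kernel
theorem ck_1865 : chkURangeF D C relF 796 1237356000 3819520 2048 = true := by decide +kernel
theorem ck_1866 : chkURangeF D C relF 796 1237356000 3821568 2048 = true := by decide +kernel
theorem ck_1867 : chkURangeF D C relF 796 1237356000 3823616 2048 = true := by decide +kernel
theorem ck_1868 : chkURangeF D C relF 796 1237356000 3825664 2048 = true := by decide +kernel
theorem ck_1869 : chkURangeF D C relF 796 1237356000 3827712 2048 = true := by decide +kernel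
theorem ck_1870 : chkURangeF D C relF 796 1237356000 3829760 2048 = true := by decide +kernel
theorem ck_1871 : chkURangeF D C relF 796 1237356000 3831808 2048 = true := by decide +kernel
theorem chkU_77 (b : ℕ) (h1 : 3784704 ≤ b) (h2 : b < 3833856) : chkU D C b = true := by
  rcases Nat.lt_or_ge b 3786752 with g0 | g0
  · exact chkURangeF_spec C relF_hyp 1237356000 tc_eq 3784704 2048 ck_1848 b (by omega) (by omega)
  rcases Nat.lt_or_ge b 3788800 with g1 | g1
  · exact chkURangeF_spec C relF_hyp 1237356000 tc_eq 3786752 2048 ck_1849 b (by omega) (by omega)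
  rcases Nat.lt_or_ge b 3790848 with g2 | g2
  · exact chkURangeF_spec C relF_hyp 1237356000 tc_eq 3788800 2048 ck_1850 b (by omega) (by omega)
  rcases Nat.lt_or_ge b 3792896 with g3 | g3
  · exact chkURangeF_spec C relF_hyp 1237356000 tc_eq 3790848 2048 ck_1851 b (by omega) (by omega)
  rcases Nat.lt_or_ge b 3794944 with g4 | g4
  · exact chkURangeF_spec C relF_hyp 1237356000 tc_eq 3792896 2048 ck_1852 b (by omega) (by omega)
  rcases Nat.lt_or_ge b 3796992 with g5 | g5
  · exact chkURangeF_spec C relF_hyp 1237356000 tc_eq 3794944 2048 ck_1853 b (by omega) (by omega)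
  rcases Nat.lt_or_ge b 3799040 with g6 | g6
  · exact chkURangeF_spec C relF_hyp 1237356000 tc_eq 3796992 2048 ck_1854 b (by omega) (by omega)
  rcases Nat.lt_or_ge b 3801088 with g7 | g7
  · exact chkURangeF_spec C relF_hyp 1237356000 tc_eq 3799040 2048 ck_1855 b (by omega) (by omega)
  rcases Nat.lt_or_ge b 3803136 with g8 | g8
  · exact chkURangeF_spec C relF_hyp 1237356000 tc_eq 3801088 2048 ck_1856 b (by omega) (by omega)
  rcases Nat.lt_or_ge b 3805184 with g9 | g9
  · exact chkURangeF_spec C relF_hyp 1237356000 tc_eq 3803136 2048 ck_1857 b (by omega) (by omega)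
  rcases Nat.lt_or_ge b 3807232 with g10 | g10
  · exact chkURangeF_spec C relF_hyp 1237356000 tc_eq 3805184 2048 ck_1858 b (by omega) (by omega)
  rcases Nat.lt_or_ge b 3809280 with g11 | g11
  · exact chkURangeF_spec C relF_hyp 1237356000 tc_eq 3807232 2048 ck_1859 b (by omega) (by omega)
  rcases Nat.lt_or_ge b 3811328 with g12 | g12
  · exact chkURangeF_spec C relF_hyp 1237356000 tc_eq 3809280 2048 ck_1860 b (by omega) (by omega)
  rcases Nat.lt_or_ge b 3813376 with g13 | g13
  · exact chkURangeF_spec C relF_hyp 1237356000 tc_eq 3811328 2048 ck_1861 b (by omega) (by omega)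
  rcases Nat.lt_or_ge b 3815424 with g14 | g14
  · exact chkURangeF_spec C relF_hyp 1237356000 tc_eq 3813376 2048 ck_1862 b (by omega) (by omega)
  rcases Nat.lt_or_ge b 3817472 with g15 | g15
  · exact chkURangeF_spec C relF_hyp 1237356000 tc_eq 3815424 2048 ck_1863 b (by omega) (by omega)
  rcases Nat.lt_or_ge b 3819520 with g16 | g16
  · exact chkURangeF_spec C relF_hyp 1237356000 tc_eq 3817472 2048 ck_1864 b (by omega) (by omega)
  rcases Nat.lt_or_ge b 3821568 with g17 | g17
  · exact chkURangeF_spec C relF_hyp 1237356000 tc_eq 3819520 2048 ck_1865 b (by omega) (by omega)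
  rcases Nat.lt_or_ge b 3823616 with g18 | g18
  · exact chkURangeF_spec C relF_hyp 1237356000 tc_eq 3821568 2048 ck_1866 b (by omega) (by omega)
  rcases Nat.lt_or_ge b 3825664 with g19 | g19
  · exact chkURangeF_spec C relF_hyp 1237356000 tc_eq 3823616 2048 ck_1867 b (by omega) (by omega)
  rcases Nat.lt_or_ge b 3827712 with g20 | g20
  · exact chkURangeF_spec C relF_hyp 1237356000 tc_eq 3825664 2048 ck_1868 b (by omega) (by omega)
  rcases Nat.lt_or_ge b 3829760 with g21 | g21
  · exact chkURangeF_spec C relF_hyp 1237356000 tc_eq 3827712 2048 ck_1869 b (by omega) (by omega)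
  rcases Nat.lt_or_ge b 3831808 with g22 | g22
  · exact chkURangeF_spec C relF_hyp 1237356000 tc_eq 3829760 2048 ck_1870 b (by omega) (by omega)
  exact chkURangeF_spec C relF_hyp 1237356000 tc_eq 3831808 2048 ck_1871 b (by omega) (by omega)
end Cfsg.Agent.Lib.Helper2.HNMult.P2
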