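import Cfsg.Agent.Lib.Helper2.HNMult.P2.Cert
set_option autoImplicit false
set_option maxRecDepth 1000000
set_option Elab.async false
namespace Cfsg.Agent.Lib.Helper2.HNMult.P2
open Cfsg.Agent.Lib.Helper4.Sparse Cfsg.Agent.Lib.Helper2.SparseF
theorem ck_1872 : chkURangeF D C relF 796 1237356000 3833856 2048 = true := by decide +kernel
theorem ck_1873 : chkURangeF D C relF 796 1237356000 3835904 2048 = true := by decide +kernel
theorem ck_1874 : chkURangeF D C relF 796 1237356000 3837952 2048 = true := by decide +kernel
theorem ck_1875 : chkURangeF D C relF 796 1237356000 3840000 2048 = true := by decide +kernel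
theorem ck_1876 : chkURangeF D C relF 796 1237356000 3842048 2048 = true := by decide +kernel
theorem ck_1877 : chkURangeF D C relF 796 1237356000 3844096 2048 = true := by decide +kernel
theorem ck_1878 : chkURangeF D C relF 796 1237356000 3846144 2048 = true := by decide +kernel
theorem ck_1879 : chkURangeF D C relF 796 1237356000 3848192 2048 = true := by decide +kernel
theorem ck_1880 : chkURangeF D C relF 796 1237356000 3850240 2048 = true := by decide +kernel
theorem ck_1881 : chkURangeF D C relF 796 1237356000 3852288 2048 = true := by decide +kernel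
theorem ck_1882 : chkURangeF D C relF 796 1237356000 3854336 2048 = true := by decide +kernel
theorem ck_1883 : chkURangeF D C relF 796 1237356000 3856384 2048 = true := by decide +kernel
theorem ck_1884 : chkURangeF D C relF 796 1237356000 3858432 2048 = true := by decide +kernel
theorem ck_1885 : chkURangeF D C relF 796 1237356000 3860480 2048 = true := by decide +kernel
theorem ck_1886 : chkURangeF D C relF 796 1237356000 3862528 2048 = true := by decide +kernel
theorem ck_1887 : chkURangeF D C relF 796 1237356000 3864576 2048 = true := by decide +kernel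
theorem ck_1888 : chkURangeF D C relF 796 1237356000 3866624 2048 = true := by decide +kernel
theorem ck_1889 : chkURangeF D C relF 796 1237356000 3868672 2048 = true := by decide +kernel
theorem ck_1890 : chkURangeF D C relF 796 1237356000 3870720 2048 = true := by decide +kernel
theorem ck_1891 : chkURangeF D C relF 796 1237356000 3872768 2048 = true := by decide +kernel
theorem ck_1892 : chkURangeF D C relF 796 1237356000 3874816 2048 = true := by decide +kernel
theorem ck_1893 : chkURangeF D C relF 796 1237356000 3876864 2048 = true := by decide +kernel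
theorem ck_1894 : chkURangeF D C relF 796 1237356000 3878912 2048 = true := by decide +kernel
theorem ck_1895 : chkURangeF D C relF 796 1237356000 3880960 2048 = true := by decide +kernel
theorem chkU_78 (b : ℕ) (h1 : 3833856 ≤ b) (h2 : b < 3883008) : chkU D C b = true := by
  rcases Nat.lt_or_ge b 3835904 with g0 | g0
  · exact chkURangeF_spec C relF_hyp 1237356000 tc_eq 3833856 2048 ck_1872 b (by omega) (by omega)
  rcases Nat.lt_or_ge b 3837952 with g1 | g1
  · exact chkURangeF_spec C relF_hyp 1237356000 tc_eq 3835904 2048 ck_1873 b (by omega) (by omega)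
  rcases Nat.lt_or_ge b 3840000 with g2 | g2
  · exact chkURangeF_spec C relF_hyp 1237356000 tc_eq 3837952 2048 ck_1874 b (by omega) (by omega)
  rcases Nat.lt_or_ge b 3842048 with g3 | g3
  · exact chkURangeF_spec C relF_hyp 1237356000 tc_eq 3840000 2048 ck_1875 b (by omega) (by omega)
  rcases Nat.lt_or_ge b 3844096 with g4 | g4
  · exact chkURangeF_spec C relF_hyp 1237356000 tc_eq 3842048 2048 ck_1876 b (by omega) (by omega)
  rcases Nat.lt_or_ge b 3846144 with g5 | g5
  · exact chkURangeF_spec C relF_hyp 1237356000 tc_eq 3844096 2048 ck_1877 b (by omega) (by omega)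
  rcases Nat.lt_or_ge b 3848192 with g6 | g6
  · exact chkURangeF_spec C relF_hyp 1237356000 tc_eq 3846144 2048 ck_1878 b (by omega) (by omega)
  rcases Nat.lt_or_ge b 3850240 with g7 | g7
  · exact chkURangeF_spec C relF_hyp 1237356000 tc_eq 3848192 2048 ck_1879 b (by omega) (by omega)
  rcases Nat.lt_or_ge b 3852288 with g8 | g8
  · exact chkURangeF_spec C relF_hyp 1237356000 tc_eq 3850240 2048 ck_1880 b (by omega) (by omega)
  rcases Nat.lt_or_ge b 3854336 with g9 | g9
  · exact chkURangeF_spec C relF_hyp 1237356000 tc_eq 3852288 2048 ck_1881 b (by omega) (by omega)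
  rcases Nat.lt_or_ge b 3856384 with g10 | g10
  · exact chkURangeF_spec C relF_hyp 1237356000 tc_eq 3854336 2048 ck_1882 b (by omega) (by omega)
  rcases Nat.lt_or_ge b 3858432 with g11 | g11
  · exact chkURangeF_spec C relF_hyp 1237356000 tc_eq 3856384 2048 ck_1883 b (by omega) (by omega)
  rcases Nat.lt_or_ge b 3860480 with g12 | g12
  · exact chkURangeF_spec C relF_hyp 1237356000 tc_eq 3858432 2048 ck_1884 b (by omega) (by omega)
  rcases Nat.lt_or_ge b 3862528 with g13 | g13
  · exact chkURangeF_spec C relF_hyp 1237356000 tc_eq 3860480 2048 ck_1885 b (by omega) (by omega)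
  rcases Nat.lt_or_ge b 3864576 with g14 | g14
  · exact chkURangeF_spec C relF_hyp 1237356000 tc_eq 3862528 2048 ck_1886 b (by omega) (by omega)
  rcases Nat.lt_or_ge b 3866624 with g15 | g15
  · exact chkURangeF_spec C relF_hyp 1237356000 tc_eq 3864576 2048 ck_1887 b (by omega) (by omega)
  rcases Nat.lt_or_ge b 3868672 with g16 | g16
  · exact chkURangeF_spec C relF_hyp 1237356000 tc_eq 3866624 2048 ck_1888 b (by omega) (by omega)
  rcases Nat.lt_or_ge b 3870720 with g17 | g17
  · exact chkURangeF_spec C relF_hyp 1237356000 tc_eq 3868672 2048 ck_1889 b (by omega) (by omega)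
  rcases Nat.lt_or_ge b 3872768 with g18 | g18
  · exact chkURangeF_spec C relF_hyp 1237356000 tc_eq 3870720 2048 ck_1890 b (by omega) (by omega)
  rcases Nat.lt_or_ge b 3874816 with g19 | g19
  · exact chkURangeF_spec C relF_hyp 1237356000 tc_eq 3872768 2048 ck_1891 b (by omega) (by omega)
  rcases Nat.lt_or_ge b 3876864 with g20 | g20
  · exact chkURangeF_spec C relF_hyp 1237356000 tc_eq 3874816 2048 ck_1892 b (by omega) (by omega)
  rcases Nat.lt_or_ge b 3878912 with g21 | g21
  · exact chkURangeF_spec C relF_hyp 1237356000 tc_eq 3876864 2048 ck_1893 b (by omega) (by omega)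
  rcases Nat.lt_or_ge b 3880960 with g22 | g22
  · exact chkURangeF_spec C relF_hyp 1237356000 tc_eq 3878912 2048 ck_1894 b (by omega) (by omega)
  exact chkURangeF_spec C relF_hyp 1237356000 tc_eq 3880960 2048 ck_1895 b (by omega) (by omega)
end Cfsg.Agent.Lib.Helper2.HNMult.P2
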