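import Cfsg.Agent.Lib.Helper2.HNMult.P2.Cert
set_option autoImplicit false
set_option maxRecDepth 1000000
set_option Elab.async false
namespace Cfsg.Agent.Lib.Helper2.HNMult.P2
open Cfsg.Agent.Lib.Helper4.Sparse Cfsg.Agent.Lib.Helper2.SparseF
theorem ck_1920 : chkURangeF D C relF 796 1237356000 3932160 2048 = true := by decide +kernel
theorem ck_1921 : chkURangeF D C relF 796 1237356000 3934208 2048 = true := by decide +kernel
theorem ck_1922 : chkURangeF D C relF 796 1237356000 3936256 2048 = true := by decide +kernel
theorem ck_1923 : chkURangeF D C relF 796 1237356000 3938304 2048 = true := by decide +kernel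
theorem ck_1924 : chkURangeF D C relF 796 1237356000 3940352 2048 = true := by decide +kernel
theorem ck_1925 : chkURangeF D C relF 796 1237356000 3942400 2048 = true := by decide +kernel
theorem ck_1926 : chkURangeF D C relF 796 1237356000 3944448 2048 = true := by decide +kernel
theorem ck_1927 : chkURangeF D C relF 796 1237356000 3946496 2048 = true := by decide +kernel
theorem ck_1928 : chkURangeF D C relF 796 1237356000 3948544 2048 = true := by decide +kernel
theorem ck_1929 : chkURangeF D C relF 796 1237356000 3950592 2048 = true := by decide +kernel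
theorem ck_1930 : chkURangeF D C relF 796 1237356000 3952640 2048 = true := by decide +kernel
theorem ck_1931 : chkURangeF D C relF 796 1237356000 3954688 2048 = true := by decide +kernel
theorem ck_1932 : chkURangeF D C relF 796 1237356000 3956736 2048 = true := by decide +kernel
theorem ck_1933 : chkURangeF D C relF 796 1237356000 3958784 2048 = true := by decide +kernel
theorem ck_1934 : chkURangeF D C relF 796 1237356000 3960832 2048 = true := by decide +kernel
theorem ck_1935 : chkURangeF D C relF 796 1237356000 3962880 2048 = true := by decide +kernel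
theorem ck_1936 : chkURangeF D C relF 796 1237356000 3964928 2048 = true := by decide +kernel
theorem ck_1937 : chkURangeF D C relF 796 1237356000 3966976 2048 = true := by decide +kernel
theorem ck_1938 : chkURangeF D C relF 796 1237356000 3969024 2048 = true := by decide +kernel
theorem ck_1939 : chkURangeF D C relF 796 1237356000 3971072 2048 = true := by decide +kernel
theorem ck_1940 : chkURangeF D C relF 796 1237356000 3973120 2048 = true := by decide +kernel
theorem ck_1941 : chkURangeF D C relF 796 1237356000 3975168 2048 = true := by decide +kernel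
theorem ck_1942 : chkURangeF D C relF 796 1237356000 3977216 2048 = true := by decide +kernel
theorem ck_1943 : chkURangeF D C relF 796 1237356000 3979264 2048 = true := by decide +kernel
theorem chkU_80 (b : ℕ) (h1 : 3932160 ≤ b) (h2 : b < 3981312) : chkU D C b = true := by
  rcases Nat.lt_or_ge b 3934208 with g0 | g0
  · exact chkURangeF_spec C relF_hyp 1237356000 tc_eq 3932160 2048 ck_1920 b (by omega) (by omega)
  rcases Nat.lt_or_ge b 3936256 with g1 | g1
  · exact chkURangeF_spec C relF_hyp 1237356000 tc_eq 3934208 2048 ck_1921 b (by omega) (by omega)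
  rcases Nat.lt_or_ge b 3938304 with g2 | g2
  · exact chkURangeF_spec C relF_hyp 1237356000 tc_eq 3936256 2048 ck_1922 b (by omega) (by omega)
  rcases Nat.lt_or_ge b 3940352 with g3 | g3
  · exact chkURangeF_spec C relF_hyp 1237356000 tc_eq 3938304 2048 ck_1923 b (by omega) (by omega)
  rcases Nat.lt_or_ge b 3942400 with g4 | g4
  · exact chkURangeF_spec C relF_hyp 1237356000 tc_eq 3940352 2048 ck_1924 b (by omega) (by omega)
  rcases Nat.lt_or_ge b 3944448 with g5 | g5
  · exact chkURangeF_spec C relF_hyp 1237356000 tc_eq 3942400 2048 ck_1925 b (by omega) (by omega)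
  rcases Nat.lt_or_ge b 3946496 with g6 | g6
  · exact chkURangeF_spec C relF_hyp 1237356000 tc_eq 3944448 2048 ck_1926 b (by omega) (by omega)
  rcases Nat.lt_or_ge b 3948544 with g7 | g7
  · exact chkURangeF_spec C relF_hyp 1237356000 tc_eq 3946496 2048 ck_1927 b (by omega) (by omega)
  rcases Nat.lt_or_ge b 3950592 with g8 | g8
  · exact chkURangeF_spec C relF_hyp 1237356000 tc_eq 3948544 2048 ck_1928 b (by omega) (by omega)
  rcases Nat.lt_or_ge b 3952640 with g9 | g9
  · exact chkURangeF_spec C relF_hyp 1237356000 tc_eq 3950592 2048 ck_1929 b (by omega) (by omega)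
  rcases Nat.lt_or_ge b 3954688 with g10 | g10
  · exact chkURangeF_spec C relF_hyp 1237356000 tc_eq 3952640 2048 ck_1930 b (by omega) (by omega)
  rcases Nat.lt_or_ge b 3956736 with g11 | g11
  · exact chkURangeF_spec C relF_hyp 1237356000 tc_eq 3954688 2048 ck_1931 b (by omega) (by omega)
  rcases Nat.lt_or_ge b 3958784 with g12 | g12
  · exact chkURangeF_spec C relF_hyp 1237356000 tc_eq 3956736 2048 ck_1932 b (by omega) (by omega)
  rcases Nat.lt_or_ge b 3960832 with g13 | g13
  · exact chkURangeF_spec C relF_hyp 1237356000 tc_eq 3958784 2048 ck_1933 b (by omega) (by omega)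
  rcases Nat.lt_or_ge b 3962880 with g14 | g14
  · exact chkURangeF_spec C relF_hyp 1237356000 tc_eq 3960832 2048 ck_1934 b (by omega) (by omega)
  rcases Nat.lt_or_ge b 3964928 with g15 | g15
  · exact chkURangeF_spec C relF_hyp 1237356000 tc_eq 3962880 2048 ck_1935 b (by omega) (by omega)
  rcases Nat.lt_or_ge b 3966976 with g16 | g16
  · exact chkURangeF_spec C relF_hyp 1237356000 tc_eq 3964928 2048 ck_1936 b (by omega) (by omega)
  rcases Nat.lt_or_ge b 3969024 with g17 | g17
  · exact chkURangeF_spec C relF_hyp 1237356000 tc_eq 3966976 2048 ck_1937 b (by omega) (by omega)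
  rcases Nat.lt_or_ge b 3971072 with g18 | g18
  · exact chkURangeF_spec C relF_hyp 1237356000 tc_eq 3969024 2048 ck_1938 b (by omega) (by omega)
  rcases Nat.lt_or_ge b 3973120 with g19 | g19
  · exact chkURangeF_spec C relF_hyp 1237356000 tc_eq 3971072 2048 ck_1939 b (by omega) (by omega)
  rcases Nat.lt_or_ge b 3975168 with g20 | g20
  · exact chkURangeF_spec C relF_hyp 1237356000 tc_eq 3973120 2048 ck_1940 b (by omega) (by omega)
  rcases Nat.lt_or_ge b 3977216 with g21 | g21
  · exact chkURangeF_spec C relF_hyp 1237356000 tc_eq 3975168 2048 ck_1941 b (by omega) (by omega)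
  rcases Nat.lt_or_ge b 3979264 with g22 | g22
  · exact chkURangeF_spec C relF_hyp 1237356000 tc_eq 3977216 2048 ck_1942 b (by omega) (by omega)
  exact chkURangeF_spec C relF_hyp 1237356000 tc_eq 3979264 2048 ck_1943 b (by omega) (by omega)
end Cfsg.Agent.Lib.Helper2.HNMult.P2
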