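import Cfsg.Agent.Lib.Helper2.HNMult.P2.Cert
set_option autoImplicit false
set_option maxRecDepth 1000000
set_option Elab.async false
namespace Cfsg.Agent.Lib.Helper2.HNMult.P2
open Cfsg.Agent.Lib.Helper4.Sparse Cfsg.Agent.Lib.Helper2.SparseF
theorem ck_1944 : chkURangeF D C relF 796 1237356000 3981312 2048 = true := by decide +kernel
theorem ck_1945 : chkURangeF D C relF 796 1237356000 3983360 2048 = true := by decide +kernel
theorem ck_1946 : chkURangeF D C relF 796 1237356000 3985408 2048 = true := by decide +kernel
theorem ck_1947 : chkURangeF D C relF 796 1237356000 3987456 2048 = true := by decide +kernel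
theorem ck_1948 : chkURangeF D C relF 796 1237356000 3989504 2048 = true := by decide +kernel
theorem ck_1949 : chkURangeF D C relF 796 1237356000 3991552 2048 = true := by decide +kernel
theorem ck_1950 : chkURangeF D C relF 796 1237356000 3993600 2048 = true := by decide +kernel
theorem ck_1951 : chkURangeF D C relF 796 1237356000 3995648 2048 = true := by decide +kernel
theorem ck_1952 : chkURangeF D C relF 796 1237356000 3997696 2048 = true := by decide +kernel
theorem ck_1953 : chkURangeF D C relF 796 1237356000 3999744 2048 = true := by decide +kernel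
theorem ck_1954 : chkURangeF D C relF 796 1237356000 4001792 2048 = true := by decide +kernel
theorem ck_1955 : chkURangeF D C relF 796 1237356000 4003840 2048 = true := by decide +kernel
theorem ck_1956 : chkURangeF D C relF 796 1237356000 4005888 2048 = true := by decide +kernel
theorem ck_1957 : chkURangeF D C relF 796 1237356000 4007936 2048 = true := by decide +kernel
theorem ck_1958 : chkURangeF D C relF 796 1237356000 4009984 2048 = true := by decide +kernel
theorem ck_1959 : chkURangeF D C relF 796 1237356000 4012032 2048 = true := by decide +kernel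
theorem ck_1960 : chkURangeF D C relF 796 1237356000 4014080 2048 = true := by decide +kernel
theorem ck_1961 : chkURangeF D C relF 796 1237356000 4016128 2048 = true := by decide +kernel
theorem ck_1962 : chkURangeF D C relF 796 1237356000 4018176 2048 = true := by decide +kernel
theorem ck_1963 : chkURangeF D C relF 796 1237356000 4020224 2048 = true := by decide +kernel
theorem ck_1964 : chkURangeF D C relF 796 1237356000 4022272 2048 = true := by decide +kernel
theorem ck_1965 : chkURangeF D C relF 796 1237356000 4024320 2048 = true := by decide +kernel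
theorem ck_1966 : chkURangeF D C relF 796 1237356000 4026368 2048 = true := by decide +kernel
theorem ck_1967 : chkURangeF D C relF 796 1237356000 4028416 2048 = true := by decide +kernel
theorem chkU_81 (b : ℕ) (h1 : 3981312 ≤ b) (h2 : b < 4030464) : chkU D C b = true := by
  rcases Nat.lt_or_ge b 3983360 with g0 | g0
  · exact chkURangeF_spec C relF_hyp 1237356000 tc_eq 3981312 2048 ck_1944 b (by omega) (by omega)
  rcases Nat.lt_or_ge b 3985408 with g1 | g1
  · exact chkURangeF_spec C relF_hyp 1237356000 tc_eq 3983360 2048 ck_1945 b (by omega) (by omega)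
  rcases Nat.lt_or_ge b 3987456 with g2 | g2
  · exact chkURangeF_spec C relF_hyp 1237356000 tc_eq 3985408 2048 ck_1946 b (by omega) (by omega)
  rcases Nat.lt_or_ge b 3989504 with g3 | g3
  · exact chkURangeF_spec C relF_hyp 1237356000 tc_eq 3987456 2048 ck_1947 b (by omega) (by omega)
  rcases Nat.lt_or_ge b 3991552 with g4 | g4
  · exact chkURangeF_spec C relF_hyp 1237356000 tc_eq 3989504 2048 ck_1948 b (by omega) (by omega)
  rcases Nat.lt_or_ge b 3993600 with g5 | g5
  · exact chkURangeF_spec C relF_hyp 1237356000 tc_eq 3991552 2048 ck_1949 b (by omega) (by omega)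
  rcases Nat.lt_or_ge b 3995648 with g6 | g6
  · exact chkURangeF_spec C relF_hyp 1237356000 tc_eq 3993600 2048 ck_1950 b (by omega) (by omega)
  rcases Nat.lt_or_ge b 3997696 with g7 | g7
  · exact chkURangeF_spec C relF_hyp 1237356000 tc_eq 3995648 2048 ck_1951 b (by omega) (by omega)
  rcases Nat.lt_or_ge b 3999744 with g8 | g8
  · exact chkURangeF_spec C relF_hyp 1237356000 tc_eq 3997696 2048 ck_1952 b (by omega) (by omega)
  rcases Nat.lt_or_ge b 4001792 with g9 | g9
  · exact chkURangeF_spec C relF_hyp 1237356000 tc_eq 3999744 2048 ck_1953 b (by omega) (by omega)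
  rcases Nat.lt_or_ge b 4003840 with g10 | g10
  · exact chkURangeF_spec C relF_hyp 1237356000 tc_eq 4001792 2048 ck_1954 b (by omega) (by omega)
  rcases Nat.lt_or_ge b 4005888 with g11 | g11
  · exact chkURangeF_spec C relF_hyp 1237356000 tc_eq 4003840 2048 ck_1955 b (by omega) (by omega)
  rcases Nat.lt_or_ge b 4007936 with g12 | g12
  · exact chkURangeF_spec C relF_hyp 1237356000 tc_eq 4005888 2048 ck_1956 b (by omega) (by omega)
  rcases Nat.lt_or_ge b 4009984 with g13 | g13
  · exact chkURangeF_spec C relF_hyp 1237356000 tc_eq 4007936 2048 ck_1957 b (by omega) (by omega)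
  rcases Nat.lt_or_ge b 4012032 with g14 | g14
  · exact chkURangeF_spec C relF_hyp 1237356000 tc_eq 4009984 2048 ck_1958 b (by omega) (by omega)
  rcases Nat.lt_or_ge b 4014080 with g15 | g15
  · exact chkURangeF_spec C relF_hyp 1237356000 tc_eq 4012032 2048 ck_1959 b (by omega) (by omega)
  rcases Nat.lt_or_ge b 4016128 with g16 | g16
  · exact chkURangeF_spec C relF_hyp 1237356000 tc_eq 4014080 2048 ck_1960 b (by omega) (by omega)
  rcases Nat.lt_or_ge b 4018176 with g17 | g17
  · exact chkURangeF_spec C relF_hyp 1237356000 tc_eq 4016128 2048 ck_1961 b (by omega) (by omega)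
  rcases Nat.lt_or_ge b 4020224 with g18 | g18
  · exact chkURangeF_spec C relF_hyp 1237356000 tc_eq 4018176 2048 ck_1962 b (by omega) (by omega)
  rcases Nat.lt_or_ge b 4022272 with g19 | g19
  · exact chkURangeF_spec C relF_hyp 1237356000 tc_eq 4020224 2048 ck_1963 b (by omega) (by omega)
  rcases Nat.lt_or_ge b 4024320 with g20 | g20
  · exact chkURangeF_spec C relF_hyp 1237356000 tc_eq 4022272 2048 ck_1964 b (by omega) (by omega)
  rcases Nat.lt_or_ge b 4026368 with g21 | g21
  · exact chkURangeF_spec C relF_hyp 1237356000 tc_eq 4024320 2048 ck_1965 b (by omega) (by omega)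
  rcases Nat.lt_or_ge b 4028416 with g22 | g22
  · exact chkURangeF_spec C relF_hyp 1237356000 tc_eq 4026368 2048 ck_1966 b (by omega) (by omega)
  exact chkURangeF_spec C relF_hyp 1237356000 tc_eq 4028416 2048 ck_1967 b (by omega) (by omega)
end Cfsg.Agent.Lib.Helper2.HNMult.P2
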