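import Cfsg.Agent.Lib.Helper2.HNMult.P2.Cert
set_option autoImplicit false
set_option maxRecDepth 1000000
set_option Elab.async false
namespace Cfsg.Agent.Lib.Helper2.HNMult.P2
open Cfsg.Agent.Lib.Helper4.Sparse Cfsg.Agent.Lib.Helper2.SparseF
theorem ck_1968 : chkURangeF D C relF 796 1237356000 4030464 2048 = true := by decide +kernel
theorem ck_1969 : chkURangeF D C relF 796 1237356000 4032512 2048 = true := by decide +kernel
theorem ck_1970 : chkURangeF D C relF 796 1237356000 4034560 2048 = true := by decide +kernel
theorem ck_1971 : chkURangeF D C relF 796 1237356000 4036608 2048 = true := by decide +kernel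
theorem ck_1972 : chkURangeF D C relF 796 1237356000 4038656 2048 = true := by decide +kernel
theorem ck_1973 : chkURangeF D C relF 796 1237356000 4040704 2048 = true := by decide +kernel
theorem ck_1974 : chkURangeF D C relF 796 1237356000 4042752 2048 = true := by decide +kernel
theorem ck_1975 : chkURangeF D C relF 796 1237356000 4044800 2048 = true := by decide +kernel
theorem ck_1976 : chkURangeF D C relF 796 1237356000 4046848 2048 = true := by decide +kernel
theorem ck_1977 : chkURangeF D C relF 796 1237356000 4048896 2048 = true := by decide +kernel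
theorem ck_1978 : chkURangeF D C relF 796 1237356000 4050944 2048 = true := by decide +kernel
theorem ck_1979 : chkURangeF D C relF 796 1237356000 4052992 2048 = true := by decide +kernel
theorem ck_1980 : chkURangeF D C relF 796 1237356000 4055040 2048 = true := by decide +kernel
theorem ck_1981 : chkURangeF D C relF 796 1237356000 4057088 2048 = true := by decide +kernel
theorem ck_1982 : chkURangeF D C relF 796 1237356000 4059136 2048 = true := by decide +kernel
theorem ck_1983 : chkURangeF D C relF 796 1237356000 4061184 2048 = true := by decide +kernel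
theorem ck_1984 : chkURangeF D C relF 796 1237356000 4063232 2048 = true := by decide +kernel
theorem ck_1985 : chkURangeF D C relF 796 1237356000 4065280 2048 = true := by decide +kernel
theorem ck_1986 : chkURangeF D C relF 796 1237356000 4067328 2048 = true := by decide +kernel
theorem ck_1987 : chkURangeF D C relF 796 1237356000 4069376 2048 = true := by decide +kernel
theorem ck_1988 : chkURangeF D C relF 796 1237356000 4071424 2048 = true := by decide +kernel
theorem ck_1989 : chkURangeF D C relF 796 1237356000 4073472 2048 = true := by decide +kernel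
theorem ck_1990 : chkURangeF D C relF 796 1237356000 4075520 2048 = true := by decide +kernel
theorem ck_1991 : chkURangeF D C relF 796 1237356000 4077568 2048 = true := by decide +kernel
theorem chkU_82 (b : ℕ) (h1 : 4030464 ≤ b) (h2 : b < 4079616) : chkU D C b = true := by
  rcases Nat.lt_or_ge b 4032512 with g0 | g0
  · exact chkURangeF_spec C relF_hyp 1237356000 tc_eq 4030464 2048 ck_1968 b (by omega) (by omega)
  rcases Nat.lt_or_ge b 4034560 with g1 | g1
  · exact chkURangeF_spec C relF_hyp 1237356000 tc_eq 4032512 2048 ck_1969 b (by omega) (by omega)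
  rcases Nat.lt_or_ge b 4036608 with g2 | g2
  · exact chkURangeF_spec C relF_hyp 1237356000 tc_eq 4034560 2048 ck_1970 b (by omega) (by omega)
  rcases Nat.lt_or_ge b 4038656 with g3 | g3
  · exact chkURangeF_spec C relF_hyp 1237356000 tc_eq 4036608 2048 ck_1971 b (by omega) (by omega)
  rcases Nat.lt_or_ge b 4040704 with g4 | g4
  · exact chkURangeF_spec C relF_hyp 1237356000 tc_eq 4038656 2048 ck_1972 b (by omega) (by omega)
  rcases Nat.lt_or_ge b 4042752 with g5 | g5
  · exact chkURangeF_spec C relF_hyp 1237356000 tc_eq 4040704 2048 ck_1973 b (by omega) (by omega)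
  rcases Nat.lt_or_ge b 4044800 with g6 | g6
  · exact chkURangeF_spec C relF_hyp 1237356000 tc_eq 4042752 2048 ck_1974 b (by omega) (by omega)
  rcases Nat.lt_or_ge b 4046848 with g7 | g7
  · exact chkURangeF_spec C relF_hyp 1237356000 tc_eq 4044800 2048 ck_1975 b (by omega) (by omega)
  rcases Nat.lt_or_ge b 4048896 with g8 | g8
  · exact chkURangeF_spec C relF_hyp 1237356000 tc_eq 4046848 2048 ck_1976 b (by omega) (by omega)
  rcases Nat.lt_or_ge b 4050944 with g9 | g9
  · exact chkURangeF_spec C relF_hyp 1237356000 tc_eq 4048896 2048 ck_1977 b (by omega) (by omega)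
  rcases Nat.lt_or_ge b 4052992 with g10 | g10
  · exact chkURangeF_spec C relF_hyp 1237356000 tc_eq 4050944 2048 ck_1978 b (by omega) (by omega)
  rcases Nat.lt_or_ge b 4055040 with g11 | g11
  · exact chkURangeF_spec C relF_hyp 1237356000 tc_eq 4052992 2048 ck_1979 b (by omega) (by omega)
  rcases Nat.lt_or_ge b 4057088 with g12 | g12
  · exact chkURangeF_spec C relF_hyp 1237356000 tc_eq 4055040 2048 ck_1980 b (by omega) (by omega)
  rcases Nat.lt_or_ge b 4059136 with g13 | g13
  · exact chkURangeF_spec C relF_hyp 1237356000 tc_eq 4057088 2048 ck_1981 b (by omega) (by omega)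
  rcases Nat.lt_or_ge b 4061184 with g14 | g14
  · exact chkURangeF_spec C relF_hyp 1237356000 tc_eq 4059136 2048 ck_1982 b (by omega) (by omega)
  rcases Nat.lt_or_ge b 4063232 with g15 | g15
  · exact chkURangeF_spec C relF_hyp 1237356000 tc_eq 4061184 2048 ck_1983 b (by omega) (by omega)
  rcases Nat.lt_or_ge b 4065280 with g16 | g16
  · exact chkURangeF_spec C relF_hyp 1237356000 tc_eq 4063232 2048 ck_1984 b (by omega) (by omega)
  rcases Nat.lt_or_ge b 4067328 with g17 | g17
  · exact chkURangeF_spec C relF_hyp 1237356000 tc_eq 4065280 2048 ck_1985 b (by omega) (by omega)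
  rcases Nat.lt_or_ge b 4069376 with g18 | g18
  · exact chkURangeF_spec C relF_hyp 1237356000 tc_eq 4067328 2048 ck_1986 b (by omega) (by omega)
  rcases Nat.lt_or_ge b 4071424 with g19 | g19
  · exact chkURangeF_spec C relF_hyp 1237356000 tc_eq 4069376 2048 ck_1987 b (by omega) (by omega)
  rcases Nat.lt_or_ge b 4073472 with g20 | g20
  · exact chkURangeF_spec C relF_hyp 1237356000 tc_eq 4071424 2048 ck_1988 b (by omega) (by omega)
  rcases Nat.lt_or_ge b 4075520 with g21 | g21
  · exact chkURangeF_spec C relF_hyp 1237356000 tc_eq 4073472 2048 ck_1989 b (by omega) (by omega)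
  rcases Nat.lt_or_ge b 4077568 with g22 | g22
  · exact chkURangeF_spec C relF_hyp 1237356000 tc_eq 4075520 2048 ck_1990 b (by omega) (by omega)
  exact chkURangeF_spec C relF_hyp 1237356000 tc_eq 4077568 2048 ck_1991 b (by omega) (by omega)
end Cfsg.Agent.Lib.Helper2.HNMult.P2
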