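import Cfsg.Agent.Lib.Helper2.HNMult.P2.Cert
set_option autoImplicit false
set_option maxRecDepth 1000000
set_option Elab.async false
namespace Cfsg.Agent.Lib.Helper2.HNMult.P2
open Cfsg.Agent.Lib.Helper4.Sparse Cfsg.Agent.Lib.Helper2.SparseF
theorem ck_2016 : chkURangeF D C relF 796 1237356000 4128768 2048 = true := by decide +kernel
theorem ck_2017 : chkURangeF D C relF 796 1237356000 4130816 2048 = true := by decide +kernel
theorem ck_2018 : chkURangeF D C relF 796 1237356000 4132864 2048 = true := by decide +kernel
theorem ck_2019 : chkURangeF D C relF 796 1237356000 4134912 2048 = true := by decide +kernel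
theorem ck_2020 : chkURangeF D C relF 796 1237356000 4136960 2048 = true := by decide +kernel
theorem ck_2021 : chkURangeF D C relF 796 1237356000 4139008 2048 = true := by decide +kernel
theorem ck_2022 : chkURangeF D C relF 796 1237356000 4141056 2048 = true := by decide +kernel
theorem ck_2023 : chkURangeF D C relF 796 1237356000 4143104 2048 = true := by decide +kernel
theorem ck_2024 : chkURangeF D C relF 796 1237356000 4145152 2048 = true := by decide +kernel
theorem ck_2025 : chkURangeF D C relF 796 1237356000 4147200 2048 = true := by decide +kernel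
theorem ck_2026 : chkURangeF D C relF 796 1237356000 4149248 2048 = true := by decide +kernel
theorem ck_2027 : chkURangeF D C relF 796 1237356000 4151296 2048 = true := by decide +kernel
theorem ck_2028 : chkURangeF D C relF 796 1237356000 4153344 2048 = true := by decide +kernel
theorem ck_2029 : chkURangeF D C relF 796 1237356000 4155392 2048 = true := by decide +kernel
theorem ck_2030 : chkURangeF D C relF 796 1237356000 4157440 2048 = true := by decide +kernel
theorem ck_2031 : chkURangeF D C relF 796 1237356000 4159488 2048 = true := by decide +kernel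
theorem ck_2032 : chkURangeF D C relF 796 1237356000 4161536 2048 = true := by decide +kernel
theorem ck_2033 : chkURangeF D C relF 796 1237356000 4163584 2048 = true := by decide +kernel
theorem ck_2034 : chkURangeF D C relF 796 1237356000 4165632 2048 = true := by decide +kernel
theorem ck_2035 : chkURangeF D C relF 796 1237356000 4167680 2048 = true := by decide +kernel
theorem ck_2036 : chkURangeF D C relF 796 1237356000 4169728 2048 = true := by decide +kernel
theorem ck_2037 : chkURangeF D C relF 796 1237356000 4171776 2048 = true := by decide +kernel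
theorem ck_2038 : chkURangeF D C relF 796 1237356000 4173824 2048 = true := by decide +kernel
theorem ck_2039 : chkURangeF D C relF 796 1237356000 4175872 2048 = true := by decide +kernel
theorem chkU_84 (b : ℕ) (h1 : 4128768 ≤ b) (h2 : b < 4177920) : chkU D C b = true := by
  rcases Nat.lt_or_ge b 4130816 with g0 | g0
  · exact chkURangeF_spec C relF_hyp 1237356000 tc_eq 4128768 2048 ck_2016 b (by omega) (by omega)
  rcases Nat.lt_or_ge b 4132864 with g1 | g1
  · exact chkURangeF_spec C relF_hyp 1237356000 tc_eq 4130816 2048 ck_2017 b (by omega) (by omega)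
  rcases Nat.lt_or_ge b 4134912 with g2 | g2
  · exact chkURangeF_spec C relF_hyp 1237356000 tc_eq 4132864 2048 ck_2018 b (by omega) (by omega)
  rcases Nat.lt_or_ge b 4136960 with g3 | g3
  · exact chkURangeF_spec C relF_hyp 1237356000 tc_eq 4134912 2048 ck_2019 b (by omega) (by omega)
  rcases Nat.lt_or_ge b 4139008 with g4 | g4
  · exact chkURangeF_spec C relF_hyp 1237356000 tc_eq 4136960 2048 ck_2020 b (by omega) (by omega)
  rcases Nat.lt_or_ge b 4141056 with g5 | g5
  · exact chkURangeF_spec C relF_hyp 1237356000 tc_eq 4139008 2048 ck_2021 b (by omega) (by omega)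
  rcases Nat.lt_or_ge b 4143104 with g6 | g6
  · exact chkURangeF_spec C relF_hyp 1237356000 tc_eq 4141056 2048 ck_2022 b (by omega) (by omega)
  rcases Nat.lt_or_ge b 4145152 with g7 | g7
  · exact chkURangeF_spec C relF_hyp 1237356000 tc_eq 4143104 2048 ck_2023 b (by omega) (by omega)
  rcases Nat.lt_or_ge b 4147200 with g8 | g8
  · exact chkURangeF_spec C relF_hyp 1237356000 tc_eq 4145152 2048 ck_2024 b (by omega) (by omega)
  rcases Nat.lt_or_ge b 4149248 with g9 | g9
  · exact chkURangeF_spec C relF_hyp 1237356000 tc_eq 4147200 2048 ck_2025 b (by omega) (by omega)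
  rcases Nat.lt_or_ge b 4151296 with g10 | g10
  · exact chkURangeF_spec C relF_hyp 1237356000 tc_eq 4149248 2048 ck_2026 b (by omega) (by omega)
  rcases Nat.lt_or_ge b 4153344 with g11 | g11
  · exact chkURangeF_spec C relF_hyp 1237356000 tc_eq 4151296 2048 ck_2027 b (by omega) (by omega)
  rcases Nat.lt_or_ge b 4155392 with g12 | g12
  · exact chkURangeF_spec C relF_hyp 1237356000 tc_eq 4153344 2048 ck_2028 b (by omega) (by omega)
  rcases Nat.lt_or_ge b 4157440 with g13 | g13
  · exact chkURangeF_spec C relF_hyp 1237356000 tc_eq 4155392 2048 ck_2029 b (by omega) (by omega)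
  rcases Nat.lt_or_ge b 4159488 with g14 | g14
  · exact chkURangeF_spec C relF_hyp 1237356000 tc_eq 4157440 2048 ck_2030 b (by omega) (by omega)
  rcases Nat.lt_or_ge b 4161536 with g15 | g15
  · exact chkURangeF_spec C relF_hyp 1237356000 tc_eq 4159488 2048 ck_2031 b (by omega) (by omega)
  rcases Nat.lt_or_ge b 4163584 with g16 | g16
  · exact chkURangeF_spec C relF_hyp 1237356000 tc_eq 4161536 2048 ck_2032 b (by omega) (by omega)
  rcases Nat.lt_or_ge b 4165632 with g17 | g17
  · exact chkURangeF_spec C relF_hyp 1237356000 tc_eq 4163584 2048 ck_2033 b (by omega) (by omega)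
  rcases Nat.lt_or_ge b 4167680 with g18 | g18
  · exact chkURangeF_spec C relF_hyp 1237356000 tc_eq 4165632 2048 ck_2034 b (by omega) (by omega)
  rcases Nat.lt_or_ge b 4169728 with g19 | g19
  · exact chkURangeF_spec C relF_hyp 1237356000 tc_eq 4167680 2048 ck_2035 b (by omega) (by omega)
  rcases Nat.lt_or_ge b 4171776 with g20 | g20
  · exact chkURangeF_spec C relF_hyp 1237356000 tc_eq 4169728 2048 ck_2036 b (by omega) (by omega)
  rcases Nat.lt_or_ge b 4173824 with g21 | g21
  · exact chkURangeF_spec C relF_hyp 1237356000 tc_eq 4171776 2048 ck_2037 b (by omega) (by omega)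
  rcases Nat.lt_or_ge b 4175872 with g22 | g22
  · exact chkURangeF_spec C relF_hyp 1237356000 tc_eq 4173824 2048 ck_2038 b (by omega) (by omega)
  exact chkURangeF_spec C relF_hyp 1237356000 tc_eq 4175872 2048 ck_2039 b (by omega) (by omega)
end Cfsg.Agent.Lib.Helper2.HNMult.P2
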