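import Cfsg.Agent.Lib.Helper2.HNMult.P2.Cert
set_option autoImplicit false
set_option maxRecDepth 1000000
set_option Elab.async false
namespace Cfsg.Agent.Lib.Helper2.HNMult.P2
open Cfsg.Agent.Lib.Helper4.Sparse Cfsg.Agent.Lib.Helper2.SparseF
theorem ck_2040 : chkURangeF D C relF 796 1237356000 4177920 2048 = true := by decide +kernel
theorem ck_2041 : chkURangeF D C relF 796 1237356000 4179968 2048 = true := by decide +kernel
theorem ck_2042 : chkURangeF D C relF 796 1237356000 4182016 2048 = true := by decide +kernel
theorem ck_2043 : chkURangeF D C relF 796 1237356000 4184064 2048 = true := by decide +kernel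
theorem ck_2044 : chkURangeF D C relF 796 1237356000 4186112 2048 = true := by decide +kernel
theorem ck_2045 : chkURangeF D C relF 796 1237356000 4188160 2048 = true := by decide +kernel
theorem ck_2046 : chkURangeF D C relF 796 1237356000 4190208 2048 = true := by decide +kernel
theorem ck_2047 : chkURangeF D C relF 796 1237356000 4192256 2048 = true := by decide +kernel
theorem ck_2048 : chkURangeF D C relF 796 1237356000 4194304 2048 = true := by decide +kernel
theorem ck_2049 : chkURangeF D C relF 796 1237356000 4196352 2048 = true := by decide +kernel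
theorem ck_2050 : chkURangeF D C relF 796 1237356000 4198400 2048 = true := by decide +kernel
theorem ck_2051 : chkURangeF D C relF 796 1237356000 4200448 2048 = true := by decide +kernel
theorem ck_2052 : chkURangeF D C relF 796 1237356000 4202496 2048 = true := by decide +kernel
theorem ck_2053 : chkURangeF D C relF 796 1237356000 4204544 2048 = true := by decide +kernel
theorem ck_2054 : chkURangeF D C relF 796 1237356000 4206592 2048 = true := by decide +kernel
theorem ck_2055 : chkURangeF D C relF 796 1237356000 4208640 2048 = true := by decide +kernel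
theorem ck_2056 : chkURangeF D C relF 796 1237356000 4210688 2048 = true := by decide +kernel
theorem ck_2057 : chkURangeF D C relF 796 1237356000 4212736 2048 = true := by decide +kernel
theorem ck_2058 : chkURangeF D C relF 796 1237356000 4214784 2048 = true := by decide +kernel
theorem ck_2059 : chkURangeF D C relF 796 1237356000 4216832 2048 = true := by decide +kernel
theorem ck_2060 : chkURangeF D C relF 796 1237356000 4218880 2048 = true := by decide +kernel
theorem ck_2061 : chkURangeF D C relF 796 1237356000 4220928 2048 = true := by decide +kernel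
theorem ck_2062 : chkURangeF D C relF 796 1237356000 4222976 2048 = true := by decide +kernel
theorem ck_2063 : chkURangeF D C relF 796 1237356000 4225024 2048 = true := by decide +kernel
theorem chkU_85 (b : ℕ) (h1 : 4177920 ≤ b) (h2 : b < 4227072) : chkU D C b = true := by
  rcases Nat.lt_or_ge b 4179968 with g0 | g0
  · exact chkURangeF_spec C relF_hyp 1237356000 tc_eq 4177920 2048 ck_2040 b (by omega) (by omega)
  rcases Nat.lt_or_ge b 4182016 with g1 | g1
  · exact chkURangeF_spec C relF_hyp 1237356000 tc_eq 4179968 2048 ck_2041 b (by omega) (by omega)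
  rcases Nat.lt_or_ge b 4184064 with g2 | g2
  · exact chkURangeF_spec C relF_hyp 1237356000 tc_eq 4182016 2048 ck_2042 b (by omega) (by omega)
  rcases Nat.lt_or_ge b 4186112 with g3 | g3
  · exact chkURangeF_spec C relF_hyp 1237356000 tc_eq 4184064 2048 ck_2043 b (by omega) (by omega)
  rcases Nat.lt_or_ge b 4188160 with g4 | g4
  · exact chkURangeF_spec C relF_hyp 1237356000 tc_eq 4186112 2048 ck_2044 b (by omega) (by omega)
  rcases Nat.lt_or_ge b 4190208 with g5 | g5
  · exact chkURangeF_spec C relF_hyp 1237356000 tc_eq 4188160 2048 ck_2045 b (by omega) (by omega)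
  rcases Nat.lt_or_ge b 4192256 with g6 | g6
  · exact chkURangeF_spec C relF_hyp 1237356000 tc_eq 4190208 2048 ck_2046 b (by omega) (by omega)
  rcases Nat.lt_or_ge b 4194304 with g7 | g7
  · exact chkURangeF_spec C relF_hyp 1237356000 tc_eq 4192256 2048 ck_2047 b (by omega) (by omega)
  rcases Nat.lt_or_ge b 4196352 with g8 | g8
  · exact chkURangeF_spec C relF_hyp 1237356000 tc_eq 4194304 2048 ck_2048 b (by omega) (by omega)
  rcases Nat.lt_or_ge b 4198400 with g9 | g9
  · exact chkURangeF_spec C relF_hyp 1237356000 tc_eq 4196352 2048 ck_2049 b (by omega) (by omega)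
  rcases Nat.lt_or_ge b 4200448 with g10 | g10
  · exact chkURangeF_spec C relF_hyp 1237356000 tc_eq 4198400 2048 ck_2050 b (by omega) (by omega)
  rcases Nat.lt_or_ge b 4202496 with g11 | g11
  · exact chkURangeF_spec C relF_hyp 1237356000 tc_eq 4200448 2048 ck_2051 b (by omega) (by omega)
  rcases Nat.lt_or_ge b 4204544 with g12 | g12
  · exact chkURangeF_spec C relF_hyp 1237356000 tc_eq 4202496 2048 ck_2052 b (by omega) (by omega)
  rcases Nat.lt_or_ge b 4206592 with g13 | g13
  · exact chkURangeF_spec C relF_hyp 1237356000 tc_eq 4204544 2048 ck_2053 b (by omega) (by omega)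
  rcases Nat.lt_or_ge b 4208640 with g14 | g14
  · exact chkURangeF_spec C relF_hyp 1237356000 tc_eq 4206592 2048 ck_2054 b (by omega) (by omega)
  rcases Nat.lt_or_ge b 4210688 with g15 | g15
  · exact chkURangeF_spec C relF_hyp 1237356000 tc_eq 4208640 2048 ck_2055 b (by omega) (by omega)
  rcases Nat.lt_or_ge b 4212736 with g16 | g16
  · exact chkURangeF_spec C relF_hyp 1237356000 tc_eq 4210688 2048 ck_2056 b (by omega) (by omega)
  rcases Nat.lt_or_ge b 4214784 with g17 | g17
  · exact chkURangeF_spec C relF_hyp 1237356000 tc_eq 4212736 2048 ck_2057 b (by omega) (by omega)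
  rcases Nat.lt_or_ge b 4216832 with g18 | g18
  · exact chkURangeF_spec C relF_hyp 1237356000 tc_eq 4214784 2048 ck_2058 b (by omega) (by omega)
  rcases Nat.lt_or_ge b 4218880 with g19 | g19
  · exact chkURangeF_spec C relF_hyp 1237356000 tc_eq 4216832 2048 ck_2059 b (by omega) (by omega)
  rcases Nat.lt_or_ge b 4220928 with g20 | g20
  · exact chkURangeF_spec C relF_hyp 1237356000 tc_eq 4218880 2048 ck_2060 b (by omega) (by omega)
  rcases Nat.lt_or_ge b 4222976 with g21 | g21
  · exact chkURangeF_spec C relF_hyp 1237356000 tc_eq 4220928 2048 ck_2061 b (by omega) (by omega)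
  rcases Nat.lt_or_ge b 4225024 with g22 | g22
  · exact chkURangeF_spec C relF_hyp 1237356000 tc_eq 4222976 2048 ck_2062 b (by omega) (by omega)
  exact chkURangeF_spec C relF_hyp 1237356000 tc_eq 4225024 2048 ck_2063 b (by omega) (by omega)
end Cfsg.Agent.Lib.Helper2.HNMult.P2
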