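import Cfsg.Agent.Lib.Helper2.HNMult.P2.Cert
set_option autoImplicit false
set_option maxRecDepth 1000000
set_option Elab.async false
namespace Cfsg.Agent.Lib.Helper2.HNMult.P2
open Cfsg.Agent.Lib.Helper4.Sparse Cfsg.Agent.Lib.Helper2.SparseF
theorem ck_2064 : chkURangeF D C relF 796 1237356000 4227072 2048 = true := by decide +kernel
theorem ck_2065 : chkURangeF D C relF 796 1237356000 4229120 2048 = true := by decide +kernel
theorem ck_2066 : chkURangeF D C relF 796 1237356000 4231168 2048 = true := by decide +kernel
theorem ck_2067 : chkURangeF D C relF 796 1237356000 4233216 2048 = true := by decide +kernel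
theorem ck_2068 : chkURangeF D C relF 796 1237356000 4235264 2048 = true := by decide +kernel
theorem ck_2069 : chkURangeF D C relF 796 1237356000 4237312 2048 = true := by decide +kernel
theorem ck_2070 : chkURangeF D C relF 796 1237356000 4239360 2048 = true := by decide +kernel
theorem ck_2071 : chkURangeF D C relF 796 1237356000 4241408 2048 = true := by decide +kernel
theorem ck_2072 : chkURangeF D C relF 796 1237356000 4243456 2048 = true := by decide +kernel
theorem ck_2073 : chkURangeF D C relF 796 1237356000 4245504 2048 = true := by decide +kernel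
theorem ck_2074 : chkURangeF D C relF 796 1237356000 4247552 2048 = true := by decide +kernel
theorem ck_2075 : chkURangeF D C relF 796 1237356000 4249600 2048 = true := by decide +kernel
theorem ck_2076 : chkURangeF D C relF 796 1237356000 4251648 2048 = true := by decide +kernel
theorem ck_2077 : chkURangeF D C relF 796 1237356000 4253696 2048 = true := by decide +kernel
theorem ck_2078 : chkURangeF D C relF 796 1237356000 4255744 2048 = true := by decide +kernel
theorem ck_2079 : chkURangeF D C relF 796 1237356000 4257792 2048 = true := by decide +kernel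
theorem ck_2080 : chkURangeF D C relF 796 1237356000 4259840 2048 = true := by decide +kernel
theorem ck_2081 : chkURangeF D C relF 796 1237356000 4261888 2048 = true := by decide +kernel
theorem ck_2082 : chkURangeF D C relF 796 1237356000 4263936 2048 = true := by decide +kernel
theorem ck_2083 : chkURangeF D C relF 796 1237356000 4265984 2048 = true := by decide +kernel
theorem ck_2084 : chkURangeF D C relF 796 1237356000 4268032 2048 = true := by decide +kernel
theorem ck_2085 : chkURangeF D C relF 796 1237356000 4270080 2048 = true := by decide +kernel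
theorem ck_2086 : chkURangeF D C relF 796 1237356000 4272128 2048 = true := by decide +kernel
theorem ck_2087 : chkURangeF D C relF 796 1237356000 4274176 2048 = true := by decide +kernel
theorem chkU_86 (b : ℕ) (h1 : 4227072 ≤ b) (h2 : b < 4276224) : chkU D C b = true := by
  rcases Nat.lt_or_ge b 4229120 with g0 | g0
  · exact chkURangeF_spec C relF_hyp 1237356000 tc_eq 4227072 2048 ck_2064 b (by omega) (by omega)
  rcases Nat.lt_or_ge b 4231168 with g1 | g1
  · exact chkURangeF_spec C relF_hyp 1237356000 tc_eq 4229120 2048 ck_2065 b (by omega) (by omega)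
  rcases Nat.lt_or_ge b 4233216 with g2 | g2
  · exact chkURangeF_spec C relF_hyp 1237356000 tc_eq 4231168 2048 ck_2066 b (by omega) (by omega)
  rcases Nat.lt_or_ge b 4235264 with g3 | g3
  · exact chkURangeF_spec C relF_hyp 1237356000 tc_eq 4233216 2048 ck_2067 b (by omega) (by omega)
  rcases Nat.lt_or_ge b 4237312 with g4 | g4
  · exact chkURangeF_spec C relF_hyp 1237356000 tc_eq 4235264 2048 ck_2068 b (by omega) (by omega)
  rcases Nat.lt_or_ge b 4239360 with g5 | g5
  · exact chkURangeF_spec C relF_hyp 1237356000 tc_eq 4237312 2048 ck_2069 b (by omega) (by omega)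
  rcases Nat.lt_or_ge b 4241408 with g6 | g6
  · exact chkURangeF_spec C relF_hyp 1237356000 tc_eq 4239360 2048 ck_2070 b (by omega) (by omega)
  rcases Nat.lt_or_ge b 4243456 with g7 | g7
  · exact chkURangeF_spec C relF_hyp 1237356000 tc_eq 4241408 2048 ck_2071 b (by omega) (by omega)
  rcases Nat.lt_or_ge b 4245504 with g8 | g8
  · exact chkURangeF_spec C relF_hyp 1237356000 tc_eq 4243456 2048 ck_2072 b (by omega) (by omega)
  rcases Nat.lt_or_ge b 4247552 with g9 | g9
  · exact chkURangeF_spec C relF_hyp 1237356000 tc_eq 4245504 2048 ck_2073 b (by omega) (by omega)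
  rcases Nat.lt_or_ge b 4249600 with g10 | g10
  · exact chkURangeF_spec C relF_hyp 1237356000 tc_eq 4247552 2048 ck_2074 b (by omega) (by omega)
  rcases Nat.lt_or_ge b 4251648 with g11 | g11
  · exact chkURangeF_spec C relF_hyp 1237356000 tc_eq 4249600 2048 ck_2075 b (by omega) (by omega)
  rcases Nat.lt_or_ge b 4253696 with g12 | g12
  · exact chkURangeF_spec C relF_hyp 1237356000 tc_eq 4251648 2048 ck_2076 b (by omega) (by omega)
  rcases Nat.lt_or_ge b 4255744 with g13 | g13
  · exact chkURangeF_spec C relF_hyp 1237356000 tc_eq 4253696 2048 ck_2077 b (by omega) (by omega)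
  rcases Nat.lt_or_ge b 4257792 with g14 | g14
  · exact chkURangeF_spec C relF_hyp 1237356000 tc_eq 4255744 2048 ck_2078 b (by omega) (by omega)
  rcases Nat.lt_or_ge b 4259840 with g15 | g15
  · exact chkURangeF_spec C relF_hyp 1237356000 tc_eq 4257792 2048 ck_2079 b (by omega) (by omega)
  rcases Nat.lt_or_ge b 4261888 with g16 | g16
  · exact chkURangeF_spec C relF_hyp 1237356000 tc_eq 4259840 2048 ck_2080 b (by omega) (by omega)
  rcases Nat.lt_or_ge b 4263936 with g17 | g17
  · exact chkURangeF_spec C relF_hyp 1237356000 tc_eq 4261888 2048 ck_2081 b (by omega) (by omega)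
  rcases Nat.lt_or_ge b 4265984 with g18 | g18
  · exact chkURangeF_spec C relF_hyp 1237356000 tc_eq 4263936 2048 ck_2082 b (by omega) (by omega)
  rcases Nat.lt_or_ge b 4268032 with g19 | g19
  · exact chkURangeF_spec C relF_hyp 1237356000 tc_eq 4265984 2048 ck_2083 b (by omega) (by omega)
  rcases Nat.lt_or_ge b 4270080 with g20 | g20
  · exact chkURangeF_spec C relF_hyp 1237356000 tc_eq 4268032 2048 ck_2084 b (by omega) (by omega)
  rcases Nat.lt_or_ge b 4272128 with g21 | g21
  · exact chkURangeF_spec C relF_hyp 1237356000 tc_eq 4270080 2048 ck_2085 b (by omega) (by omega)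
  rcases Nat.lt_or_ge b 4274176 with g22 | g22
  · exact chkURangeF_spec C relF_hyp 1237356000 tc_eq 4272128 2048 ck_2086 b (by omega) (by omega)
  exact chkURangeF_spec C relF_hyp 1237356000 tc_eq 4274176 2048 ck_2087 b (by omega) (by omega)
end Cfsg.Agent.Lib.Helper2.HNMult.P2
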