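import Cfsg.Agent.Lib.Helper2.HNMult.P2.Cert
set_option autoImplicit false
set_option maxRecDepth 1000000
set_option Elab.async false
namespace Cfsg.Agent.Lib.Helper2.HNMult.P2
open Cfsg.Agent.Lib.Helper4.Sparse Cfsg.Agent.Lib.Helper2.SparseF
theorem ck_2088 : chkURangeF D C relF 796 1237356000 4276224 2048 = true := by decide +kernel
theorem ck_2089 : chkURangeF D C relF 796 1237356000 4278272 2048 = true := by decide +kernel
theorem ck_2090 : chkURangeF D C relF 796 1237356000 4280320 2048 = true := by decide +kernel
theorem ck_2091 : chkURangeF D C relF 796 1237356000 4282368 2048 = true := by decide +kernel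
theorem ck_2092 : chkURangeF D C relF 796 1237356000 4284416 2048 = true := by decide +kernel
theorem ck_2093 : chkURangeF D C relF 796 1237356000 4286464 2048 = true := by decide +kernel
theorem ck_2094 : chkURangeF D C relF 796 1237356000 4288512 2048 = true := by decide +kernel
theorem ck_2095 : chkURangeF D C relF 796 1237356000 4290560 2048 = true := by decide +kernel
theorem ck_2096 : chkURangeF D C relF 796 1237356000 4292608 2048 = true := by decide +kernel
theorem ck_2097 : chkURangeF D C relF 796 1237356000 4294656 2048 = true := by decide +kernel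
theorem ck_2098 : chkURangeF D C relF 796 1237356000 4296704 2048 = true := by decide +kernel
theorem ck_2099 : chkURangeF D C relF 796 1237356000 4298752 2048 = true := by decide +kernel
theorem ck_2100 : chkURangeF D C relF 796 1237356000 4300800 2048 = true := by decide +kernel
theorem ck_2101 : chkURangeF D C relF 796 1237356000 4302848 2048 = true := by decide +kernel
theorem ck_2102 : chkURangeF D C relF 796 1237356000 4304896 2048 = true := by decide +kernel
theorem ck_2103 : chkURangeF D C relF 796 1237356000 4306944 2048 = true := by decide +kernel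
theorem ck_2104 : chkURangeF D C relF 796 1237356000 4308992 2048 = true := by decide +kernel
theorem ck_2105 : chkURangeF D C relF 796 1237356000 4311040 2048 = true := by decide +kernel
theorem ck_2106 : chkURangeF D C relF 796 1237356000 4313088 2048 = true := by decide +kernel
theorem ck_2107 : chkURangeF D C relF 796 1237356000 4315136 2048 = true := by decide +kernel
theorem ck_2108 : chkURangeF D C relF 796 1237356000 4317184 2048 = true := by decide +kernel
theorem ck_2109 : chkURangeF D C relF 796 1237356000 4319232 2048 = true := by decide +kernel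
theorem ck_2110 : chkURangeF D C relF 796 1237356000 4321280 2048 = true := by decide +kernel
theorem ck_2111 : chkURangeF D C relF 796 1237356000 4323328 2048 = true := by decide +kernel
theorem chkU_87 (b : ℕ) (h1 : 4276224 ≤ b) (h2 : b < 4325376) : chkU D C b = true := by
  rcases Nat.lt_or_ge b 4278272 with g0 | g0
  · exact chkURangeF_spec C relF_hyp 1237356000 tc_eq 4276224 2048 ck_2088 b (by omega) (by omega)
  rcases Nat.lt_or_ge b 4280320 with g1 | g1
  · exact chkURangeF_spec C relF_hyp 1237356000 tc_eq 4278272 2048 ck_2089 b (by omega) (by omega)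
  rcases Nat.lt_or_ge b 4282368 with g2 | g2
  · exact chkURangeF_spec C relF_hyp 1237356000 tc_eq 4280320 2048 ck_2090 b (by omega) (by omega)
  rcases Nat.lt_or_ge b 4284416 with g3 | g3
  · exact chkURangeF_spec C relF_hyp 1237356000 tc_eq 4282368 2048 ck_2091 b (by omega) (by omega)
  rcases Nat.lt_or_ge b 4286464 with g4 | g4
  · exact chkURangeF_spec C relF_hyp 1237356000 tc_eq 4284416 2048 ck_2092 b (by omega) (by omega)
  rcases Nat.lt_or_ge b 4288512 with g5 | g5
  · exact chkURangeF_spec C relF_hyp 1237356000 tc_eq 4286464 2048 ck_2093 b (by omega) (by omega)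
  rcases Nat.lt_or_ge b 4290560 with g6 | g6
  · exact chkURangeF_spec C relF_hyp 1237356000 tc_eq 4288512 2048 ck_2094 b (by omega) (by omega)
  rcases Nat.lt_or_ge b 4292608 with g7 | g7
  · exact chkURangeF_spec C relF_hyp 1237356000 tc_eq 4290560 2048 ck_2095 b (by omega) (by omega)
  rcases Nat.lt_or_ge b 4294656 with g8 | g8
  · exact chkURangeF_spec C relF_hyp 1237356000 tc_eq 4292608 2048 ck_2096 b (by omega) (by omega)
  rcases Nat.lt_or_ge b 4296704 with g9 | g9
  · exact chkURangeF_spec C relF_hyp 1237356000 tc_eq 4294656 2048 ck_2097 b (by omega) (by omega)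
  rcases Nat.lt_or_ge b 4298752 with g10 | g10
  · exact chkURangeF_spec C relF_hyp 1237356000 tc_eq 4296704 2048 ck_2098 b (by omega) (by omega)
  rcases Nat.lt_or_ge b 4300800 with g11 | g11
  · exact chkURangeF_spec C relF_hyp 1237356000 tc_eq 4298752 2048 ck_2099 b (by omega) (by omega)
  rcases Nat.lt_or_ge b 4302848 with g12 | g12
  · exact chkURangeF_spec C relF_hyp 1237356000 tc_eq 4300800 2048 ck_2100 b (by omega) (by omega)
  rcases Nat.lt_or_ge b 4304896 with g13 | g13
  · exact chkURangeF_spec C relF_hyp 1237356000 tc_eq 4302848 2048 ck_2101 b (by omega) (by omega)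
  rcases Nat.lt_or_ge b 4306944 with g14 | g14
  · exact chkURangeF_spec C relF_hyp 1237356000 tc_eq 4304896 2048 ck_2102 b (by omega) (by omega)
  rcases Nat.lt_or_ge b 4308992 with g15 | g15
  · exact chkURangeF_spec C relF_hyp 1237356000 tc_eq 4306944 2048 ck_2103 b (by omega) (by omega)
  rcases Nat.lt_or_ge b 4311040 with g16 | g16
  · exact chkURangeF_spec C relF_hyp 1237356000 tc_eq 4308992 2048 ck_2104 b (by omega) (by omega)
  rcases Nat.lt_or_ge b 4313088 with g17 | g17
  · exact chkURangeF_spec C relF_hyp 1237356000 tc_eq 4311040 2048 ck_2105 b (by omega) (by omega)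
  rcases Nat.lt_or_ge b 4315136 with g18 | g18
  · exact chkURangeF_spec C relF_hyp 1237356000 tc_eq 4313088 2048 ck_2106 b (by omega) (by omega)
  rcases Nat.lt_or_ge b 4317184 with g19 | g19
  · exact chkURangeF_spec C relF_hyp 1237356000 tc_eq 4315136 2048 ck_2107 b (by omega) (by omega)
  rcases Nat.lt_or_ge b 4319232 with g20 | g20
  · exact chkURangeF_spec C relF_hyp 1237356000 tc_eq 4317184 2048 ck_2108 b (by omega) (by omega)
  rcases Nat.lt_or_ge b 4321280 with g21 | g21
  · exact chkURangeF_spec C relF_hyp 1237356000 tc_eq 4319232 2048 ck_2109 b (by omega) (by omega)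
  rcases Nat.lt_or_ge b 4323328 with g22 | g22
  · exact chkURangeF_spec C relF_hyp 1237356000 tc_eq 4321280 2048 ck_2110 b (by omega) (by omega)
  exact chkURangeF_spec C relF_hyp 1237356000 tc_eq 4323328 2048 ck_2111 b (by omega) (by omega)
end Cfsg.Agent.Lib.Helper2.HNMult.P2
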