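import Cfsg.Agent.Lib.Helper2.HNMult.P2.Cert
set_option autoImplicit false
set_option maxRecDepth 1000000
set_option Elab.async false
namespace Cfsg.Agent.Lib.Helper2.HNMult.P2
open Cfsg.Agent.Lib.Helper4.Sparse Cfsg.Agent.Lib.Helper2.SparseF
theorem ck_2208 : chkURangeF D C relF 796 1237356000 4521984 2048 = true := by decide +kernel
theorem ck_2209 : chkURangeF D C relF 796 1237356000 4524032 2048 = true := by decide +kernel
theorem ck_2210 : chkURangeF D C relF 796 1237356000 4526080 2048 = true := by decide +kernel
theorem ck_2211 : chkURangeF D C relF 796 1237356000 4528128 2048 = true := by decide +kernel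
theorem ck_2212 : chkURangeF D C relF 796 1237356000 4530176 2048 = true := by decide +kernel
theorem ck_2213 : chkURangeF D C relF 796 1237356000 4532224 2048 = true := by decide +kernel
theorem ck_2214 : chkURangeF D C relF 796 1237356000 4534272 2048 = true := by decide +kernel
theorem ck_2215 : chkURangeF D C relF 796 1237356000 4536320 2048 = true := by decide +kernel
theorem ck_2216 : chkURangeF D C relF 796 1237356000 4538368 2048 = true := by decide +kernel
theorem ck_2217 : chkURangeF D C relF 796 1237356000 4540416 2048 = true := by decide +kernel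
theorem ck_2218 : chkURangeF D C relF 796 1237356000 4542464 2048 = true := by decide +kernel
theorem ck_2219 : chkURangeF D C relF 796 1237356000 4544512 2048 = true := by decide +kernel
theorem ck_2220 : chkURangeF D C relF 796 1237356000 4546560 2048 = true := by decide +kernel
theorem ck_2221 : chkURangeF D C relF 796 1237356000 4548608 2048 = true := by decide +kernel
theorem ck_2222 : chkURangeF D C relF 796 1237356000 4550656 2048 = true := by decide +kernel
theorem ck_2223 : chkURangeF D C relF 796 1237356000 4552704 2048 = true := by decide +kernel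
theorem ck_2224 : chkURangeF D C relF 796 1237356000 4554752 2048 = true := by decide +kernel
theorem ck_2225 : chkURangeF D C relF 796 1237356000 4556800 2048 = true := by decide +kernel
theorem ck_2226 : chkURangeF D C relF 796 1237356000 4558848 2048 = true := by decide +kernel
theorem ck_2227 : chkURangeF D C relF 796 1237356000 4560896 2048 = true := by decide +kernel
theorem ck_2228 : chkURangeF D C relF 796 1237356000 4562944 2048 = true := by decide +kernel
theorem ck_2229 : chkURangeF D C relF 796 1237356000 4564992 2048 = true := by decide +kernel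
theorem ck_2230 : chkURangeF D C relF 796 1237356000 4567040 2048 = true := by decide +kernel
theorem ck_2231 : chkURangeF D C relF 796 1237356000 4569088 2048 = true := by decide +kernel
theorem chkU_92 (b : ℕ) (h1 : 4521984 ≤ b) (h2 : b < 4571136) : chkU D C b = true := by
  rcases Nat.lt_or_ge b 4524032 with g0 | g0
  · exact chkURangeF_spec C relF_hyp 1237356000 tc_eq 4521984 2048 ck_2208 b (by omega) (by omega)
  rcases Nat.lt_or_ge b 4526080 with g1 | g1
  · exact chkURangeF_spec C relF_hyp 1237356000 tc_eq 4524032 2048 ck_2209 b (by omega) (by omega)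
  rcases Nat.lt_or_ge b 4528128 with g2 | g2
  · exact chkURangeF_spec C relF_hyp 1237356000 tc_eq 4526080 2048 ck_2210 b (by omega) (by omega)
  rcases Nat.lt_or_ge b 4530176 with g3 | g3
  · exact chkURangeF_spec C relF_hyp 1237356000 tc_eq 4528128 2048 ck_2211 b (by omega) (by omega)
  rcases Nat.lt_or_ge b 4532224 with g4 | g4
  · exact chkURangeF_spec C relF_hyp 1237356000 tc_eq 4530176 2048 ck_2212 b (by omega) (by omega)
  rcases Nat.lt_or_ge b 4534272 with g5 | g5
  · exact chkURangeF_spec C relF_hyp 1237356000 tc_eq 4532224 2048 ck_2213 b (by omega) (by omega)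
  rcases Nat.lt_or_ge b 4536320 with g6 | g6
  · exact chkURangeF_spec C relF_hyp 1237356000 tc_eq 4534272 2048 ck_2214 b (by omega) (by omega)
  rcases Nat.lt_or_ge b 4538368 with g7 | g7
  · exact chkURangeF_spec C relF_hyp 1237356000 tc_eq 4536320 2048 ck_2215 b (by omega) (by omega)
  rcases Nat.lt_or_ge b 4540416 with g8 | g8
  · exact chkURangeF_spec C relF_hyp 1237356000 tc_eq 4538368 2048 ck_2216 b (by omega) (by omega)
  rcases Nat.lt_or_ge b 4542464 with g9 | g9
  · exact chkURangeF_spec C relF_hyp 1237356000 tc_eq 4540416 2048 ck_2217 b (by omega) (by omega)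
  rcases Nat.lt_or_ge b 4544512 with g10 | g10
  · exact chkURangeF_spec C relF_hyp 1237356000 tc_eq 4542464 2048 ck_2218 b (by omega) (by omega)
  rcases Nat.lt_or_ge b 4546560 with g11 | g11
  · exact chkURangeF_spec C relF_hyp 1237356000 tc_eq 4544512 2048 ck_2219 b (by omega) (by omega)
  rcases Nat.lt_or_ge b 4548608 with g12 | g12
  · exact chkURangeF_spec C relF_hyp 1237356000 tc_eq 4546560 2048 ck_2220 b (by omega) (by omega)
  rcases Nat.lt_or_ge b 4550656 with g13 | g13
  · exact chkURangeF_spec C relF_hyp 1237356000 tc_eq 4548608 2048 ck_2221 b (by omega) (by omega)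
  rcases Nat.lt_or_ge b 4552704 with g14 | g14
  · exact chkURangeF_spec C relF_hyp 1237356000 tc_eq 4550656 2048 ck_2222 b (by omega) (by omega)
  rcases Nat.lt_or_ge b 4554752 with g15 | g15
  · exact chkURangeF_spec C relF_hyp 1237356000 tc_eq 4552704 2048 ck_2223 b (by omega) (by omega)
  rcases Nat.lt_or_ge b 4556800 with g16 | g16
  · exact chkURangeF_spec C relF_hyp 1237356000 tc_eq 4554752 2048 ck_2224 b (by omega) (by omega)
  rcases Nat.lt_or_ge b 4558848 with g17 | g17
  · exact chkURangeF_spec C relF_hyp 1237356000 tc_eq 4556800 2048 ck_2225 b (by omega) (by omega)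
  rcases Nat.lt_or_ge b 4560896 with g18 | g18
  · exact chkURangeF_spec C relF_hyp 1237356000 tc_eq 4558848 2048 ck_2226 b (by omega) (by omega)
  rcases Nat.lt_or_ge b 4562944 with g19 | g19
  · exact chkURangeF_spec C relF_hyp 1237356000 tc_eq 4560896 2048 ck_2227 b (by omega) (by omega)
  rcases Nat.lt_or_ge b 4564992 with g20 | g20
  · exact chkURangeF_spec C relF_hyp 1237356000 tc_eq 4562944 2048 ck_2228 b (by omega) (by omega)
  rcases Nat.lt_or_ge b 4567040 with g21 | g21
  · exact chkURangeF_spec C relF_hyp 1237356000 tc_eq 4564992 2048 ck_2229 b (by omega) (by omega)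
  rcases Nat.lt_or_ge b 4569088 with g22 | g22
  · exact chkURangeF_spec C relF_hyp 1237356000 tc_eq 4567040 2048 ck_2230 b (by omega) (by omega)
  exact chkURangeF_spec C relF_hyp 1237356000 tc_eq 4569088 2048 ck_2231 b (by omega) (by omega)
end Cfsg.Agent.Lib.Helper2.HNMult.P2
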