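import Cfsg.Agent.Lib.Helper2.HNMult.P2.Cert
set_option autoImplicit false
set_option maxRecDepth 1000000
set_option Elab.async false
namespace Cfsg.Agent.Lib.Helper2.HNMult.P2
open Cfsg.Agent.Lib.Helper4.Sparse Cfsg.Agent.Lib.Helper2.SparseF
theorem ck_2232 : chkURangeF D C relF 796 1237356000 4571136 2048 = true := by decide +kernel
theorem ck_2233 : chkURangeF D C relF 796 1237356000 4573184 2048 = true := by decide +kernel
theorem ck_2234 : chkURangeF D C relF 796 1237356000 4575232 2048 = true := by decide +kernel
theorem ck_2235 : chkURangeF D C relF 796 1237356000 4577280 2048 = true := by decide +kernel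
theorem ck_2236 : chkURangeF D C relF 796 1237356000 4579328 2048 = true := by decide +kernel
theorem ck_2237 : chkURangeF D C relF 796 1237356000 4581376 2048 = true := by decide +kernel
theorem ck_2238 : chkURangeF D C relF 796 1237356000 4583424 2048 = true := by decide +kernel
theorem ck_2239 : chkURangeF D C relF 796 1237356000 4585472 2048 = true := by decide +kernel
theorem ck_2240 : chkURangeF D C relF 796 1237356000 4587520 2048 = true := by decide +kernel
theorem ck_2241 : chkURangeF D C relF 796 1237356000 4589568 2048 = true := by decide +kernel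
theorem ck_2242 : chkURangeF D C relF 796 1237356000 4591616 2048 = true := by decide +kernel
theorem ck_2243 : chkURangeF D C relF 796 1237356000 4593664 2048 = true := by decide +kernel
theorem ck_2244 : chkURangeF D C relF 796 1237356000 4595712 2048 = true := by decide +kernel
theorem ck_2245 : chkURangeF D C relF 796 1237356000 4597760 2048 = true := by decide +kernel
theorem ck_2246 : chkURangeF D C relF 796 1237356000 4599808 2048 = true := by decide +kernel
theorem ck_2247 : chkURangeF D C relF 796 1237356000 4601856 2048 = true := by decide +kernel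
theorem ck_2248 : chkURangeF D C relF 796 1237356000 4603904 2048 = true := by decide +kernel
theorem ck_2249 : chkURangeF D C relF 796 1237356000 4605952 2048 = true := by decide +kernel
theorem ck_2250 : chkURangeF D C relF 796 1237356000 4608000 2048 = true := by decide +kernel
theorem ck_2251 : chkURangeF D C relF 796 1237356000 4610048 2048 = true := by decide +kernel
theorem ck_2252 : chkURangeF D C relF 796 1237356000 4612096 2048 = true := by decide +kernel
theorem ck_2253 : chkURangeF D C relF 796 1237356000 4614144 2048 = true := by decide +kernel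
theorem ck_2254 : chkURangeF D C relF 796 1237356000 4616192 2048 = true := by decide +kernel
theorem ck_2255 : chkURangeF D C relF 796 1237356000 4618240 2048 = true := by decide +kernel
theorem chkU_93 (b : ℕ) (h1 : 4571136 ≤ b) (h2 : b < 4620288) : chkU D C b = true := by
  rcases Nat.lt_or_ge b 4573184 with g0 | g0
  · exact chkURangeF_spec C relF_hyp 1237356000 tc_eq 4571136 2048 ck_2232 b (by omega) (by omega)
  rcases Nat.lt_or_ge b 4575232 with g1 | g1
  · exact chkURangeF_spec C relF_hyp 1237356000 tc_eq 4573184 2048 ck_2233 b (by omega) (by omega)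
  rcases Nat.lt_or_ge b 4577280 with g2 | g2
  · exact chkURangeF_spec C relF_hyp 1237356000 tc_eq 4575232 2048 ck_2234 b (by omega) (by omega)
  rcases Nat.lt_or_ge b 4579328 with g3 | g3
  · exact chkURangeF_spec C relF_hyp 1237356000 tc_eq 4577280 2048 ck_2235 b (by omega) (by omega)
  rcases Nat.lt_or_ge b 4581376 with g4 | g4
  · exact chkURangeF_spec C relF_hyp 1237356000 tc_eq 4579328 2048 ck_2236 b (by omega) (by omega)
  rcases Nat.lt_or_ge b 4583424 with g5 | g5
  · exact chkURangeF_spec C relF_hyp 1237356000 tc_eq 4581376 2048 ck_2237 b (by omega) (by omega)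
  rcases Nat.lt_or_ge b 4585472 with g6 | g6
  · exact chkURangeF_spec C relF_hyp 1237356000 tc_eq 4583424 2048 ck_2238 b (by omega) (by omega)
  rcases Nat.lt_or_ge b 4587520 with g7 | g7
  · exact chkURangeF_spec C relF_hyp 1237356000 tc_eq 4585472 2048 ck_2239 b (by omega) (by omega)
  rcases Nat.lt_or_ge b 4589568 with g8 | g8
  · exact chkURangeF_spec C relF_hyp 1237356000 tc_eq 4587520 2048 ck_2240 b (by omega) (by omega)
  rcases Nat.lt_or_ge b 4591616 with g9 | g9
  · exact chkURangeF_spec C relF_hyp 1237356000 tc_eq 4589568 2048 ck_2241 b (by omega) (by omega)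
  rcases Nat.lt_or_ge b 4593664 with g10 | g10
  · exact chkURangeF_spec C relF_hyp 1237356000 tc_eq 4591616 2048 ck_2242 b (by omega) (by omega)
  rcases Nat.lt_or_ge b 4595712 with g11 | g11
  · exact chkURangeF_spec C relF_hyp 1237356000 tc_eq 4593664 2048 ck_2243 b (by omega) (by omega)
  rcases Nat.lt_or_ge b 4597760 with g12 | g12
  · exact chkURangeF_spec C relF_hyp 1237356000 tc_eq 4595712 2048 ck_2244 b (by omega) (by omega)
  rcases Nat.lt_or_ge b 4599808 with g13 | g13
  · exact chkURangeF_spec C relF_hyp 1237356000 tc_eq 4597760 2048 ck_2245 b (by omega) (by omega)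
  rcases Nat.lt_or_ge b 4601856 with g14 | g14
  · exact chkURangeF_spec C relF_hyp 1237356000 tc_eq 4599808 2048 ck_2246 b (by omega) (by omega)
  rcases Nat.lt_or_ge b 4603904 with g15 | g15
  · exact chkURangeF_spec C relF_hyp 1237356000 tc_eq 4601856 2048 ck_2247 b (by omega) (by omega)
  rcases Nat.lt_or_ge b 4605952 with g16 | g16
  · exact chkURangeF_spec C relF_hyp 1237356000 tc_eq 4603904 2048 ck_2248 b (by omega) (by omega)
  rcases Nat.lt_or_ge b 4608000 with g17 | g17
  · exact chkURangeF_spec C relF_hyp 1237356000 tc_eq 4605952 2048 ck_2249 b (by omega) (by omega)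
  rcases Nat.lt_or_ge b 4610048 with g18 | g18
  · exact chkURangeF_spec C relF_hyp 1237356000 tc_eq 4608000 2048 ck_2250 b (by omega) (by omega)
  rcases Nat.lt_or_ge b 4612096 with g19 | g19
  · exact chkURangeF_spec C relF_hyp 1237356000 tc_eq 4610048 2048 ck_2251 b (by omega) (by omega)
  rcases Nat.lt_or_ge b 4614144 with g20 | g20
  · exact chkURangeF_spec C relF_hyp 1237356000 tc_eq 4612096 2048 ck_2252 b (by omega) (by omega)
  rcases Nat.lt_or_ge b 4616192 with g21 | g21
  · exact chkURangeF_spec C relF_hyp 1237356000 tc_eq 4614144 2048 ck_2253 b (by omega) (by omega)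
  rcases Nat.lt_or_ge b 4618240 with g22 | g22
  · exact chkURangeF_spec C relF_hyp 1237356000 tc_eq 4616192 2048 ck_2254 b (by omega) (by omega)
  exact chkURangeF_spec C relF_hyp 1237356000 tc_eq 4618240 2048 ck_2255 b (by omega) (by omega)
end Cfsg.Agent.Lib.Helper2.HNMult.P2
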