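import Cfsg.Agent.Lib.Helper2.HNMult.P2.Cert
set_option autoImplicit false
set_option maxRecDepth 1000000
set_option Elab.async false
namespace Cfsg.Agent.Lib.Helper2.HNMult.P2
open Cfsg.Agent.Lib.Helper4.Sparse Cfsg.Agent.Lib.Helper2.SparseF
theorem ck_2304 : chkURangeF D C relF 796 1237356000 4718592 2048 = true := by decide +kernel
theorem ck_2305 : chkURangeF D C relF 796 1237356000 4720640 2048 = true := by decide +kernel
theorem ck_2306 : chkURangeF D C relF 796 1237356000 4722688 2048 = true := by decide +kernel
theorem ck_2307 : chkURangeF D C relF 796 1237356000 4724736 2048 = true := by decide +kernel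
theorem ck_2308 : chkURangeF D C relF 796 1237356000 4726784 2048 = true := by decide +kernel
theorem ck_2309 : chkURangeF D C relF 796 1237356000 4728832 2048 = true := by decide +kernel
theorem ck_2310 : chkURangeF D C relF 796 1237356000 4730880 2048 = true := by decide +kernel
theorem ck_2311 : chkURangeF D C relF 796 1237356000 4732928 2048 = true := by decide +kernel
theorem ck_2312 : chkURangeF D C relF 796 1237356000 4734976 2048 = true := by decide +kernel
theorem ck_2313 : chkURangeF D C relF 796 1237356000 4737024 2048 = true := by decide +kernel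
theorem ck_2314 : chkURangeF D C relF 796 1237356000 4739072 2048 = true := by decide +kernel
theorem ck_2315 : chkURangeF D C relF 796 1237356000 4741120 2048 = true := by decide +kernel
theorem ck_2316 : chkURangeF D C relF 796 1237356000 4743168 2048 = true := by decide +kernel
theorem ck_2317 : chkURangeF D C relF 796 1237356000 4745216 2048 = true := by decide +kernel
theorem ck_2318 : chkURangeF D C relF 796 1237356000 4747264 2048 = true := by decide +kernel
theorem ck_2319 : chkURangeF D C relF 796 1237356000 4749312 2048 = true := by decide +kernel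
theorem ck_2320 : chkURangeF D C relF 796 1237356000 4751360 2048 = true := by decide +kernel
theorem ck_2321 : chkURangeF D C relF 796 1237356000 4753408 2048 = true := by decide +kernel
theorem ck_2322 : chkURangeF D C relF 796 1237356000 4755456 2048 = true := by decide +kernel
theorem ck_2323 : chkURangeF D C relF 796 1237356000 4757504 2048 = true := by decide +kernel
theorem ck_2324 : chkURangeF D C relF 796 1237356000 4759552 2048 = true := by decide +kernel
theorem ck_2325 : chkURangeF D C relF 796 1237356000 4761600 2048 = true := by decide +kernel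
theorem ck_2326 : chkURangeF D C relF 796 1237356000 4763648 2048 = true := by decide +kernel
theorem ck_2327 : chkURangeF D C relF 796 1237356000 4765696 2048 = true := by decide +kernel
theorem chkU_96 (b : ℕ) (h1 : 4718592 ≤ b) (h2 : b < 4767744) : chkU D C b = true := by
  rcases Nat.lt_or_ge b 4720640 with g0 | g0
  · exact chkURangeF_spec C relF_hyp 1237356000 tc_eq 4718592 2048 ck_2304 b (by omega) (by omega)
  rcases Nat.lt_or_ge b 4722688 with g1 | g1
  · exact chkURangeF_spec C relF_hyp 1237356000 tc_eq 4720640 2048 ck_2305 b (by omega) (by omega)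
  rcases Nat.lt_or_ge b 4724736 with g2 | g2
  · exact chkURangeF_spec C relF_hyp 1237356000 tc_eq 4722688 2048 ck_2306 b (by omega) (by omega)
  rcases Nat.lt_or_ge b 4726784 with g3 | g3
  · exact chkURangeF_spec C relF_hyp 1237356000 tc_eq 4724736 2048 ck_2307 b (by omega) (by omega)
  rcases Nat.lt_or_ge b 4728832 with g4 | g4
  · exact chkURangeF_spec C relF_hyp 1237356000 tc_eq 4726784 2048 ck_2308 b (by omega) (by omega)
  rcases Nat.lt_or_ge b 4730880 with g5 | g5
  · exact chkURangeF_spec C relF_hyp 1237356000 tc_eq 4728832 2048 ck_2309 b (by omega) (by omega)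
  rcases Nat.lt_or_ge b 4732928 with g6 | g6
  · exact chkURangeF_spec C relF_hyp 1237356000 tc_eq 4730880 2048 ck_2310 b (by omega) (by omega)
  rcases Nat.lt_or_ge b 4734976 with g7 | g7
  · exact chkURangeF_spec C relF_hyp 1237356000 tc_eq 4732928 2048 ck_2311 b (by omega) (by omega)
  rcases Nat.lt_or_ge b 4737024 with g8 | g8
  · exact chkURangeF_spec C relF_hyp 1237356000 tc_eq 4734976 2048 ck_2312 b (by omega) (by omega)
  rcases Nat.lt_or_ge b 4739072 with g9 | g9
  · exact chkURangeF_spec C relF_hyp 1237356000 tc_eq 4737024 2048 ck_2313 b (by omega) (by omega)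
  rcases Nat.lt_or_ge b 4741120 with g10 | g10
  · exact chkURangeF_spec C relF_hyp 1237356000 tc_eq 4739072 2048 ck_2314 b (by omega) (by omega)
  rcases Nat.lt_or_ge b 4743168 with g11 | g11
  · exact chkURangeF_spec C relF_hyp 1237356000 tc_eq 4741120 2048 ck_2315 b (by omega) (by omega)
  rcases Nat.lt_or_ge b 4745216 with g12 | g12
  · exact chkURangeF_spec C relF_hyp 1237356000 tc_eq 4743168 2048 ck_2316 b (by omega) (by omega)
  rcases Nat.lt_or_ge b 4747264 with g13 | g13
  · exact chkURangeF_spec C relF_hyp 1237356000 tc_eq 4745216 2048 ck_2317 b (by omega) (by omega)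
  rcases Nat.lt_or_ge b 4749312 with g14 | g14
  · exact chkURangeF_spec C relF_hyp 1237356000 tc_eq 4747264 2048 ck_2318 b (by omega) (by omega)
  rcases Nat.lt_or_ge b 4751360 with g15 | g15
  · exact chkURangeF_spec C relF_hyp 1237356000 tc_eq 4749312 2048 ck_2319 b (by omega) (by omega)
  rcases Nat.lt_or_ge b 4753408 with g16 | g16
  · exact chkURangeF_spec C relF_hyp 1237356000 tc_eq 4751360 2048 ck_2320 b (by omega) (by omega)
  rcases Nat.lt_or_ge b 4755456 with g17 | g17
  · exact chkURangeF_spec C relF_hyp 1237356000 tc_eq 4753408 2048 ck_2321 b (by omega) (by omega)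
  rcases Nat.lt_or_ge b 4757504 with g18 | g18
  · exact chkURangeF_spec C relF_hyp 1237356000 tc_eq 4755456 2048 ck_2322 b (by omega) (by omega)
  rcases Nat.lt_or_ge b 4759552 with g19 | g19
  · exact chkURangeF_spec C relF_hyp 1237356000 tc_eq 4757504 2048 ck_2323 b (by omega) (by omega)
  rcases Nat.lt_or_ge b 4761600 with g20 | g20
  · exact chkURangeF_spec C relF_hyp 1237356000 tc_eq 4759552 2048 ck_2324 b (by omega) (by omega)
  rcases Nat.lt_or_ge b 4763648 with g21 | g21
  · exact chkURangeF_spec C relF_hyp 1237356000 tc_eq 4761600 2048 ck_2325 b (by omega) (by omega)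
  rcases Nat.lt_or_ge b 4765696 with g22 | g22
  · exact chkURangeF_spec C relF_hyp 1237356000 tc_eq 4763648 2048 ck_2326 b (by omega) (by omega)
  exact chkURangeF_spec C relF_hyp 1237356000 tc_eq 4765696 2048 ck_2327 b (by omega) (by omega)
end Cfsg.Agent.Lib.Helper2.HNMult.P2
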