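import Cfsg.Agent.Lib.Helper2.HNMult.P2.Cert
set_option autoImplicit false
set_option maxRecDepth 1000000
set_option Elab.async false
namespace Cfsg.Agent.Lib.Helper2.HNMult.P2
open Cfsg.Agent.Lib.Helper4.Sparse Cfsg.Agent.Lib.Helper2.SparseF
theorem ck_2328 : chkURangeF D C relF 796 1237356000 4767744 2048 = true := by decide +kernel
theorem ck_2329 : chkURangeF D C relF 796 1237356000 4769792 2048 = true := by decide +kernel
theorem ck_2330 : chkURangeF D C relF 796 1237356000 4771840 2048 = true := by decide +kernel
theorem ck_2331 : chkURangeF D C relF 796 1237356000 4773888 2048 = true := by decide +kernel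
theorem ck_2332 : chkURangeF D C relF 796 1237356000 4775936 2048 = true := by decide +kernel
theorem ck_2333 : chkURangeF D C relF 796 1237356000 4777984 2048 = true := by decide +kernel
theorem ck_2334 : chkURangeF D C relF 796 1237356000 4780032 2048 = true := by decide +kernel
theorem ck_2335 : chkURangeF D C relF 796 1237356000 4782080 2048 = true := by decide +kernel
theorem ck_2336 : chkURangeF D C relF 796 1237356000 4784128 2048 = true := by decide +kernel
theorem ck_2337 : chkURangeF D C relF 796 1237356000 4786176 2048 = true := by decide +kernel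
theorem ck_2338 : chkURangeF D C relF 796 1237356000 4788224 2048 = true := by decide +kernel
theorem ck_2339 : chkURangeF D C relF 796 1237356000 4790272 2048 = true := by decide +kernel
theorem ck_2340 : chkURangeF D C relF 796 1237356000 4792320 2048 = true := by decide +kernel
theorem ck_2341 : chkURangeF D C relF 796 1237356000 4794368 2048 = true := by decide +kernel
theorem ck_2342 : chkURangeF D C relF 796 1237356000 4796416 2048 = true := by decide +kernel
theorem ck_2343 : chkURangeF D C relF 796 1237356000 4798464 2048 = true := by decide +kernel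
theorem ck_2344 : chkURangeF D C relF 796 1237356000 4800512 2048 = true := by decide +kernel
theorem ck_2345 : chkURangeF D C relF 796 1237356000 4802560 2048 = true := by decide +kernel
theorem ck_2346 : chkURangeF D C relF 796 1237356000 4804608 2048 = true := by decide +kernel
theorem ck_2347 : chkURangeF D C relF 796 1237356000 4806656 2048 = true := by decide +kernel
theorem ck_2348 : chkURangeF D C relF 796 1237356000 4808704 2048 = true := by decide +kernel
theorem ck_2349 : chkURangeF D C relF 796 1237356000 4810752 2048 = true := by decide +kernel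
theorem ck_2350 : chkURangeF D C relF 796 1237356000 4812800 2048 = true := by decide +kernel
theorem ck_2351 : chkURangeF D C relF 796 1237356000 4814848 2048 = true := by decide +kernel
theorem chkU_97 (b : ℕ) (h1 : 4767744 ≤ b) (h2 : b < 4816896) : chkU D C b = true := by
  rcases Nat.lt_or_ge b 4769792 with g0 | g0
  · exact chkURangeF_spec C relF_hyp 1237356000 tc_eq 4767744 2048 ck_2328 b (by omega) (by omega)
  rcases Nat.lt_or_ge b 4771840 with g1 | g1
  · exact chkURangeF_spec C relF_hyp 1237356000 tc_eq 4769792 2048 ck_2329 b (by omega) (by omega)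
  rcases Nat.lt_or_ge b 4773888 with g2 | g2
  · exact chkURangeF_spec C relF_hyp 1237356000 tc_eq 4771840 2048 ck_2330 b (by omega) (by omega)
  rcases Nat.lt_or_ge b 4775936 with g3 | g3
  · exact chkURangeF_spec C relF_hyp 1237356000 tc_eq 4773888 2048 ck_2331 b (by omega) (by omega)
  rcases Nat.lt_or_ge b 4777984 with g4 | g4
  · exact chkURangeF_spec C relF_hyp 1237356000 tc_eq 4775936 2048 ck_2332 b (by omega) (by omega)
  rcases Nat.lt_or_ge b 4780032 with g5 | g5
  · exact chkURangeF_spec C relF_hyp 1237356000 tc_eq 4777984 2048 ck_2333 b (by omega) (by omega)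
  rcases Nat.lt_or_ge b 4782080 with g6 | g6
  · exact chkURangeF_spec C relF_hyp 1237356000 tc_eq 4780032 2048 ck_2334 b (by omega) (by omega)
  rcases Nat.lt_or_ge b 4784128 with g7 | g7
  · exact chkURangeF_spec C relF_hyp 1237356000 tc_eq 4782080 2048 ck_2335 b (by omega) (by omega)
  rcases Nat.lt_or_ge b 4786176 with g8 | g8
  · exact chkURangeF_spec C relF_hyp 1237356000 tc_eq 4784128 2048 ck_2336 b (by omega) (by omega)
  rcases Nat.lt_or_ge b 4788224 with g9 | g9
  · exact chkURangeF_spec C relF_hyp 1237356000 tc_eq 4786176 2048 ck_2337 b (by omega) (by omega)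
  rcases Nat.lt_or_ge b 4790272 with g10 | g10
  · exact chkURangeF_spec C relF_hyp 1237356000 tc_eq 4788224 2048 ck_2338 b (by omega) (by omega)
  rcases Nat.lt_or_ge b 4792320 with g11 | g11
  · exact chkURangeF_spec C relF_hyp 1237356000 tc_eq 4790272 2048 ck_2339 b (by omega) (by omega)
  rcases Nat.lt_or_ge b 4794368 with g12 | g12
  · exact chkURangeF_spec C relF_hyp 1237356000 tc_eq 4792320 2048 ck_2340 b (by omega) (by omega)
  rcases Nat.lt_or_ge b 4796416 with g13 | g13
  · exact chkURangeF_spec C relF_hyp 1237356000 tc_eq 4794368 2048 ck_2341 b (by omega) (by omega)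
  rcases Nat.lt_or_ge b 4798464 with g14 | g14
  · exact chkURangeF_spec C relF_hyp 1237356000 tc_eq 4796416 2048 ck_2342 b (by omega) (by omega)
  rcases Nat.lt_or_ge b 4800512 with g15 | g15
  · exact chkURangeF_spec C relF_hyp 1237356000 tc_eq 4798464 2048 ck_2343 b (by omega) (by omega)
  rcases Nat.lt_or_ge b 4802560 with g16 | g16
  · exact chkURangeF_spec C relF_hyp 1237356000 tc_eq 4800512 2048 ck_2344 b (by omega) (by omega)
  rcases Nat.lt_or_ge b 4804608 with g17 | g17
  · exact chkURangeF_spec C relF_hyp 1237356000 tc_eq 4802560 2048 ck_2345 b (by omega) (by omega)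
  rcases Nat.lt_or_ge b 4806656 with g18 | g18
  · exact chkURangeF_spec C relF_hyp 1237356000 tc_eq 4804608 2048 ck_2346 b (by omega) (by omega)
  rcases Nat.lt_or_ge b 4808704 with g19 | g19
  · exact chkURangeF_spec C relF_hyp 1237356000 tc_eq 4806656 2048 ck_2347 b (by omega) (by omega)
  rcases Nat.lt_or_ge b 4810752 with g20 | g20
  · exact chkURangeF_spec C relF_hyp 1237356000 tc_eq 4808704 2048 ck_2348 b (by omega) (by omega)
  rcases Nat.lt_or_ge b 4812800 with g21 | g21
  · exact chkURangeF_spec C relF_hyp 1237356000 tc_eq 4810752 2048 ck_2349 b (by omega) (by omega)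
  rcases Nat.lt_or_ge b 4814848 with g22 | g22
  · exact chkURangeF_spec C relF_hyp 1237356000 tc_eq 4812800 2048 ck_2350 b (by omega) (by omega)
  exact chkURangeF_spec C relF_hyp 1237356000 tc_eq 4814848 2048 ck_2351 b (by omega) (by omega)
end Cfsg.Agent.Lib.Helper2.HNMult.P2
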