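import Cfsg.Agent.Lib.Helper2.HNMult.P2.Cert
set_option autoImplicit false
set_option maxRecDepth 1000000
set_option Elab.async false
namespace Cfsg.Agent.Lib.Helper2.HNMult.P2
open Cfsg.Agent.Lib.Helper4.Sparse Cfsg.Agent.Lib.Helper2.SparseF
theorem ck_2376 : chkURangeF D C relF 796 1237356000 4866048 2048 = true := by decide +kernel
theorem ck_2377 : chkURangeF D C relF 796 1237356000 4868096 2048 = true := by decide +kernel
theorem ck_2378 : chkURangeF D C relF 796 1237356000 4870144 2048 = true := by decide +kernel
theorem ck_2379 : chkURangeF D C relF 796 1237356000 4872192 2048 = true := by decide +kernel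
theorem ck_2380 : chkURangeF D C relF 796 1237356000 4874240 2048 = true := by decide +kernel
theorem ck_2381 : chkURangeF D C relF 796 1237356000 4876288 2048 = true := by decide +kernel
theorem ck_2382 : chkURangeF D C relF 796 1237356000 4878336 2048 = true := by decide +kernel
theorem ck_2383 : chkURangeF D C relF 796 1237356000 4880384 2048 = true := by decide +kernel
theorem ck_2384 : chkURangeF D C relF 796 1237356000 4882432 2048 = true := by decide +kernel
theorem ck_2385 : chkURangeF D C relF 796 1237356000 4884480 2048 = true := by decide +kernel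
theorem ck_2386 : chkURangeF D C relF 796 1237356000 4886528 2048 = true := by decide +kernel
theorem ck_2387 : chkURangeF D C relF 796 1237356000 4888576 2048 = true := by decide +kernel
theorem ck_2388 : chkURangeF D C relF 796 1237356000 4890624 2048 = true := by decide +kernel
theorem ck_2389 : chkURangeF D C relF 796 1237356000 4892672 2048 = true := by decide +kernel
theorem ck_2390 : chkURangeF D C relF 796 1237356000 4894720 2048 = true := by decide +kernel
theorem ck_2391 : chkURangeF D C relF 796 1237356000 4896768 2048 = true := by decide +kernel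
theorem ck_2392 : chkURangeF D C relF 796 1237356000 4898816 2048 = true := by decide +kernel
theorem ck_2393 : chkURangeF D C relF 796 1237356000 4900864 2048 = true := by decide +kernel
theorem ck_2394 : chkURangeF D C relF 796 1237356000 4902912 2048 = true := by decide +kernel
theorem ck_2395 : chkURangeF D C relF 796 1237356000 4904960 2048 = true := by decide +kernel
theorem ck_2396 : chkURangeF D C relF 796 1237356000 4907008 2048 = true := by decide +kernel
theorem ck_2397 : chkURangeF D C relF 796 1237356000 4909056 2048 = true := by decide +kernel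
theorem ck_2398 : chkURangeF D C relF 796 1237356000 4911104 2048 = true := by decide +kernel
theorem ck_2399 : chkURangeF D C relF 796 1237356000 4913152 2048 = true := by decide +kernel
theorem chkU_99 (b : ℕ) (h1 : 4866048 ≤ b) (h2 : b < 4915200) : chkU D C b = true := by
  rcases Nat.lt_or_ge b 4868096 with g0 | g0
  · exact chkURangeF_spec C relF_hyp 1237356000 tc_eq 4866048 2048 ck_2376 b (by omega) (by omega)
  rcases Nat.lt_or_ge b 4870144 with g1 | g1
  · exact chkURangeF_spec C relF_hyp 1237356000 tc_eq 4868096 2048 ck_2377 b (by omega) (by omega)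
  rcases Nat.lt_or_ge b 4872192 with g2 | g2
  · exact chkURangeF_spec C relF_hyp 1237356000 tc_eq 4870144 2048 ck_2378 b (by omega) (by omega)
  rcases Nat.lt_or_ge b 4874240 with g3 | g3
  · exact chkURangeF_spec C relF_hyp 1237356000 tc_eq 4872192 2048 ck_2379 b (by omega) (by omega)
  rcases Nat.lt_or_ge b 4876288 with g4 | g4
  · exact chkURangeF_spec C relF_hyp 1237356000 tc_eq 4874240 2048 ck_2380 b (by omega) (by omega)
  rcases Nat.lt_or_ge b 4878336 with g5 | g5
  · exact chkURangeF_spec C relF_hyp 1237356000 tc_eq 4876288 2048 ck_2381 b (by omega) (by omega)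
  rcases Nat.lt_or_ge b 4880384 with g6 | g6
  · exact chkURangeF_spec C relF_hyp 1237356000 tc_eq 4878336 2048 ck_2382 b (by omega) (by omega)
  rcases Nat.lt_or_ge b 4882432 with g7 | g7
  · exact chkURangeF_spec C relF_hyp 1237356000 tc_eq 4880384 2048 ck_2383 b (by omega) (by omega)
  rcases Nat.lt_or_ge b 4884480 with g8 | g8
  · exact chkURangeF_spec C relF_hyp 1237356000 tc_eq 4882432 2048 ck_2384 b (by omega) (by omega)
  rcases Nat.lt_or_ge b 4886528 with g9 | g9
  · exact chkURangeF_spec C relF_hyp 1237356000 tc_eq 4884480 2048 ck_2385 b (by omega) (by omega)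
  rcases Nat.lt_or_ge b 4888576 with g10 | g10
  · exact chkURangeF_spec C relF_hyp 1237356000 tc_eq 4886528 2048 ck_2386 b (by omega) (by omega)
  rcases Nat.lt_or_ge b 4890624 with g11 | g11
  · exact chkURangeF_spec C relF_hyp 1237356000 tc_eq 4888576 2048 ck_2387 b (by omega) (by omega)
  rcases Nat.lt_or_ge b 4892672 with g12 | g12
  · exact chkURangeF_spec C relF_hyp 1237356000 tc_eq 4890624 2048 ck_2388 b (by omega) (by omega)
  rcases Nat.lt_or_ge b 4894720 with g13 | g13
  · exact chkURangeF_spec C relF_hyp 1237356000 tc_eq 4892672 2048 ck_2389 b (by omega) (by omega)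
  rcases Nat.lt_or_ge b 4896768 with g14 | g14
  · exact chkURangeF_spec C relF_hyp 1237356000 tc_eq 4894720 2048 ck_2390 b (by omega) (by omega)
  rcases Nat.lt_or_ge b 4898816 with g15 | g15
  · exact chkURangeF_spec C relF_hyp 1237356000 tc_eq 4896768 2048 ck_2391 b (by omega) (by omega)
  rcases Nat.lt_or_ge b 4900864 with g16 | g16
  · exact chkURangeF_spec C relF_hyp 1237356000 tc_eq 4898816 2048 ck_2392 b (by omega) (by omega)
  rcases Nat.lt_or_ge b 4902912 with g17 | g17
  · exact chkURangeF_spec C relF_hyp 1237356000 tc_eq 4900864 2048 ck_2393 b (by omega) (by omega)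
  rcases Nat.lt_or_ge b 4904960 with g18 | g18
  · exact chkURangeF_spec C relF_hyp 1237356000 tc_eq 4902912 2048 ck_2394 b (by omega) (by omega)
  rcases Nat.lt_or_ge b 4907008 with g19 | g19
  · exact chkURangeF_spec C relF_hyp 1237356000 tc_eq 4904960 2048 ck_2395 b (by omega) (by omega)
  rcases Nat.lt_or_ge b 4909056 with g20 | g20
  · exact chkURangeF_spec C relF_hyp 1237356000 tc_eq 4907008 2048 ck_2396 b (by omega) (by omega)
  rcases Nat.lt_or_ge b 4911104 with g21 | g21
  · exact chkURangeF_spec C relF_hyp 1237356000 tc_eq 4909056 2048 ck_2397 b (by omega) (by omega)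
  rcases Nat.lt_or_ge b 4913152 with g22 | g22
  · exact chkURangeF_spec C relF_hyp 1237356000 tc_eq 4911104 2048 ck_2398 b (by omega) (by omega)
  exact chkURangeF_spec C relF_hyp 1237356000 tc_eq 4913152 2048 ck_2399 b (by omega) (by omega)
end Cfsg.Agent.Lib.Helper2.HNMult.P2
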