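import Cfsg.Agent.Lib.Helper2.HNMult.P2.E0
import Cfsg.Agent.Lib.Helper2.HNMult.P2.E1
import Cfsg.Agent.Lib.Helper2.HNMult.P2.E2
import Cfsg.Agent.Lib.Helper2.HNMult.P2.E3
import Cfsg.Agent.Lib.Helper2.HNMult.P2.E4
import Cfsg.Agent.Lib.Helper2.HNMult.P2.E5
import Cfsg.Agent.Lib.Helper2.HNMult.P2.E6
import Cfsg.Agent.Lib.Helper2.HNMult.P2.E7
import Cfsg.Agent.Lib.Helper2.HNMult.P2.E8
import Cfsg.Agent.Lib.Helper2.HNMult.P2.E9
import Cfsg.Agent.Lib.Helper2.HNMult.P2.E10
import Cfsg.Agent.Lib.Helper2.HNMult.P2.E11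
import Cfsg.Agent.Lib.Helper2.HNMult.P2.E12
import Cfsg.Agent.Lib.Helper2.HNMult.P2.E13
import Cfsg.Agent.Lib.Helper2.HNMult.P2.E14
import Cfsg.Agent.Lib.Helper2.HNMult.P2.E15
import Cfsg.Agent.Lib.Helper2.HNMult.P2.E16
import Cfsg.Agent.Lib.Helper2.HNMult.P2.E17
import Cfsg.Agent.Lib.Helper2.HNMult.P2.E18
import Cfsg.Agent.Lib.Helper2.HNMult.P2.E19
import Cfsg.Agent.Lib.Helper2.HNMult.P2.E20
import Cfsg.Agent.Lib.Helper2.HNMult.P2.E21
import Cfsg.Agent.Lib.Helper2.HNMult.P2.E22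
import Cfsg.Agent.Lib.Helper2.HNMult.P2.E23
import Cfsg.Agent.Lib.Helper2.HNMult.P2.E24
import Cfsg.Agent.Lib.Helper2.HNMult.P2.E25
import Cfsg.Agent.Lib.Helper2.HNMult.P2.E26
import Cfsg.Agent.Lib.Helper2.HNMult.P2.E27
import Cfsg.Agent.Lib.Helper2.HNMult.P2.E28
import Cfsg.Agent.Lib.Helper2.HNMult.P2.E29
import Cfsg.Agent.Lib.Helper2.HNMult.P2.E30
import Cfsg.Agent.Lib.Helper2.HNMult.P2.E31
import Cfsg.Agent.Lib.Helper2.HNMult.P2.E32
import Cfsg.Agent.Lib.Helper2.HNMult.P2.E33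
import Cfsg.Agent.Lib.Helper2.HNMult.P2.E34
import Cfsg.Agent.Lib.Helper2.HNMult.P2.E35
import Cfsg.Agent.Lib.Helper2.HNMult.P2.E36
import Cfsg.Agent.Lib.Helper2.HNMult.P2.E37
import Cfsg.Agent.Lib.Helper2.HNMult.P2.E38
import Cfsg.Agent.Lib.Helper2.HNMult.P2.E39
import Cfsg.Agent.Lib.Helper2.HNMult.P2.E40
import Cfsg.Agent.Lib.Helper2.HNMult.P2.E41
import Cfsg.Agent.Lib.Helper2.HNMult.P2.E42
import Cfsg.Agent.Lib.Helper2.HNMult.P2.E43
import Cfsg.Agent.Lib.Helper2.HNMult.P2.E44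
import Cfsg.Agent.Lib.Helper2.HNMult.P2.E45
import Cfsg.Agent.Lib.Helper2.HNMult.P2.E46
import Cfsg.Agent.Lib.Helper2.HNMult.P2.E47
import Cfsg.Agent.Lib.Helper2.HNMult.P2.E48
import Cfsg.Agent.Lib.Helper2.HNMult.P2.E49
import Cfsg.Agent.Lib.Helper2.HNMult.P2.E50
import Cfsg.Agent.Lib.Helper2.HNMult.P2.E51
import Cfsg.Agent.Lib.Helper2.HNMult.P2.E52
import Cfsg.Agent.Lib.Helper2.HNMult.P2.E53
import Cfsg.Agent.Lib.Helper2.HNMult.P2.E54
import Cfsg.Agent.Lib.Helper2.HNMult.P2.E55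
import Cfsg.Agent.Lib.Helper2.HNMult.P2.E56
import Cfsg.Agent.Lib.Helper2.HNMult.P2.E57
import Cfsg.Agent.Lib.Helper2.HNMult.P2.E58
import Cfsg.Agent.Lib.Helper2.HNMult.P2.E59
import Cfsg.Agent.Lib.Helper2.HNMult.P2.E60
import Cfsg.Agent.Lib.Helper2.HNMult.P2.E61
import Cfsg.Agent.Lib.Helper2.HNMult.P2.E62
import Cfsg.Agent.Lib.Helper2.HNMult.P2.E63
import Cfsg.Agent.Lib.Helper2.HNMult.P2.E64
import Cfsg.Agent.Lib.Helper2.HNMult.P2.E65
import Cfsg.Agent.Lib.Helper2.HNMult.P2.E66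
import Cfsg.Agent.Lib.Helper2.HNMult.P2.E67
import Cfsg.Agent.Lib.Helper2.HNMult.P2.E68
import Cfsg.Agent.Lib.Helper2.HNMult.P2.E69
import Cfsg.Agent.Lib.Helper2.HNMult.P2.E70
import Cfsg.Agent.Lib.Helper2.HNMult.P2.E71
import Cfsg.Agent.Lib.Helper2.HNMult.P2.E72
import Cfsg.Agent.Lib.Helper2.HNMult.P2.E73
import Cfsg.Agent.Lib.Helper2.HNMult.P2.E74
import Cfsg.Agent.Lib.Helper2.HNMult.P2.E75
import Cfsg.Agent.Lib.Helper2.HNMult.P2.E76
import Cfsg.Agent.Lib.Helper2.HNMult.P2.E77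
import Cfsg.Agent.Lib.Helper2.HNMult.P2.E78
import Cfsg.Agent.Lib.Helper2.HNMult.P2.E79
import Cfsg.Agent.Lib.Helper2.HNMult.P2.E80
import Cfsg.Agent.Lib.Helper2.HNMult.P2.E81
import Cfsg.Agent.Lib.Helper2.HNMult.P2.E82
import Cfsg.Agent.Lib.Helper2.HNMult.P2.E83
import Cfsg.Agent.Lib.Helper2.HNMult.P2.E84
import Cfsg.Agent.Lib.Helper2.HNMult.P2.E85
import Cfsg.Agent.Lib.Helper2.HNMult.P2.E86
import Cfsg.Agent.Lib.Helper2.HNMult.P2.E87
import Cfsg.Agent.Lib.Helper2.HNMult.P2.E88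
import Cfsg.Agent.Lib.Helper2.HNMult.P2.E89
import Cfsg.Agent.Lib.Helper2.HNMult.P2.E90
import Cfsg.Agent.Lib.Helper2.HNMult.P2.E91
import Cfsg.Agent.Lib.Helper2.HNMult.P2.E92
import Cfsg.Agent.Lib.Helper2.HNMult.P2.E93
import Cfsg.Agent.Lib.Helper2.HNMult.P2.E94
import Cfsg.Agent.Lib.Helper2.HNMult.P2.E95
import Cfsg.Agent.Lib.Helper2.HNMult.P2.E96
import Cfsg.Agent.Lib.Helper2.HNMult.P2.E97
import Cfsg.Agent.Lib.Helper2.HNMult.P2.E98
import Cfsg.Agent.Lib.Helper2.HNMult.P2.E99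
import Cfsg.Agent.Lib.Helper2.HNMult.P2.E100
set_option autoImplicit false

/-! # The entries of the sparse certificate -/

namespace Cfsg.Agent.Lib.Helper2.HNMult.P2

noncomputable def eT0 (i : Nat) : Nat := Bool.rec (eL0 i) (eL1 i) (Nat.ble 1024 i)
noncomputable def eT1 (i : Nat) : Nat := Bool.rec (eL3 i) (eL4 i) (Nat.ble 4096 i)
noncomputable def eT2 (i : Nat) : Nat := Bool.rec (eL2 i) (eT1 i) (Nat.ble 3072 i)
noncomputable def eT3 (i : Nat) : Nat := Bool.rec (eT0 i) (eT2 i) (Nat.ble 2048 i)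
noncomputable def eT4 (i : Nat) : Nat := Bool.rec (eL5 i) (eL6 i) (Nat.ble 6144 i)
noncomputable def eT5 (i : Nat) : Nat := Bool.rec (eL8 i) (eL9 i) (Nat.ble 9216 i)
noncomputable def eT6 (i : Nat) : Nat := Bool.rec (eL7 i) (eT5 i) (Nat.ble 8192 i)
noncomputable def eT7 (i : Nat) : Nat := Bool.rec (eT4 i) (eT6 i) (Nat.ble 7168 i)
noncomputable def eT8 (i : Nat) : Nat := Bool.rec (eT3 i) (eT7 i) (Nat.ble 5120 i)
noncomputable def eT9 (i : Nat) : Nat := Bool.rec (eL10 i) (eL11 i) (Nat.ble 11264 i)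
noncomputable def eT10 (i : Nat) : Nat := Bool.rec (eL13 i) (eL14 i) (Nat.ble 14336 i)
noncomputable def eT11 (i : Nat) : Nat := Bool.rec (eL12 i) (eT10 i) (Nat.ble 13312 i)
noncomputable def eT12 (i : Nat) : Nat := Bool.rec (eT9 i) (eT11 i) (Nat.ble 12288 i)
noncomputable def eT13 (i : Nat) : Nat := Bool.rec (eL15 i) (eL16 i) (Nat.ble 16384 i)
noncomputable def eT14 (i : Nat) : Nat := Bool.rec (eL18 i) (eL19 i) (Nat.ble 19456 i)
noncomputable def eT15 (i : Nat) : Nat := Bool.rec (eL17 i) (eT14 i) (Nat.ble 18432 i)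
noncomputable def eT16 (i : Nat) : Nat := Bool.rec (eT13 i) (eT15 i) (Nat.ble 17408 i)
noncomputable def eT17 (i : Nat) : Nat := Bool.rec (eT12 i) (eT16 i) (Nat.ble 15360 i)
noncomputable def eT18 (i : Nat) : Nat := Bool.rec (eT8 i) (eT17 i) (Nat.ble 10240 i)
noncomputable def eT19 (i : Nat) : Nat := Bool.rec (eL20 i) (eL21 i) (Nat.ble 21504 i)
noncomputable def eT20 (i : Nat) : Nat := Bool.rec (eL23 i) (eL24 i) (Nat.ble 24576 i)
noncomputable def eT21 (i : Nat) : Nat := Bool.rec (eL22 i) (eT20 i) (Nat.ble 23552 i)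
noncomputable def eT22 (i : Nat) : Nat := Bool.rec (eT19 i) (eT21 i) (Nat.ble 22528 i)
noncomputable def eT23 (i : Nat) : Nat := Bool.rec (eL25 i) (eL26 i) (Nat.ble 26624 i)
noncomputable def eT24 (i : Nat) : Nat := Bool.rec (eL28 i) (eL29 i) (Nat.ble 29696 i)
noncomputable def eT25 (i : Nat) : Nat := Bool.rec (eL27 i) (eT24 i) (Nat.ble 28672 i)
noncomputable def eT26 (i : Nat) : Nat := Bool.rec (eT23 i) (eT25 i) (Nat.ble 27648 i)
noncomputable def eT27 (i : Nat) : Nat := Bool.rec (eT22 i) (eT26 i) (Nat.ble 25600 i)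
noncomputable def eT28 (i : Nat) : Nat := Bool.rec (eL30 i) (eL31 i) (Nat.ble 31744 i)
noncomputable def eT29 (i : Nat) : Nat := Bool.rec (eL33 i) (eL34 i) (Nat.ble 34816 i)
noncomputable def eT30 (i : Nat) : Nat := Bool.rec (eL32 i) (eT29 i) (Nat.ble 33792 i)
noncomputable def eT31 (i : Nat) : Nat := Bool.rec (eT28 i) (eT30 i) (Nat.ble 32768 i)
noncomputable def eT32 (i : Nat) : Nat := Bool.rec (eL36 i) (eL37 i) (Nat.ble 37888 i)
noncomputable def eT33 (i : Nat) : Nat := Bool.rec (eL35 i) (eT32 i) (Nat.ble 36864 i)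
noncomputable def eT34 (i : Nat) : Nat := Bool.rec (eL39 i) (eL40 i) (Nat.ble 40960 i)
noncomputable def eT35 (i : Nat) : Nat := Bool.rec (eL38 i) (eT34 i) (Nat.ble 39936 i)
noncomputable def eT36 (i : Nat) : Nat := Bool.rec (eT33 i) (eT35 i) (Nat.ble 38912 i)
noncomputable def eT37 (i : Nat) : Nat := Bool.rec (eT31 i) (eT36 i) (Nat.ble 35840 i)
noncomputable def eT38 (i : Nat) : Nat := Bool.rec (eT27 i) (eT37 i) (Nat.ble 30720 i)
noncomputable def eT39 (i : Nat) : Nat := Bool.rec (eT18 i) (eT38 i) (Nat.ble 20480 i)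
noncomputable def eT40 (i : Nat) : Nat := Bool.rec (eL41 i) (eL42 i) (Nat.ble 43008 i)
noncomputable def eT41 (i : Nat) : Nat := Bool.rec (eL44 i) (eL45 i) (Nat.ble 46080 i)
noncomputable def eT42 (i : Nat) : Nat := Bool.rec (eL43 i) (eT41 i) (Nat.ble 45056 i)
noncomputable def eT43 (i : Nat) : Nat := Bool.rec (eT40 i) (eT42 i) (Nat.ble 44032 i)
noncomputable def eT44 (i : Nat) : Nat := Bool.rec (eL46 i) (eL47 i) (Nat.ble 48128 i)
noncomputable def eT45 (i : Nat) : Nat := Bool.rec (eL49 i) (eL50 i) (Nat.ble 51200 i)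
noncomputable def eT46 (i : Nat) : Nat := Bool.rec (eL48 i) (eT45 i) (Nat.ble 50176 i)
noncomputable def eT47 (i : Nat) : Nat := Bool.rec (eT44 i) (eT46 i) (Nat.ble 49152 i)
noncomputable def eT48 (i : Nat) : Nat := Bool.rec (eT43 i) (eT47 i) (Nat.ble 47104 i)
noncomputable def eT49 (i : Nat) : Nat := Bool.rec (eL51 i) (eL52 i) (Nat.ble 53248 i)
noncomputable def eT50 (i : Nat) : Nat := Bool.rec (eL54 i) (eL55 i) (Nat.ble 56320 i)
noncomputable def eT51 (i : Nat) : Nat := Bool.rec (eL53 i) (eT50 i) (Nat.ble 55296 i)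
noncomputable def eT52 (i : Nat) : Nat := Bool.rec (eT49 i) (eT51 i) (Nat.ble 54272 i)
noncomputable def eT53 (i : Nat) : Nat := Bool.rec (eL56 i) (eL57 i) (Nat.ble 58368 i)
noncomputable def eT54 (i : Nat) : Nat := Bool.rec (eL59 i) (eL60 i) (Nat.ble 61440 i)
noncomputable def eT55 (i : Nat) : Nat := Bool.rec (eL58 i) (eT54 i) (Nat.ble 60416 i)
noncomputable def eT56 (i : Nat) : Nat := Bool.rec (eT53 i) (eT55 i) (Nat.ble 59392 i)
noncomputable def eT57 (i : Nat) : Nat := Bool.rec (eT52 i) (eT56 i) (Nat.ble 57344 i)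
noncomputable def eT58 (i : Nat) : Nat := Bool.rec (eT48 i) (eT57 i) (Nat.ble 52224 i)
noncomputable def eT59 (i : Nat) : Nat := Bool.rec (eL61 i) (eL62 i) (Nat.ble 63488 i)
noncomputable def eT60 (i : Nat) : Nat := Bool.rec (eL64 i) (eL65 i) (Nat.ble 66560 i)
noncomputable def eT61 (i : Nat) : Nat := Bool.rec (eL63 i) (eT60 i) (Nat.ble 65536 i)
noncomputable def eT62 (i : Nat) : Nat := Bool.rec (eT59 i) (eT61 i) (Nat.ble 64512 i)
noncomputable def eT63 (i : Nat) : Nat := Bool.rec (eL66 i) (eL67 i) (Nat.ble 68608 i)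
noncomputable def eT64 (i : Nat) : Nat := Bool.rec (eL69 i) (eL70 i) (Nat.ble 71680 i)
noncomputable def eT65 (i : Nat) : Nat := Bool.rec (eL68 i) (eT64 i) (Nat.ble 70656 i)
noncomputable def eT66 (i : Nat) : Nat := Bool.rec (eT63 i) (eT65 i) (Nat.ble 69632 i)
noncomputable def eT67 (i : Nat) : Nat := Bool.rec (eT62 i) (eT66 i) (Nat.ble 67584 i)
noncomputable def eT68 (i : Nat) : Nat := Bool.rec (eL71 i) (eL72 i) (Nat.ble 73728 i)
noncomputable def eT69 (i : Nat) : Nat := Bool.rec (eL74 i) (eL75 i) (Nat.ble 76800 i)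
noncomputable def eT70 (i : Nat) : Nat := Bool.rec (eL73 i) (eT69 i) (Nat.ble 75776 i)
noncomputable def eT71 (i : Nat) : Nat := Bool.rec (eT68 i) (eT70 i) (Nat.ble 74752 i)
noncomputable def eT72 (i : Nat) : Nat := Bool.rec (eL77 i) (eL78 i) (Nat.ble 79872 i)
noncomputable def eT73 (i : Nat) : Nat := Bool.rec (eL76 i) (eT72 i) (Nat.ble 78848 i)
noncomputable def eT74 (i : Nat) : Nat := Bool.rec (eL80 i) (eL81 i) (Nat.ble 82944 i)
noncomputable def eT75 (i : Nat) : Nat := Bool.rec (eL79 i) (eT74 i) (Nat.ble 81920 i)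
noncomputable def eT76 (i : Nat) : Nat := Bool.rec (eT73 i) (eT75 i) (Nat.ble 80896 i)
noncomputable def eT77 (i : Nat) : Nat := Bool.rec (eT71 i) (eT76 i) (Nat.ble 77824 i)
noncomputable def eT78 (i : Nat) : Nat := Bool.rec (eT67 i) (eT77 i) (Nat.ble 72704 i)
noncomputable def eT79 (i : Nat) : Nat := Bool.rec (eT58 i) (eT78 i) (Nat.ble 62464 i)
noncomputable def eT80 (i : Nat) : Nat := Bool.rec (eT39 i) (eT79 i) (Nat.ble 41984 i)
noncomputable def eT81 (i : Nat) : Nat := Bool.rec (eL82 i) (eL83 i) (Nat.ble 84992 i)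
noncomputable def eT82 (i : Nat) : Nat := Bool.rec (eL85 i) (eL86 i) (Nat.ble 88064 i)
noncomputable def eT83 (i : Nat) : Nat := Bool.rec (eL84 i) (eT82 i) (Nat.ble 87040 i)
noncomputable def eT84 (i : Nat) : Nat := Bool.rec (eT81 i) (eT83 i) (Nat.ble 86016 i)
noncomputable def eT85 (i : Nat) : Nat := Bool.rec (eL87 i) (eL88 i) (Nat.ble 90112 i)
noncomputable def eT86 (i : Nat) : Nat := Bool.rec (eL90 i) (eL91 i) (Nat.ble 93184 i)
noncomputable def eT87 (i : Nat) : Nat := Bool.rec (eL89 i) (eT86 i) (Nat.ble 92160 i)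
noncomputable def eT88 (i : Nat) : Nat := Bool.rec (eT85 i) (eT87 i) (Nat.ble 91136 i)
noncomputable def eT89 (i : Nat) : Nat := Bool.rec (eT84 i) (eT88 i) (Nat.ble 89088 i)
noncomputable def eT90 (i : Nat) : Nat := Bool.rec (eL92 i) (eL93 i) (Nat.ble 95232 i)
noncomputable def eT91 (i : Nat) : Nat := Bool.rec (eL95 i) (eL96 i) (Nat.ble 98304 i)
noncomputable def eT92 (i : Nat) : Nat := Bool.rec (eL94 i) (eT91 i) (Nat.ble 97280 i)
noncomputable def eT93 (i : Nat) : Nat := Bool.rec (eT90 i) (eT92 i) (Nat.ble 96256 i)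
noncomputable def eT94 (i : Nat) : Nat := Bool.rec (eL97 i) (eL98 i) (Nat.ble 100352 i)
noncomputable def eT95 (i : Nat) : Nat := Bool.rec (eL100 i) (eL101 i) (Nat.ble 103424 i)
noncomputable def eT96 (i : Nat) : Nat := Bool.rec (eL99 i) (eT95 i) (Nat.ble 102400 i)
noncomputable def eT97 (i : Nat) : Nat := Bool.rec (eT94 i) (eT96 i) (Nat.ble 101376 i)
noncomputable def eT98 (i : Nat) : Nat := Bool.rec (eT93 i) (eT97 i) (Nat.ble 99328 i)
noncomputable def eT99 (i : Nat) : Nat := Bool.rec (eT89 i) (eT98 i) (Nat.ble 94208 i)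
noncomputable def eT100 (i : Nat) : Nat := Bool.rec (eL102 i) (eL103 i) (Nat.ble 105472 i)
noncomputable def eT101 (i : Nat) : Nat := Bool.rec (eL105 i) (eL106 i) (Nat.ble 108544 i)
noncomputable def eT102 (i : Nat) : Nat := Bool.rec (eL104 i) (eT101 i) (Nat.ble 107520 i)
noncomputable def eT103 (i : Nat) : Nat := Bool.rec (eT100 i) (eT102 i) (Nat.ble 106496 i)
noncomputable def eT104 (i : Nat) : Nat := Bool.rec (eL107 i) (eL108 i) (Nat.ble 110592 i)
noncomputable def eT105 (i : Nat) : Nat := Bool.rec (eL110 i) (eL111 i) (Nat.ble 113664 i)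
noncomputable def eT106 (i : Nat) : Nat := Bool.rec (eL109 i) (eT105 i) (Nat.ble 112640 i)
noncomputable def eT107 (i : Nat) : Nat := Bool.rec (eT104 i) (eT106 i) (Nat.ble 111616 i)
noncomputable def eT108 (i : Nat) : Nat := Bool.rec (eT103 i) (eT107 i) (Nat.ble 109568 i)
noncomputable def eT109 (i : Nat) : Nat := Bool.rec (eL112 i) (eL113 i) (Nat.ble 115712 i)
noncomputable def eT110 (i : Nat) : Nat := Bool.rec (eL115 i) (eL116 i) (Nat.ble 118784 i)
noncomputable def eT111 (i : Nat) : Nat := Bool.rec (eL114 i) (eT110 i) (Nat.ble 117760 i)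
noncomputable def eT112 (i : Nat) : Nat := Bool.rec (eT109 i) (eT111 i) (Nat.ble 116736 i)
noncomputable def eT113 (i : Nat) : Nat := Bool.rec (eL118 i) (eL119 i) (Nat.ble 121856 i)
noncomputable def eT114 (i : Nat) : Nat := Bool.rec (eL117 i) (eT113 i) (Nat.ble 120832 i)
noncomputable def eT115 (i : Nat) : Nat := Bool.rec (eL121 i) (eL122 i) (Nat.ble 124928 i)
noncomputable def eT116 (i : Nat) : Nat := Bool.rec (eL120 i) (eT115 i) (Nat.ble 123904 i)
noncomputable def eT117 (i : Nat) : Nat := Bool.rec (eT114 i) (eT116 i) (Nat.ble 122880 i)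
noncomputable def eT118 (i : Nat) : Nat := Bool.rec (eT112 i) (eT117 i) (Nat.ble 119808 i)
noncomputable def eT119 (i : Nat) : Nat := Bool.rec (eT108 i) (eT118 i) (Nat.ble 114688 i)
noncomputable def eT120 (i : Nat) : Nat := Bool.rec (eT99 i) (eT119 i) (Nat.ble 104448 i)
noncomputable def eT121 (i : Nat) : Nat := Bool.rec (eL123 i) (eL124 i) (Nat.ble 126976 i)
noncomputable def eT122 (i : Nat) : Nat := Bool.rec (eL126 i) (eL127 i) (Nat.ble 130048 i)
noncomputable def eT123 (i : Nat) : Nat := Bool.rec (eL125 i) (eT122 i) (Nat.ble 129024 i)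
noncomputable def eT124 (i : Nat) : Nat := Bool.rec (eT121 i) (eT123 i) (Nat.ble 128000 i)
noncomputable def eT125 (i : Nat) : Nat := Bool.rec (eL128 i) (eL129 i) (Nat.ble 132096 i)
noncomputable def eT126 (i : Nat) : Nat := Bool.rec (eL131 i) (eL132 i) (Nat.ble 135168 i)
noncomputable def eT127 (i : Nat) : Nat := Bool.rec (eL130 i) (eT126 i) (Nat.ble 134144 i)
noncomputable def eT128 (i : Nat) : Nat := Bool.rec (eT125 i) (eT127 i) (Nat.ble 133120 i)
noncomputable def eT129 (i : Nat) : Nat := Bool.rec (eT124 i) (eT128 i) (Nat.ble 131072 i)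
noncomputable def eT130 (i : Nat) : Nat := Bool.rec (eL133 i) (eL134 i) (Nat.ble 137216 i)
noncomputable def eT131 (i : Nat) : Nat := Bool.rec (eL136 i) (eL137 i) (Nat.ble 140288 i)
noncomputable def eT132 (i : Nat) : Nat := Bool.rec (eL135 i) (eT131 i) (Nat.ble 139264 i)
noncomputable def eT133 (i : Nat) : Nat := Bool.rec (eT130 i) (eT132 i) (Nat.ble 138240 i)
noncomputable def eT134 (i : Nat) : Nat := Bool.rec (eL138 i) (eL139 i) (Nat.ble 142336 i)
noncomputable def eT135 (i : Nat) : Nat := Bool.rec (eL141 i) (eL142 i) (Nat.ble 145408 i)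
noncomputable def eT136 (i : Nat) : Nat := Bool.rec (eL140 i) (eT135 i) (Nat.ble 144384 i)
noncomputable def eT137 (i : Nat) : Nat := Bool.rec (eT134 i) (eT136 i) (Nat.ble 143360 i)
noncomputable def eT138 (i : Nat) : Nat := Bool.rec (eT133 i) (eT137 i) (Nat.ble 141312 i)
noncomputable def eT139 (i : Nat) : Nat := Bool.rec (eT129 i) (eT138 i) (Nat.ble 136192 i)
noncomputable def eT140 (i : Nat) : Nat := Bool.rec (eL143 i) (eL144 i) (Nat.ble 147456 i)
noncomputable def eT141 (i : Nat) : Nat := Bool.rec (eL146 i) (eL147 i) (Nat.ble 150528 i)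
noncomputable def eT142 (i : Nat) : Nat := Bool.rec (eL145 i) (eT141 i) (Nat.ble 149504 i)
noncomputable def eT143 (i : Nat) : Nat := Bool.rec (eT140 i) (eT142 i) (Nat.ble 148480 i)
noncomputable def eT144 (i : Nat) : Nat := Bool.rec (eL148 i) (eL149 i) (Nat.ble 152576 i)
noncomputable def eT145 (i : Nat) : Nat := Bool.rec (eL151 i) (eL152 i) (Nat.ble 155648 i)
noncomputable def eT146 (i : Nat) : Nat := Bool.rec (eL150 i) (eT145 i) (Nat.ble 154624 i)
noncomputable def eT147 (i : Nat) : Nat := Bool.rec (eT144 i) (eT146 i) (Nat.ble 153600 i)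
noncomputable def eT148 (i : Nat) : Nat := Bool.rec (eT143 i) (eT147 i) (Nat.ble 151552 i)
noncomputable def eT149 (i : Nat) : Nat := Bool.rec (eL153 i) (eL154 i) (Nat.ble 157696 i)
noncomputable def eT150 (i : Nat) : Nat := Bool.rec (eL156 i) (eL157 i) (Nat.ble 160768 i)
noncomputable def eT151 (i : Nat) : Nat := Bool.rec (eL155 i) (eT150 i) (Nat.ble 159744 i)
noncomputable def eT152 (i : Nat) : Nat := Bool.rec (eT149 i) (eT151 i) (Nat.ble 158720 i)
noncomputable def eT153 (i : Nat) : Nat := Bool.rec (eL159 i) (eL160 i) (Nat.ble 163840 i)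
noncomputable def eT154 (i : Nat) : Nat := Bool.rec (eL158 i) (eT153 i) (Nat.ble 162816 i)
noncomputable def eT155 (i : Nat) : Nat := Bool.rec (eL162 i) (eL163 i) (Nat.ble 166912 i)
noncomputable def eT156 (i : Nat) : Nat := Bool.rec (eL161 i) (eT155 i) (Nat.ble 165888 i)
noncomputable def eT157 (i : Nat) : Nat := Bool.rec (eT154 i) (eT156 i) (Nat.ble 164864 i)
noncomputable def eT158 (i : Nat) : Nat := Bool.rec (eT152 i) (eT157 i) (Nat.ble 161792 i)
noncomputable def eT159 (i : Nat) : Nat := Bool.rec (eT148 i) (eT158 i) (Nat.ble 156672 i)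
noncomputable def eT160 (i : Nat) : Nat := Bool.rec (eT139 i) (eT159 i) (Nat.ble 146432 i)
noncomputable def eT161 (i : Nat) : Nat := Bool.rec (eT120 i) (eT160 i) (Nat.ble 125952 i)
noncomputable def eT162 (i : Nat) : Nat := Bool.rec (eT80 i) (eT161 i) (Nat.ble 83968 i)
noncomputable def eT163 (i : Nat) : Nat := Bool.rec (eL164 i) (eL165 i) (Nat.ble 168960 i)
noncomputable def eT164 (i : Nat) : Nat := Bool.rec (eL167 i) (eL168 i) (Nat.ble 172032 i)
noncomputable def eT165 (i : Nat) : Nat := Bool.rec (eL166 i) (eT164 i) (Nat.ble 171008 i)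
noncomputable def eT166 (i : Nat) : Nat := Bool.rec (eT163 i) (eT165 i) (Nat.ble 169984 i)
noncomputable def eT167 (i : Nat) : Nat := Bool.rec (eL169 i) (eL170 i) (Nat.ble 174080 i)
noncomputable def eT168 (i : Nat) : Nat := Bool.rec (eL172 i) (eL173 i) (Nat.ble 177152 i)
noncomputable def eT169 (i : Nat) : Nat := Bool.rec (eL171 i) (eT168 i) (Nat.ble 176128 i)
noncomputable def eT170 (i : Nat) : Nat := Bool.rec (eT167 i) (eT169 i) (Nat.ble 175104 i)
noncomputable def eT171 (i : Nat) : Nat := Bool.rec (eT166 i) (eT170 i) (Nat.ble 173056 i)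
noncomputable def eT172 (i : Nat) : Nat := Bool.rec (eL174 i) (eL175 i) (Nat.ble 179200 i)
noncomputable def eT173 (i : Nat) : Nat := Bool.rec (eL177 i) (eL178 i) (Nat.ble 182272 i)
noncomputable def eT174 (i : Nat) : Nat := Bool.rec (eL176 i) (eT173 i) (Nat.ble 181248 i)
noncomputable def eT175 (i : Nat) : Nat := Bool.rec (eT172 i) (eT174 i) (Nat.ble 180224 i)
noncomputable def eT176 (i : Nat) : Nat := Bool.rec (eL179 i) (eL180 i) (Nat.ble 184320 i)
noncomputable def eT177 (i : Nat) : Nat := Bool.rec (eL182 i) (eL183 i) (Nat.ble 187392 i)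
noncomputable def eT178 (i : Nat) : Nat := Bool.rec (eL181 i) (eT177 i) (Nat.ble 186368 i)
noncomputable def eT179 (i : Nat) : Nat := Bool.rec (eT176 i) (eT178 i) (Nat.ble 185344 i)
noncomputable def eT180 (i : Nat) : Nat := Bool.rec (eT175 i) (eT179 i) (Nat.ble 183296 i)
noncomputable def eT181 (i : Nat) : Nat := Bool.rec (eT171 i) (eT180 i) (Nat.ble 178176 i)
noncomputable def eT182 (i : Nat) : Nat := Bool.rec (eL184 i) (eL185 i) (Nat.ble 189440 i)
noncomputable def eT183 (i : Nat) : Nat := Bool.rec (eL187 i) (eL188 i) (Nat.ble 192512 i)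
noncomputable def eT184 (i : Nat) : Nat := Bool.rec (eL186 i) (eT183 i) (Nat.ble 191488 i)
noncomputable def eT185 (i : Nat) : Nat := Bool.rec (eT182 i) (eT184 i) (Nat.ble 190464 i)
noncomputable def eT186 (i : Nat) : Nat := Bool.rec (eL189 i) (eL190 i) (Nat.ble 194560 i)
noncomputable def eT187 (i : Nat) : Nat := Bool.rec (eL192 i) (eL193 i) (Nat.ble 197632 i)
noncomputable def eT188 (i : Nat) : Nat := Bool.rec (eL191 i) (eT187 i) (Nat.ble 196608 i)
noncomputable def eT189 (i : Nat) : Nat := Bool.rec (eT186 i) (eT188 i) (Nat.ble 195584 i)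
noncomputable def eT190 (i : Nat) : Nat := Bool.rec (eT185 i) (eT189 i) (Nat.ble 193536 i)
noncomputable def eT191 (i : Nat) : Nat := Bool.rec (eL194 i) (eL195 i) (Nat.ble 199680 i)
noncomputable def eT192 (i : Nat) : Nat := Bool.rec (eL197 i) (eL198 i) (Nat.ble 202752 i)
noncomputable def eT193 (i : Nat) : Nat := Bool.rec (eL196 i) (eT192 i) (Nat.ble 201728 i)
noncomputable def eT194 (i : Nat) : Nat := Bool.rec (eT191 i) (eT193 i) (Nat.ble 200704 i)
noncomputable def eT195 (i : Nat) : Nat := Bool.rec (eL200 i) (eL201 i) (Nat.ble 205824 i)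
noncomputable def eT196 (i : Nat) : Nat := Bool.rec (eL199 i) (eT195 i) (Nat.ble 204800 i)
noncomputable def eT197 (i : Nat) : Nat := Bool.rec (eL203 i) (eL204 i) (Nat.ble 208896 i)
noncomputable def eT198 (i : Nat) : Nat := Bool.rec (eL202 i) (eT197 i) (Nat.ble 207872 i)
noncomputable def eT199 (i : Nat) : Nat := Bool.rec (eT196 i) (eT198 i) (Nat.ble 206848 i)
noncomputable def eT200 (i : Nat) : Nat := Bool.rec (eT194 i) (eT199 i) (Nat.ble 203776 i)
noncomputable def eT201 (i : Nat) : Nat := Bool.rec (eT190 i) (eT200 i) (Nat.ble 198656 i)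
noncomputable def eT202 (i : Nat) : Nat := Bool.rec (eT181 i) (eT201 i) (Nat.ble 188416 i)
noncomputable def eT203 (i : Nat) : Nat := Bool.rec (eL205 i) (eL206 i) (Nat.ble 210944 i)
noncomputable def eT204 (i : Nat) : Nat := Bool.rec (eL208 i) (eL209 i) (Nat.ble 214016 i)
noncomputable def eT205 (i : Nat) : Nat := Bool.rec (eL207 i) (eT204 i) (Nat.ble 212992 i)
noncomputable def eT206 (i : Nat) : Nat := Bool.rec (eT203 i) (eT205 i) (Nat.ble 211968 i)
noncomputable def eT207 (i : Nat) : Nat := Bool.rec (eL210 i) (eL211 i) (Nat.ble 216064 i)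
noncomputable def eT208 (i : Nat) : Nat := Bool.rec (eL213 i) (eL214 i) (Nat.ble 219136 i)
noncomputable def eT209 (i : Nat) : Nat := Bool.rec (eL212 i) (eT208 i) (Nat.ble 218112 i)
noncomputable def eT210 (i : Nat) : Nat := Bool.rec (eT207 i) (eT209 i) (Nat.ble 217088 i)
noncomputable def eT211 (i : Nat) : Nat := Bool.rec (eT206 i) (eT210 i) (Nat.ble 215040 i)
noncomputable def eT212 (i : Nat) : Nat := Bool.rec (eL215 i) (eL216 i) (Nat.ble 221184 i)
noncomputable def eT213 (i : Nat) : Nat := Bool.rec (eL218 i) (eL219 i) (Nat.ble 224256 i)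
noncomputable def eT214 (i : Nat) : Nat := Bool.rec (eL217 i) (eT213 i) (Nat.ble 223232 i)
noncomputable def eT215 (i : Nat) : Nat := Bool.rec (eT212 i) (eT214 i) (Nat.ble 222208 i)
noncomputable def eT216 (i : Nat) : Nat := Bool.rec (eL220 i) (eL221 i) (Nat.ble 226304 i)
noncomputable def eT217 (i : Nat) : Nat := Bool.rec (eL223 i) (eL224 i) (Nat.ble 229376 i)
noncomputable def eT218 (i : Nat) : Nat := Bool.rec (eL222 i) (eT217 i) (Nat.ble 228352 i)
noncomputable def eT219 (i : Nat) : Nat := Bool.rec (eT216 i) (eT218 i) (Nat.ble 227328 i)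
noncomputable def eT220 (i : Nat) : Nat := Bool.rec (eT215 i) (eT219 i) (Nat.ble 225280 i)
noncomputable def eT221 (i : Nat) : Nat := Bool.rec (eT211 i) (eT220 i) (Nat.ble 220160 i)
noncomputable def eT222 (i : Nat) : Nat := Bool.rec (eL225 i) (eL226 i) (Nat.ble 231424 i)
noncomputable def eT223 (i : Nat) : Nat := Bool.rec (eL228 i) (eL229 i) (Nat.ble 234496 i)
noncomputable def eT224 (i : Nat) : Nat := Bool.rec (eL227 i) (eT223 i) (Nat.ble 233472 i)
noncomputable def eT225 (i : Nat) : Nat := Bool.rec (eT222 i) (eT224 i) (Nat.ble 232448 i)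
noncomputable def eT226 (i : Nat) : Nat := Bool.rec (eL230 i) (eL231 i) (Nat.ble 236544 i)
noncomputable def eT227 (i : Nat) : Nat := Bool.rec (eL233 i) (eL234 i) (Nat.ble 239616 i)
noncomputable def eT228 (i : Nat) : Nat := Bool.rec (eL232 i) (eT227 i) (Nat.ble 238592 i)
noncomputable def eT229 (i : Nat) : Nat := Bool.rec (eT226 i) (eT228 i) (Nat.ble 237568 i)
noncomputable def eT230 (i : Nat) : Nat := Bool.rec (eT225 i) (eT229 i) (Nat.ble 235520 i)
noncomputable def eT231 (i : Nat) : Nat := Bool.rec (eL235 i) (eL236 i) (Nat.ble 241664 i)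
noncomputable def eT232 (i : Nat) : Nat := Bool.rec (eL238 i) (eL239 i) (Nat.ble 244736 i)
noncomputable def eT233 (i : Nat) : Nat := Bool.rec (eL237 i) (eT232 i) (Nat.ble 243712 i)
noncomputable def eT234 (i : Nat) : Nat := Bool.rec (eT231 i) (eT233 i) (Nat.ble 242688 i)
noncomputable def eT235 (i : Nat) : Nat := Bool.rec (eL241 i) (eL242 i) (Nat.ble 247808 i)
noncomputable def eT236 (i : Nat) : Nat := Bool.rec (eL240 i) (eT235 i) (Nat.ble 246784 i)
noncomputable def eT237 (i : Nat) : Nat := Bool.rec (eL244 i) (eL245 i) (Nat.ble 250880 i)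
noncomputable def eT238 (i : Nat) : Nat := Bool.rec (eL243 i) (eT237 i) (Nat.ble 249856 i)
noncomputable def eT239 (i : Nat) : Nat := Bool.rec (eT236 i) (eT238 i) (Nat.ble 248832 i)
noncomputable def eT240 (i : Nat) : Nat := Bool.rec (eT234 i) (eT239 i) (Nat.ble 245760 i)
noncomputable def eT241 (i : Nat) : Nat := Bool.rec (eT230 i) (eT240 i) (Nat.ble 240640 i)
noncomputable def eT242 (i : Nat) : Nat := Bool.rec (eT221 i) (eT241 i) (Nat.ble 230400 i)
noncomputable def eT243 (i : Nat) : Nat := Bool.rec (eT202 i) (eT242 i) (Nat.ble 209920 i)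
noncomputable def eT244 (i : Nat) : Nat := Bool.rec (eL246 i) (eL247 i) (Nat.ble 252928 i)
noncomputable def eT245 (i : Nat) : Nat := Bool.rec (eL249 i) (eL250 i) (Nat.ble 256000 i)
noncomputable def eT246 (i : Nat) : Nat := Bool.rec (eL248 i) (eT245 i) (Nat.ble 254976 i)
noncomputable def eT247 (i : Nat) : Nat := Bool.rec (eT244 i) (eT246 i) (Nat.ble 253952 i)
noncomputable def eT248 (i : Nat) : Nat := Bool.rec (eL251 i) (eL252 i) (Nat.ble 258048 i)
noncomputable def eT249 (i : Nat) : Nat := Bool.rec (eL254 i) (eL255 i) (Nat.ble 261120 i)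
noncomputable def eT250 (i : Nat) : Nat := Bool.rec (eL253 i) (eT249 i) (Nat.ble 260096 i)
noncomputable def eT251 (i : Nat) : Nat := Bool.rec (eT248 i) (eT250 i) (Nat.ble 259072 i)
noncomputable def eT252 (i : Nat) : Nat := Bool.rec (eT247 i) (eT251 i) (Nat.ble 257024 i)
noncomputable def eT253 (i : Nat) : Nat := Bool.rec (eL256 i) (eL257 i) (Nat.ble 263168 i)
noncomputable def eT254 (i : Nat) : Nat := Bool.rec (eL259 i) (eL260 i) (Nat.ble 266240 i)
noncomputable def eT255 (i : Nat) : Nat := Bool.rec (eL258 i) (eT254 i) (Nat.ble 265216 i)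
noncomputable def eT256 (i : Nat) : Nat := Bool.rec (eT253 i) (eT255 i) (Nat.ble 264192 i)
noncomputable def eT257 (i : Nat) : Nat := Bool.rec (eL261 i) (eL262 i) (Nat.ble 268288 i)
noncomputable def eT258 (i : Nat) : Nat := Bool.rec (eL264 i) (eL265 i) (Nat.ble 271360 i)
noncomputable def eT259 (i : Nat) : Nat := Bool.rec (eL263 i) (eT258 i) (Nat.ble 270336 i)
noncomputable def eT260 (i : Nat) : Nat := Bool.rec (eT257 i) (eT259 i) (Nat.ble 269312 i)
noncomputable def eT261 (i : Nat) : Nat := Bool.rec (eT256 i) (eT260 i) (Nat.ble 267264 i)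
noncomputable def eT262 (i : Nat) : Nat := Bool.rec (eT252 i) (eT261 i) (Nat.ble 262144 i)
noncomputable def eT263 (i : Nat) : Nat := Bool.rec (eL266 i) (eL267 i) (Nat.ble 273408 i)
noncomputable def eT264 (i : Nat) : Nat := Bool.rec (eL269 i) (eL270 i) (Nat.ble 276480 i)
noncomputable def eT265 (i : Nat) : Nat := Bool.rec (eL268 i) (eT264 i) (Nat.ble 275456 i)
noncomputable def eT266 (i : Nat) : Nat := Bool.rec (eT263 i) (eT265 i) (Nat.ble 274432 i)
noncomputable def eT267 (i : Nat) : Nat := Bool.rec (eL271 i) (eL272 i) (Nat.ble 278528 i)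
noncomputable def eT268 (i : Nat) : Nat := Bool.rec (eL274 i) (eL275 i) (Nat.ble 281600 i)
noncomputable def eT269 (i : Nat) : Nat := Bool.rec (eL273 i) (eT268 i) (Nat.ble 280576 i)
noncomputable def eT270 (i : Nat) : Nat := Bool.rec (eT267 i) (eT269 i) (Nat.ble 279552 i)
noncomputable def eT271 (i : Nat) : Nat := Bool.rec (eT266 i) (eT270 i) (Nat.ble 277504 i)
noncomputable def eT272 (i : Nat) : Nat := Bool.rec (eL276 i) (eL277 i) (Nat.ble 283648 i)
noncomputable def eT273 (i : Nat) : Nat := Bool.rec (eL279 i) (eL280 i) (Nat.ble 286720 i)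
noncomputable def eT274 (i : Nat) : Nat := Bool.rec (eL278 i) (eT273 i) (Nat.ble 285696 i)
noncomputable def eT275 (i : Nat) : Nat := Bool.rec (eT272 i) (eT274 i) (Nat.ble 284672 i)
noncomputable def eT276 (i : Nat) : Nat := Bool.rec (eL282 i) (eL283 i) (Nat.ble 289792 i)
noncomputable def eT277 (i : Nat) : Nat := Bool.rec (eL281 i) (eT276 i) (Nat.ble 288768 i)
noncomputable def eT278 (i : Nat) : Nat := Bool.rec (eL285 i) (eL286 i) (Nat.ble 292864 i)
noncomputable def eT279 (i : Nat) : Nat := Bool.rec (eL284 i) (eT278 i) (Nat.ble 291840 i)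
noncomputable def eT280 (i : Nat) : Nat := Bool.rec (eT277 i) (eT279 i) (Nat.ble 290816 i)
noncomputable def eT281 (i : Nat) : Nat := Bool.rec (eT275 i) (eT280 i) (Nat.ble 287744 i)
noncomputable def eT282 (i : Nat) : Nat := Bool.rec (eT271 i) (eT281 i) (Nat.ble 282624 i)
noncomputable def eT283 (i : Nat) : Nat := Bool.rec (eT262 i) (eT282 i) (Nat.ble 272384 i)
noncomputable def eT284 (i : Nat) : Nat := Bool.rec (eL287 i) (eL288 i) (Nat.ble 294912 i)
noncomputable def eT285 (i : Nat) : Nat := Bool.rec (eL290 i) (eL291 i) (Nat.ble 297984 i)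
noncomputable def eT286 (i : Nat) : Nat := Bool.rec (eL289 i) (eT285 i) (Nat.ble 296960 i)
noncomputable def eT287 (i : Nat) : Nat := Bool.rec (eT284 i) (eT286 i) (Nat.ble 295936 i)
noncomputable def eT288 (i : Nat) : Nat := Bool.rec (eL292 i) (eL293 i) (Nat.ble 300032 i)
noncomputable def eT289 (i : Nat) : Nat := Bool.rec (eL295 i) (eL296 i) (Nat.ble 303104 i)
noncomputable def eT290 (i : Nat) : Nat := Bool.rec (eL294 i) (eT289 i) (Nat.ble 302080 i)
noncomputable def eT291 (i : Nat) : Nat := Bool.rec (eT288 i) (eT290 i) (Nat.ble 301056 i)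
noncomputable def eT292 (i : Nat) : Nat := Bool.rec (eT287 i) (eT291 i) (Nat.ble 299008 i)
noncomputable def eT293 (i : Nat) : Nat := Bool.rec (eL297 i) (eL298 i) (Nat.ble 305152 i)
noncomputable def eT294 (i : Nat) : Nat := Bool.rec (eL300 i) (eL301 i) (Nat.ble 308224 i)
noncomputable def eT295 (i : Nat) : Nat := Bool.rec (eL299 i) (eT294 i) (Nat.ble 307200 i)
noncomputable def eT296 (i : Nat) : Nat := Bool.rec (eT293 i) (eT295 i) (Nat.ble 306176 i)
noncomputable def eT297 (i : Nat) : Nat := Bool.rec (eL302 i) (eL303 i) (Nat.ble 310272 i)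
noncomputable def eT298 (i : Nat) : Nat := Bool.rec (eL305 i) (eL306 i) (Nat.ble 313344 i)
noncomputable def eT299 (i : Nat) : Nat := Bool.rec (eL304 i) (eT298 i) (Nat.ble 312320 i)
noncomputable def eT300 (i : Nat) : Nat := Bool.rec (eT297 i) (eT299 i) (Nat.ble 311296 i)
noncomputable def eT301 (i : Nat) : Nat := Bool.rec (eT296 i) (eT300 i) (Nat.ble 309248 i)
noncomputable def eT302 (i : Nat) : Nat := Bool.rec (eT292 i) (eT301 i) (Nat.ble 304128 i)
noncomputable def eT303 (i : Nat) : Nat := Bool.rec (eL307 i) (eL308 i) (Nat.ble 315392 i)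
noncomputable def eT304 (i : Nat) : Nat := Bool.rec (eL310 i) (eL311 i) (Nat.ble 318464 i)
noncomputable def eT305 (i : Nat) : Nat := Bool.rec (eL309 i) (eT304 i) (Nat.ble 317440 i)
noncomputable def eT306 (i : Nat) : Nat := Bool.rec (eT303 i) (eT305 i) (Nat.ble 316416 i)
noncomputable def eT307 (i : Nat) : Nat := Bool.rec (eL312 i) (eL313 i) (Nat.ble 320512 i)
noncomputable def eT308 (i : Nat) : Nat := Bool.rec (eL315 i) (eL316 i) (Nat.ble 323584 i)
noncomputable def eT309 (i : Nat) : Nat := Bool.rec (eL314 i) (eT308 i) (Nat.ble 322560 i)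
noncomputable def eT310 (i : Nat) : Nat := Bool.rec (eT307 i) (eT309 i) (Nat.ble 321536 i)
noncomputable def eT311 (i : Nat) : Nat := Bool.rec (eT306 i) (eT310 i) (Nat.ble 319488 i)
noncomputable def eT312 (i : Nat) : Nat := Bool.rec (eL317 i) (eL318 i) (Nat.ble 325632 i)
noncomputable def eT313 (i : Nat) : Nat := Bool.rec (eL320 i) (eL321 i) (Nat.ble 328704 i)
noncomputable def eT314 (i : Nat) : Nat := Bool.rec (eL319 i) (eT313 i) (Nat.ble 327680 i)
noncomputable def eT315 (i : Nat) : Nat := Bool.rec (eT312 i) (eT314 i) (Nat.ble 326656 i)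
noncomputable def eT316 (i : Nat) : Nat := Bool.rec (eL323 i) (eL324 i) (Nat.ble 331776 i)
noncomputable def eT317 (i : Nat) : Nat := Bool.rec (eL322 i) (eT316 i) (Nat.ble 330752 i)
noncomputable def eT318 (i : Nat) : Nat := Bool.rec (eL326 i) (eL327 i) (Nat.ble 334848 i)
noncomputable def eT319 (i : Nat) : Nat := Bool.rec (eL325 i) (eT318 i) (Nat.ble 333824 i)
noncomputable def eT320 (i : Nat) : Nat := Bool.rec (eT317 i) (eT319 i) (Nat.ble 332800 i)
noncomputable def eT321 (i : Nat) : Nat := Bool.rec (eT315 i) (eT320 i) (Nat.ble 329728 i)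
noncomputable def eT322 (i : Nat) : Nat := Bool.rec (eT311 i) (eT321 i) (Nat.ble 324608 i)
noncomputable def eT323 (i : Nat) : Nat := Bool.rec (eT302 i) (eT322 i) (Nat.ble 314368 i)
noncomputable def eT324 (i : Nat) : Nat := Bool.rec (eT283 i) (eT323 i) (Nat.ble 293888 i)
noncomputable def eT325 (i : Nat) : Nat := Bool.rec (eT243 i) (eT324 i) (Nat.ble 251904 i)
noncomputable def eT326 (i : Nat) : Nat := Bool.rec (eT162 i) (eT325 i) (Nat.ble 167936 i)
noncomputable def eT327 (i : Nat) : Nat := Bool.rec (eL328 i) (eL329 i) (Nat.ble 336896 i)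
noncomputable def eT328 (i : Nat) : Nat := Bool.rec (eL331 i) (eL332 i) (Nat.ble 339968 i)
noncomputable def eT329 (i : Nat) : Nat := Bool.rec (eL330 i) (eT328 i) (Nat.ble 338944 i)
noncomputable def eT330 (i : Nat) : Nat := Bool.rec (eT327 i) (eT329 i) (Nat.ble 337920 i)
noncomputable def eT331 (i : Nat) : Nat := Bool.rec (eL333 i) (eL334 i) (Nat.ble 342016 i)
noncomputable def eT332 (i : Nat) : Nat := Bool.rec (eL336 i) (eL337 i) (Nat.ble 345088 i)
noncomputable def eT333 (i : Nat) : Nat := Bool.rec (eL335 i) (eT332 i) (Nat.ble 344064 i)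
noncomputable def eT334 (i : Nat) : Nat := Bool.rec (eT331 i) (eT333 i) (Nat.ble 343040 i)
noncomputable def eT335 (i : Nat) : Nat := Bool.rec (eT330 i) (eT334 i) (Nat.ble 340992 i)
noncomputable def eT336 (i : Nat) : Nat := Bool.rec (eL338 i) (eL339 i) (Nat.ble 347136 i)
noncomputable def eT337 (i : Nat) : Nat := Bool.rec (eL341 i) (eL342 i) (Nat.ble 350208 i)
noncomputable def eT338 (i : Nat) : Nat := Bool.rec (eL340 i) (eT337 i) (Nat.ble 349184 i)
noncomputable def eT339 (i : Nat) : Nat := Bool.rec (eT336 i) (eT338 i) (Nat.ble 348160 i)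
noncomputable def eT340 (i : Nat) : Nat := Bool.rec (eL343 i) (eL344 i) (Nat.ble 352256 i)
noncomputable def eT341 (i : Nat) : Nat := Bool.rec (eL346 i) (eL347 i) (Nat.ble 355328 i)
noncomputable def eT342 (i : Nat) : Nat := Bool.rec (eL345 i) (eT341 i) (Nat.ble 354304 i)
noncomputable def eT343 (i : Nat) : Nat := Bool.rec (eT340 i) (eT342 i) (Nat.ble 353280 i)
noncomputable def eT344 (i : Nat) : Nat := Bool.rec (eT339 i) (eT343 i) (Nat.ble 351232 i)
noncomputable def eT345 (i : Nat) : Nat := Bool.rec (eT335 i) (eT344 i) (Nat.ble 346112 i)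
noncomputable def eT346 (i : Nat) : Nat := Bool.rec (eL348 i) (eL349 i) (Nat.ble 357376 i)
noncomputable def eT347 (i : Nat) : Nat := Bool.rec (eL351 i) (eL352 i) (Nat.ble 360448 i)
noncomputable def eT348 (i : Nat) : Nat := Bool.rec (eL350 i) (eT347 i) (Nat.ble 359424 i)
noncomputable def eT349 (i : Nat) : Nat := Bool.rec (eT346 i) (eT348 i) (Nat.ble 358400 i)
noncomputable def eT350 (i : Nat) : Nat := Bool.rec (eL353 i) (eL354 i) (Nat.ble 362496 i)
noncomputable def eT351 (i : Nat) : Nat := Bool.rec (eL356 i) (eL357 i) (Nat.ble 365568 i)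
noncomputable def eT352 (i : Nat) : Nat := Bool.rec (eL355 i) (eT351 i) (Nat.ble 364544 i)
noncomputable def eT353 (i : Nat) : Nat := Bool.rec (eT350 i) (eT352 i) (Nat.ble 363520 i)
noncomputable def eT354 (i : Nat) : Nat := Bool.rec (eT349 i) (eT353 i) (Nat.ble 361472 i)
noncomputable def eT355 (i : Nat) : Nat := Bool.rec (eL358 i) (eL359 i) (Nat.ble 367616 i)
noncomputable def eT356 (i : Nat) : Nat := Bool.rec (eL361 i) (eL362 i) (Nat.ble 370688 i)
noncomputable def eT357 (i : Nat) : Nat := Bool.rec (eL360 i) (eT356 i) (Nat.ble 369664 i)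
noncomputable def eT358 (i : Nat) : Nat := Bool.rec (eT355 i) (eT357 i) (Nat.ble 368640 i)
noncomputable def eT359 (i : Nat) : Nat := Bool.rec (eL364 i) (eL365 i) (Nat.ble 373760 i)
noncomputable def eT360 (i : Nat) : Nat := Bool.rec (eL363 i) (eT359 i) (Nat.ble 372736 i)
noncomputable def eT361 (i : Nat) : Nat := Bool.rec (eL367 i) (eL368 i) (Nat.ble 376832 i)
noncomputable def eT362 (i : Nat) : Nat := Bool.rec (eL366 i) (eT361 i) (Nat.ble 375808 i)
noncomputable def eT363 (i : Nat) : Nat := Bool.rec (eT360 i) (eT362 i) (Nat.ble 374784 i)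
noncomputable def eT364 (i : Nat) : Nat := Bool.rec (eT358 i) (eT363 i) (Nat.ble 371712 i)
noncomputable def eT365 (i : Nat) : Nat := Bool.rec (eT354 i) (eT364 i) (Nat.ble 366592 i)
noncomputable def eT366 (i : Nat) : Nat := Bool.rec (eT345 i) (eT365 i) (Nat.ble 356352 i)
noncomputable def eT367 (i : Nat) : Nat := Bool.rec (eL369 i) (eL370 i) (Nat.ble 378880 i)
noncomputable def eT368 (i : Nat) : Nat := Bool.rec (eL372 i) (eL373 i) (Nat.ble 381952 i)
noncomputable def eT369 (i : Nat) : Nat := Bool.rec (eL371 i) (eT368 i) (Nat.ble 380928 i)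
noncomputable def eT370 (i : Nat) : Nat := Bool.rec (eT367 i) (eT369 i) (Nat.ble 379904 i)
noncomputable def eT371 (i : Nat) : Nat := Bool.rec (eL374 i) (eL375 i) (Nat.ble 384000 i)
noncomputable def eT372 (i : Nat) : Nat := Bool.rec (eL377 i) (eL378 i) (Nat.ble 387072 i)
noncomputable def eT373 (i : Nat) : Nat := Bool.rec (eL376 i) (eT372 i) (Nat.ble 386048 i)
noncomputable def eT374 (i : Nat) : Nat := Bool.rec (eT371 i) (eT373 i) (Nat.ble 385024 i)
noncomputable def eT375 (i : Nat) : Nat := Bool.rec (eT370 i) (eT374 i) (Nat.ble 382976 i)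
noncomputable def eT376 (i : Nat) : Nat := Bool.rec (eL379 i) (eL380 i) (Nat.ble 389120 i)
noncomputable def eT377 (i : Nat) : Nat := Bool.rec (eL382 i) (eL383 i) (Nat.ble 392192 i)
noncomputable def eT378 (i : Nat) : Nat := Bool.rec (eL381 i) (eT377 i) (Nat.ble 391168 i)
noncomputable def eT379 (i : Nat) : Nat := Bool.rec (eT376 i) (eT378 i) (Nat.ble 390144 i)
noncomputable def eT380 (i : Nat) : Nat := Bool.rec (eL384 i) (eL385 i) (Nat.ble 394240 i)
noncomputable def eT381 (i : Nat) : Nat := Bool.rec (eL387 i) (eL388 i) (Nat.ble 397312 i)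
noncomputable def eT382 (i : Nat) : Nat := Bool.rec (eL386 i) (eT381 i) (Nat.ble 396288 i)
noncomputable def eT383 (i : Nat) : Nat := Bool.rec (eT380 i) (eT382 i) (Nat.ble 395264 i)
noncomputable def eT384 (i : Nat) : Nat := Bool.rec (eT379 i) (eT383 i) (Nat.ble 393216 i)
noncomputable def eT385 (i : Nat) : Nat := Bool.rec (eT375 i) (eT384 i) (Nat.ble 388096 i)
noncomputable def eT386 (i : Nat) : Nat := Bool.rec (eL389 i) (eL390 i) (Nat.ble 399360 i)
noncomputable def eT387 (i : Nat) : Nat := Bool.rec (eL392 i) (eL393 i) (Nat.ble 402432 i)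
noncomputable def eT388 (i : Nat) : Nat := Bool.rec (eL391 i) (eT387 i) (Nat.ble 401408 i)
noncomputable def eT389 (i : Nat) : Nat := Bool.rec (eT386 i) (eT388 i) (Nat.ble 400384 i)
noncomputable def eT390 (i : Nat) : Nat := Bool.rec (eL394 i) (eL395 i) (Nat.ble 404480 i)
noncomputable def eT391 (i : Nat) : Nat := Bool.rec (eL397 i) (eL398 i) (Nat.ble 407552 i)
noncomputable def eT392 (i : Nat) : Nat := Bool.rec (eL396 i) (eT391 i) (Nat.ble 406528 i)
noncomputable def eT393 (i : Nat) : Nat := Bool.rec (eT390 i) (eT392 i) (Nat.ble 405504 i)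
noncomputable def eT394 (i : Nat) : Nat := Bool.rec (eT389 i) (eT393 i) (Nat.ble 403456 i)
noncomputable def eT395 (i : Nat) : Nat := Bool.rec (eL399 i) (eL400 i) (Nat.ble 409600 i)
noncomputable def eT396 (i : Nat) : Nat := Bool.rec (eL402 i) (eL403 i) (Nat.ble 412672 i)
noncomputable def eT397 (i : Nat) : Nat := Bool.rec (eL401 i) (eT396 i) (Nat.ble 411648 i)
noncomputable def eT398 (i : Nat) : Nat := Bool.rec (eT395 i) (eT397 i) (Nat.ble 410624 i)
noncomputable def eT399 (i : Nat) : Nat := Bool.rec (eL405 i) (eL406 i) (Nat.ble 415744 i)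
noncomputable def eT400 (i : Nat) : Nat := Bool.rec (eL404 i) (eT399 i) (Nat.ble 414720 i)
noncomputable def eT401 (i : Nat) : Nat := Bool.rec (eL408 i) (eL409 i) (Nat.ble 418816 i)
noncomputable def eT402 (i : Nat) : Nat := Bool.rec (eL407 i) (eT401 i) (Nat.ble 417792 i)
noncomputable def eT403 (i : Nat) : Nat := Bool.rec (eT400 i) (eT402 i) (Nat.ble 416768 i)
noncomputable def eT404 (i : Nat) : Nat := Bool.rec (eT398 i) (eT403 i) (Nat.ble 413696 i)
noncomputable def eT405 (i : Nat) : Nat := Bool.rec (eT394 i) (eT404 i) (Nat.ble 408576 i)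
noncomputable def eT406 (i : Nat) : Nat := Bool.rec (eT385 i) (eT405 i) (Nat.ble 398336 i)
noncomputable def eT407 (i : Nat) : Nat := Bool.rec (eT366 i) (eT406 i) (Nat.ble 377856 i)
noncomputable def eT408 (i : Nat) : Nat := Bool.rec (eL410 i) (eL411 i) (Nat.ble 420864 i)
noncomputable def eT409 (i : Nat) : Nat := Bool.rec (eL413 i) (eL414 i) (Nat.ble 423936 i)
noncomputable def eT410 (i : Nat) : Nat := Bool.rec (eL412 i) (eT409 i) (Nat.ble 422912 i)
noncomputable def eT411 (i : Nat) : Nat := Bool.rec (eT408 i) (eT410 i) (Nat.ble 421888 i)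
noncomputable def eT412 (i : Nat) : Nat := Bool.rec (eL415 i) (eL416 i) (Nat.ble 425984 i)
noncomputable def eT413 (i : Nat) : Nat := Bool.rec (eL418 i) (eL419 i) (Nat.ble 429056 i)
noncomputable def eT414 (i : Nat) : Nat := Bool.rec (eL417 i) (eT413 i) (Nat.ble 428032 i)
noncomputable def eT415 (i : Nat) : Nat := Bool.rec (eT412 i) (eT414 i) (Nat.ble 427008 i)
noncomputable def eT416 (i : Nat) : Nat := Bool.rec (eT411 i) (eT415 i) (Nat.ble 424960 i)
noncomputable def eT417 (i : Nat) : Nat := Bool.rec (eL420 i) (eL421 i) (Nat.ble 431104 i)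
noncomputable def eT418 (i : Nat) : Nat := Bool.rec (eL423 i) (eL424 i) (Nat.ble 434176 i)
noncomputable def eT419 (i : Nat) : Nat := Bool.rec (eL422 i) (eT418 i) (Nat.ble 433152 i)
noncomputable def eT420 (i : Nat) : Nat := Bool.rec (eT417 i) (eT419 i) (Nat.ble 432128 i)
noncomputable def eT421 (i : Nat) : Nat := Bool.rec (eL425 i) (eL426 i) (Nat.ble 436224 i)
noncomputable def eT422 (i : Nat) : Nat := Bool.rec (eL428 i) (eL429 i) (Nat.ble 439296 i)
noncomputable def eT423 (i : Nat) : Nat := Bool.rec (eL427 i) (eT422 i) (Nat.ble 438272 i)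
noncomputable def eT424 (i : Nat) : Nat := Bool.rec (eT421 i) (eT423 i) (Nat.ble 437248 i)
noncomputable def eT425 (i : Nat) : Nat := Bool.rec (eT420 i) (eT424 i) (Nat.ble 435200 i)
noncomputable def eT426 (i : Nat) : Nat := Bool.rec (eT416 i) (eT425 i) (Nat.ble 430080 i)
noncomputable def eT427 (i : Nat) : Nat := Bool.rec (eL430 i) (eL431 i) (Nat.ble 441344 i)
noncomputable def eT428 (i : Nat) : Nat := Bool.rec (eL433 i) (eL434 i) (Nat.ble 444416 i)
noncomputable def eT429 (i : Nat) : Nat := Bool.rec (eL432 i) (eT428 i) (Nat.ble 443392 i)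
noncomputable def eT430 (i : Nat) : Nat := Bool.rec (eT427 i) (eT429 i) (Nat.ble 442368 i)
noncomputable def eT431 (i : Nat) : Nat := Bool.rec (eL435 i) (eL436 i) (Nat.ble 446464 i)
noncomputable def eT432 (i : Nat) : Nat := Bool.rec (eL438 i) (eL439 i) (Nat.ble 449536 i)
noncomputable def eT433 (i : Nat) : Nat := Bool.rec (eL437 i) (eT432 i) (Nat.ble 448512 i)
noncomputable def eT434 (i : Nat) : Nat := Bool.rec (eT431 i) (eT433 i) (Nat.ble 447488 i)
noncomputable def eT435 (i : Nat) : Nat := Bool.rec (eT430 i) (eT434 i) (Nat.ble 445440 i)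
noncomputable def eT436 (i : Nat) : Nat := Bool.rec (eL440 i) (eL441 i) (Nat.ble 451584 i)
noncomputable def eT437 (i : Nat) : Nat := Bool.rec (eL443 i) (eL444 i) (Nat.ble 454656 i)
noncomputable def eT438 (i : Nat) : Nat := Bool.rec (eL442 i) (eT437 i) (Nat.ble 453632 i)
noncomputable def eT439 (i : Nat) : Nat := Bool.rec (eT436 i) (eT438 i) (Nat.ble 452608 i)
noncomputable def eT440 (i : Nat) : Nat := Bool.rec (eL446 i) (eL447 i) (Nat.ble 457728 i)
noncomputable def eT441 (i : Nat) : Nat := Bool.rec (eL445 i) (eT440 i) (Nat.ble 456704 i)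
noncomputable def eT442 (i : Nat) : Nat := Bool.rec (eL449 i) (eL450 i) (Nat.ble 460800 i)
noncomputable def eT443 (i : Nat) : Nat := Bool.rec (eL448 i) (eT442 i) (Nat.ble 459776 i)
noncomputable def eT444 (i : Nat) : Nat := Bool.rec (eT441 i) (eT443 i) (Nat.ble 458752 i)
noncomputable def eT445 (i : Nat) : Nat := Bool.rec (eT439 i) (eT444 i) (Nat.ble 455680 i)
noncomputable def eT446 (i : Nat) : Nat := Bool.rec (eT435 i) (eT445 i) (Nat.ble 450560 i)
noncomputable def eT447 (i : Nat) : Nat := Bool.rec (eT426 i) (eT446 i) (Nat.ble 440320 i)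
noncomputable def eT448 (i : Nat) : Nat := Bool.rec (eL451 i) (eL452 i) (Nat.ble 462848 i)
noncomputable def eT449 (i : Nat) : Nat := Bool.rec (eL454 i) (eL455 i) (Nat.ble 465920 i)
noncomputable def eT450 (i : Nat) : Nat := Bool.rec (eL453 i) (eT449 i) (Nat.ble 464896 i)
noncomputable def eT451 (i : Nat) : Nat := Bool.rec (eT448 i) (eT450 i) (Nat.ble 463872 i)
noncomputable def eT452 (i : Nat) : Nat := Bool.rec (eL456 i) (eL457 i) (Nat.ble 467968 i)
noncomputable def eT453 (i : Nat) : Nat := Bool.rec (eL459 i) (eL460 i) (Nat.ble 471040 i)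
noncomputable def eT454 (i : Nat) : Nat := Bool.rec (eL458 i) (eT453 i) (Nat.ble 470016 i)
noncomputable def eT455 (i : Nat) : Nat := Bool.rec (eT452 i) (eT454 i) (Nat.ble 468992 i)
noncomputable def eT456 (i : Nat) : Nat := Bool.rec (eT451 i) (eT455 i) (Nat.ble 466944 i)
noncomputable def eT457 (i : Nat) : Nat := Bool.rec (eL461 i) (eL462 i) (Nat.ble 473088 i)
noncomputable def eT458 (i : Nat) : Nat := Bool.rec (eL464 i) (eL465 i) (Nat.ble 476160 i)
noncomputable def eT459 (i : Nat) : Nat := Bool.rec (eL463 i) (eT458 i) (Nat.ble 475136 i)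
noncomputable def eT460 (i : Nat) : Nat := Bool.rec (eT457 i) (eT459 i) (Nat.ble 474112 i)
noncomputable def eT461 (i : Nat) : Nat := Bool.rec (eL466 i) (eL467 i) (Nat.ble 478208 i)
noncomputable def eT462 (i : Nat) : Nat := Bool.rec (eL469 i) (eL470 i) (Nat.ble 481280 i)
noncomputable def eT463 (i : Nat) : Nat := Bool.rec (eL468 i) (eT462 i) (Nat.ble 480256 i)
noncomputable def eT464 (i : Nat) : Nat := Bool.rec (eT461 i) (eT463 i) (Nat.ble 479232 i)
noncomputable def eT465 (i : Nat) : Nat := Bool.rec (eT460 i) (eT464 i) (Nat.ble 477184 i)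
noncomputable def eT466 (i : Nat) : Nat := Bool.rec (eT456 i) (eT465 i) (Nat.ble 472064 i)
noncomputable def eT467 (i : Nat) : Nat := Bool.rec (eL471 i) (eL472 i) (Nat.ble 483328 i)
noncomputable def eT468 (i : Nat) : Nat := Bool.rec (eL474 i) (eL475 i) (Nat.ble 486400 i)
noncomputable def eT469 (i : Nat) : Nat := Bool.rec (eL473 i) (eT468 i) (Nat.ble 485376 i)
noncomputable def eT470 (i : Nat) : Nat := Bool.rec (eT467 i) (eT469 i) (Nat.ble 484352 i)
noncomputable def eT471 (i : Nat) : Nat := Bool.rec (eL476 i) (eL477 i) (Nat.ble 488448 i)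
noncomputable def eT472 (i : Nat) : Nat := Bool.rec (eL479 i) (eL480 i) (Nat.ble 491520 i)
noncomputable def eT473 (i : Nat) : Nat := Bool.rec (eL478 i) (eT472 i) (Nat.ble 490496 i)
noncomputable def eT474 (i : Nat) : Nat := Bool.rec (eT471 i) (eT473 i) (Nat.ble 489472 i)
noncomputable def eT475 (i : Nat) : Nat := Bool.rec (eT470 i) (eT474 i) (Nat.ble 487424 i)
noncomputable def eT476 (i : Nat) : Nat := Bool.rec (eL481 i) (eL482 i) (Nat.ble 493568 i)
noncomputable def eT477 (i : Nat) : Nat := Bool.rec (eL484 i) (eL485 i) (Nat.ble 496640 i)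
noncomputable def eT478 (i : Nat) : Nat := Bool.rec (eL483 i) (eT477 i) (Nat.ble 495616 i)
noncomputable def eT479 (i : Nat) : Nat := Bool.rec (eT476 i) (eT478 i) (Nat.ble 494592 i)
noncomputable def eT480 (i : Nat) : Nat := Bool.rec (eL487 i) (eL488 i) (Nat.ble 499712 i)
noncomputable def eT481 (i : Nat) : Nat := Bool.rec (eL486 i) (eT480 i) (Nat.ble 498688 i)
noncomputable def eT482 (i : Nat) : Nat := Bool.rec (eL490 i) (eL491 i) (Nat.ble 502784 i)
noncomputable def eT483 (i : Nat) : Nat := Bool.rec (eL489 i) (eT482 i) (Nat.ble 501760 i)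
noncomputable def eT484 (i : Nat) : Nat := Bool.rec (eT481 i) (eT483 i) (Nat.ble 500736 i)
noncomputable def eT485 (i : Nat) : Nat := Bool.rec (eT479 i) (eT484 i) (Nat.ble 497664 i)
noncomputable def eT486 (i : Nat) : Nat := Bool.rec (eT475 i) (eT485 i) (Nat.ble 492544 i)
noncomputable def eT487 (i : Nat) : Nat := Bool.rec (eT466 i) (eT486 i) (Nat.ble 482304 i)
noncomputable def eT488 (i : Nat) : Nat := Bool.rec (eT447 i) (eT487 i) (Nat.ble 461824 i)
noncomputable def eT489 (i : Nat) : Nat := Bool.rec (eT407 i) (eT488 i) (Nat.ble 419840 i)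
noncomputable def eT490 (i : Nat) : Nat := Bool.rec (eL492 i) (eL493 i) (Nat.ble 504832 i)
noncomputable def eT491 (i : Nat) : Nat := Bool.rec (eL495 i) (eL496 i) (Nat.ble 507904 i)
noncomputable def eT492 (i : Nat) : Nat := Bool.rec (eL494 i) (eT491 i) (Nat.ble 506880 i)
noncomputable def eT493 (i : Nat) : Nat := Bool.rec (eT490 i) (eT492 i) (Nat.ble 505856 i)
noncomputable def eT494 (i : Nat) : Nat := Bool.rec (eL497 i) (eL498 i) (Nat.ble 509952 i)
noncomputable def eT495 (i : Nat) : Nat := Bool.rec (eL500 i) (eL501 i) (Nat.ble 513024 i)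
noncomputable def eT496 (i : Nat) : Nat := Bool.rec (eL499 i) (eT495 i) (Nat.ble 512000 i)
noncomputable def eT497 (i : Nat) : Nat := Bool.rec (eT494 i) (eT496 i) (Nat.ble 510976 i)
noncomputable def eT498 (i : Nat) : Nat := Bool.rec (eT493 i) (eT497 i) (Nat.ble 508928 i)
noncomputable def eT499 (i : Nat) : Nat := Bool.rec (eL502 i) (eL503 i) (Nat.ble 515072 i)
noncomputable def eT500 (i : Nat) : Nat := Bool.rec (eL505 i) (eL506 i) (Nat.ble 518144 i)
noncomputable def eT501 (i : Nat) : Nat := Bool.rec (eL504 i) (eT500 i) (Nat.ble 517120 i)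
noncomputable def eT502 (i : Nat) : Nat := Bool.rec (eT499 i) (eT501 i) (Nat.ble 516096 i)
noncomputable def eT503 (i : Nat) : Nat := Bool.rec (eL507 i) (eL508 i) (Nat.ble 520192 i)
noncomputable def eT504 (i : Nat) : Nat := Bool.rec (eL510 i) (eL511 i) (Nat.ble 523264 i)
noncomputable def eT505 (i : Nat) : Nat := Bool.rec (eL509 i) (eT504 i) (Nat.ble 522240 i)
noncomputable def eT506 (i : Nat) : Nat := Bool.rec (eT503 i) (eT505 i) (Nat.ble 521216 i)
noncomputable def eT507 (i : Nat) : Nat := Bool.rec (eT502 i) (eT506 i) (Nat.ble 519168 i)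
noncomputable def eT508 (i : Nat) : Nat := Bool.rec (eT498 i) (eT507 i) (Nat.ble 514048 i)
noncomputable def eT509 (i : Nat) : Nat := Bool.rec (eL512 i) (eL513 i) (Nat.ble 525312 i)
noncomputable def eT510 (i : Nat) : Nat := Bool.rec (eL515 i) (eL516 i) (Nat.ble 528384 i)
noncomputable def eT511 (i : Nat) : Nat := Bool.rec (eL514 i) (eT510 i) (Nat.ble 527360 i)
noncomputable def eT512 (i : Nat) : Nat := Bool.rec (eT509 i) (eT511 i) (Nat.ble 526336 i)
noncomputable def eT513 (i : Nat) : Nat := Bool.rec (eL517 i) (eL518 i) (Nat.ble 530432 i)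
noncomputable def eT514 (i : Nat) : Nat := Bool.rec (eL520 i) (eL521 i) (Nat.ble 533504 i)
noncomputable def eT515 (i : Nat) : Nat := Bool.rec (eL519 i) (eT514 i) (Nat.ble 532480 i)
noncomputable def eT516 (i : Nat) : Nat := Bool.rec (eT513 i) (eT515 i) (Nat.ble 531456 i)
noncomputable def eT517 (i : Nat) : Nat := Bool.rec (eT512 i) (eT516 i) (Nat.ble 529408 i)
noncomputable def eT518 (i : Nat) : Nat := Bool.rec (eL522 i) (eL523 i) (Nat.ble 535552 i)
noncomputable def eT519 (i : Nat) : Nat := Bool.rec (eL525 i) (eL526 i) (Nat.ble 538624 i)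
noncomputable def eT520 (i : Nat) : Nat := Bool.rec (eL524 i) (eT519 i) (Nat.ble 537600 i)
noncomputable def eT521 (i : Nat) : Nat := Bool.rec (eT518 i) (eT520 i) (Nat.ble 536576 i)
noncomputable def eT522 (i : Nat) : Nat := Bool.rec (eL528 i) (eL529 i) (Nat.ble 541696 i)
noncomputable def eT523 (i : Nat) : Nat := Bool.rec (eL527 i) (eT522 i) (Nat.ble 540672 i)
noncomputable def eT524 (i : Nat) : Nat := Bool.rec (eL531 i) (eL532 i) (Nat.ble 544768 i)
noncomputable def eT525 (i : Nat) : Nat := Bool.rec (eL530 i) (eT524 i) (Nat.ble 543744 i)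
noncomputable def eT526 (i : Nat) : Nat := Bool.rec (eT523 i) (eT525 i) (Nat.ble 542720 i)
noncomputable def eT527 (i : Nat) : Nat := Bool.rec (eT521 i) (eT526 i) (Nat.ble 539648 i)
noncomputable def eT528 (i : Nat) : Nat := Bool.rec (eT517 i) (eT527 i) (Nat.ble 534528 i)
noncomputable def eT529 (i : Nat) : Nat := Bool.rec (eT508 i) (eT528 i) (Nat.ble 524288 i)
noncomputable def eT530 (i : Nat) : Nat := Bool.rec (eL533 i) (eL534 i) (Nat.ble 546816 i)
noncomputable def eT531 (i : Nat) : Nat := Bool.rec (eL536 i) (eL537 i) (Nat.ble 549888 i)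
noncomputable def eT532 (i : Nat) : Nat := Bool.rec (eL535 i) (eT531 i) (Nat.ble 548864 i)
noncomputable def eT533 (i : Nat) : Nat := Bool.rec (eT530 i) (eT532 i) (Nat.ble 547840 i)
noncomputable def eT534 (i : Nat) : Nat := Bool.rec (eL538 i) (eL539 i) (Nat.ble 551936 i)
noncomputable def eT535 (i : Nat) : Nat := Bool.rec (eL541 i) (eL542 i) (Nat.ble 555008 i)
noncomputable def eT536 (i : Nat) : Nat := Bool.rec (eL540 i) (eT535 i) (Nat.ble 553984 i)
noncomputable def eT537 (i : Nat) : Nat := Bool.rec (eT534 i) (eT536 i) (Nat.ble 552960 i)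
noncomputable def eT538 (i : Nat) : Nat := Bool.rec (eT533 i) (eT537 i) (Nat.ble 550912 i)
noncomputable def eT539 (i : Nat) : Nat := Bool.rec (eL543 i) (eL544 i) (Nat.ble 557056 i)
noncomputable def eT540 (i : Nat) : Nat := Bool.rec (eL546 i) (eL547 i) (Nat.ble 560128 i)
noncomputable def eT541 (i : Nat) : Nat := Bool.rec (eL545 i) (eT540 i) (Nat.ble 559104 i)
noncomputable def eT542 (i : Nat) : Nat := Bool.rec (eT539 i) (eT541 i) (Nat.ble 558080 i)
noncomputable def eT543 (i : Nat) : Nat := Bool.rec (eL548 i) (eL549 i) (Nat.ble 562176 i)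
noncomputable def eT544 (i : Nat) : Nat := Bool.rec (eL551 i) (eL552 i) (Nat.ble 565248 i)
noncomputable def eT545 (i : Nat) : Nat := Bool.rec (eL550 i) (eT544 i) (Nat.ble 564224 i)
noncomputable def eT546 (i : Nat) : Nat := Bool.rec (eT543 i) (eT545 i) (Nat.ble 563200 i)
noncomputable def eT547 (i : Nat) : Nat := Bool.rec (eT542 i) (eT546 i) (Nat.ble 561152 i)
noncomputable def eT548 (i : Nat) : Nat := Bool.rec (eT538 i) (eT547 i) (Nat.ble 556032 i)
noncomputable def eT549 (i : Nat) : Nat := Bool.rec (eL553 i) (eL554 i) (Nat.ble 567296 i)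
noncomputable def eT550 (i : Nat) : Nat := Bool.rec (eL556 i) (eL557 i) (Nat.ble 570368 i)
noncomputable def eT551 (i : Nat) : Nat := Bool.rec (eL555 i) (eT550 i) (Nat.ble 569344 i)
noncomputable def eT552 (i : Nat) : Nat := Bool.rec (eT549 i) (eT551 i) (Nat.ble 568320 i)
noncomputable def eT553 (i : Nat) : Nat := Bool.rec (eL558 i) (eL559 i) (Nat.ble 572416 i)
noncomputable def eT554 (i : Nat) : Nat := Bool.rec (eL561 i) (eL562 i) (Nat.ble 575488 i)
noncomputable def eT555 (i : Nat) : Nat := Bool.rec (eL560 i) (eT554 i) (Nat.ble 574464 i)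
noncomputable def eT556 (i : Nat) : Nat := Bool.rec (eT553 i) (eT555 i) (Nat.ble 573440 i)
noncomputable def eT557 (i : Nat) : Nat := Bool.rec (eT552 i) (eT556 i) (Nat.ble 571392 i)
noncomputable def eT558 (i : Nat) : Nat := Bool.rec (eL563 i) (eL564 i) (Nat.ble 577536 i)
noncomputable def eT559 (i : Nat) : Nat := Bool.rec (eL566 i) (eL567 i) (Nat.ble 580608 i)
noncomputable def eT560 (i : Nat) : Nat := Bool.rec (eL565 i) (eT559 i) (Nat.ble 579584 i)
noncomputable def eT561 (i : Nat) : Nat := Bool.rec (eT558 i) (eT560 i) (Nat.ble 578560 i)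
noncomputable def eT562 (i : Nat) : Nat := Bool.rec (eL569 i) (eL570 i) (Nat.ble 583680 i)
noncomputable def eT563 (i : Nat) : Nat := Bool.rec (eL568 i) (eT562 i) (Nat.ble 582656 i)
noncomputable def eT564 (i : Nat) : Nat := Bool.rec (eL572 i) (eL573 i) (Nat.ble 586752 i)
noncomputable def eT565 (i : Nat) : Nat := Bool.rec (eL571 i) (eT564 i) (Nat.ble 585728 i)
noncomputable def eT566 (i : Nat) : Nat := Bool.rec (eT563 i) (eT565 i) (Nat.ble 584704 i)
noncomputable def eT567 (i : Nat) : Nat := Bool.rec (eT561 i) (eT566 i) (Nat.ble 581632 i)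
noncomputable def eT568 (i : Nat) : Nat := Bool.rec (eT557 i) (eT567 i) (Nat.ble 576512 i)
noncomputable def eT569 (i : Nat) : Nat := Bool.rec (eT548 i) (eT568 i) (Nat.ble 566272 i)
noncomputable def eT570 (i : Nat) : Nat := Bool.rec (eT529 i) (eT569 i) (Nat.ble 545792 i)
noncomputable def eT571 (i : Nat) : Nat := Bool.rec (eL574 i) (eL575 i) (Nat.ble 588800 i)
noncomputable def eT572 (i : Nat) : Nat := Bool.rec (eL577 i) (eL578 i) (Nat.ble 591872 i)
noncomputable def eT573 (i : Nat) : Nat := Bool.rec (eL576 i) (eT572 i) (Nat.ble 590848 i)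
noncomputable def eT574 (i : Nat) : Nat := Bool.rec (eT571 i) (eT573 i) (Nat.ble 589824 i)
noncomputable def eT575 (i : Nat) : Nat := Bool.rec (eL579 i) (eL580 i) (Nat.ble 593920 i)
noncomputable def eT576 (i : Nat) : Nat := Bool.rec (eL582 i) (eL583 i) (Nat.ble 596992 i)
noncomputable def eT577 (i : Nat) : Nat := Bool.rec (eL581 i) (eT576 i) (Nat.ble 595968 i)
noncomputable def eT578 (i : Nat) : Nat := Bool.rec (eT575 i) (eT577 i) (Nat.ble 594944 i)
noncomputable def eT579 (i : Nat) : Nat := Bool.rec (eT574 i) (eT578 i) (Nat.ble 592896 i)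
noncomputable def eT580 (i : Nat) : Nat := Bool.rec (eL584 i) (eL585 i) (Nat.ble 599040 i)
noncomputable def eT581 (i : Nat) : Nat := Bool.rec (eL587 i) (eL588 i) (Nat.ble 602112 i)
noncomputable def eT582 (i : Nat) : Nat := Bool.rec (eL586 i) (eT581 i) (Nat.ble 601088 i)
noncomputable def eT583 (i : Nat) : Nat := Bool.rec (eT580 i) (eT582 i) (Nat.ble 600064 i)
noncomputable def eT584 (i : Nat) : Nat := Bool.rec (eL589 i) (eL590 i) (Nat.ble 604160 i)
noncomputable def eT585 (i : Nat) : Nat := Bool.rec (eL592 i) (eL593 i) (Nat.ble 607232 i)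
noncomputable def eT586 (i : Nat) : Nat := Bool.rec (eL591 i) (eT585 i) (Nat.ble 606208 i)
noncomputable def eT587 (i : Nat) : Nat := Bool.rec (eT584 i) (eT586 i) (Nat.ble 605184 i)
noncomputable def eT588 (i : Nat) : Nat := Bool.rec (eT583 i) (eT587 i) (Nat.ble 603136 i)
noncomputable def eT589 (i : Nat) : Nat := Bool.rec (eT579 i) (eT588 i) (Nat.ble 598016 i)
noncomputable def eT590 (i : Nat) : Nat := Bool.rec (eL594 i) (eL595 i) (Nat.ble 609280 i)
noncomputable def eT591 (i : Nat) : Nat := Bool.rec (eL597 i) (eL598 i) (Nat.ble 612352 i)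
noncomputable def eT592 (i : Nat) : Nat := Bool.rec (eL596 i) (eT591 i) (Nat.ble 611328 i)
noncomputable def eT593 (i : Nat) : Nat := Bool.rec (eT590 i) (eT592 i) (Nat.ble 610304 i)
noncomputable def eT594 (i : Nat) : Nat := Bool.rec (eL599 i) (eL600 i) (Nat.ble 614400 i)
noncomputable def eT595 (i : Nat) : Nat := Bool.rec (eL602 i) (eL603 i) (Nat.ble 617472 i)
noncomputable def eT596 (i : Nat) : Nat := Bool.rec (eL601 i) (eT595 i) (Nat.ble 616448 i)
noncomputable def eT597 (i : Nat) : Nat := Bool.rec (eT594 i) (eT596 i) (Nat.ble 615424 i)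
noncomputable def eT598 (i : Nat) : Nat := Bool.rec (eT593 i) (eT597 i) (Nat.ble 613376 i)
noncomputable def eT599 (i : Nat) : Nat := Bool.rec (eL604 i) (eL605 i) (Nat.ble 619520 i)
noncomputable def eT600 (i : Nat) : Nat := Bool.rec (eL607 i) (eL608 i) (Nat.ble 622592 i)
noncomputable def eT601 (i : Nat) : Nat := Bool.rec (eL606 i) (eT600 i) (Nat.ble 621568 i)
noncomputable def eT602 (i : Nat) : Nat := Bool.rec (eT599 i) (eT601 i) (Nat.ble 620544 i)
noncomputable def eT603 (i : Nat) : Nat := Bool.rec (eL610 i) (eL611 i) (Nat.ble 625664 i)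
noncomputable def eT604 (i : Nat) : Nat := Bool.rec (eL609 i) (eT603 i) (Nat.ble 624640 i)
noncomputable def eT605 (i : Nat) : Nat := Bool.rec (eL613 i) (eL614 i) (Nat.ble 628736 i)
noncomputable def eT606 (i : Nat) : Nat := Bool.rec (eL612 i) (eT605 i) (Nat.ble 627712 i)
noncomputable def eT607 (i : Nat) : Nat := Bool.rec (eT604 i) (eT606 i) (Nat.ble 626688 i)
noncomputable def eT608 (i : Nat) : Nat := Bool.rec (eT602 i) (eT607 i) (Nat.ble 623616 i)
noncomputable def eT609 (i : Nat) : Nat := Bool.rec (eT598 i) (eT608 i) (Nat.ble 618496 i)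
noncomputable def eT610 (i : Nat) : Nat := Bool.rec (eT589 i) (eT609 i) (Nat.ble 608256 i)
noncomputable def eT611 (i : Nat) : Nat := Bool.rec (eL615 i) (eL616 i) (Nat.ble 630784 i)
noncomputable def eT612 (i : Nat) : Nat := Bool.rec (eL618 i) (eL619 i) (Nat.ble 633856 i)
noncomputable def eT613 (i : Nat) : Nat := Bool.rec (eL617 i) (eT612 i) (Nat.ble 632832 i)
noncomputable def eT614 (i : Nat) : Nat := Bool.rec (eT611 i) (eT613 i) (Nat.ble 631808 i)
noncomputable def eT615 (i : Nat) : Nat := Bool.rec (eL620 i) (eL621 i) (Nat.ble 635904 i)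
noncomputable def eT616 (i : Nat) : Nat := Bool.rec (eL623 i) (eL624 i) (Nat.ble 638976 i)
noncomputable def eT617 (i : Nat) : Nat := Bool.rec (eL622 i) (eT616 i) (Nat.ble 637952 i)
noncomputable def eT618 (i : Nat) : Nat := Bool.rec (eT615 i) (eT617 i) (Nat.ble 636928 i)
noncomputable def eT619 (i : Nat) : Nat := Bool.rec (eT614 i) (eT618 i) (Nat.ble 634880 i)
noncomputable def eT620 (i : Nat) : Nat := Bool.rec (eL625 i) (eL626 i) (Nat.ble 641024 i)
noncomputable def eT621 (i : Nat) : Nat := Bool.rec (eL628 i) (eL629 i) (Nat.ble 644096 i)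
noncomputable def eT622 (i : Nat) : Nat := Bool.rec (eL627 i) (eT621 i) (Nat.ble 643072 i)
noncomputable def eT623 (i : Nat) : Nat := Bool.rec (eT620 i) (eT622 i) (Nat.ble 642048 i)
noncomputable def eT624 (i : Nat) : Nat := Bool.rec (eL631 i) (eL632 i) (Nat.ble 647168 i)
noncomputable def eT625 (i : Nat) : Nat := Bool.rec (eL630 i) (eT624 i) (Nat.ble 646144 i)
noncomputable def eT626 (i : Nat) : Nat := Bool.rec (eL634 i) (eL635 i) (Nat.ble 650240 i)
noncomputable def eT627 (i : Nat) : Nat := Bool.rec (eL633 i) (eT626 i) (Nat.ble 649216 i)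
noncomputable def eT628 (i : Nat) : Nat := Bool.rec (eT625 i) (eT627 i) (Nat.ble 648192 i)
noncomputable def eT629 (i : Nat) : Nat := Bool.rec (eT623 i) (eT628 i) (Nat.ble 645120 i)
noncomputable def eT630 (i : Nat) : Nat := Bool.rec (eT619 i) (eT629 i) (Nat.ble 640000 i)
noncomputable def eT631 (i : Nat) : Nat := Bool.rec (eL636 i) (eL637 i) (Nat.ble 652288 i)
noncomputable def eT632 (i : Nat) : Nat := Bool.rec (eL639 i) (eL640 i) (Nat.ble 655360 i)
noncomputable def eT633 (i : Nat) : Nat := Bool.rec (eL638 i) (eT632 i) (Nat.ble 654336 i)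
noncomputable def eT634 (i : Nat) : Nat := Bool.rec (eT631 i) (eT633 i) (Nat.ble 653312 i)
noncomputable def eT635 (i : Nat) : Nat := Bool.rec (eL641 i) (eL642 i) (Nat.ble 657408 i)
noncomputable def eT636 (i : Nat) : Nat := Bool.rec (eL644 i) (eL645 i) (Nat.ble 660480 i)
noncomputable def eT637 (i : Nat) : Nat := Bool.rec (eL643 i) (eT636 i) (Nat.ble 659456 i)
noncomputable def eT638 (i : Nat) : Nat := Bool.rec (eT635 i) (eT637 i) (Nat.ble 658432 i)
noncomputable def eT639 (i : Nat) : Nat := Bool.rec (eT634 i) (eT638 i) (Nat.ble 656384 i)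
noncomputable def eT640 (i : Nat) : Nat := Bool.rec (eL646 i) (eL647 i) (Nat.ble 662528 i)
noncomputable def eT641 (i : Nat) : Nat := Bool.rec (eL649 i) (eL650 i) (Nat.ble 665600 i)
noncomputable def eT642 (i : Nat) : Nat := Bool.rec (eL648 i) (eT641 i) (Nat.ble 664576 i)
noncomputable def eT643 (i : Nat) : Nat := Bool.rec (eT640 i) (eT642 i) (Nat.ble 663552 i)
noncomputable def eT644 (i : Nat) : Nat := Bool.rec (eL652 i) (eL653 i) (Nat.ble 668672 i)
noncomputable def eT645 (i : Nat) : Nat := Bool.rec (eL651 i) (eT644 i) (Nat.ble 667648 i)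
noncomputable def eT646 (i : Nat) : Nat := Bool.rec (eL655 i) (eL656 i) (Nat.ble 671744 i)
noncomputable def eT647 (i : Nat) : Nat := Bool.rec (eL654 i) (eT646 i) (Nat.ble 670720 i)
noncomputable def eT648 (i : Nat) : Nat := Bool.rec (eT645 i) (eT647 i) (Nat.ble 669696 i)
noncomputable def eT649 (i : Nat) : Nat := Bool.rec (eT643 i) (eT648 i) (Nat.ble 666624 i)
noncomputable def eT650 (i : Nat) : Nat := Bool.rec (eT639 i) (eT649 i) (Nat.ble 661504 i)
noncomputable def eT651 (i : Nat) : Nat := Bool.rec (eT630 i) (eT650 i) (Nat.ble 651264 i)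
noncomputable def eT652 (i : Nat) : Nat := Bool.rec (eT610 i) (eT651 i) (Nat.ble 629760 i)
noncomputable def eT653 (i : Nat) : Nat := Bool.rec (eT570 i) (eT652 i) (Nat.ble 587776 i)
noncomputable def eT654 (i : Nat) : Nat := Bool.rec (eT489 i) (eT653 i) (Nat.ble 503808 i)
noncomputable def eT655 (i : Nat) : Nat := Bool.rec (eT326 i) (eT654 i) (Nat.ble 335872 i)
noncomputable def eT656 (i : Nat) : Nat := Bool.rec (eL657 i) (eL658 i) (Nat.ble 673792 i)
noncomputable def eT657 (i : Nat) : Nat := Bool.rec (eL660 i) (eL661 i) (Nat.ble 676864 i)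
noncomputable def eT658 (i : Nat) : Nat := Bool.rec (eL659 i) (eT657 i) (Nat.ble 675840 i)
noncomputable def eT659 (i : Nat) : Nat := Bool.rec (eT656 i) (eT658 i) (Nat.ble 674816 i)
noncomputable def eT660 (i : Nat) : Nat := Bool.rec (eL662 i) (eL663 i) (Nat.ble 678912 i)
noncomputable def eT661 (i : Nat) : Nat := Bool.rec (eL665 i) (eL666 i) (Nat.ble 681984 i)
noncomputable def eT662 (i : Nat) : Nat := Bool.rec (eL664 i) (eT661 i) (Nat.ble 680960 i)
noncomputable def eT663 (i : Nat) : Nat := Bool.rec (eT660 i) (eT662 i) (Nat.ble 679936 i)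
noncomputable def eT664 (i : Nat) : Nat := Bool.rec (eT659 i) (eT663 i) (Nat.ble 677888 i)
noncomputable def eT665 (i : Nat) : Nat := Bool.rec (eL667 i) (eL668 i) (Nat.ble 684032 i)
noncomputable def eT666 (i : Nat) : Nat := Bool.rec (eL670 i) (eL671 i) (Nat.ble 687104 i)
noncomputable def eT667 (i : Nat) : Nat := Bool.rec (eL669 i) (eT666 i) (Nat.ble 686080 i)
noncomputable def eT668 (i : Nat) : Nat := Bool.rec (eT665 i) (eT667 i) (Nat.ble 685056 i)
noncomputable def eT669 (i : Nat) : Nat := Bool.rec (eL672 i) (eL673 i) (Nat.ble 689152 i)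
noncomputable def eT670 (i : Nat) : Nat := Bool.rec (eL675 i) (eL676 i) (Nat.ble 692224 i)
noncomputable def eT671 (i : Nat) : Nat := Bool.rec (eL674 i) (eT670 i) (Nat.ble 691200 i)
noncomputable def eT672 (i : Nat) : Nat := Bool.rec (eT669 i) (eT671 i) (Nat.ble 690176 i)
noncomputable def eT673 (i : Nat) : Nat := Bool.rec (eT668 i) (eT672 i) (Nat.ble 688128 i)
noncomputable def eT674 (i : Nat) : Nat := Bool.rec (eT664 i) (eT673 i) (Nat.ble 683008 i)
noncomputable def eT675 (i : Nat) : Nat := Bool.rec (eL677 i) (eL678 i) (Nat.ble 694272 i)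
noncomputable def eT676 (i : Nat) : Nat := Bool.rec (eL680 i) (eL681 i) (Nat.ble 697344 i)
noncomputable def eT677 (i : Nat) : Nat := Bool.rec (eL679 i) (eT676 i) (Nat.ble 696320 i)
noncomputable def eT678 (i : Nat) : Nat := Bool.rec (eT675 i) (eT677 i) (Nat.ble 695296 i)
noncomputable def eT679 (i : Nat) : Nat := Bool.rec (eL682 i) (eL683 i) (Nat.ble 699392 i)
noncomputable def eT680 (i : Nat) : Nat := Bool.rec (eL685 i) (eL686 i) (Nat.ble 702464 i)
noncomputable def eT681 (i : Nat) : Nat := Bool.rec (eL684 i) (eT680 i) (Nat.ble 701440 i)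
noncomputable def eT682 (i : Nat) : Nat := Bool.rec (eT679 i) (eT681 i) (Nat.ble 700416 i)
noncomputable def eT683 (i : Nat) : Nat := Bool.rec (eT678 i) (eT682 i) (Nat.ble 698368 i)
noncomputable def eT684 (i : Nat) : Nat := Bool.rec (eL687 i) (eL688 i) (Nat.ble 704512 i)
noncomputable def eT685 (i : Nat) : Nat := Bool.rec (eL690 i) (eL691 i) (Nat.ble 707584 i)
noncomputable def eT686 (i : Nat) : Nat := Bool.rec (eL689 i) (eT685 i) (Nat.ble 706560 i)
noncomputable def eT687 (i : Nat) : Nat := Bool.rec (eT684 i) (eT686 i) (Nat.ble 705536 i)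
noncomputable def eT688 (i : Nat) : Nat := Bool.rec (eL693 i) (eL694 i) (Nat.ble 710656 i)
noncomputable def eT689 (i : Nat) : Nat := Bool.rec (eL692 i) (eT688 i) (Nat.ble 709632 i)
noncomputable def eT690 (i : Nat) : Nat := Bool.rec (eL696 i) (eL697 i) (Nat.ble 713728 i)
noncomputable def eT691 (i : Nat) : Nat := Bool.rec (eL695 i) (eT690 i) (Nat.ble 712704 i)
noncomputable def eT692 (i : Nat) : Nat := Bool.rec (eT689 i) (eT691 i) (Nat.ble 711680 i)
noncomputable def eT693 (i : Nat) : Nat := Bool.rec (eT687 i) (eT692 i) (Nat.ble 708608 i)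
noncomputable def eT694 (i : Nat) : Nat := Bool.rec (eT683 i) (eT693 i) (Nat.ble 703488 i)
noncomputable def eT695 (i : Nat) : Nat := Bool.rec (eT674 i) (eT694 i) (Nat.ble 693248 i)
noncomputable def eT696 (i : Nat) : Nat := Bool.rec (eL698 i) (eL699 i) (Nat.ble 715776 i)
noncomputable def eT697 (i : Nat) : Nat := Bool.rec (eL701 i) (eL702 i) (Nat.ble 718848 i)
noncomputable def eT698 (i : Nat) : Nat := Bool.rec (eL700 i) (eT697 i) (Nat.ble 717824 i)
noncomputable def eT699 (i : Nat) : Nat := Bool.rec (eT696 i) (eT698 i) (Nat.ble 716800 i)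
noncomputable def eT700 (i : Nat) : Nat := Bool.rec (eL703 i) (eL704 i) (Nat.ble 720896 i)
noncomputable def eT701 (i : Nat) : Nat := Bool.rec (eL706 i) (eL707 i) (Nat.ble 723968 i)
noncomputable def eT702 (i : Nat) : Nat := Bool.rec (eL705 i) (eT701 i) (Nat.ble 722944 i)
noncomputable def eT703 (i : Nat) : Nat := Bool.rec (eT700 i) (eT702 i) (Nat.ble 721920 i)
noncomputable def eT704 (i : Nat) : Nat := Bool.rec (eT699 i) (eT703 i) (Nat.ble 719872 i)
noncomputable def eT705 (i : Nat) : Nat := Bool.rec (eL708 i) (eL709 i) (Nat.ble 726016 i)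
noncomputable def eT706 (i : Nat) : Nat := Bool.rec (eL711 i) (eL712 i) (Nat.ble 729088 i)
noncomputable def eT707 (i : Nat) : Nat := Bool.rec (eL710 i) (eT706 i) (Nat.ble 728064 i)
noncomputable def eT708 (i : Nat) : Nat := Bool.rec (eT705 i) (eT707 i) (Nat.ble 727040 i)
noncomputable def eT709 (i : Nat) : Nat := Bool.rec (eL713 i) (eL714 i) (Nat.ble 731136 i)
noncomputable def eT710 (i : Nat) : Nat := Bool.rec (eL716 i) (eL717 i) (Nat.ble 734208 i)
noncomputable def eT711 (i : Nat) : Nat := Bool.rec (eL715 i) (eT710 i) (Nat.ble 733184 i)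
noncomputable def eT712 (i : Nat) : Nat := Bool.rec (eT709 i) (eT711 i) (Nat.ble 732160 i)
noncomputable def eT713 (i : Nat) : Nat := Bool.rec (eT708 i) (eT712 i) (Nat.ble 730112 i)
noncomputable def eT714 (i : Nat) : Nat := Bool.rec (eT704 i) (eT713 i) (Nat.ble 724992 i)
noncomputable def eT715 (i : Nat) : Nat := Bool.rec (eL718 i) (eL719 i) (Nat.ble 736256 i)
noncomputable def eT716 (i : Nat) : Nat := Bool.rec (eL721 i) (eL722 i) (Nat.ble 739328 i)
noncomputable def eT717 (i : Nat) : Nat := Bool.rec (eL720 i) (eT716 i) (Nat.ble 738304 i)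
noncomputable def eT718 (i : Nat) : Nat := Bool.rec (eT715 i) (eT717 i) (Nat.ble 737280 i)
noncomputable def eT719 (i : Nat) : Nat := Bool.rec (eL723 i) (eL724 i) (Nat.ble 741376 i)
noncomputable def eT720 (i : Nat) : Nat := Bool.rec (eL726 i) (eL727 i) (Nat.ble 744448 i)
noncomputable def eT721 (i : Nat) : Nat := Bool.rec (eL725 i) (eT720 i) (Nat.ble 743424 i)
noncomputable def eT722 (i : Nat) : Nat := Bool.rec (eT719 i) (eT721 i) (Nat.ble 742400 i)
noncomputable def eT723 (i : Nat) : Nat := Bool.rec (eT718 i) (eT722 i) (Nat.ble 740352 i)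
noncomputable def eT724 (i : Nat) : Nat := Bool.rec (eL728 i) (eL729 i) (Nat.ble 746496 i)
noncomputable def eT725 (i : Nat) : Nat := Bool.rec (eL731 i) (eL732 i) (Nat.ble 749568 i)
noncomputable def eT726 (i : Nat) : Nat := Bool.rec (eL730 i) (eT725 i) (Nat.ble 748544 i)
noncomputable def eT727 (i : Nat) : Nat := Bool.rec (eT724 i) (eT726 i) (Nat.ble 747520 i)
noncomputable def eT728 (i : Nat) : Nat := Bool.rec (eL734 i) (eL735 i) (Nat.ble 752640 i)
noncomputable def eT729 (i : Nat) : Nat := Bool.rec (eL733 i) (eT728 i) (Nat.ble 751616 i)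
noncomputable def eT730 (i : Nat) : Nat := Bool.rec (eL737 i) (eL738 i) (Nat.ble 755712 i)
noncomputable def eT731 (i : Nat) : Nat := Bool.rec (eL736 i) (eT730 i) (Nat.ble 754688 i)
noncomputable def eT732 (i : Nat) : Nat := Bool.rec (eT729 i) (eT731 i) (Nat.ble 753664 i)
noncomputable def eT733 (i : Nat) : Nat := Bool.rec (eT727 i) (eT732 i) (Nat.ble 750592 i)
noncomputable def eT734 (i : Nat) : Nat := Bool.rec (eT723 i) (eT733 i) (Nat.ble 745472 i)
noncomputable def eT735 (i : Nat) : Nat := Bool.rec (eT714 i) (eT734 i) (Nat.ble 735232 i)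
noncomputable def eT736 (i : Nat) : Nat := Bool.rec (eT695 i) (eT735 i) (Nat.ble 714752 i)
noncomputable def eT737 (i : Nat) : Nat := Bool.rec (eL739 i) (eL740 i) (Nat.ble 757760 i)
noncomputable def eT738 (i : Nat) : Nat := Bool.rec (eL742 i) (eL743 i) (Nat.ble 760832 i)
noncomputable def eT739 (i : Nat) : Nat := Bool.rec (eL741 i) (eT738 i) (Nat.ble 759808 i)
noncomputable def eT740 (i : Nat) : Nat := Bool.rec (eT737 i) (eT739 i) (Nat.ble 758784 i)
noncomputable def eT741 (i : Nat) : Nat := Bool.rec (eL744 i) (eL745 i) (Nat.ble 762880 i)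
noncomputable def eT742 (i : Nat) : Nat := Bool.rec (eL747 i) (eL748 i) (Nat.ble 765952 i)
noncomputable def eT743 (i : Nat) : Nat := Bool.rec (eL746 i) (eT742 i) (Nat.ble 764928 i)
noncomputable def eT744 (i : Nat) : Nat := Bool.rec (eT741 i) (eT743 i) (Nat.ble 763904 i)
noncomputable def eT745 (i : Nat) : Nat := Bool.rec (eT740 i) (eT744 i) (Nat.ble 761856 i)
noncomputable def eT746 (i : Nat) : Nat := Bool.rec (eL749 i) (eL750 i) (Nat.ble 768000 i)
noncomputable def eT747 (i : Nat) : Nat := Bool.rec (eL752 i) (eL753 i) (Nat.ble 771072 i)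
noncomputable def eT748 (i : Nat) : Nat := Bool.rec (eL751 i) (eT747 i) (Nat.ble 770048 i)
noncomputable def eT749 (i : Nat) : Nat := Bool.rec (eT746 i) (eT748 i) (Nat.ble 769024 i)
noncomputable def eT750 (i : Nat) : Nat := Bool.rec (eL754 i) (eL755 i) (Nat.ble 773120 i)
noncomputable def eT751 (i : Nat) : Nat := Bool.rec (eL757 i) (eL758 i) (Nat.ble 776192 i)
noncomputable def eT752 (i : Nat) : Nat := Bool.rec (eL756 i) (eT751 i) (Nat.ble 775168 i)
noncomputable def eT753 (i : Nat) : Nat := Bool.rec (eT750 i) (eT752 i) (Nat.ble 774144 i)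
noncomputable def eT754 (i : Nat) : Nat := Bool.rec (eT749 i) (eT753 i) (Nat.ble 772096 i)
noncomputable def eT755 (i : Nat) : Nat := Bool.rec (eT745 i) (eT754 i) (Nat.ble 766976 i)
noncomputable def eT756 (i : Nat) : Nat := Bool.rec (eL759 i) (eL760 i) (Nat.ble 778240 i)
noncomputable def eT757 (i : Nat) : Nat := Bool.rec (eL762 i) (eL763 i) (Nat.ble 781312 i)
noncomputable def eT758 (i : Nat) : Nat := Bool.rec (eL761 i) (eT757 i) (Nat.ble 780288 i)
noncomputable def eT759 (i : Nat) : Nat := Bool.rec (eT756 i) (eT758 i) (Nat.ble 779264 i)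
noncomputable def eT760 (i : Nat) : Nat := Bool.rec (eL764 i) (eL765 i) (Nat.ble 783360 i)
noncomputable def eT761 (i : Nat) : Nat := Bool.rec (eL767 i) (eL768 i) (Nat.ble 786432 i)
noncomputable def eT762 (i : Nat) : Nat := Bool.rec (eL766 i) (eT761 i) (Nat.ble 785408 i)
noncomputable def eT763 (i : Nat) : Nat := Bool.rec (eT760 i) (eT762 i) (Nat.ble 784384 i)
noncomputable def eT764 (i : Nat) : Nat := Bool.rec (eT759 i) (eT763 i) (Nat.ble 782336 i)
noncomputable def eT765 (i : Nat) : Nat := Bool.rec (eL769 i) (eL770 i) (Nat.ble 788480 i)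
noncomputable def eT766 (i : Nat) : Nat := Bool.rec (eL772 i) (eL773 i) (Nat.ble 791552 i)
noncomputable def eT767 (i : Nat) : Nat := Bool.rec (eL771 i) (eT766 i) (Nat.ble 790528 i)
noncomputable def eT768 (i : Nat) : Nat := Bool.rec (eT765 i) (eT767 i) (Nat.ble 789504 i)
noncomputable def eT769 (i : Nat) : Nat := Bool.rec (eL775 i) (eL776 i) (Nat.ble 794624 i)
noncomputable def eT770 (i : Nat) : Nat := Bool.rec (eL774 i) (eT769 i) (Nat.ble 793600 i)
noncomputable def eT771 (i : Nat) : Nat := Bool.rec (eL778 i) (eL779 i) (Nat.ble 797696 i)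
noncomputable def eT772 (i : Nat) : Nat := Bool.rec (eL777 i) (eT771 i) (Nat.ble 796672 i)
noncomputable def eT773 (i : Nat) : Nat := Bool.rec (eT770 i) (eT772 i) (Nat.ble 795648 i)
noncomputable def eT774 (i : Nat) : Nat := Bool.rec (eT768 i) (eT773 i) (Nat.ble 792576 i)
noncomputable def eT775 (i : Nat) : Nat := Bool.rec (eT764 i) (eT774 i) (Nat.ble 787456 i)
noncomputable def eT776 (i : Nat) : Nat := Bool.rec (eT755 i) (eT775 i) (Nat.ble 777216 i)
noncomputable def eT777 (i : Nat) : Nat := Bool.rec (eL780 i) (eL781 i) (Nat.ble 799744 i)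
noncomputable def eT778 (i : Nat) : Nat := Bool.rec (eL783 i) (eL784 i) (Nat.ble 802816 i)
noncomputable def eT779 (i : Nat) : Nat := Bool.rec (eL782 i) (eT778 i) (Nat.ble 801792 i)
noncomputable def eT780 (i : Nat) : Nat := Bool.rec (eT777 i) (eT779 i) (Nat.ble 800768 i)
noncomputable def eT781 (i : Nat) : Nat := Bool.rec (eL785 i) (eL786 i) (Nat.ble 804864 i)
noncomputable def eT782 (i : Nat) : Nat := Bool.rec (eL788 i) (eL789 i) (Nat.ble 807936 i)
noncomputable def eT783 (i : Nat) : Nat := Bool.rec (eL787 i) (eT782 i) (Nat.ble 806912 i)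
noncomputable def eT784 (i : Nat) : Nat := Bool.rec (eT781 i) (eT783 i) (Nat.ble 805888 i)
noncomputable def eT785 (i : Nat) : Nat := Bool.rec (eT780 i) (eT784 i) (Nat.ble 803840 i)
noncomputable def eT786 (i : Nat) : Nat := Bool.rec (eL790 i) (eL791 i) (Nat.ble 809984 i)
noncomputable def eT787 (i : Nat) : Nat := Bool.rec (eL793 i) (eL794 i) (Nat.ble 813056 i)
noncomputable def eT788 (i : Nat) : Nat := Bool.rec (eL792 i) (eT787 i) (Nat.ble 812032 i)
noncomputable def eT789 (i : Nat) : Nat := Bool.rec (eT786 i) (eT788 i) (Nat.ble 811008 i)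
noncomputable def eT790 (i : Nat) : Nat := Bool.rec (eL795 i) (eL796 i) (Nat.ble 815104 i)
noncomputable def eT791 (i : Nat) : Nat := Bool.rec (eL798 i) (eL799 i) (Nat.ble 818176 i)
noncomputable def eT792 (i : Nat) : Nat := Bool.rec (eL797 i) (eT791 i) (Nat.ble 817152 i)
noncomputable def eT793 (i : Nat) : Nat := Bool.rec (eT790 i) (eT792 i) (Nat.ble 816128 i)
noncomputable def eT794 (i : Nat) : Nat := Bool.rec (eT789 i) (eT793 i) (Nat.ble 814080 i)
noncomputable def eT795 (i : Nat) : Nat := Bool.rec (eT785 i) (eT794 i) (Nat.ble 808960 i)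
noncomputable def eT796 (i : Nat) : Nat := Bool.rec (eL800 i) (eL801 i) (Nat.ble 820224 i)
noncomputable def eT797 (i : Nat) : Nat := Bool.rec (eL803 i) (eL804 i) (Nat.ble 823296 i)
noncomputable def eT798 (i : Nat) : Nat := Bool.rec (eL802 i) (eT797 i) (Nat.ble 822272 i)
noncomputable def eT799 (i : Nat) : Nat := Bool.rec (eT796 i) (eT798 i) (Nat.ble 821248 i)
noncomputable def eT800 (i : Nat) : Nat := Bool.rec (eL805 i) (eL806 i) (Nat.ble 825344 i)
noncomputable def eT801 (i : Nat) : Nat := Bool.rec (eL808 i) (eL809 i) (Nat.ble 828416 i)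
noncomputable def eT802 (i : Nat) : Nat := Bool.rec (eL807 i) (eT801 i) (Nat.ble 827392 i)
noncomputable def eT803 (i : Nat) : Nat := Bool.rec (eT800 i) (eT802 i) (Nat.ble 826368 i)
noncomputable def eT804 (i : Nat) : Nat := Bool.rec (eT799 i) (eT803 i) (Nat.ble 824320 i)
noncomputable def eT805 (i : Nat) : Nat := Bool.rec (eL810 i) (eL811 i) (Nat.ble 830464 i)
noncomputable def eT806 (i : Nat) : Nat := Bool.rec (eL813 i) (eL814 i) (Nat.ble 833536 i)
noncomputable def eT807 (i : Nat) : Nat := Bool.rec (eL812 i) (eT806 i) (Nat.ble 832512 i)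
noncomputable def eT808 (i : Nat) : Nat := Bool.rec (eT805 i) (eT807 i) (Nat.ble 831488 i)
noncomputable def eT809 (i : Nat) : Nat := Bool.rec (eL816 i) (eL817 i) (Nat.ble 836608 i)
noncomputable def eT810 (i : Nat) : Nat := Bool.rec (eL815 i) (eT809 i) (Nat.ble 835584 i)
noncomputable def eT811 (i : Nat) : Nat := Bool.rec (eL819 i) (eL820 i) (Nat.ble 839680 i)
noncomputable def eT812 (i : Nat) : Nat := Bool.rec (eL818 i) (eT811 i) (Nat.ble 838656 i)
noncomputable def eT813 (i : Nat) : Nat := Bool.rec (eT810 i) (eT812 i) (Nat.ble 837632 i)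
noncomputable def eT814 (i : Nat) : Nat := Bool.rec (eT808 i) (eT813 i) (Nat.ble 834560 i)
noncomputable def eT815 (i : Nat) : Nat := Bool.rec (eT804 i) (eT814 i) (Nat.ble 829440 i)
noncomputable def eT816 (i : Nat) : Nat := Bool.rec (eT795 i) (eT815 i) (Nat.ble 819200 i)
noncomputable def eT817 (i : Nat) : Nat := Bool.rec (eT776 i) (eT816 i) (Nat.ble 798720 i)
noncomputable def eT818 (i : Nat) : Nat := Bool.rec (eT736 i) (eT817 i) (Nat.ble 756736 i)
noncomputable def eT819 (i : Nat) : Nat := Bool.rec (eL821 i) (eL822 i) (Nat.ble 841728 i)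
noncomputable def eT820 (i : Nat) : Nat := Bool.rec (eL824 i) (eL825 i) (Nat.ble 844800 i)
noncomputable def eT821 (i : Nat) : Nat := Bool.rec (eL823 i) (eT820 i) (Nat.ble 843776 i)
noncomputable def eT822 (i : Nat) : Nat := Bool.rec (eT819 i) (eT821 i) (Nat.ble 842752 i)
noncomputable def eT823 (i : Nat) : Nat := Bool.rec (eL826 i) (eL827 i) (Nat.ble 846848 i)
noncomputable def eT824 (i : Nat) : Nat := Bool.rec (eL829 i) (eL830 i) (Nat.ble 849920 i)
noncomputable def eT825 (i : Nat) : Nat := Bool.rec (eL828 i) (eT824 i) (Nat.ble 848896 i)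
noncomputable def eT826 (i : Nat) : Nat := Bool.rec (eT823 i) (eT825 i) (Nat.ble 847872 i)
noncomputable def eT827 (i : Nat) : Nat := Bool.rec (eT822 i) (eT826 i) (Nat.ble 845824 i)
noncomputable def eT828 (i : Nat) : Nat := Bool.rec (eL831 i) (eL832 i) (Nat.ble 851968 i)
noncomputable def eT829 (i : Nat) : Nat := Bool.rec (eL834 i) (eL835 i) (Nat.ble 855040 i)
noncomputable def eT830 (i : Nat) : Nat := Bool.rec (eL833 i) (eT829 i) (Nat.ble 854016 i)
noncomputable def eT831 (i : Nat) : Nat := Bool.rec (eT828 i) (eT830 i) (Nat.ble 852992 i)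
noncomputable def eT832 (i : Nat) : Nat := Bool.rec (eL836 i) (eL837 i) (Nat.ble 857088 i)
noncomputable def eT833 (i : Nat) : Nat := Bool.rec (eL839 i) (eL840 i) (Nat.ble 860160 i)
noncomputable def eT834 (i : Nat) : Nat := Bool.rec (eL838 i) (eT833 i) (Nat.ble 859136 i)
noncomputable def eT835 (i : Nat) : Nat := Bool.rec (eT832 i) (eT834 i) (Nat.ble 858112 i)
noncomputable def eT836 (i : Nat) : Nat := Bool.rec (eT831 i) (eT835 i) (Nat.ble 856064 i)
noncomputable def eT837 (i : Nat) : Nat := Bool.rec (eT827 i) (eT836 i) (Nat.ble 850944 i)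
noncomputable def eT838 (i : Nat) : Nat := Bool.rec (eL841 i) (eL842 i) (Nat.ble 862208 i)
noncomputable def eT839 (i : Nat) : Nat := Bool.rec (eL844 i) (eL845 i) (Nat.ble 865280 i)
noncomputable def eT840 (i : Nat) : Nat := Bool.rec (eL843 i) (eT839 i) (Nat.ble 864256 i)
noncomputable def eT841 (i : Nat) : Nat := Bool.rec (eT838 i) (eT840 i) (Nat.ble 863232 i)
noncomputable def eT842 (i : Nat) : Nat := Bool.rec (eL846 i) (eL847 i) (Nat.ble 867328 i)
noncomputable def eT843 (i : Nat) : Nat := Bool.rec (eL849 i) (eL850 i) (Nat.ble 870400 i)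
noncomputable def eT844 (i : Nat) : Nat := Bool.rec (eL848 i) (eT843 i) (Nat.ble 869376 i)
noncomputable def eT845 (i : Nat) : Nat := Bool.rec (eT842 i) (eT844 i) (Nat.ble 868352 i)
noncomputable def eT846 (i : Nat) : Nat := Bool.rec (eT841 i) (eT845 i) (Nat.ble 866304 i)
noncomputable def eT847 (i : Nat) : Nat := Bool.rec (eL851 i) (eL852 i) (Nat.ble 872448 i)
noncomputable def eT848 (i : Nat) : Nat := Bool.rec (eL854 i) (eL855 i) (Nat.ble 875520 i)
noncomputable def eT849 (i : Nat) : Nat := Bool.rec (eL853 i) (eT848 i) (Nat.ble 874496 i)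
noncomputable def eT850 (i : Nat) : Nat := Bool.rec (eT847 i) (eT849 i) (Nat.ble 873472 i)
noncomputable def eT851 (i : Nat) : Nat := Bool.rec (eL857 i) (eL858 i) (Nat.ble 878592 i)
noncomputable def eT852 (i : Nat) : Nat := Bool.rec (eL856 i) (eT851 i) (Nat.ble 877568 i)
noncomputable def eT853 (i : Nat) : Nat := Bool.rec (eL860 i) (eL861 i) (Nat.ble 881664 i)
noncomputable def eT854 (i : Nat) : Nat := Bool.rec (eL859 i) (eT853 i) (Nat.ble 880640 i)
noncomputable def eT855 (i : Nat) : Nat := Bool.rec (eT852 i) (eT854 i) (Nat.ble 879616 i)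
noncomputable def eT856 (i : Nat) : Nat := Bool.rec (eT850 i) (eT855 i) (Nat.ble 876544 i)
noncomputable def eT857 (i : Nat) : Nat := Bool.rec (eT846 i) (eT856 i) (Nat.ble 871424 i)
noncomputable def eT858 (i : Nat) : Nat := Bool.rec (eT837 i) (eT857 i) (Nat.ble 861184 i)
noncomputable def eT859 (i : Nat) : Nat := Bool.rec (eL862 i) (eL863 i) (Nat.ble 883712 i)
noncomputable def eT860 (i : Nat) : Nat := Bool.rec (eL865 i) (eL866 i) (Nat.ble 886784 i)
noncomputable def eT861 (i : Nat) : Nat := Bool.rec (eL864 i) (eT860 i) (Nat.ble 885760 i)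
noncomputable def eT862 (i : Nat) : Nat := Bool.rec (eT859 i) (eT861 i) (Nat.ble 884736 i)
noncomputable def eT863 (i : Nat) : Nat := Bool.rec (eL867 i) (eL868 i) (Nat.ble 888832 i)
noncomputable def eT864 (i : Nat) : Nat := Bool.rec (eL870 i) (eL871 i) (Nat.ble 891904 i)
noncomputable def eT865 (i : Nat) : Nat := Bool.rec (eL869 i) (eT864 i) (Nat.ble 890880 i)
noncomputable def eT866 (i : Nat) : Nat := Bool.rec (eT863 i) (eT865 i) (Nat.ble 889856 i)
noncomputable def eT867 (i : Nat) : Nat := Bool.rec (eT862 i) (eT866 i) (Nat.ble 887808 i)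
noncomputable def eT868 (i : Nat) : Nat := Bool.rec (eL872 i) (eL873 i) (Nat.ble 893952 i)
noncomputable def eT869 (i : Nat) : Nat := Bool.rec (eL875 i) (eL876 i) (Nat.ble 897024 i)
noncomputable def eT870 (i : Nat) : Nat := Bool.rec (eL874 i) (eT869 i) (Nat.ble 896000 i)
noncomputable def eT871 (i : Nat) : Nat := Bool.rec (eT868 i) (eT870 i) (Nat.ble 894976 i)
noncomputable def eT872 (i : Nat) : Nat := Bool.rec (eL877 i) (eL878 i) (Nat.ble 899072 i)
noncomputable def eT873 (i : Nat) : Nat := Bool.rec (eL880 i) (eL881 i) (Nat.ble 902144 i)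
noncomputable def eT874 (i : Nat) : Nat := Bool.rec (eL879 i) (eT873 i) (Nat.ble 901120 i)
noncomputable def eT875 (i : Nat) : Nat := Bool.rec (eT872 i) (eT874 i) (Nat.ble 900096 i)
noncomputable def eT876 (i : Nat) : Nat := Bool.rec (eT871 i) (eT875 i) (Nat.ble 898048 i)
noncomputable def eT877 (i : Nat) : Nat := Bool.rec (eT867 i) (eT876 i) (Nat.ble 892928 i)
noncomputable def eT878 (i : Nat) : Nat := Bool.rec (eL882 i) (eL883 i) (Nat.ble 904192 i)
noncomputable def eT879 (i : Nat) : Nat := Bool.rec (eL885 i) (eL886 i) (Nat.ble 907264 i)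
noncomputable def eT880 (i : Nat) : Nat := Bool.rec (eL884 i) (eT879 i) (Nat.ble 906240 i)
noncomputable def eT881 (i : Nat) : Nat := Bool.rec (eT878 i) (eT880 i) (Nat.ble 905216 i)
noncomputable def eT882 (i : Nat) : Nat := Bool.rec (eL887 i) (eL888 i) (Nat.ble 909312 i)
noncomputable def eT883 (i : Nat) : Nat := Bool.rec (eL890 i) (eL891 i) (Nat.ble 912384 i)
noncomputable def eT884 (i : Nat) : Nat := Bool.rec (eL889 i) (eT883 i) (Nat.ble 911360 i)
noncomputable def eT885 (i : Nat) : Nat := Bool.rec (eT882 i) (eT884 i) (Nat.ble 910336 i)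
noncomputable def eT886 (i : Nat) : Nat := Bool.rec (eT881 i) (eT885 i) (Nat.ble 908288 i)
noncomputable def eT887 (i : Nat) : Nat := Bool.rec (eL892 i) (eL893 i) (Nat.ble 914432 i)
noncomputable def eT888 (i : Nat) : Nat := Bool.rec (eL895 i) (eL896 i) (Nat.ble 917504 i)
noncomputable def eT889 (i : Nat) : Nat := Bool.rec (eL894 i) (eT888 i) (Nat.ble 916480 i)
noncomputable def eT890 (i : Nat) : Nat := Bool.rec (eT887 i) (eT889 i) (Nat.ble 915456 i)
noncomputable def eT891 (i : Nat) : Nat := Bool.rec (eL898 i) (eL899 i) (Nat.ble 920576 i)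
noncomputable def eT892 (i : Nat) : Nat := Bool.rec (eL897 i) (eT891 i) (Nat.ble 919552 i)
noncomputable def eT893 (i : Nat) : Nat := Bool.rec (eL901 i) (eL902 i) (Nat.ble 923648 i)
noncomputable def eT894 (i : Nat) : Nat := Bool.rec (eL900 i) (eT893 i) (Nat.ble 922624 i)
noncomputable def eT895 (i : Nat) : Nat := Bool.rec (eT892 i) (eT894 i) (Nat.ble 921600 i)
noncomputable def eT896 (i : Nat) : Nat := Bool.rec (eT890 i) (eT895 i) (Nat.ble 918528 i)
noncomputable def eT897 (i : Nat) : Nat := Bool.rec (eT886 i) (eT896 i) (Nat.ble 913408 i)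
noncomputable def eT898 (i : Nat) : Nat := Bool.rec (eT877 i) (eT897 i) (Nat.ble 903168 i)
noncomputable def eT899 (i : Nat) : Nat := Bool.rec (eT858 i) (eT898 i) (Nat.ble 882688 i)
noncomputable def eT900 (i : Nat) : Nat := Bool.rec (eL903 i) (eL904 i) (Nat.ble 925696 i)
noncomputable def eT901 (i : Nat) : Nat := Bool.rec (eL906 i) (eL907 i) (Nat.ble 928768 i)
noncomputable def eT902 (i : Nat) : Nat := Bool.rec (eL905 i) (eT901 i) (Nat.ble 927744 i)
noncomputable def eT903 (i : Nat) : Nat := Bool.rec (eT900 i) (eT902 i) (Nat.ble 926720 i)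
noncomputable def eT904 (i : Nat) : Nat := Bool.rec (eL908 i) (eL909 i) (Nat.ble 930816 i)
noncomputable def eT905 (i : Nat) : Nat := Bool.rec (eL911 i) (eL912 i) (Nat.ble 933888 i)
noncomputable def eT906 (i : Nat) : Nat := Bool.rec (eL910 i) (eT905 i) (Nat.ble 932864 i)
noncomputable def eT907 (i : Nat) : Nat := Bool.rec (eT904 i) (eT906 i) (Nat.ble 931840 i)
noncomputable def eT908 (i : Nat) : Nat := Bool.rec (eT903 i) (eT907 i) (Nat.ble 929792 i)
noncomputable def eT909 (i : Nat) : Nat := Bool.rec (eL913 i) (eL914 i) (Nat.ble 935936 i)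
noncomputable def eT910 (i : Nat) : Nat := Bool.rec (eL916 i) (eL917 i) (Nat.ble 939008 i)
noncomputable def eT911 (i : Nat) : Nat := Bool.rec (eL915 i) (eT910 i) (Nat.ble 937984 i)
noncomputable def eT912 (i : Nat) : Nat := Bool.rec (eT909 i) (eT911 i) (Nat.ble 936960 i)
noncomputable def eT913 (i : Nat) : Nat := Bool.rec (eL918 i) (eL919 i) (Nat.ble 941056 i)
noncomputable def eT914 (i : Nat) : Nat := Bool.rec (eL921 i) (eL922 i) (Nat.ble 944128 i)
noncomputable def eT915 (i : Nat) : Nat := Bool.rec (eL920 i) (eT914 i) (Nat.ble 943104 i)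
noncomputable def eT916 (i : Nat) : Nat := Bool.rec (eT913 i) (eT915 i) (Nat.ble 942080 i)
noncomputable def eT917 (i : Nat) : Nat := Bool.rec (eT912 i) (eT916 i) (Nat.ble 940032 i)
noncomputable def eT918 (i : Nat) : Nat := Bool.rec (eT908 i) (eT917 i) (Nat.ble 934912 i)
noncomputable def eT919 (i : Nat) : Nat := Bool.rec (eL923 i) (eL924 i) (Nat.ble 946176 i)
noncomputable def eT920 (i : Nat) : Nat := Bool.rec (eL926 i) (eL927 i) (Nat.ble 949248 i)
noncomputable def eT921 (i : Nat) : Nat := Bool.rec (eL925 i) (eT920 i) (Nat.ble 948224 i)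
noncomputable def eT922 (i : Nat) : Nat := Bool.rec (eT919 i) (eT921 i) (Nat.ble 947200 i)
noncomputable def eT923 (i : Nat) : Nat := Bool.rec (eL928 i) (eL929 i) (Nat.ble 951296 i)
noncomputable def eT924 (i : Nat) : Nat := Bool.rec (eL931 i) (eL932 i) (Nat.ble 954368 i)
noncomputable def eT925 (i : Nat) : Nat := Bool.rec (eL930 i) (eT924 i) (Nat.ble 953344 i)
noncomputable def eT926 (i : Nat) : Nat := Bool.rec (eT923 i) (eT925 i) (Nat.ble 952320 i)
noncomputable def eT927 (i : Nat) : Nat := Bool.rec (eT922 i) (eT926 i) (Nat.ble 950272 i)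
noncomputable def eT928 (i : Nat) : Nat := Bool.rec (eL933 i) (eL934 i) (Nat.ble 956416 i)
noncomputable def eT929 (i : Nat) : Nat := Bool.rec (eL936 i) (eL937 i) (Nat.ble 959488 i)
noncomputable def eT930 (i : Nat) : Nat := Bool.rec (eL935 i) (eT929 i) (Nat.ble 958464 i)
noncomputable def eT931 (i : Nat) : Nat := Bool.rec (eT928 i) (eT930 i) (Nat.ble 957440 i)
noncomputable def eT932 (i : Nat) : Nat := Bool.rec (eL939 i) (eL940 i) (Nat.ble 962560 i)
noncomputable def eT933 (i : Nat) : Nat := Bool.rec (eL938 i) (eT932 i) (Nat.ble 961536 i)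
noncomputable def eT934 (i : Nat) : Nat := Bool.rec (eL942 i) (eL943 i) (Nat.ble 965632 i)
noncomputable def eT935 (i : Nat) : Nat := Bool.rec (eL941 i) (eT934 i) (Nat.ble 964608 i)
noncomputable def eT936 (i : Nat) : Nat := Bool.rec (eT933 i) (eT935 i) (Nat.ble 963584 i)
noncomputable def eT937 (i : Nat) : Nat := Bool.rec (eT931 i) (eT936 i) (Nat.ble 960512 i)
noncomputable def eT938 (i : Nat) : Nat := Bool.rec (eT927 i) (eT937 i) (Nat.ble 955392 i)
noncomputable def eT939 (i : Nat) : Nat := Bool.rec (eT918 i) (eT938 i) (Nat.ble 945152 i)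
noncomputable def eT940 (i : Nat) : Nat := Bool.rec (eL944 i) (eL945 i) (Nat.ble 967680 i)
noncomputable def eT941 (i : Nat) : Nat := Bool.rec (eL947 i) (eL948 i) (Nat.ble 970752 i)
noncomputable def eT942 (i : Nat) : Nat := Bool.rec (eL946 i) (eT941 i) (Nat.ble 969728 i)
noncomputable def eT943 (i : Nat) : Nat := Bool.rec (eT940 i) (eT942 i) (Nat.ble 968704 i)
noncomputable def eT944 (i : Nat) : Nat := Bool.rec (eL949 i) (eL950 i) (Nat.ble 972800 i)
noncomputable def eT945 (i : Nat) : Nat := Bool.rec (eL952 i) (eL953 i) (Nat.ble 975872 i)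
noncomputable def eT946 (i : Nat) : Nat := Bool.rec (eL951 i) (eT945 i) (Nat.ble 974848 i)
noncomputable def eT947 (i : Nat) : Nat := Bool.rec (eT944 i) (eT946 i) (Nat.ble 973824 i)
noncomputable def eT948 (i : Nat) : Nat := Bool.rec (eT943 i) (eT947 i) (Nat.ble 971776 i)
noncomputable def eT949 (i : Nat) : Nat := Bool.rec (eL954 i) (eL955 i) (Nat.ble 977920 i)
noncomputable def eT950 (i : Nat) : Nat := Bool.rec (eL957 i) (eL958 i) (Nat.ble 980992 i)
noncomputable def eT951 (i : Nat) : Nat := Bool.rec (eL956 i) (eT950 i) (Nat.ble 979968 i)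
noncomputable def eT952 (i : Nat) : Nat := Bool.rec (eT949 i) (eT951 i) (Nat.ble 978944 i)
noncomputable def eT953 (i : Nat) : Nat := Bool.rec (eL960 i) (eL961 i) (Nat.ble 984064 i)
noncomputable def eT954 (i : Nat) : Nat := Bool.rec (eL959 i) (eT953 i) (Nat.ble 983040 i)
noncomputable def eT955 (i : Nat) : Nat := Bool.rec (eL963 i) (eL964 i) (Nat.ble 987136 i)
noncomputable def eT956 (i : Nat) : Nat := Bool.rec (eL962 i) (eT955 i) (Nat.ble 986112 i)
noncomputable def eT957 (i : Nat) : Nat := Bool.rec (eT954 i) (eT956 i) (Nat.ble 985088 i)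
noncomputable def eT958 (i : Nat) : Nat := Bool.rec (eT952 i) (eT957 i) (Nat.ble 982016 i)
noncomputable def eT959 (i : Nat) : Nat := Bool.rec (eT948 i) (eT958 i) (Nat.ble 976896 i)
noncomputable def eT960 (i : Nat) : Nat := Bool.rec (eL965 i) (eL966 i) (Nat.ble 989184 i)
noncomputable def eT961 (i : Nat) : Nat := Bool.rec (eL968 i) (eL969 i) (Nat.ble 992256 i)
noncomputable def eT962 (i : Nat) : Nat := Bool.rec (eL967 i) (eT961 i) (Nat.ble 991232 i)
noncomputable def eT963 (i : Nat) : Nat := Bool.rec (eT960 i) (eT962 i) (Nat.ble 990208 i)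
noncomputable def eT964 (i : Nat) : Nat := Bool.rec (eL970 i) (eL971 i) (Nat.ble 994304 i)
noncomputable def eT965 (i : Nat) : Nat := Bool.rec (eL973 i) (eL974 i) (Nat.ble 997376 i)
noncomputable def eT966 (i : Nat) : Nat := Bool.rec (eL972 i) (eT965 i) (Nat.ble 996352 i)
noncomputable def eT967 (i : Nat) : Nat := Bool.rec (eT964 i) (eT966 i) (Nat.ble 995328 i)
noncomputable def eT968 (i : Nat) : Nat := Bool.rec (eT963 i) (eT967 i) (Nat.ble 993280 i)
noncomputable def eT969 (i : Nat) : Nat := Bool.rec (eL975 i) (eL976 i) (Nat.ble 999424 i)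
noncomputable def eT970 (i : Nat) : Nat := Bool.rec (eL978 i) (eL979 i) (Nat.ble 1002496 i)
noncomputable def eT971 (i : Nat) : Nat := Bool.rec (eL977 i) (eT970 i) (Nat.ble 1001472 i)
noncomputable def eT972 (i : Nat) : Nat := Bool.rec (eT969 i) (eT971 i) (Nat.ble 1000448 i)
noncomputable def eT973 (i : Nat) : Nat := Bool.rec (eL981 i) (eL982 i) (Nat.ble 1005568 i)
noncomputable def eT974 (i : Nat) : Nat := Bool.rec (eL980 i) (eT973 i) (Nat.ble 1004544 i)
noncomputable def eT975 (i : Nat) : Nat := Bool.rec (eL984 i) (eL985 i) (Nat.ble 1008640 i)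
noncomputable def eT976 (i : Nat) : Nat := Bool.rec (eL983 i) (eT975 i) (Nat.ble 1007616 i)
noncomputable def eT977 (i : Nat) : Nat := Bool.rec (eT974 i) (eT976 i) (Nat.ble 1006592 i)
noncomputable def eT978 (i : Nat) : Nat := Bool.rec (eT972 i) (eT977 i) (Nat.ble 1003520 i)
noncomputable def eT979 (i : Nat) : Nat := Bool.rec (eT968 i) (eT978 i) (Nat.ble 998400 i)
noncomputable def eT980 (i : Nat) : Nat := Bool.rec (eT959 i) (eT979 i) (Nat.ble 988160 i)
noncomputable def eT981 (i : Nat) : Nat := Bool.rec (eT939 i) (eT980 i) (Nat.ble 966656 i)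
noncomputable def eT982 (i : Nat) : Nat := Bool.rec (eT899 i) (eT981 i) (Nat.ble 924672 i)
noncomputable def eT983 (i : Nat) : Nat := Bool.rec (eT818 i) (eT982 i) (Nat.ble 840704 i)
noncomputable def eT984 (i : Nat) : Nat := Bool.rec (eL986 i) (eL987 i) (Nat.ble 1010688 i)
noncomputable def eT985 (i : Nat) : Nat := Bool.rec (eL989 i) (eL990 i) (Nat.ble 1013760 i)
noncomputable def eT986 (i : Nat) : Nat := Bool.rec (eL988 i) (eT985 i) (Nat.ble 1012736 i)
noncomputable def eT987 (i : Nat) : Nat := Bool.rec (eT984 i) (eT986 i) (Nat.ble 1011712 i)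
noncomputable def eT988 (i : Nat) : Nat := Bool.rec (eL991 i) (eL992 i) (Nat.ble 1015808 i)
noncomputable def eT989 (i : Nat) : Nat := Bool.rec (eL994 i) (eL995 i) (Nat.ble 1018880 i)
noncomputable def eT990 (i : Nat) : Nat := Bool.rec (eL993 i) (eT989 i) (Nat.ble 1017856 i)
noncomputable def eT991 (i : Nat) : Nat := Bool.rec (eT988 i) (eT990 i) (Nat.ble 1016832 i)
noncomputable def eT992 (i : Nat) : Nat := Bool.rec (eT987 i) (eT991 i) (Nat.ble 1014784 i)
noncomputable def eT993 (i : Nat) : Nat := Bool.rec (eL996 i) (eL997 i) (Nat.ble 1020928 i)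
noncomputable def eT994 (i : Nat) : Nat := Bool.rec (eL999 i) (eL1000 i) (Nat.ble 1024000 i)
noncomputable def eT995 (i : Nat) : Nat := Bool.rec (eL998 i) (eT994 i) (Nat.ble 1022976 i)
noncomputable def eT996 (i : Nat) : Nat := Bool.rec (eT993 i) (eT995 i) (Nat.ble 1021952 i)
noncomputable def eT997 (i : Nat) : Nat := Bool.rec (eL1001 i) (eL1002 i) (Nat.ble 1026048 i)
noncomputable def eT998 (i : Nat) : Nat := Bool.rec (eL1004 i) (eL1005 i) (Nat.ble 1029120 i)
noncomputable def eT999 (i : Nat) : Nat := Bool.rec (eL1003 i) (eT998 i) (Nat.ble 1028096 i)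
noncomputable def eT1000 (i : Nat) : Nat := Bool.rec (eT997 i) (eT999 i) (Nat.ble 1027072 i)
noncomputable def eT1001 (i : Nat) : Nat := Bool.rec (eT996 i) (eT1000 i) (Nat.ble 1025024 i)
noncomputable def eT1002 (i : Nat) : Nat := Bool.rec (eT992 i) (eT1001 i) (Nat.ble 1019904 i)
noncomputable def eT1003 (i : Nat) : Nat := Bool.rec (eL1006 i) (eL1007 i) (Nat.ble 1031168 i)
noncomputable def eT1004 (i : Nat) : Nat := Bool.rec (eL1009 i) (eL1010 i) (Nat.ble 1034240 i)
noncomputable def eT1005 (i : Nat) : Nat := Bool.rec (eL1008 i) (eT1004 i) (Nat.ble 1033216 i)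
noncomputable def eT1006 (i : Nat) : Nat := Bool.rec (eT1003 i) (eT1005 i) (Nat.ble 1032192 i)
noncomputable def eT1007 (i : Nat) : Nat := Bool.rec (eL1011 i) (eL1012 i) (Nat.ble 1036288 i)
noncomputable def eT1008 (i : Nat) : Nat := Bool.rec (eL1014 i) (eL1015 i) (Nat.ble 1039360 i)
noncomputable def eT1009 (i : Nat) : Nat := Bool.rec (eL1013 i) (eT1008 i) (Nat.ble 1038336 i)
noncomputable def eT1010 (i : Nat) : Nat := Bool.rec (eT1007 i) (eT1009 i) (Nat.ble 1037312 i)
noncomputable def eT1011 (i : Nat) : Nat := Bool.rec (eT1006 i) (eT1010 i) (Nat.ble 1035264 i)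
noncomputable def eT1012 (i : Nat) : Nat := Bool.rec (eL1016 i) (eL1017 i) (Nat.ble 1041408 i)
noncomputable def eT1013 (i : Nat) : Nat := Bool.rec (eL1019 i) (eL1020 i) (Nat.ble 1044480 i)
noncomputable def eT1014 (i : Nat) : Nat := Bool.rec (eL1018 i) (eT1013 i) (Nat.ble 1043456 i)
noncomputable def eT1015 (i : Nat) : Nat := Bool.rec (eT1012 i) (eT1014 i) (Nat.ble 1042432 i)
noncomputable def eT1016 (i : Nat) : Nat := Bool.rec (eL1022 i) (eL1023 i) (Nat.ble 1047552 i)
noncomputable def eT1017 (i : Nat) : Nat := Bool.rec (eL1021 i) (eT1016 i) (Nat.ble 1046528 i)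
noncomputable def eT1018 (i : Nat) : Nat := Bool.rec (eL1025 i) (eL1026 i) (Nat.ble 1050624 i)
noncomputable def eT1019 (i : Nat) : Nat := Bool.rec (eL1024 i) (eT1018 i) (Nat.ble 1049600 i)
noncomputable def eT1020 (i : Nat) : Nat := Bool.rec (eT1017 i) (eT1019 i) (Nat.ble 1048576 i)
noncomputable def eT1021 (i : Nat) : Nat := Bool.rec (eT1015 i) (eT1020 i) (Nat.ble 1045504 i)
noncomputable def eT1022 (i : Nat) : Nat := Bool.rec (eT1011 i) (eT1021 i) (Nat.ble 1040384 i)
noncomputable def eT1023 (i : Nat) : Nat := Bool.rec (eT1002 i) (eT1022 i) (Nat.ble 1030144 i)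
noncomputable def eT1024 (i : Nat) : Nat := Bool.rec (eL1027 i) (eL1028 i) (Nat.ble 1052672 i)
noncomputable def eT1025 (i : Nat) : Nat := Bool.rec (eL1030 i) (eL1031 i) (Nat.ble 1055744 i)
noncomputable def eT1026 (i : Nat) : Nat := Bool.rec (eL1029 i) (eT1025 i) (Nat.ble 1054720 i)
noncomputable def eT1027 (i : Nat) : Nat := Bool.rec (eT1024 i) (eT1026 i) (Nat.ble 1053696 i)
noncomputable def eT1028 (i : Nat) : Nat := Bool.rec (eL1032 i) (eL1033 i) (Nat.ble 1057792 i)
noncomputable def eT1029 (i : Nat) : Nat := Bool.rec (eL1035 i) (eL1036 i) (Nat.ble 1060864 i)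
noncomputable def eT1030 (i : Nat) : Nat := Bool.rec (eL1034 i) (eT1029 i) (Nat.ble 1059840 i)
noncomputable def eT1031 (i : Nat) : Nat := Bool.rec (eT1028 i) (eT1030 i) (Nat.ble 1058816 i)
noncomputable def eT1032 (i : Nat) : Nat := Bool.rec (eT1027 i) (eT1031 i) (Nat.ble 1056768 i)
noncomputable def eT1033 (i : Nat) : Nat := Bool.rec (eL1037 i) (eL1038 i) (Nat.ble 1062912 i)
noncomputable def eT1034 (i : Nat) : Nat := Bool.rec (eL1040 i) (eL1041 i) (Nat.ble 1065984 i)
noncomputable def eT1035 (i : Nat) : Nat := Bool.rec (eL1039 i) (eT1034 i) (Nat.ble 1064960 i)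
noncomputable def eT1036 (i : Nat) : Nat := Bool.rec (eT1033 i) (eT1035 i) (Nat.ble 1063936 i)
noncomputable def eT1037 (i : Nat) : Nat := Bool.rec (eL1042 i) (eL1043 i) (Nat.ble 1068032 i)
noncomputable def eT1038 (i : Nat) : Nat := Bool.rec (eL1045 i) (eL1046 i) (Nat.ble 1071104 i)
noncomputable def eT1039 (i : Nat) : Nat := Bool.rec (eL1044 i) (eT1038 i) (Nat.ble 1070080 i)
noncomputable def eT1040 (i : Nat) : Nat := Bool.rec (eT1037 i) (eT1039 i) (Nat.ble 1069056 i)
noncomputable def eT1041 (i : Nat) : Nat := Bool.rec (eT1036 i) (eT1040 i) (Nat.ble 1067008 i)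
noncomputable def eT1042 (i : Nat) : Nat := Bool.rec (eT1032 i) (eT1041 i) (Nat.ble 1061888 i)
noncomputable def eT1043 (i : Nat) : Nat := Bool.rec (eL1047 i) (eL1048 i) (Nat.ble 1073152 i)
noncomputable def eT1044 (i : Nat) : Nat := Bool.rec (eL1050 i) (eL1051 i) (Nat.ble 1076224 i)
noncomputable def eT1045 (i : Nat) : Nat := Bool.rec (eL1049 i) (eT1044 i) (Nat.ble 1075200 i)
noncomputable def eT1046 (i : Nat) : Nat := Bool.rec (eT1043 i) (eT1045 i) (Nat.ble 1074176 i)
noncomputable def eT1047 (i : Nat) : Nat := Bool.rec (eL1052 i) (eL1053 i) (Nat.ble 1078272 i)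
noncomputable def eT1048 (i : Nat) : Nat := Bool.rec (eL1055 i) (eL1056 i) (Nat.ble 1081344 i)
noncomputable def eT1049 (i : Nat) : Nat := Bool.rec (eL1054 i) (eT1048 i) (Nat.ble 1080320 i)
noncomputable def eT1050 (i : Nat) : Nat := Bool.rec (eT1047 i) (eT1049 i) (Nat.ble 1079296 i)
noncomputable def eT1051 (i : Nat) : Nat := Bool.rec (eT1046 i) (eT1050 i) (Nat.ble 1077248 i)
noncomputable def eT1052 (i : Nat) : Nat := Bool.rec (eL1057 i) (eL1058 i) (Nat.ble 1083392 i)
noncomputable def eT1053 (i : Nat) : Nat := Bool.rec (eL1060 i) (eL1061 i) (Nat.ble 1086464 i)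
noncomputable def eT1054 (i : Nat) : Nat := Bool.rec (eL1059 i) (eT1053 i) (Nat.ble 1085440 i)
noncomputable def eT1055 (i : Nat) : Nat := Bool.rec (eT1052 i) (eT1054 i) (Nat.ble 1084416 i)
noncomputable def eT1056 (i : Nat) : Nat := Bool.rec (eL1063 i) (eL1064 i) (Nat.ble 1089536 i)
noncomputable def eT1057 (i : Nat) : Nat := Bool.rec (eL1062 i) (eT1056 i) (Nat.ble 1088512 i)
noncomputable def eT1058 (i : Nat) : Nat := Bool.rec (eL1066 i) (eL1067 i) (Nat.ble 1092608 i)
noncomputable def eT1059 (i : Nat) : Nat := Bool.rec (eL1065 i) (eT1058 i) (Nat.ble 1091584 i)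
noncomputable def eT1060 (i : Nat) : Nat := Bool.rec (eT1057 i) (eT1059 i) (Nat.ble 1090560 i)
noncomputable def eT1061 (i : Nat) : Nat := Bool.rec (eT1055 i) (eT1060 i) (Nat.ble 1087488 i)
noncomputable def eT1062 (i : Nat) : Nat := Bool.rec (eT1051 i) (eT1061 i) (Nat.ble 1082368 i)
noncomputable def eT1063 (i : Nat) : Nat := Bool.rec (eT1042 i) (eT1062 i) (Nat.ble 1072128 i)
noncomputable def eT1064 (i : Nat) : Nat := Bool.rec (eT1023 i) (eT1063 i) (Nat.ble 1051648 i)
noncomputable def eT1065 (i : Nat) : Nat := Bool.rec (eL1068 i) (eL1069 i) (Nat.ble 1094656 i)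
noncomputable def eT1066 (i : Nat) : Nat := Bool.rec (eL1071 i) (eL1072 i) (Nat.ble 1097728 i)
noncomputable def eT1067 (i : Nat) : Nat := Bool.rec (eL1070 i) (eT1066 i) (Nat.ble 1096704 i)
noncomputable def eT1068 (i : Nat) : Nat := Bool.rec (eT1065 i) (eT1067 i) (Nat.ble 1095680 i)
noncomputable def eT1069 (i : Nat) : Nat := Bool.rec (eL1073 i) (eL1074 i) (Nat.ble 1099776 i)
noncomputable def eT1070 (i : Nat) : Nat := Bool.rec (eL1076 i) (eL1077 i) (Nat.ble 1102848 i)
noncomputable def eT1071 (i : Nat) : Nat := Bool.rec (eL1075 i) (eT1070 i) (Nat.ble 1101824 i)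
noncomputable def eT1072 (i : Nat) : Nat := Bool.rec (eT1069 i) (eT1071 i) (Nat.ble 1100800 i)
noncomputable def eT1073 (i : Nat) : Nat := Bool.rec (eT1068 i) (eT1072 i) (Nat.ble 1098752 i)
noncomputable def eT1074 (i : Nat) : Nat := Bool.rec (eL1078 i) (eL1079 i) (Nat.ble 1104896 i)
noncomputable def eT1075 (i : Nat) : Nat := Bool.rec (eL1081 i) (eL1082 i) (Nat.ble 1107968 i)
noncomputable def eT1076 (i : Nat) : Nat := Bool.rec (eL1080 i) (eT1075 i) (Nat.ble 1106944 i)
noncomputable def eT1077 (i : Nat) : Nat := Bool.rec (eT1074 i) (eT1076 i) (Nat.ble 1105920 i)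
noncomputable def eT1078 (i : Nat) : Nat := Bool.rec (eL1083 i) (eL1084 i) (Nat.ble 1110016 i)
noncomputable def eT1079 (i : Nat) : Nat := Bool.rec (eL1086 i) (eL1087 i) (Nat.ble 1113088 i)
noncomputable def eT1080 (i : Nat) : Nat := Bool.rec (eL1085 i) (eT1079 i) (Nat.ble 1112064 i)
noncomputable def eT1081 (i : Nat) : Nat := Bool.rec (eT1078 i) (eT1080 i) (Nat.ble 1111040 i)
noncomputable def eT1082 (i : Nat) : Nat := Bool.rec (eT1077 i) (eT1081 i) (Nat.ble 1108992 i)
noncomputable def eT1083 (i : Nat) : Nat := Bool.rec (eT1073 i) (eT1082 i) (Nat.ble 1103872 i)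
noncomputable def eT1084 (i : Nat) : Nat := Bool.rec (eL1088 i) (eL1089 i) (Nat.ble 1115136 i)
noncomputable def eT1085 (i : Nat) : Nat := Bool.rec (eL1091 i) (eL1092 i) (Nat.ble 1118208 i)
noncomputable def eT1086 (i : Nat) : Nat := Bool.rec (eL1090 i) (eT1085 i) (Nat.ble 1117184 i)
noncomputable def eT1087 (i : Nat) : Nat := Bool.rec (eT1084 i) (eT1086 i) (Nat.ble 1116160 i)
noncomputable def eT1088 (i : Nat) : Nat := Bool.rec (eL1093 i) (eL1094 i) (Nat.ble 1120256 i)
noncomputable def eT1089 (i : Nat) : Nat := Bool.rec (eL1096 i) (eL1097 i) (Nat.ble 1123328 i)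
noncomputable def eT1090 (i : Nat) : Nat := Bool.rec (eL1095 i) (eT1089 i) (Nat.ble 1122304 i)
noncomputable def eT1091 (i : Nat) : Nat := Bool.rec (eT1088 i) (eT1090 i) (Nat.ble 1121280 i)
noncomputable def eT1092 (i : Nat) : Nat := Bool.rec (eT1087 i) (eT1091 i) (Nat.ble 1119232 i)
noncomputable def eT1093 (i : Nat) : Nat := Bool.rec (eL1098 i) (eL1099 i) (Nat.ble 1125376 i)
noncomputable def eT1094 (i : Nat) : Nat := Bool.rec (eL1101 i) (eL1102 i) (Nat.ble 1128448 i)
noncomputable def eT1095 (i : Nat) : Nat := Bool.rec (eL1100 i) (eT1094 i) (Nat.ble 1127424 i)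
noncomputable def eT1096 (i : Nat) : Nat := Bool.rec (eT1093 i) (eT1095 i) (Nat.ble 1126400 i)
noncomputable def eT1097 (i : Nat) : Nat := Bool.rec (eL1104 i) (eL1105 i) (Nat.ble 1131520 i)
noncomputable def eT1098 (i : Nat) : Nat := Bool.rec (eL1103 i) (eT1097 i) (Nat.ble 1130496 i)
noncomputable def eT1099 (i : Nat) : Nat := Bool.rec (eL1107 i) (eL1108 i) (Nat.ble 1134592 i)
noncomputable def eT1100 (i : Nat) : Nat := Bool.rec (eL1106 i) (eT1099 i) (Nat.ble 1133568 i)
noncomputable def eT1101 (i : Nat) : Nat := Bool.rec (eT1098 i) (eT1100 i) (Nat.ble 1132544 i)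
noncomputable def eT1102 (i : Nat) : Nat := Bool.rec (eT1096 i) (eT1101 i) (Nat.ble 1129472 i)
noncomputable def eT1103 (i : Nat) : Nat := Bool.rec (eT1092 i) (eT1102 i) (Nat.ble 1124352 i)
noncomputable def eT1104 (i : Nat) : Nat := Bool.rec (eT1083 i) (eT1103 i) (Nat.ble 1114112 i)
noncomputable def eT1105 (i : Nat) : Nat := Bool.rec (eL1109 i) (eL1110 i) (Nat.ble 1136640 i)
noncomputable def eT1106 (i : Nat) : Nat := Bool.rec (eL1112 i) (eL1113 i) (Nat.ble 1139712 i)
noncomputable def eT1107 (i : Nat) : Nat := Bool.rec (eL1111 i) (eT1106 i) (Nat.ble 1138688 i)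
noncomputable def eT1108 (i : Nat) : Nat := Bool.rec (eT1105 i) (eT1107 i) (Nat.ble 1137664 i)
noncomputable def eT1109 (i : Nat) : Nat := Bool.rec (eL1114 i) (eL1115 i) (Nat.ble 1141760 i)
noncomputable def eT1110 (i : Nat) : Nat := Bool.rec (eL1117 i) (eL1118 i) (Nat.ble 1144832 i)
noncomputable def eT1111 (i : Nat) : Nat := Bool.rec (eL1116 i) (eT1110 i) (Nat.ble 1143808 i)
noncomputable def eT1112 (i : Nat) : Nat := Bool.rec (eT1109 i) (eT1111 i) (Nat.ble 1142784 i)
noncomputable def eT1113 (i : Nat) : Nat := Bool.rec (eT1108 i) (eT1112 i) (Nat.ble 1140736 i)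
noncomputable def eT1114 (i : Nat) : Nat := Bool.rec (eL1119 i) (eL1120 i) (Nat.ble 1146880 i)
noncomputable def eT1115 (i : Nat) : Nat := Bool.rec (eL1122 i) (eL1123 i) (Nat.ble 1149952 i)
noncomputable def eT1116 (i : Nat) : Nat := Bool.rec (eL1121 i) (eT1115 i) (Nat.ble 1148928 i)
noncomputable def eT1117 (i : Nat) : Nat := Bool.rec (eT1114 i) (eT1116 i) (Nat.ble 1147904 i)
noncomputable def eT1118 (i : Nat) : Nat := Bool.rec (eL1124 i) (eL1125 i) (Nat.ble 1152000 i)
noncomputable def eT1119 (i : Nat) : Nat := Bool.rec (eL1127 i) (eL1128 i) (Nat.ble 1155072 i)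
noncomputable def eT1120 (i : Nat) : Nat := Bool.rec (eL1126 i) (eT1119 i) (Nat.ble 1154048 i)
noncomputable def eT1121 (i : Nat) : Nat := Bool.rec (eT1118 i) (eT1120 i) (Nat.ble 1153024 i)
noncomputable def eT1122 (i : Nat) : Nat := Bool.rec (eT1117 i) (eT1121 i) (Nat.ble 1150976 i)
noncomputable def eT1123 (i : Nat) : Nat := Bool.rec (eT1113 i) (eT1122 i) (Nat.ble 1145856 i)
noncomputable def eT1124 (i : Nat) : Nat := Bool.rec (eL1129 i) (eL1130 i) (Nat.ble 1157120 i)
noncomputable def eT1125 (i : Nat) : Nat := Bool.rec (eL1132 i) (eL1133 i) (Nat.ble 1160192 i)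
noncomputable def eT1126 (i : Nat) : Nat := Bool.rec (eL1131 i) (eT1125 i) (Nat.ble 1159168 i)
noncomputable def eT1127 (i : Nat) : Nat := Bool.rec (eT1124 i) (eT1126 i) (Nat.ble 1158144 i)
noncomputable def eT1128 (i : Nat) : Nat := Bool.rec (eL1134 i) (eL1135 i) (Nat.ble 1162240 i)
noncomputable def eT1129 (i : Nat) : Nat := Bool.rec (eL1137 i) (eL1138 i) (Nat.ble 1165312 i)
noncomputable def eT1130 (i : Nat) : Nat := Bool.rec (eL1136 i) (eT1129 i) (Nat.ble 1164288 i)
noncomputable def eT1131 (i : Nat) : Nat := Bool.rec (eT1128 i) (eT1130 i) (Nat.ble 1163264 i)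
noncomputable def eT1132 (i : Nat) : Nat := Bool.rec (eT1127 i) (eT1131 i) (Nat.ble 1161216 i)
noncomputable def eT1133 (i : Nat) : Nat := Bool.rec (eL1139 i) (eL1140 i) (Nat.ble 1167360 i)
noncomputable def eT1134 (i : Nat) : Nat := Bool.rec (eL1142 i) (eL1143 i) (Nat.ble 1170432 i)
noncomputable def eT1135 (i : Nat) : Nat := Bool.rec (eL1141 i) (eT1134 i) (Nat.ble 1169408 i)
noncomputable def eT1136 (i : Nat) : Nat := Bool.rec (eT1133 i) (eT1135 i) (Nat.ble 1168384 i)
noncomputable def eT1137 (i : Nat) : Nat := Bool.rec (eL1145 i) (eL1146 i) (Nat.ble 1173504 i)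
noncomputable def eT1138 (i : Nat) : Nat := Bool.rec (eL1144 i) (eT1137 i) (Nat.ble 1172480 i)
noncomputable def eT1139 (i : Nat) : Nat := Bool.rec (eL1148 i) (eL1149 i) (Nat.ble 1176576 i)
noncomputable def eT1140 (i : Nat) : Nat := Bool.rec (eL1147 i) (eT1139 i) (Nat.ble 1175552 i)
noncomputable def eT1141 (i : Nat) : Nat := Bool.rec (eT1138 i) (eT1140 i) (Nat.ble 1174528 i)
noncomputable def eT1142 (i : Nat) : Nat := Bool.rec (eT1136 i) (eT1141 i) (Nat.ble 1171456 i)
noncomputable def eT1143 (i : Nat) : Nat := Bool.rec (eT1132 i) (eT1142 i) (Nat.ble 1166336 i)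
noncomputable def eT1144 (i : Nat) : Nat := Bool.rec (eT1123 i) (eT1143 i) (Nat.ble 1156096 i)
noncomputable def eT1145 (i : Nat) : Nat := Bool.rec (eT1104 i) (eT1144 i) (Nat.ble 1135616 i)
noncomputable def eT1146 (i : Nat) : Nat := Bool.rec (eT1064 i) (eT1145 i) (Nat.ble 1093632 i)
noncomputable def eT1147 (i : Nat) : Nat := Bool.rec (eL1150 i) (eL1151 i) (Nat.ble 1178624 i)
noncomputable def eT1148 (i : Nat) : Nat := Bool.rec (eL1153 i) (eL1154 i) (Nat.ble 1181696 i)
noncomputable def eT1149 (i : Nat) : Nat := Bool.rec (eL1152 i) (eT1148 i) (Nat.ble 1180672 i)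
noncomputable def eT1150 (i : Nat) : Nat := Bool.rec (eT1147 i) (eT1149 i) (Nat.ble 1179648 i)
noncomputable def eT1151 (i : Nat) : Nat := Bool.rec (eL1155 i) (eL1156 i) (Nat.ble 1183744 i)
noncomputable def eT1152 (i : Nat) : Nat := Bool.rec (eL1158 i) (eL1159 i) (Nat.ble 1186816 i)
noncomputable def eT1153 (i : Nat) : Nat := Bool.rec (eL1157 i) (eT1152 i) (Nat.ble 1185792 i)
noncomputable def eT1154 (i : Nat) : Nat := Bool.rec (eT1151 i) (eT1153 i) (Nat.ble 1184768 i)
noncomputable def eT1155 (i : Nat) : Nat := Bool.rec (eT1150 i) (eT1154 i) (Nat.ble 1182720 i)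
noncomputable def eT1156 (i : Nat) : Nat := Bool.rec (eL1160 i) (eL1161 i) (Nat.ble 1188864 i)
noncomputable def eT1157 (i : Nat) : Nat := Bool.rec (eL1163 i) (eL1164 i) (Nat.ble 1191936 i)
noncomputable def eT1158 (i : Nat) : Nat := Bool.rec (eL1162 i) (eT1157 i) (Nat.ble 1190912 i)
noncomputable def eT1159 (i : Nat) : Nat := Bool.rec (eT1156 i) (eT1158 i) (Nat.ble 1189888 i)
noncomputable def eT1160 (i : Nat) : Nat := Bool.rec (eL1165 i) (eL1166 i) (Nat.ble 1193984 i)
noncomputable def eT1161 (i : Nat) : Nat := Bool.rec (eL1168 i) (eL1169 i) (Nat.ble 1197056 i)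
noncomputable def eT1162 (i : Nat) : Nat := Bool.rec (eL1167 i) (eT1161 i) (Nat.ble 1196032 i)
noncomputable def eT1163 (i : Nat) : Nat := Bool.rec (eT1160 i) (eT1162 i) (Nat.ble 1195008 i)
noncomputable def eT1164 (i : Nat) : Nat := Bool.rec (eT1159 i) (eT1163 i) (Nat.ble 1192960 i)
noncomputable def eT1165 (i : Nat) : Nat := Bool.rec (eT1155 i) (eT1164 i) (Nat.ble 1187840 i)
noncomputable def eT1166 (i : Nat) : Nat := Bool.rec (eL1170 i) (eL1171 i) (Nat.ble 1199104 i)
noncomputable def eT1167 (i : Nat) : Nat := Bool.rec (eL1173 i) (eL1174 i) (Nat.ble 1202176 i)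
noncomputable def eT1168 (i : Nat) : Nat := Bool.rec (eL1172 i) (eT1167 i) (Nat.ble 1201152 i)
noncomputable def eT1169 (i : Nat) : Nat := Bool.rec (eT1166 i) (eT1168 i) (Nat.ble 1200128 i)
noncomputable def eT1170 (i : Nat) : Nat := Bool.rec (eL1175 i) (eL1176 i) (Nat.ble 1204224 i)
noncomputable def eT1171 (i : Nat) : Nat := Bool.rec (eL1178 i) (eL1179 i) (Nat.ble 1207296 i)
noncomputable def eT1172 (i : Nat) : Nat := Bool.rec (eL1177 i) (eT1171 i) (Nat.ble 1206272 i)
noncomputable def eT1173 (i : Nat) : Nat := Bool.rec (eT1170 i) (eT1172 i) (Nat.ble 1205248 i)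
noncomputable def eT1174 (i : Nat) : Nat := Bool.rec (eT1169 i) (eT1173 i) (Nat.ble 1203200 i)
noncomputable def eT1175 (i : Nat) : Nat := Bool.rec (eL1180 i) (eL1181 i) (Nat.ble 1209344 i)
noncomputable def eT1176 (i : Nat) : Nat := Bool.rec (eL1183 i) (eL1184 i) (Nat.ble 1212416 i)
noncomputable def eT1177 (i : Nat) : Nat := Bool.rec (eL1182 i) (eT1176 i) (Nat.ble 1211392 i)
noncomputable def eT1178 (i : Nat) : Nat := Bool.rec (eT1175 i) (eT1177 i) (Nat.ble 1210368 i)
noncomputable def eT1179 (i : Nat) : Nat := Bool.rec (eL1186 i) (eL1187 i) (Nat.ble 1215488 i)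
noncomputable def eT1180 (i : Nat) : Nat := Bool.rec (eL1185 i) (eT1179 i) (Nat.ble 1214464 i)
noncomputable def eT1181 (i : Nat) : Nat := Bool.rec (eL1189 i) (eL1190 i) (Nat.ble 1218560 i)
noncomputable def eT1182 (i : Nat) : Nat := Bool.rec (eL1188 i) (eT1181 i) (Nat.ble 1217536 i)
noncomputable def eT1183 (i : Nat) : Nat := Bool.rec (eT1180 i) (eT1182 i) (Nat.ble 1216512 i)
noncomputable def eT1184 (i : Nat) : Nat := Bool.rec (eT1178 i) (eT1183 i) (Nat.ble 1213440 i)
noncomputable def eT1185 (i : Nat) : Nat := Bool.rec (eT1174 i) (eT1184 i) (Nat.ble 1208320 i)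
noncomputable def eT1186 (i : Nat) : Nat := Bool.rec (eT1165 i) (eT1185 i) (Nat.ble 1198080 i)
noncomputable def eT1187 (i : Nat) : Nat := Bool.rec (eL1191 i) (eL1192 i) (Nat.ble 1220608 i)
noncomputable def eT1188 (i : Nat) : Nat := Bool.rec (eL1194 i) (eL1195 i) (Nat.ble 1223680 i)
noncomputable def eT1189 (i : Nat) : Nat := Bool.rec (eL1193 i) (eT1188 i) (Nat.ble 1222656 i)
noncomputable def eT1190 (i : Nat) : Nat := Bool.rec (eT1187 i) (eT1189 i) (Nat.ble 1221632 i)
noncomputable def eT1191 (i : Nat) : Nat := Bool.rec (eL1196 i) (eL1197 i) (Nat.ble 1225728 i)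
noncomputable def eT1192 (i : Nat) : Nat := Bool.rec (eL1199 i) (eL1200 i) (Nat.ble 1228800 i)
noncomputable def eT1193 (i : Nat) : Nat := Bool.rec (eL1198 i) (eT1192 i) (Nat.ble 1227776 i)
noncomputable def eT1194 (i : Nat) : Nat := Bool.rec (eT1191 i) (eT1193 i) (Nat.ble 1226752 i)
noncomputable def eT1195 (i : Nat) : Nat := Bool.rec (eT1190 i) (eT1194 i) (Nat.ble 1224704 i)
noncomputable def eT1196 (i : Nat) : Nat := Bool.rec (eL1201 i) (eL1202 i) (Nat.ble 1230848 i)
noncomputable def eT1197 (i : Nat) : Nat := Bool.rec (eL1204 i) (eL1205 i) (Nat.ble 1233920 i)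
noncomputable def eT1198 (i : Nat) : Nat := Bool.rec (eL1203 i) (eT1197 i) (Nat.ble 1232896 i)
noncomputable def eT1199 (i : Nat) : Nat := Bool.rec (eT1196 i) (eT1198 i) (Nat.ble 1231872 i)
noncomputable def eT1200 (i : Nat) : Nat := Bool.rec (eL1206 i) (eL1207 i) (Nat.ble 1235968 i)
noncomputable def eT1201 (i : Nat) : Nat := Bool.rec (eL1209 i) (eL1210 i) (Nat.ble 1239040 i)
noncomputable def eT1202 (i : Nat) : Nat := Bool.rec (eL1208 i) (eT1201 i) (Nat.ble 1238016 i)
noncomputable def eT1203 (i : Nat) : Nat := Bool.rec (eT1200 i) (eT1202 i) (Nat.ble 1236992 i)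
noncomputable def eT1204 (i : Nat) : Nat := Bool.rec (eT1199 i) (eT1203 i) (Nat.ble 1234944 i)
noncomputable def eT1205 (i : Nat) : Nat := Bool.rec (eT1195 i) (eT1204 i) (Nat.ble 1229824 i)
noncomputable def eT1206 (i : Nat) : Nat := Bool.rec (eL1211 i) (eL1212 i) (Nat.ble 1241088 i)
noncomputable def eT1207 (i : Nat) : Nat := Bool.rec (eL1214 i) (eL1215 i) (Nat.ble 1244160 i)
noncomputable def eT1208 (i : Nat) : Nat := Bool.rec (eL1213 i) (eT1207 i) (Nat.ble 1243136 i)
noncomputable def eT1209 (i : Nat) : Nat := Bool.rec (eT1206 i) (eT1208 i) (Nat.ble 1242112 i)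
noncomputable def eT1210 (i : Nat) : Nat := Bool.rec (eL1216 i) (eL1217 i) (Nat.ble 1246208 i)
noncomputable def eT1211 (i : Nat) : Nat := Bool.rec (eL1219 i) (eL1220 i) (Nat.ble 1249280 i)
noncomputable def eT1212 (i : Nat) : Nat := Bool.rec (eL1218 i) (eT1211 i) (Nat.ble 1248256 i)
noncomputable def eT1213 (i : Nat) : Nat := Bool.rec (eT1210 i) (eT1212 i) (Nat.ble 1247232 i)
noncomputable def eT1214 (i : Nat) : Nat := Bool.rec (eT1209 i) (eT1213 i) (Nat.ble 1245184 i)
noncomputable def eT1215 (i : Nat) : Nat := Bool.rec (eL1221 i) (eL1222 i) (Nat.ble 1251328 i)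
noncomputable def eT1216 (i : Nat) : Nat := Bool.rec (eL1224 i) (eL1225 i) (Nat.ble 1254400 i)
noncomputable def eT1217 (i : Nat) : Nat := Bool.rec (eL1223 i) (eT1216 i) (Nat.ble 1253376 i)
noncomputable def eT1218 (i : Nat) : Nat := Bool.rec (eT1215 i) (eT1217 i) (Nat.ble 1252352 i)
noncomputable def eT1219 (i : Nat) : Nat := Bool.rec (eL1227 i) (eL1228 i) (Nat.ble 1257472 i)
noncomputable def eT1220 (i : Nat) : Nat := Bool.rec (eL1226 i) (eT1219 i) (Nat.ble 1256448 i)
noncomputable def eT1221 (i : Nat) : Nat := Bool.rec (eL1230 i) (eL1231 i) (Nat.ble 1260544 i)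
noncomputable def eT1222 (i : Nat) : Nat := Bool.rec (eL1229 i) (eT1221 i) (Nat.ble 1259520 i)
noncomputable def eT1223 (i : Nat) : Nat := Bool.rec (eT1220 i) (eT1222 i) (Nat.ble 1258496 i)
noncomputable def eT1224 (i : Nat) : Nat := Bool.rec (eT1218 i) (eT1223 i) (Nat.ble 1255424 i)
noncomputable def eT1225 (i : Nat) : Nat := Bool.rec (eT1214 i) (eT1224 i) (Nat.ble 1250304 i)
noncomputable def eT1226 (i : Nat) : Nat := Bool.rec (eT1205 i) (eT1225 i) (Nat.ble 1240064 i)
noncomputable def eT1227 (i : Nat) : Nat := Bool.rec (eT1186 i) (eT1226 i) (Nat.ble 1219584 i)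
noncomputable def eT1228 (i : Nat) : Nat := Bool.rec (eL1232 i) (eL1233 i) (Nat.ble 1262592 i)
noncomputable def eT1229 (i : Nat) : Nat := Bool.rec (eL1235 i) (eL1236 i) (Nat.ble 1265664 i)
noncomputable def eT1230 (i : Nat) : Nat := Bool.rec (eL1234 i) (eT1229 i) (Nat.ble 1264640 i)
noncomputable def eT1231 (i : Nat) : Nat := Bool.rec (eT1228 i) (eT1230 i) (Nat.ble 1263616 i)
noncomputable def eT1232 (i : Nat) : Nat := Bool.rec (eL1237 i) (eL1238 i) (Nat.ble 1267712 i)
noncomputable def eT1233 (i : Nat) : Nat := Bool.rec (eL1240 i) (eL1241 i) (Nat.ble 1270784 i)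
noncomputable def eT1234 (i : Nat) : Nat := Bool.rec (eL1239 i) (eT1233 i) (Nat.ble 1269760 i)
noncomputable def eT1235 (i : Nat) : Nat := Bool.rec (eT1232 i) (eT1234 i) (Nat.ble 1268736 i)
noncomputable def eT1236 (i : Nat) : Nat := Bool.rec (eT1231 i) (eT1235 i) (Nat.ble 1266688 i)
noncomputable def eT1237 (i : Nat) : Nat := Bool.rec (eL1242 i) (eL1243 i) (Nat.ble 1272832 i)
noncomputable def eT1238 (i : Nat) : Nat := Bool.rec (eL1245 i) (eL1246 i) (Nat.ble 1275904 i)
noncomputable def eT1239 (i : Nat) : Nat := Bool.rec (eL1244 i) (eT1238 i) (Nat.ble 1274880 i)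
noncomputable def eT1240 (i : Nat) : Nat := Bool.rec (eT1237 i) (eT1239 i) (Nat.ble 1273856 i)
noncomputable def eT1241 (i : Nat) : Nat := Bool.rec (eL1247 i) (eL1248 i) (Nat.ble 1277952 i)
noncomputable def eT1242 (i : Nat) : Nat := Bool.rec (eL1250 i) (eL1251 i) (Nat.ble 1281024 i)
noncomputable def eT1243 (i : Nat) : Nat := Bool.rec (eL1249 i) (eT1242 i) (Nat.ble 1280000 i)
noncomputable def eT1244 (i : Nat) : Nat := Bool.rec (eT1241 i) (eT1243 i) (Nat.ble 1278976 i)
noncomputable def eT1245 (i : Nat) : Nat := Bool.rec (eT1240 i) (eT1244 i) (Nat.ble 1276928 i)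
noncomputable def eT1246 (i : Nat) : Nat := Bool.rec (eT1236 i) (eT1245 i) (Nat.ble 1271808 i)
noncomputable def eT1247 (i : Nat) : Nat := Bool.rec (eL1252 i) (eL1253 i) (Nat.ble 1283072 i)
noncomputable def eT1248 (i : Nat) : Nat := Bool.rec (eL1255 i) (eL1256 i) (Nat.ble 1286144 i)
noncomputable def eT1249 (i : Nat) : Nat := Bool.rec (eL1254 i) (eT1248 i) (Nat.ble 1285120 i)
noncomputable def eT1250 (i : Nat) : Nat := Bool.rec (eT1247 i) (eT1249 i) (Nat.ble 1284096 i)
noncomputable def eT1251 (i : Nat) : Nat := Bool.rec (eL1257 i) (eL1258 i) (Nat.ble 1288192 i)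
noncomputable def eT1252 (i : Nat) : Nat := Bool.rec (eL1260 i) (eL1261 i) (Nat.ble 1291264 i)
noncomputable def eT1253 (i : Nat) : Nat := Bool.rec (eL1259 i) (eT1252 i) (Nat.ble 1290240 i)
noncomputable def eT1254 (i : Nat) : Nat := Bool.rec (eT1251 i) (eT1253 i) (Nat.ble 1289216 i)
noncomputable def eT1255 (i : Nat) : Nat := Bool.rec (eT1250 i) (eT1254 i) (Nat.ble 1287168 i)
noncomputable def eT1256 (i : Nat) : Nat := Bool.rec (eL1262 i) (eL1263 i) (Nat.ble 1293312 i)
noncomputable def eT1257 (i : Nat) : Nat := Bool.rec (eL1265 i) (eL1266 i) (Nat.ble 1296384 i)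
noncomputable def eT1258 (i : Nat) : Nat := Bool.rec (eL1264 i) (eT1257 i) (Nat.ble 1295360 i)
noncomputable def eT1259 (i : Nat) : Nat := Bool.rec (eT1256 i) (eT1258 i) (Nat.ble 1294336 i)
noncomputable def eT1260 (i : Nat) : Nat := Bool.rec (eL1268 i) (eL1269 i) (Nat.ble 1299456 i)
noncomputable def eT1261 (i : Nat) : Nat := Bool.rec (eL1267 i) (eT1260 i) (Nat.ble 1298432 i)
noncomputable def eT1262 (i : Nat) : Nat := Bool.rec (eL1271 i) (eL1272 i) (Nat.ble 1302528 i)
noncomputable def eT1263 (i : Nat) : Nat := Bool.rec (eL1270 i) (eT1262 i) (Nat.ble 1301504 i)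
noncomputable def eT1264 (i : Nat) : Nat := Bool.rec (eT1261 i) (eT1263 i) (Nat.ble 1300480 i)
noncomputable def eT1265 (i : Nat) : Nat := Bool.rec (eT1259 i) (eT1264 i) (Nat.ble 1297408 i)
noncomputable def eT1266 (i : Nat) : Nat := Bool.rec (eT1255 i) (eT1265 i) (Nat.ble 1292288 i)
noncomputable def eT1267 (i : Nat) : Nat := Bool.rec (eT1246 i) (eT1266 i) (Nat.ble 1282048 i)
noncomputable def eT1268 (i : Nat) : Nat := Bool.rec (eL1273 i) (eL1274 i) (Nat.ble 1304576 i)
noncomputable def eT1269 (i : Nat) : Nat := Bool.rec (eL1276 i) (eL1277 i) (Nat.ble 1307648 i)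
noncomputable def eT1270 (i : Nat) : Nat := Bool.rec (eL1275 i) (eT1269 i) (Nat.ble 1306624 i)
noncomputable def eT1271 (i : Nat) : Nat := Bool.rec (eT1268 i) (eT1270 i) (Nat.ble 1305600 i)
noncomputable def eT1272 (i : Nat) : Nat := Bool.rec (eL1278 i) (eL1279 i) (Nat.ble 1309696 i)
noncomputable def eT1273 (i : Nat) : Nat := Bool.rec (eL1281 i) (eL1282 i) (Nat.ble 1312768 i)
noncomputable def eT1274 (i : Nat) : Nat := Bool.rec (eL1280 i) (eT1273 i) (Nat.ble 1311744 i)
noncomputable def eT1275 (i : Nat) : Nat := Bool.rec (eT1272 i) (eT1274 i) (Nat.ble 1310720 i)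
noncomputable def eT1276 (i : Nat) : Nat := Bool.rec (eT1271 i) (eT1275 i) (Nat.ble 1308672 i)
noncomputable def eT1277 (i : Nat) : Nat := Bool.rec (eL1283 i) (eL1284 i) (Nat.ble 1314816 i)
noncomputable def eT1278 (i : Nat) : Nat := Bool.rec (eL1286 i) (eL1287 i) (Nat.ble 1317888 i)
noncomputable def eT1279 (i : Nat) : Nat := Bool.rec (eL1285 i) (eT1278 i) (Nat.ble 1316864 i)
noncomputable def eT1280 (i : Nat) : Nat := Bool.rec (eT1277 i) (eT1279 i) (Nat.ble 1315840 i)
noncomputable def eT1281 (i : Nat) : Nat := Bool.rec (eL1289 i) (eL1290 i) (Nat.ble 1320960 i)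
noncomputable def eT1282 (i : Nat) : Nat := Bool.rec (eL1288 i) (eT1281 i) (Nat.ble 1319936 i)
noncomputable def eT1283 (i : Nat) : Nat := Bool.rec (eL1292 i) (eL1293 i) (Nat.ble 1324032 i)
noncomputable def eT1284 (i : Nat) : Nat := Bool.rec (eL1291 i) (eT1283 i) (Nat.ble 1323008 i)
noncomputable def eT1285 (i : Nat) : Nat := Bool.rec (eT1282 i) (eT1284 i) (Nat.ble 1321984 i)
noncomputable def eT1286 (i : Nat) : Nat := Bool.rec (eT1280 i) (eT1285 i) (Nat.ble 1318912 i)
noncomputable def eT1287 (i : Nat) : Nat := Bool.rec (eT1276 i) (eT1286 i) (Nat.ble 1313792 i)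
noncomputable def eT1288 (i : Nat) : Nat := Bool.rec (eL1294 i) (eL1295 i) (Nat.ble 1326080 i)
noncomputable def eT1289 (i : Nat) : Nat := Bool.rec (eL1297 i) (eL1298 i) (Nat.ble 1329152 i)
noncomputable def eT1290 (i : Nat) : Nat := Bool.rec (eL1296 i) (eT1289 i) (Nat.ble 1328128 i)
noncomputable def eT1291 (i : Nat) : Nat := Bool.rec (eT1288 i) (eT1290 i) (Nat.ble 1327104 i)
noncomputable def eT1292 (i : Nat) : Nat := Bool.rec (eL1299 i) (eL1300 i) (Nat.ble 1331200 i)
noncomputable def eT1293 (i : Nat) : Nat := Bool.rec (eL1302 i) (eL1303 i) (Nat.ble 1334272 i)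
noncomputable def eT1294 (i : Nat) : Nat := Bool.rec (eL1301 i) (eT1293 i) (Nat.ble 1333248 i)
noncomputable def eT1295 (i : Nat) : Nat := Bool.rec (eT1292 i) (eT1294 i) (Nat.ble 1332224 i)
noncomputable def eT1296 (i : Nat) : Nat := Bool.rec (eT1291 i) (eT1295 i) (Nat.ble 1330176 i)
noncomputable def eT1297 (i : Nat) : Nat := Bool.rec (eL1304 i) (eL1305 i) (Nat.ble 1336320 i)
noncomputable def eT1298 (i : Nat) : Nat := Bool.rec (eL1307 i) (eL1308 i) (Nat.ble 1339392 i)
noncomputable def eT1299 (i : Nat) : Nat := Bool.rec (eL1306 i) (eT1298 i) (Nat.ble 1338368 i)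
noncomputable def eT1300 (i : Nat) : Nat := Bool.rec (eT1297 i) (eT1299 i) (Nat.ble 1337344 i)
noncomputable def eT1301 (i : Nat) : Nat := Bool.rec (eL1310 i) (eL1311 i) (Nat.ble 1342464 i)
noncomputable def eT1302 (i : Nat) : Nat := Bool.rec (eL1309 i) (eT1301 i) (Nat.ble 1341440 i)
noncomputable def eT1303 (i : Nat) : Nat := Bool.rec (eL1313 i) (eL1314 i) (Nat.ble 1345536 i)
noncomputable def eT1304 (i : Nat) : Nat := Bool.rec (eL1312 i) (eT1303 i) (Nat.ble 1344512 i)
noncomputable def eT1305 (i : Nat) : Nat := Bool.rec (eT1302 i) (eT1304 i) (Nat.ble 1343488 i)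
noncomputable def eT1306 (i : Nat) : Nat := Bool.rec (eT1300 i) (eT1305 i) (Nat.ble 1340416 i)
noncomputable def eT1307 (i : Nat) : Nat := Bool.rec (eT1296 i) (eT1306 i) (Nat.ble 1335296 i)
noncomputable def eT1308 (i : Nat) : Nat := Bool.rec (eT1287 i) (eT1307 i) (Nat.ble 1325056 i)
noncomputable def eT1309 (i : Nat) : Nat := Bool.rec (eT1267 i) (eT1308 i) (Nat.ble 1303552 i)
noncomputable def eT1310 (i : Nat) : Nat := Bool.rec (eT1227 i) (eT1309 i) (Nat.ble 1261568 i)
noncomputable def eT1311 (i : Nat) : Nat := Bool.rec (eT1146 i) (eT1310 i) (Nat.ble 1177600 i)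
noncomputable def eT1312 (i : Nat) : Nat := Bool.rec (eT983 i) (eT1311 i) (Nat.ble 1009664 i)
noncomputable def eT1313 (i : Nat) : Nat := Bool.rec (eT655 i) (eT1312 i) (Nat.ble 672768 i)
noncomputable def eT1314 (i : Nat) : Nat := Bool.rec (eL1315 i) (eL1316 i) (Nat.ble 1347584 i)
noncomputable def eT1315 (i : Nat) : Nat := Bool.rec (eL1318 i) (eL1319 i) (Nat.ble 1350656 i)
noncomputable def eT1316 (i : Nat) : Nat := Bool.rec (eL1317 i) (eT1315 i) (Nat.ble 1349632 i)
noncomputable def eT1317 (i : Nat) : Nat := Bool.rec (eT1314 i) (eT1316 i) (Nat.ble 1348608 i)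
noncomputable def eT1318 (i : Nat) : Nat := Bool.rec (eL1320 i) (eL1321 i) (Nat.ble 1352704 i)
noncomputable def eT1319 (i : Nat) : Nat := Bool.rec (eL1323 i) (eL1324 i) (Nat.ble 1355776 i)
noncomputable def eT1320 (i : Nat) : Nat := Bool.rec (eL1322 i) (eT1319 i) (Nat.ble 1354752 i)
noncomputable def eT1321 (i : Nat) : Nat := Bool.rec (eT1318 i) (eT1320 i) (Nat.ble 1353728 i)
noncomputable def eT1322 (i : Nat) : Nat := Bool.rec (eT1317 i) (eT1321 i) (Nat.ble 1351680 i)
noncomputable def eT1323 (i : Nat) : Nat := Bool.rec (eL1325 i) (eL1326 i) (Nat.ble 1357824 i)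
noncomputable def eT1324 (i : Nat) : Nat := Bool.rec (eL1328 i) (eL1329 i) (Nat.ble 1360896 i)
noncomputable def eT1325 (i : Nat) : Nat := Bool.rec (eL1327 i) (eT1324 i) (Nat.ble 1359872 i)
noncomputable def eT1326 (i : Nat) : Nat := Bool.rec (eT1323 i) (eT1325 i) (Nat.ble 1358848 i)
noncomputable def eT1327 (i : Nat) : Nat := Bool.rec (eL1330 i) (eL1331 i) (Nat.ble 1362944 i)
noncomputable def eT1328 (i : Nat) : Nat := Bool.rec (eL1333 i) (eL1334 i) (Nat.ble 1366016 i)
noncomputable def eT1329 (i : Nat) : Nat := Bool.rec (eL1332 i) (eT1328 i) (Nat.ble 1364992 i)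
noncomputable def eT1330 (i : Nat) : Nat := Bool.rec (eT1327 i) (eT1329 i) (Nat.ble 1363968 i)
noncomputable def eT1331 (i : Nat) : Nat := Bool.rec (eT1326 i) (eT1330 i) (Nat.ble 1361920 i)
noncomputable def eT1332 (i : Nat) : Nat := Bool.rec (eT1322 i) (eT1331 i) (Nat.ble 1356800 i)
noncomputable def eT1333 (i : Nat) : Nat := Bool.rec (eL1335 i) (eL1336 i) (Nat.ble 1368064 i)
noncomputable def eT1334 (i : Nat) : Nat := Bool.rec (eL1338 i) (eL1339 i) (Nat.ble 1371136 i)
noncomputable def eT1335 (i : Nat) : Nat := Bool.rec (eL1337 i) (eT1334 i) (Nat.ble 1370112 i)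
noncomputable def eT1336 (i : Nat) : Nat := Bool.rec (eT1333 i) (eT1335 i) (Nat.ble 1369088 i)
noncomputable def eT1337 (i : Nat) : Nat := Bool.rec (eL1340 i) (eL1341 i) (Nat.ble 1373184 i)
noncomputable def eT1338 (i : Nat) : Nat := Bool.rec (eL1343 i) (eL1344 i) (Nat.ble 1376256 i)
noncomputable def eT1339 (i : Nat) : Nat := Bool.rec (eL1342 i) (eT1338 i) (Nat.ble 1375232 i)
noncomputable def eT1340 (i : Nat) : Nat := Bool.rec (eT1337 i) (eT1339 i) (Nat.ble 1374208 i)
noncomputable def eT1341 (i : Nat) : Nat := Bool.rec (eT1336 i) (eT1340 i) (Nat.ble 1372160 i)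
noncomputable def eT1342 (i : Nat) : Nat := Bool.rec (eL1345 i) (eL1346 i) (Nat.ble 1378304 i)
noncomputable def eT1343 (i : Nat) : Nat := Bool.rec (eL1348 i) (eL1349 i) (Nat.ble 1381376 i)
noncomputable def eT1344 (i : Nat) : Nat := Bool.rec (eL1347 i) (eT1343 i) (Nat.ble 1380352 i)
noncomputable def eT1345 (i : Nat) : Nat := Bool.rec (eT1342 i) (eT1344 i) (Nat.ble 1379328 i)
noncomputable def eT1346 (i : Nat) : Nat := Bool.rec (eL1351 i) (eL1352 i) (Nat.ble 1384448 i)
noncomputable def eT1347 (i : Nat) : Nat := Bool.rec (eL1350 i) (eT1346 i) (Nat.ble 1383424 i)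
noncomputable def eT1348 (i : Nat) : Nat := Bool.rec (eL1354 i) (eL1355 i) (Nat.ble 1387520 i)
noncomputable def eT1349 (i : Nat) : Nat := Bool.rec (eL1353 i) (eT1348 i) (Nat.ble 1386496 i)
noncomputable def eT1350 (i : Nat) : Nat := Bool.rec (eT1347 i) (eT1349 i) (Nat.ble 1385472 i)
noncomputable def eT1351 (i : Nat) : Nat := Bool.rec (eT1345 i) (eT1350 i) (Nat.ble 1382400 i)
noncomputable def eT1352 (i : Nat) : Nat := Bool.rec (eT1341 i) (eT1351 i) (Nat.ble 1377280 i)
noncomputable def eT1353 (i : Nat) : Nat := Bool.rec (eT1332 i) (eT1352 i) (Nat.ble 1367040 i)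
noncomputable def eT1354 (i : Nat) : Nat := Bool.rec (eL1356 i) (eL1357 i) (Nat.ble 1389568 i)
noncomputable def eT1355 (i : Nat) : Nat := Bool.rec (eL1359 i) (eL1360 i) (Nat.ble 1392640 i)
noncomputable def eT1356 (i : Nat) : Nat := Bool.rec (eL1358 i) (eT1355 i) (Nat.ble 1391616 i)
noncomputable def eT1357 (i : Nat) : Nat := Bool.rec (eT1354 i) (eT1356 i) (Nat.ble 1390592 i)
noncomputable def eT1358 (i : Nat) : Nat := Bool.rec (eL1361 i) (eL1362 i) (Nat.ble 1394688 i)
noncomputable def eT1359 (i : Nat) : Nat := Bool.rec (eL1364 i) (eL1365 i) (Nat.ble 1397760 i)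
noncomputable def eT1360 (i : Nat) : Nat := Bool.rec (eL1363 i) (eT1359 i) (Nat.ble 1396736 i)
noncomputable def eT1361 (i : Nat) : Nat := Bool.rec (eT1358 i) (eT1360 i) (Nat.ble 1395712 i)
noncomputable def eT1362 (i : Nat) : Nat := Bool.rec (eT1357 i) (eT1361 i) (Nat.ble 1393664 i)
noncomputable def eT1363 (i : Nat) : Nat := Bool.rec (eL1366 i) (eL1367 i) (Nat.ble 1399808 i)
noncomputable def eT1364 (i : Nat) : Nat := Bool.rec (eL1369 i) (eL1370 i) (Nat.ble 1402880 i)
noncomputable def eT1365 (i : Nat) : Nat := Bool.rec (eL1368 i) (eT1364 i) (Nat.ble 1401856 i)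
noncomputable def eT1366 (i : Nat) : Nat := Bool.rec (eT1363 i) (eT1365 i) (Nat.ble 1400832 i)
noncomputable def eT1367 (i : Nat) : Nat := Bool.rec (eL1371 i) (eL1372 i) (Nat.ble 1404928 i)
noncomputable def eT1368 (i : Nat) : Nat := Bool.rec (eL1374 i) (eL1375 i) (Nat.ble 1408000 i)
noncomputable def eT1369 (i : Nat) : Nat := Bool.rec (eL1373 i) (eT1368 i) (Nat.ble 1406976 i)
noncomputable def eT1370 (i : Nat) : Nat := Bool.rec (eT1367 i) (eT1369 i) (Nat.ble 1405952 i)
noncomputable def eT1371 (i : Nat) : Nat := Bool.rec (eT1366 i) (eT1370 i) (Nat.ble 1403904 i)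
noncomputable def eT1372 (i : Nat) : Nat := Bool.rec (eT1362 i) (eT1371 i) (Nat.ble 1398784 i)
noncomputable def eT1373 (i : Nat) : Nat := Bool.rec (eL1376 i) (eL1377 i) (Nat.ble 1410048 i)
noncomputable def eT1374 (i : Nat) : Nat := Bool.rec (eL1379 i) (eL1380 i) (Nat.ble 1413120 i)
noncomputable def eT1375 (i : Nat) : Nat := Bool.rec (eL1378 i) (eT1374 i) (Nat.ble 1412096 i)
noncomputable def eT1376 (i : Nat) : Nat := Bool.rec (eT1373 i) (eT1375 i) (Nat.ble 1411072 i)
noncomputable def eT1377 (i : Nat) : Nat := Bool.rec (eL1381 i) (eL1382 i) (Nat.ble 1415168 i)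
noncomputable def eT1378 (i : Nat) : Nat := Bool.rec (eL1384 i) (eL1385 i) (Nat.ble 1418240 i)
noncomputable def eT1379 (i : Nat) : Nat := Bool.rec (eL1383 i) (eT1378 i) (Nat.ble 1417216 i)
noncomputable def eT1380 (i : Nat) : Nat := Bool.rec (eT1377 i) (eT1379 i) (Nat.ble 1416192 i)
noncomputable def eT1381 (i : Nat) : Nat := Bool.rec (eT1376 i) (eT1380 i) (Nat.ble 1414144 i)
noncomputable def eT1382 (i : Nat) : Nat := Bool.rec (eL1386 i) (eL1387 i) (Nat.ble 1420288 i)
noncomputable def eT1383 (i : Nat) : Nat := Bool.rec (eL1389 i) (eL1390 i) (Nat.ble 1423360 i)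
noncomputable def eT1384 (i : Nat) : Nat := Bool.rec (eL1388 i) (eT1383 i) (Nat.ble 1422336 i)
noncomputable def eT1385 (i : Nat) : Nat := Bool.rec (eT1382 i) (eT1384 i) (Nat.ble 1421312 i)
noncomputable def eT1386 (i : Nat) : Nat := Bool.rec (eL1392 i) (eL1393 i) (Nat.ble 1426432 i)
noncomputable def eT1387 (i : Nat) : Nat := Bool.rec (eL1391 i) (eT1386 i) (Nat.ble 1425408 i)
noncomputable def eT1388 (i : Nat) : Nat := Bool.rec (eL1395 i) (eL1396 i) (Nat.ble 1429504 i)
noncomputable def eT1389 (i : Nat) : Nat := Bool.rec (eL1394 i) (eT1388 i) (Nat.ble 1428480 i)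
noncomputable def eT1390 (i : Nat) : Nat := Bool.rec (eT1387 i) (eT1389 i) (Nat.ble 1427456 i)
noncomputable def eT1391 (i : Nat) : Nat := Bool.rec (eT1385 i) (eT1390 i) (Nat.ble 1424384 i)
noncomputable def eT1392 (i : Nat) : Nat := Bool.rec (eT1381 i) (eT1391 i) (Nat.ble 1419264 i)
noncomputable def eT1393 (i : Nat) : Nat := Bool.rec (eT1372 i) (eT1392 i) (Nat.ble 1409024 i)
noncomputable def eT1394 (i : Nat) : Nat := Bool.rec (eT1353 i) (eT1393 i) (Nat.ble 1388544 i)
noncomputable def eT1395 (i : Nat) : Nat := Bool.rec (eL1397 i) (eL1398 i) (Nat.ble 1431552 i)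
noncomputable def eT1396 (i : Nat) : Nat := Bool.rec (eL1400 i) (eL1401 i) (Nat.ble 1434624 i)
noncomputable def eT1397 (i : Nat) : Nat := Bool.rec (eL1399 i) (eT1396 i) (Nat.ble 1433600 i)
noncomputable def eT1398 (i : Nat) : Nat := Bool.rec (eT1395 i) (eT1397 i) (Nat.ble 1432576 i)
noncomputable def eT1399 (i : Nat) : Nat := Bool.rec (eL1402 i) (eL1403 i) (Nat.ble 1436672 i)
noncomputable def eT1400 (i : Nat) : Nat := Bool.rec (eL1405 i) (eL1406 i) (Nat.ble 1439744 i)
noncomputable def eT1401 (i : Nat) : Nat := Bool.rec (eL1404 i) (eT1400 i) (Nat.ble 1438720 i)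
noncomputable def eT1402 (i : Nat) : Nat := Bool.rec (eT1399 i) (eT1401 i) (Nat.ble 1437696 i)
noncomputable def eT1403 (i : Nat) : Nat := Bool.rec (eT1398 i) (eT1402 i) (Nat.ble 1435648 i)
noncomputable def eT1404 (i : Nat) : Nat := Bool.rec (eL1407 i) (eL1408 i) (Nat.ble 1441792 i)
noncomputable def eT1405 (i : Nat) : Nat := Bool.rec (eL1410 i) (eL1411 i) (Nat.ble 1444864 i)
noncomputable def eT1406 (i : Nat) : Nat := Bool.rec (eL1409 i) (eT1405 i) (Nat.ble 1443840 i)
noncomputable def eT1407 (i : Nat) : Nat := Bool.rec (eT1404 i) (eT1406 i) (Nat.ble 1442816 i)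
noncomputable def eT1408 (i : Nat) : Nat := Bool.rec (eL1412 i) (eL1413 i) (Nat.ble 1446912 i)
noncomputable def eT1409 (i : Nat) : Nat := Bool.rec (eL1415 i) (eL1416 i) (Nat.ble 1449984 i)
noncomputable def eT1410 (i : Nat) : Nat := Bool.rec (eL1414 i) (eT1409 i) (Nat.ble 1448960 i)
noncomputable def eT1411 (i : Nat) : Nat := Bool.rec (eT1408 i) (eT1410 i) (Nat.ble 1447936 i)
noncomputable def eT1412 (i : Nat) : Nat := Bool.rec (eT1407 i) (eT1411 i) (Nat.ble 1445888 i)
noncomputable def eT1413 (i : Nat) : Nat := Bool.rec (eT1403 i) (eT1412 i) (Nat.ble 1440768 i)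
noncomputable def eT1414 (i : Nat) : Nat := Bool.rec (eL1417 i) (eL1418 i) (Nat.ble 1452032 i)
noncomputable def eT1415 (i : Nat) : Nat := Bool.rec (eL1420 i) (eL1421 i) (Nat.ble 1455104 i)
noncomputable def eT1416 (i : Nat) : Nat := Bool.rec (eL1419 i) (eT1415 i) (Nat.ble 1454080 i)
noncomputable def eT1417 (i : Nat) : Nat := Bool.rec (eT1414 i) (eT1416 i) (Nat.ble 1453056 i)
noncomputable def eT1418 (i : Nat) : Nat := Bool.rec (eL1422 i) (eL1423 i) (Nat.ble 1457152 i)
noncomputable def eT1419 (i : Nat) : Nat := Bool.rec (eL1425 i) (eL1426 i) (Nat.ble 1460224 i)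
noncomputable def eT1420 (i : Nat) : Nat := Bool.rec (eL1424 i) (eT1419 i) (Nat.ble 1459200 i)
noncomputable def eT1421 (i : Nat) : Nat := Bool.rec (eT1418 i) (eT1420 i) (Nat.ble 1458176 i)
noncomputable def eT1422 (i : Nat) : Nat := Bool.rec (eT1417 i) (eT1421 i) (Nat.ble 1456128 i)
noncomputable def eT1423 (i : Nat) : Nat := Bool.rec (eL1427 i) (eL1428 i) (Nat.ble 1462272 i)
noncomputable def eT1424 (i : Nat) : Nat := Bool.rec (eL1430 i) (eL1431 i) (Nat.ble 1465344 i)
noncomputable def eT1425 (i : Nat) : Nat := Bool.rec (eL1429 i) (eT1424 i) (Nat.ble 1464320 i)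
noncomputable def eT1426 (i : Nat) : Nat := Bool.rec (eT1423 i) (eT1425 i) (Nat.ble 1463296 i)
noncomputable def eT1427 (i : Nat) : Nat := Bool.rec (eL1433 i) (eL1434 i) (Nat.ble 1468416 i)
noncomputable def eT1428 (i : Nat) : Nat := Bool.rec (eL1432 i) (eT1427 i) (Nat.ble 1467392 i)
noncomputable def eT1429 (i : Nat) : Nat := Bool.rec (eL1436 i) (eL1437 i) (Nat.ble 1471488 i)
noncomputable def eT1430 (i : Nat) : Nat := Bool.rec (eL1435 i) (eT1429 i) (Nat.ble 1470464 i)
noncomputable def eT1431 (i : Nat) : Nat := Bool.rec (eT1428 i) (eT1430 i) (Nat.ble 1469440 i)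
noncomputable def eT1432 (i : Nat) : Nat := Bool.rec (eT1426 i) (eT1431 i) (Nat.ble 1466368 i)
noncomputable def eT1433 (i : Nat) : Nat := Bool.rec (eT1422 i) (eT1432 i) (Nat.ble 1461248 i)
noncomputable def eT1434 (i : Nat) : Nat := Bool.rec (eT1413 i) (eT1433 i) (Nat.ble 1451008 i)
noncomputable def eT1435 (i : Nat) : Nat := Bool.rec (eL1438 i) (eL1439 i) (Nat.ble 1473536 i)
noncomputable def eT1436 (i : Nat) : Nat := Bool.rec (eL1441 i) (eL1442 i) (Nat.ble 1476608 i)
noncomputable def eT1437 (i : Nat) : Nat := Bool.rec (eL1440 i) (eT1436 i) (Nat.ble 1475584 i)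
noncomputable def eT1438 (i : Nat) : Nat := Bool.rec (eT1435 i) (eT1437 i) (Nat.ble 1474560 i)
noncomputable def eT1439 (i : Nat) : Nat := Bool.rec (eL1443 i) (eL1444 i) (Nat.ble 1478656 i)
noncomputable def eT1440 (i : Nat) : Nat := Bool.rec (eL1446 i) (eL1447 i) (Nat.ble 1481728 i)
noncomputable def eT1441 (i : Nat) : Nat := Bool.rec (eL1445 i) (eT1440 i) (Nat.ble 1480704 i)
noncomputable def eT1442 (i : Nat) : Nat := Bool.rec (eT1439 i) (eT1441 i) (Nat.ble 1479680 i)
noncomputable def eT1443 (i : Nat) : Nat := Bool.rec (eT1438 i) (eT1442 i) (Nat.ble 1477632 i)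
noncomputable def eT1444 (i : Nat) : Nat := Bool.rec (eL1448 i) (eL1449 i) (Nat.ble 1483776 i)
noncomputable def eT1445 (i : Nat) : Nat := Bool.rec (eL1451 i) (eL1452 i) (Nat.ble 1486848 i)
noncomputable def eT1446 (i : Nat) : Nat := Bool.rec (eL1450 i) (eT1445 i) (Nat.ble 1485824 i)
noncomputable def eT1447 (i : Nat) : Nat := Bool.rec (eT1444 i) (eT1446 i) (Nat.ble 1484800 i)
noncomputable def eT1448 (i : Nat) : Nat := Bool.rec (eL1453 i) (eL1454 i) (Nat.ble 1488896 i)
noncomputable def eT1449 (i : Nat) : Nat := Bool.rec (eL1456 i) (eL1457 i) (Nat.ble 1491968 i)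
noncomputable def eT1450 (i : Nat) : Nat := Bool.rec (eL1455 i) (eT1449 i) (Nat.ble 1490944 i)
noncomputable def eT1451 (i : Nat) : Nat := Bool.rec (eT1448 i) (eT1450 i) (Nat.ble 1489920 i)
noncomputable def eT1452 (i : Nat) : Nat := Bool.rec (eT1447 i) (eT1451 i) (Nat.ble 1487872 i)
noncomputable def eT1453 (i : Nat) : Nat := Bool.rec (eT1443 i) (eT1452 i) (Nat.ble 1482752 i)
noncomputable def eT1454 (i : Nat) : Nat := Bool.rec (eL1458 i) (eL1459 i) (Nat.ble 1494016 i)
noncomputable def eT1455 (i : Nat) : Nat := Bool.rec (eL1461 i) (eL1462 i) (Nat.ble 1497088 i)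
noncomputable def eT1456 (i : Nat) : Nat := Bool.rec (eL1460 i) (eT1455 i) (Nat.ble 1496064 i)
noncomputable def eT1457 (i : Nat) : Nat := Bool.rec (eT1454 i) (eT1456 i) (Nat.ble 1495040 i)
noncomputable def eT1458 (i : Nat) : Nat := Bool.rec (eL1463 i) (eL1464 i) (Nat.ble 1499136 i)
noncomputable def eT1459 (i : Nat) : Nat := Bool.rec (eL1466 i) (eL1467 i) (Nat.ble 1502208 i)
noncomputable def eT1460 (i : Nat) : Nat := Bool.rec (eL1465 i) (eT1459 i) (Nat.ble 1501184 i)
noncomputable def eT1461 (i : Nat) : Nat := Bool.rec (eT1458 i) (eT1460 i) (Nat.ble 1500160 i)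
noncomputable def eT1462 (i : Nat) : Nat := Bool.rec (eT1457 i) (eT1461 i) (Nat.ble 1498112 i)
noncomputable def eT1463 (i : Nat) : Nat := Bool.rec (eL1468 i) (eL1469 i) (Nat.ble 1504256 i)
noncomputable def eT1464 (i : Nat) : Nat := Bool.rec (eL1471 i) (eL1472 i) (Nat.ble 1507328 i)
noncomputable def eT1465 (i : Nat) : Nat := Bool.rec (eL1470 i) (eT1464 i) (Nat.ble 1506304 i)
noncomputable def eT1466 (i : Nat) : Nat := Bool.rec (eT1463 i) (eT1465 i) (Nat.ble 1505280 i)
noncomputable def eT1467 (i : Nat) : Nat := Bool.rec (eL1474 i) (eL1475 i) (Nat.ble 1510400 i)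
noncomputable def eT1468 (i : Nat) : Nat := Bool.rec (eL1473 i) (eT1467 i) (Nat.ble 1509376 i)
noncomputable def eT1469 (i : Nat) : Nat := Bool.rec (eL1477 i) (eL1478 i) (Nat.ble 1513472 i)
noncomputable def eT1470 (i : Nat) : Nat := Bool.rec (eL1476 i) (eT1469 i) (Nat.ble 1512448 i)
noncomputable def eT1471 (i : Nat) : Nat := Bool.rec (eT1468 i) (eT1470 i) (Nat.ble 1511424 i)
noncomputable def eT1472 (i : Nat) : Nat := Bool.rec (eT1466 i) (eT1471 i) (Nat.ble 1508352 i)
noncomputable def eT1473 (i : Nat) : Nat := Bool.rec (eT1462 i) (eT1472 i) (Nat.ble 1503232 i)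
noncomputable def eT1474 (i : Nat) : Nat := Bool.rec (eT1453 i) (eT1473 i) (Nat.ble 1492992 i)
noncomputable def eT1475 (i : Nat) : Nat := Bool.rec (eT1434 i) (eT1474 i) (Nat.ble 1472512 i)
noncomputable def eT1476 (i : Nat) : Nat := Bool.rec (eT1394 i) (eT1475 i) (Nat.ble 1430528 i)
noncomputable def eT1477 (i : Nat) : Nat := Bool.rec (eL1479 i) (eL1480 i) (Nat.ble 1515520 i)
noncomputable def eT1478 (i : Nat) : Nat := Bool.rec (eL1482 i) (eL1483 i) (Nat.ble 1518592 i)
noncomputable def eT1479 (i : Nat) : Nat := Bool.rec (eL1481 i) (eT1478 i) (Nat.ble 1517568 i)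
noncomputable def eT1480 (i : Nat) : Nat := Bool.rec (eT1477 i) (eT1479 i) (Nat.ble 1516544 i)
noncomputable def eT1481 (i : Nat) : Nat := Bool.rec (eL1484 i) (eL1485 i) (Nat.ble 1520640 i)
noncomputable def eT1482 (i : Nat) : Nat := Bool.rec (eL1487 i) (eL1488 i) (Nat.ble 1523712 i)
noncomputable def eT1483 (i : Nat) : Nat := Bool.rec (eL1486 i) (eT1482 i) (Nat.ble 1522688 i)
noncomputable def eT1484 (i : Nat) : Nat := Bool.rec (eT1481 i) (eT1483 i) (Nat.ble 1521664 i)
noncomputable def eT1485 (i : Nat) : Nat := Bool.rec (eT1480 i) (eT1484 i) (Nat.ble 1519616 i)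
noncomputable def eT1486 (i : Nat) : Nat := Bool.rec (eL1489 i) (eL1490 i) (Nat.ble 1525760 i)
noncomputable def eT1487 (i : Nat) : Nat := Bool.rec (eL1492 i) (eL1493 i) (Nat.ble 1528832 i)
noncomputable def eT1488 (i : Nat) : Nat := Bool.rec (eL1491 i) (eT1487 i) (Nat.ble 1527808 i)
noncomputable def eT1489 (i : Nat) : Nat := Bool.rec (eT1486 i) (eT1488 i) (Nat.ble 1526784 i)
noncomputable def eT1490 (i : Nat) : Nat := Bool.rec (eL1494 i) (eL1495 i) (Nat.ble 1530880 i)
noncomputable def eT1491 (i : Nat) : Nat := Bool.rec (eL1497 i) (eL1498 i) (Nat.ble 1533952 i)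
noncomputable def eT1492 (i : Nat) : Nat := Bool.rec (eL1496 i) (eT1491 i) (Nat.ble 1532928 i)
noncomputable def eT1493 (i : Nat) : Nat := Bool.rec (eT1490 i) (eT1492 i) (Nat.ble 1531904 i)
noncomputable def eT1494 (i : Nat) : Nat := Bool.rec (eT1489 i) (eT1493 i) (Nat.ble 1529856 i)
noncomputable def eT1495 (i : Nat) : Nat := Bool.rec (eT1485 i) (eT1494 i) (Nat.ble 1524736 i)
noncomputable def eT1496 (i : Nat) : Nat := Bool.rec (eL1499 i) (eL1500 i) (Nat.ble 1536000 i)
noncomputable def eT1497 (i : Nat) : Nat := Bool.rec (eL1502 i) (eL1503 i) (Nat.ble 1539072 i)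
noncomputable def eT1498 (i : Nat) : Nat := Bool.rec (eL1501 i) (eT1497 i) (Nat.ble 1538048 i)
noncomputable def eT1499 (i : Nat) : Nat := Bool.rec (eT1496 i) (eT1498 i) (Nat.ble 1537024 i)
noncomputable def eT1500 (i : Nat) : Nat := Bool.rec (eL1504 i) (eL1505 i) (Nat.ble 1541120 i)
noncomputable def eT1501 (i : Nat) : Nat := Bool.rec (eL1507 i) (eL1508 i) (Nat.ble 1544192 i)
noncomputable def eT1502 (i : Nat) : Nat := Bool.rec (eL1506 i) (eT1501 i) (Nat.ble 1543168 i)
noncomputable def eT1503 (i : Nat) : Nat := Bool.rec (eT1500 i) (eT1502 i) (Nat.ble 1542144 i)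
noncomputable def eT1504 (i : Nat) : Nat := Bool.rec (eT1499 i) (eT1503 i) (Nat.ble 1540096 i)
noncomputable def eT1505 (i : Nat) : Nat := Bool.rec (eL1509 i) (eL1510 i) (Nat.ble 1546240 i)
noncomputable def eT1506 (i : Nat) : Nat := Bool.rec (eL1512 i) (eL1513 i) (Nat.ble 1549312 i)
noncomputable def eT1507 (i : Nat) : Nat := Bool.rec (eL1511 i) (eT1506 i) (Nat.ble 1548288 i)
noncomputable def eT1508 (i : Nat) : Nat := Bool.rec (eT1505 i) (eT1507 i) (Nat.ble 1547264 i)
noncomputable def eT1509 (i : Nat) : Nat := Bool.rec (eL1515 i) (eL1516 i) (Nat.ble 1552384 i)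
noncomputable def eT1510 (i : Nat) : Nat := Bool.rec (eL1514 i) (eT1509 i) (Nat.ble 1551360 i)
noncomputable def eT1511 (i : Nat) : Nat := Bool.rec (eL1518 i) (eL1519 i) (Nat.ble 1555456 i)
noncomputable def eT1512 (i : Nat) : Nat := Bool.rec (eL1517 i) (eT1511 i) (Nat.ble 1554432 i)
noncomputable def eT1513 (i : Nat) : Nat := Bool.rec (eT1510 i) (eT1512 i) (Nat.ble 1553408 i)
noncomputable def eT1514 (i : Nat) : Nat := Bool.rec (eT1508 i) (eT1513 i) (Nat.ble 1550336 i)
noncomputable def eT1515 (i : Nat) : Nat := Bool.rec (eT1504 i) (eT1514 i) (Nat.ble 1545216 i)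
noncomputable def eT1516 (i : Nat) : Nat := Bool.rec (eT1495 i) (eT1515 i) (Nat.ble 1534976 i)
noncomputable def eT1517 (i : Nat) : Nat := Bool.rec (eL1520 i) (eL1521 i) (Nat.ble 1557504 i)
noncomputable def eT1518 (i : Nat) : Nat := Bool.rec (eL1523 i) (eL1524 i) (Nat.ble 1560576 i)
noncomputable def eT1519 (i : Nat) : Nat := Bool.rec (eL1522 i) (eT1518 i) (Nat.ble 1559552 i)
noncomputable def eT1520 (i : Nat) : Nat := Bool.rec (eT1517 i) (eT1519 i) (Nat.ble 1558528 i)
noncomputable def eT1521 (i : Nat) : Nat := Bool.rec (eL1525 i) (eL1526 i) (Nat.ble 1562624 i)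
noncomputable def eT1522 (i : Nat) : Nat := Bool.rec (eL1528 i) (eL1529 i) (Nat.ble 1565696 i)
noncomputable def eT1523 (i : Nat) : Nat := Bool.rec (eL1527 i) (eT1522 i) (Nat.ble 1564672 i)
noncomputable def eT1524 (i : Nat) : Nat := Bool.rec (eT1521 i) (eT1523 i) (Nat.ble 1563648 i)
noncomputable def eT1525 (i : Nat) : Nat := Bool.rec (eT1520 i) (eT1524 i) (Nat.ble 1561600 i)
noncomputable def eT1526 (i : Nat) : Nat := Bool.rec (eL1530 i) (eL1531 i) (Nat.ble 1567744 i)
noncomputable def eT1527 (i : Nat) : Nat := Bool.rec (eL1533 i) (eL1534 i) (Nat.ble 1570816 i)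
noncomputable def eT1528 (i : Nat) : Nat := Bool.rec (eL1532 i) (eT1527 i) (Nat.ble 1569792 i)
noncomputable def eT1529 (i : Nat) : Nat := Bool.rec (eT1526 i) (eT1528 i) (Nat.ble 1568768 i)
noncomputable def eT1530 (i : Nat) : Nat := Bool.rec (eL1535 i) (eL1536 i) (Nat.ble 1572864 i)
noncomputable def eT1531 (i : Nat) : Nat := Bool.rec (eL1538 i) (eL1539 i) (Nat.ble 1575936 i)
noncomputable def eT1532 (i : Nat) : Nat := Bool.rec (eL1537 i) (eT1531 i) (Nat.ble 1574912 i)
noncomputable def eT1533 (i : Nat) : Nat := Bool.rec (eT1530 i) (eT1532 i) (Nat.ble 1573888 i)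
noncomputable def eT1534 (i : Nat) : Nat := Bool.rec (eT1529 i) (eT1533 i) (Nat.ble 1571840 i)
noncomputable def eT1535 (i : Nat) : Nat := Bool.rec (eT1525 i) (eT1534 i) (Nat.ble 1566720 i)
noncomputable def eT1536 (i : Nat) : Nat := Bool.rec (eL1540 i) (eL1541 i) (Nat.ble 1577984 i)
noncomputable def eT1537 (i : Nat) : Nat := Bool.rec (eL1543 i) (eL1544 i) (Nat.ble 1581056 i)
noncomputable def eT1538 (i : Nat) : Nat := Bool.rec (eL1542 i) (eT1537 i) (Nat.ble 1580032 i)
noncomputable def eT1539 (i : Nat) : Nat := Bool.rec (eT1536 i) (eT1538 i) (Nat.ble 1579008 i)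
noncomputable def eT1540 (i : Nat) : Nat := Bool.rec (eL1545 i) (eL1546 i) (Nat.ble 1583104 i)
noncomputable def eT1541 (i : Nat) : Nat := Bool.rec (eL1548 i) (eL1549 i) (Nat.ble 1586176 i)
noncomputable def eT1542 (i : Nat) : Nat := Bool.rec (eL1547 i) (eT1541 i) (Nat.ble 1585152 i)
noncomputable def eT1543 (i : Nat) : Nat := Bool.rec (eT1540 i) (eT1542 i) (Nat.ble 1584128 i)
noncomputable def eT1544 (i : Nat) : Nat := Bool.rec (eT1539 i) (eT1543 i) (Nat.ble 1582080 i)
noncomputable def eT1545 (i : Nat) : Nat := Bool.rec (eL1550 i) (eL1551 i) (Nat.ble 1588224 i)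
noncomputable def eT1546 (i : Nat) : Nat := Bool.rec (eL1553 i) (eL1554 i) (Nat.ble 1591296 i)
noncomputable def eT1547 (i : Nat) : Nat := Bool.rec (eL1552 i) (eT1546 i) (Nat.ble 1590272 i)
noncomputable def eT1548 (i : Nat) : Nat := Bool.rec (eT1545 i) (eT1547 i) (Nat.ble 1589248 i)
noncomputable def eT1549 (i : Nat) : Nat := Bool.rec (eL1556 i) (eL1557 i) (Nat.ble 1594368 i)
noncomputable def eT1550 (i : Nat) : Nat := Bool.rec (eL1555 i) (eT1549 i) (Nat.ble 1593344 i)
noncomputable def eT1551 (i : Nat) : Nat := Bool.rec (eL1559 i) (eL1560 i) (Nat.ble 1597440 i)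
noncomputable def eT1552 (i : Nat) : Nat := Bool.rec (eL1558 i) (eT1551 i) (Nat.ble 1596416 i)
noncomputable def eT1553 (i : Nat) : Nat := Bool.rec (eT1550 i) (eT1552 i) (Nat.ble 1595392 i)
noncomputable def eT1554 (i : Nat) : Nat := Bool.rec (eT1548 i) (eT1553 i) (Nat.ble 1592320 i)
noncomputable def eT1555 (i : Nat) : Nat := Bool.rec (eT1544 i) (eT1554 i) (Nat.ble 1587200 i)
noncomputable def eT1556 (i : Nat) : Nat := Bool.rec (eT1535 i) (eT1555 i) (Nat.ble 1576960 i)
noncomputable def eT1557 (i : Nat) : Nat := Bool.rec (eT1516 i) (eT1556 i) (Nat.ble 1556480 i)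
noncomputable def eT1558 (i : Nat) : Nat := Bool.rec (eL1561 i) (eL1562 i) (Nat.ble 1599488 i)
noncomputable def eT1559 (i : Nat) : Nat := Bool.rec (eL1564 i) (eL1565 i) (Nat.ble 1602560 i)
noncomputable def eT1560 (i : Nat) : Nat := Bool.rec (eL1563 i) (eT1559 i) (Nat.ble 1601536 i)
noncomputable def eT1561 (i : Nat) : Nat := Bool.rec (eT1558 i) (eT1560 i) (Nat.ble 1600512 i)
noncomputable def eT1562 (i : Nat) : Nat := Bool.rec (eL1566 i) (eL1567 i) (Nat.ble 1604608 i)
noncomputable def eT1563 (i : Nat) : Nat := Bool.rec (eL1569 i) (eL1570 i) (Nat.ble 1607680 i)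
noncomputable def eT1564 (i : Nat) : Nat := Bool.rec (eL1568 i) (eT1563 i) (Nat.ble 1606656 i)
noncomputable def eT1565 (i : Nat) : Nat := Bool.rec (eT1562 i) (eT1564 i) (Nat.ble 1605632 i)
noncomputable def eT1566 (i : Nat) : Nat := Bool.rec (eT1561 i) (eT1565 i) (Nat.ble 1603584 i)
noncomputable def eT1567 (i : Nat) : Nat := Bool.rec (eL1571 i) (eL1572 i) (Nat.ble 1609728 i)
noncomputable def eT1568 (i : Nat) : Nat := Bool.rec (eL1574 i) (eL1575 i) (Nat.ble 1612800 i)
noncomputable def eT1569 (i : Nat) : Nat := Bool.rec (eL1573 i) (eT1568 i) (Nat.ble 1611776 i)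
noncomputable def eT1570 (i : Nat) : Nat := Bool.rec (eT1567 i) (eT1569 i) (Nat.ble 1610752 i)
noncomputable def eT1571 (i : Nat) : Nat := Bool.rec (eL1576 i) (eL1577 i) (Nat.ble 1614848 i)
noncomputable def eT1572 (i : Nat) : Nat := Bool.rec (eL1579 i) (eL1580 i) (Nat.ble 1617920 i)
noncomputable def eT1573 (i : Nat) : Nat := Bool.rec (eL1578 i) (eT1572 i) (Nat.ble 1616896 i)
noncomputable def eT1574 (i : Nat) : Nat := Bool.rec (eT1571 i) (eT1573 i) (Nat.ble 1615872 i)
noncomputable def eT1575 (i : Nat) : Nat := Bool.rec (eT1570 i) (eT1574 i) (Nat.ble 1613824 i)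
noncomputable def eT1576 (i : Nat) : Nat := Bool.rec (eT1566 i) (eT1575 i) (Nat.ble 1608704 i)
noncomputable def eT1577 (i : Nat) : Nat := Bool.rec (eL1581 i) (eL1582 i) (Nat.ble 1619968 i)
noncomputable def eT1578 (i : Nat) : Nat := Bool.rec (eL1584 i) (eL1585 i) (Nat.ble 1623040 i)
noncomputable def eT1579 (i : Nat) : Nat := Bool.rec (eL1583 i) (eT1578 i) (Nat.ble 1622016 i)
noncomputable def eT1580 (i : Nat) : Nat := Bool.rec (eT1577 i) (eT1579 i) (Nat.ble 1620992 i)
noncomputable def eT1581 (i : Nat) : Nat := Bool.rec (eL1586 i) (eL1587 i) (Nat.ble 1625088 i)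
noncomputable def eT1582 (i : Nat) : Nat := Bool.rec (eL1589 i) (eL1590 i) (Nat.ble 1628160 i)
noncomputable def eT1583 (i : Nat) : Nat := Bool.rec (eL1588 i) (eT1582 i) (Nat.ble 1627136 i)
noncomputable def eT1584 (i : Nat) : Nat := Bool.rec (eT1581 i) (eT1583 i) (Nat.ble 1626112 i)
noncomputable def eT1585 (i : Nat) : Nat := Bool.rec (eT1580 i) (eT1584 i) (Nat.ble 1624064 i)
noncomputable def eT1586 (i : Nat) : Nat := Bool.rec (eL1591 i) (eL1592 i) (Nat.ble 1630208 i)
noncomputable def eT1587 (i : Nat) : Nat := Bool.rec (eL1594 i) (eL1595 i) (Nat.ble 1633280 i)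
noncomputable def eT1588 (i : Nat) : Nat := Bool.rec (eL1593 i) (eT1587 i) (Nat.ble 1632256 i)
noncomputable def eT1589 (i : Nat) : Nat := Bool.rec (eT1586 i) (eT1588 i) (Nat.ble 1631232 i)
noncomputable def eT1590 (i : Nat) : Nat := Bool.rec (eL1597 i) (eL1598 i) (Nat.ble 1636352 i)
noncomputable def eT1591 (i : Nat) : Nat := Bool.rec (eL1596 i) (eT1590 i) (Nat.ble 1635328 i)
noncomputable def eT1592 (i : Nat) : Nat := Bool.rec (eL1600 i) (eL1601 i) (Nat.ble 1639424 i)
noncomputable def eT1593 (i : Nat) : Nat := Bool.rec (eL1599 i) (eT1592 i) (Nat.ble 1638400 i)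
noncomputable def eT1594 (i : Nat) : Nat := Bool.rec (eT1591 i) (eT1593 i) (Nat.ble 1637376 i)
noncomputable def eT1595 (i : Nat) : Nat := Bool.rec (eT1589 i) (eT1594 i) (Nat.ble 1634304 i)
noncomputable def eT1596 (i : Nat) : Nat := Bool.rec (eT1585 i) (eT1595 i) (Nat.ble 1629184 i)
noncomputable def eT1597 (i : Nat) : Nat := Bool.rec (eT1576 i) (eT1596 i) (Nat.ble 1618944 i)
noncomputable def eT1598 (i : Nat) : Nat := Bool.rec (eL1602 i) (eL1603 i) (Nat.ble 1641472 i)
noncomputable def eT1599 (i : Nat) : Nat := Bool.rec (eL1605 i) (eL1606 i) (Nat.ble 1644544 i)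
noncomputable def eT1600 (i : Nat) : Nat := Bool.rec (eL1604 i) (eT1599 i) (Nat.ble 1643520 i)
noncomputable def eT1601 (i : Nat) : Nat := Bool.rec (eT1598 i) (eT1600 i) (Nat.ble 1642496 i)
noncomputable def eT1602 (i : Nat) : Nat := Bool.rec (eL1607 i) (eL1608 i) (Nat.ble 1646592 i)
noncomputable def eT1603 (i : Nat) : Nat := Bool.rec (eL1610 i) (eL1611 i) (Nat.ble 1649664 i)
noncomputable def eT1604 (i : Nat) : Nat := Bool.rec (eL1609 i) (eT1603 i) (Nat.ble 1648640 i)
noncomputable def eT1605 (i : Nat) : Nat := Bool.rec (eT1602 i) (eT1604 i) (Nat.ble 1647616 i)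
noncomputable def eT1606 (i : Nat) : Nat := Bool.rec (eT1601 i) (eT1605 i) (Nat.ble 1645568 i)
noncomputable def eT1607 (i : Nat) : Nat := Bool.rec (eL1612 i) (eL1613 i) (Nat.ble 1651712 i)
noncomputable def eT1608 (i : Nat) : Nat := Bool.rec (eL1615 i) (eL1616 i) (Nat.ble 1654784 i)
noncomputable def eT1609 (i : Nat) : Nat := Bool.rec (eL1614 i) (eT1608 i) (Nat.ble 1653760 i)
noncomputable def eT1610 (i : Nat) : Nat := Bool.rec (eT1607 i) (eT1609 i) (Nat.ble 1652736 i)
noncomputable def eT1611 (i : Nat) : Nat := Bool.rec (eL1617 i) (eL1618 i) (Nat.ble 1656832 i)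
noncomputable def eT1612 (i : Nat) : Nat := Bool.rec (eL1620 i) (eL1621 i) (Nat.ble 1659904 i)
noncomputable def eT1613 (i : Nat) : Nat := Bool.rec (eL1619 i) (eT1612 i) (Nat.ble 1658880 i)
noncomputable def eT1614 (i : Nat) : Nat := Bool.rec (eT1611 i) (eT1613 i) (Nat.ble 1657856 i)
noncomputable def eT1615 (i : Nat) : Nat := Bool.rec (eT1610 i) (eT1614 i) (Nat.ble 1655808 i)
noncomputable def eT1616 (i : Nat) : Nat := Bool.rec (eT1606 i) (eT1615 i) (Nat.ble 1650688 i)
noncomputable def eT1617 (i : Nat) : Nat := Bool.rec (eL1622 i) (eL1623 i) (Nat.ble 1661952 i)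
noncomputable def eT1618 (i : Nat) : Nat := Bool.rec (eL1625 i) (eL1626 i) (Nat.ble 1665024 i)
noncomputable def eT1619 (i : Nat) : Nat := Bool.rec (eL1624 i) (eT1618 i) (Nat.ble 1664000 i)
noncomputable def eT1620 (i : Nat) : Nat := Bool.rec (eT1617 i) (eT1619 i) (Nat.ble 1662976 i)
noncomputable def eT1621 (i : Nat) : Nat := Bool.rec (eL1627 i) (eL1628 i) (Nat.ble 1667072 i)
noncomputable def eT1622 (i : Nat) : Nat := Bool.rec (eL1630 i) (eL1631 i) (Nat.ble 1670144 i)
noncomputable def eT1623 (i : Nat) : Nat := Bool.rec (eL1629 i) (eT1622 i) (Nat.ble 1669120 i)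
noncomputable def eT1624 (i : Nat) : Nat := Bool.rec (eT1621 i) (eT1623 i) (Nat.ble 1668096 i)
noncomputable def eT1625 (i : Nat) : Nat := Bool.rec (eT1620 i) (eT1624 i) (Nat.ble 1666048 i)
noncomputable def eT1626 (i : Nat) : Nat := Bool.rec (eL1632 i) (eL1633 i) (Nat.ble 1672192 i)
noncomputable def eT1627 (i : Nat) : Nat := Bool.rec (eL1635 i) (eL1636 i) (Nat.ble 1675264 i)
noncomputable def eT1628 (i : Nat) : Nat := Bool.rec (eL1634 i) (eT1627 i) (Nat.ble 1674240 i)
noncomputable def eT1629 (i : Nat) : Nat := Bool.rec (eT1626 i) (eT1628 i) (Nat.ble 1673216 i)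
noncomputable def eT1630 (i : Nat) : Nat := Bool.rec (eL1638 i) (eL1639 i) (Nat.ble 1678336 i)
noncomputable def eT1631 (i : Nat) : Nat := Bool.rec (eL1637 i) (eT1630 i) (Nat.ble 1677312 i)
noncomputable def eT1632 (i : Nat) : Nat := Bool.rec (eL1641 i) (eL1642 i) (Nat.ble 1681408 i)
noncomputable def eT1633 (i : Nat) : Nat := Bool.rec (eL1640 i) (eT1632 i) (Nat.ble 1680384 i)
noncomputable def eT1634 (i : Nat) : Nat := Bool.rec (eT1631 i) (eT1633 i) (Nat.ble 1679360 i)
noncomputable def eT1635 (i : Nat) : Nat := Bool.rec (eT1629 i) (eT1634 i) (Nat.ble 1676288 i)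
noncomputable def eT1636 (i : Nat) : Nat := Bool.rec (eT1625 i) (eT1635 i) (Nat.ble 1671168 i)
noncomputable def eT1637 (i : Nat) : Nat := Bool.rec (eT1616 i) (eT1636 i) (Nat.ble 1660928 i)
noncomputable def eT1638 (i : Nat) : Nat := Bool.rec (eT1597 i) (eT1637 i) (Nat.ble 1640448 i)
noncomputable def eT1639 (i : Nat) : Nat := Bool.rec (eT1557 i) (eT1638 i) (Nat.ble 1598464 i)
noncomputable def eT1640 (i : Nat) : Nat := Bool.rec (eT1476 i) (eT1639 i) (Nat.ble 1514496 i)
noncomputable def eT1641 (i : Nat) : Nat := Bool.rec (eL1643 i) (eL1644 i) (Nat.ble 1683456 i)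
noncomputable def eT1642 (i : Nat) : Nat := Bool.rec (eL1646 i) (eL1647 i) (Nat.ble 1686528 i)
noncomputable def eT1643 (i : Nat) : Nat := Bool.rec (eL1645 i) (eT1642 i) (Nat.ble 1685504 i)
noncomputable def eT1644 (i : Nat) : Nat := Bool.rec (eT1641 i) (eT1643 i) (Nat.ble 1684480 i)
noncomputable def eT1645 (i : Nat) : Nat := Bool.rec (eL1648 i) (eL1649 i) (Nat.ble 1688576 i)
noncomputable def eT1646 (i : Nat) : Nat := Bool.rec (eL1651 i) (eL1652 i) (Nat.ble 1691648 i)
noncomputable def eT1647 (i : Nat) : Nat := Bool.rec (eL1650 i) (eT1646 i) (Nat.ble 1690624 i)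
noncomputable def eT1648 (i : Nat) : Nat := Bool.rec (eT1645 i) (eT1647 i) (Nat.ble 1689600 i)
noncomputable def eT1649 (i : Nat) : Nat := Bool.rec (eT1644 i) (eT1648 i) (Nat.ble 1687552 i)
noncomputable def eT1650 (i : Nat) : Nat := Bool.rec (eL1653 i) (eL1654 i) (Nat.ble 1693696 i)
noncomputable def eT1651 (i : Nat) : Nat := Bool.rec (eL1656 i) (eL1657 i) (Nat.ble 1696768 i)
noncomputable def eT1652 (i : Nat) : Nat := Bool.rec (eL1655 i) (eT1651 i) (Nat.ble 1695744 i)
noncomputable def eT1653 (i : Nat) : Nat := Bool.rec (eT1650 i) (eT1652 i) (Nat.ble 1694720 i)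
noncomputable def eT1654 (i : Nat) : Nat := Bool.rec (eL1658 i) (eL1659 i) (Nat.ble 1698816 i)
noncomputable def eT1655 (i : Nat) : Nat := Bool.rec (eL1661 i) (eL1662 i) (Nat.ble 1701888 i)
noncomputable def eT1656 (i : Nat) : Nat := Bool.rec (eL1660 i) (eT1655 i) (Nat.ble 1700864 i)
noncomputable def eT1657 (i : Nat) : Nat := Bool.rec (eT1654 i) (eT1656 i) (Nat.ble 1699840 i)
noncomputable def eT1658 (i : Nat) : Nat := Bool.rec (eT1653 i) (eT1657 i) (Nat.ble 1697792 i)
noncomputable def eT1659 (i : Nat) : Nat := Bool.rec (eT1649 i) (eT1658 i) (Nat.ble 1692672 i)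
noncomputable def eT1660 (i : Nat) : Nat := Bool.rec (eL1663 i) (eL1664 i) (Nat.ble 1703936 i)
noncomputable def eT1661 (i : Nat) : Nat := Bool.rec (eL1666 i) (eL1667 i) (Nat.ble 1707008 i)
noncomputable def eT1662 (i : Nat) : Nat := Bool.rec (eL1665 i) (eT1661 i) (Nat.ble 1705984 i)
noncomputable def eT1663 (i : Nat) : Nat := Bool.rec (eT1660 i) (eT1662 i) (Nat.ble 1704960 i)
noncomputable def eT1664 (i : Nat) : Nat := Bool.rec (eL1668 i) (eL1669 i) (Nat.ble 1709056 i)
noncomputable def eT1665 (i : Nat) : Nat := Bool.rec (eL1671 i) (eL1672 i) (Nat.ble 1712128 i)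
noncomputable def eT1666 (i : Nat) : Nat := Bool.rec (eL1670 i) (eT1665 i) (Nat.ble 1711104 i)
noncomputable def eT1667 (i : Nat) : Nat := Bool.rec (eT1664 i) (eT1666 i) (Nat.ble 1710080 i)
noncomputable def eT1668 (i : Nat) : Nat := Bool.rec (eT1663 i) (eT1667 i) (Nat.ble 1708032 i)
noncomputable def eT1669 (i : Nat) : Nat := Bool.rec (eL1673 i) (eL1674 i) (Nat.ble 1714176 i)
noncomputable def eT1670 (i : Nat) : Nat := Bool.rec (eL1676 i) (eL1677 i) (Nat.ble 1717248 i)
noncomputable def eT1671 (i : Nat) : Nat := Bool.rec (eL1675 i) (eT1670 i) (Nat.ble 1716224 i)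
noncomputable def eT1672 (i : Nat) : Nat := Bool.rec (eT1669 i) (eT1671 i) (Nat.ble 1715200 i)
noncomputable def eT1673 (i : Nat) : Nat := Bool.rec (eL1679 i) (eL1680 i) (Nat.ble 1720320 i)
noncomputable def eT1674 (i : Nat) : Nat := Bool.rec (eL1678 i) (eT1673 i) (Nat.ble 1719296 i)
noncomputable def eT1675 (i : Nat) : Nat := Bool.rec (eL1682 i) (eL1683 i) (Nat.ble 1723392 i)
noncomputable def eT1676 (i : Nat) : Nat := Bool.rec (eL1681 i) (eT1675 i) (Nat.ble 1722368 i)
noncomputable def eT1677 (i : Nat) : Nat := Bool.rec (eT1674 i) (eT1676 i) (Nat.ble 1721344 i)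
noncomputable def eT1678 (i : Nat) : Nat := Bool.rec (eT1672 i) (eT1677 i) (Nat.ble 1718272 i)
noncomputable def eT1679 (i : Nat) : Nat := Bool.rec (eT1668 i) (eT1678 i) (Nat.ble 1713152 i)
noncomputable def eT1680 (i : Nat) : Nat := Bool.rec (eT1659 i) (eT1679 i) (Nat.ble 1702912 i)
noncomputable def eT1681 (i : Nat) : Nat := Bool.rec (eL1684 i) (eL1685 i) (Nat.ble 1725440 i)
noncomputable def eT1682 (i : Nat) : Nat := Bool.rec (eL1687 i) (eL1688 i) (Nat.ble 1728512 i)
noncomputable def eT1683 (i : Nat) : Nat := Bool.rec (eL1686 i) (eT1682 i) (Nat.ble 1727488 i)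
noncomputable def eT1684 (i : Nat) : Nat := Bool.rec (eT1681 i) (eT1683 i) (Nat.ble 1726464 i)
noncomputable def eT1685 (i : Nat) : Nat := Bool.rec (eL1689 i) (eL1690 i) (Nat.ble 1730560 i)
noncomputable def eT1686 (i : Nat) : Nat := Bool.rec (eL1692 i) (eL1693 i) (Nat.ble 1733632 i)
noncomputable def eT1687 (i : Nat) : Nat := Bool.rec (eL1691 i) (eT1686 i) (Nat.ble 1732608 i)
noncomputable def eT1688 (i : Nat) : Nat := Bool.rec (eT1685 i) (eT1687 i) (Nat.ble 1731584 i)
noncomputable def eT1689 (i : Nat) : Nat := Bool.rec (eT1684 i) (eT1688 i) (Nat.ble 1729536 i)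
noncomputable def eT1690 (i : Nat) : Nat := Bool.rec (eL1694 i) (eL1695 i) (Nat.ble 1735680 i)
noncomputable def eT1691 (i : Nat) : Nat := Bool.rec (eL1697 i) (eL1698 i) (Nat.ble 1738752 i)
noncomputable def eT1692 (i : Nat) : Nat := Bool.rec (eL1696 i) (eT1691 i) (Nat.ble 1737728 i)
noncomputable def eT1693 (i : Nat) : Nat := Bool.rec (eT1690 i) (eT1692 i) (Nat.ble 1736704 i)
noncomputable def eT1694 (i : Nat) : Nat := Bool.rec (eL1699 i) (eL1700 i) (Nat.ble 1740800 i)
noncomputable def eT1695 (i : Nat) : Nat := Bool.rec (eL1702 i) (eL1703 i) (Nat.ble 1743872 i)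
noncomputable def eT1696 (i : Nat) : Nat := Bool.rec (eL1701 i) (eT1695 i) (Nat.ble 1742848 i)
noncomputable def eT1697 (i : Nat) : Nat := Bool.rec (eT1694 i) (eT1696 i) (Nat.ble 1741824 i)
noncomputable def eT1698 (i : Nat) : Nat := Bool.rec (eT1693 i) (eT1697 i) (Nat.ble 1739776 i)
noncomputable def eT1699 (i : Nat) : Nat := Bool.rec (eT1689 i) (eT1698 i) (Nat.ble 1734656 i)
noncomputable def eT1700 (i : Nat) : Nat := Bool.rec (eL1704 i) (eL1705 i) (Nat.ble 1745920 i)
noncomputable def eT1701 (i : Nat) : Nat := Bool.rec (eL1707 i) (eL1708 i) (Nat.ble 1748992 i)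
noncomputable def eT1702 (i : Nat) : Nat := Bool.rec (eL1706 i) (eT1701 i) (Nat.ble 1747968 i)
noncomputable def eT1703 (i : Nat) : Nat := Bool.rec (eT1700 i) (eT1702 i) (Nat.ble 1746944 i)
noncomputable def eT1704 (i : Nat) : Nat := Bool.rec (eL1709 i) (eL1710 i) (Nat.ble 1751040 i)
noncomputable def eT1705 (i : Nat) : Nat := Bool.rec (eL1712 i) (eL1713 i) (Nat.ble 1754112 i)
noncomputable def eT1706 (i : Nat) : Nat := Bool.rec (eL1711 i) (eT1705 i) (Nat.ble 1753088 i)
noncomputable def eT1707 (i : Nat) : Nat := Bool.rec (eT1704 i) (eT1706 i) (Nat.ble 1752064 i)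
noncomputable def eT1708 (i : Nat) : Nat := Bool.rec (eT1703 i) (eT1707 i) (Nat.ble 1750016 i)
noncomputable def eT1709 (i : Nat) : Nat := Bool.rec (eL1714 i) (eL1715 i) (Nat.ble 1756160 i)
noncomputable def eT1710 (i : Nat) : Nat := Bool.rec (eL1717 i) (eL1718 i) (Nat.ble 1759232 i)
noncomputable def eT1711 (i : Nat) : Nat := Bool.rec (eL1716 i) (eT1710 i) (Nat.ble 1758208 i)
noncomputable def eT1712 (i : Nat) : Nat := Bool.rec (eT1709 i) (eT1711 i) (Nat.ble 1757184 i)
noncomputable def eT1713 (i : Nat) : Nat := Bool.rec (eL1720 i) (eL1721 i) (Nat.ble 1762304 i)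
noncomputable def eT1714 (i : Nat) : Nat := Bool.rec (eL1719 i) (eT1713 i) (Nat.ble 1761280 i)
noncomputable def eT1715 (i : Nat) : Nat := Bool.rec (eL1723 i) (eL1724 i) (Nat.ble 1765376 i)
noncomputable def eT1716 (i : Nat) : Nat := Bool.rec (eL1722 i) (eT1715 i) (Nat.ble 1764352 i)
noncomputable def eT1717 (i : Nat) : Nat := Bool.rec (eT1714 i) (eT1716 i) (Nat.ble 1763328 i)
noncomputable def eT1718 (i : Nat) : Nat := Bool.rec (eT1712 i) (eT1717 i) (Nat.ble 1760256 i)
noncomputable def eT1719 (i : Nat) : Nat := Bool.rec (eT1708 i) (eT1718 i) (Nat.ble 1755136 i)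
noncomputable def eT1720 (i : Nat) : Nat := Bool.rec (eT1699 i) (eT1719 i) (Nat.ble 1744896 i)
noncomputable def eT1721 (i : Nat) : Nat := Bool.rec (eT1680 i) (eT1720 i) (Nat.ble 1724416 i)
noncomputable def eT1722 (i : Nat) : Nat := Bool.rec (eL1725 i) (eL1726 i) (Nat.ble 1767424 i)
noncomputable def eT1723 (i : Nat) : Nat := Bool.rec (eL1728 i) (eL1729 i) (Nat.ble 1770496 i)
noncomputable def eT1724 (i : Nat) : Nat := Bool.rec (eL1727 i) (eT1723 i) (Nat.ble 1769472 i)
noncomputable def eT1725 (i : Nat) : Nat := Bool.rec (eT1722 i) (eT1724 i) (Nat.ble 1768448 i)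
noncomputable def eT1726 (i : Nat) : Nat := Bool.rec (eL1730 i) (eL1731 i) (Nat.ble 1772544 i)
noncomputable def eT1727 (i : Nat) : Nat := Bool.rec (eL1733 i) (eL1734 i) (Nat.ble 1775616 i)
noncomputable def eT1728 (i : Nat) : Nat := Bool.rec (eL1732 i) (eT1727 i) (Nat.ble 1774592 i)
noncomputable def eT1729 (i : Nat) : Nat := Bool.rec (eT1726 i) (eT1728 i) (Nat.ble 1773568 i)
noncomputable def eT1730 (i : Nat) : Nat := Bool.rec (eT1725 i) (eT1729 i) (Nat.ble 1771520 i)
noncomputable def eT1731 (i : Nat) : Nat := Bool.rec (eL1735 i) (eL1736 i) (Nat.ble 1777664 i)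
noncomputable def eT1732 (i : Nat) : Nat := Bool.rec (eL1738 i) (eL1739 i) (Nat.ble 1780736 i)
noncomputable def eT1733 (i : Nat) : Nat := Bool.rec (eL1737 i) (eT1732 i) (Nat.ble 1779712 i)
noncomputable def eT1734 (i : Nat) : Nat := Bool.rec (eT1731 i) (eT1733 i) (Nat.ble 1778688 i)
noncomputable def eT1735 (i : Nat) : Nat := Bool.rec (eL1740 i) (eL1741 i) (Nat.ble 1782784 i)
noncomputable def eT1736 (i : Nat) : Nat := Bool.rec (eL1743 i) (eL1744 i) (Nat.ble 1785856 i)
noncomputable def eT1737 (i : Nat) : Nat := Bool.rec (eL1742 i) (eT1736 i) (Nat.ble 1784832 i)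
noncomputable def eT1738 (i : Nat) : Nat := Bool.rec (eT1735 i) (eT1737 i) (Nat.ble 1783808 i)
noncomputable def eT1739 (i : Nat) : Nat := Bool.rec (eT1734 i) (eT1738 i) (Nat.ble 1781760 i)
noncomputable def eT1740 (i : Nat) : Nat := Bool.rec (eT1730 i) (eT1739 i) (Nat.ble 1776640 i)
noncomputable def eT1741 (i : Nat) : Nat := Bool.rec (eL1745 i) (eL1746 i) (Nat.ble 1787904 i)
noncomputable def eT1742 (i : Nat) : Nat := Bool.rec (eL1748 i) (eL1749 i) (Nat.ble 1790976 i)
noncomputable def eT1743 (i : Nat) : Nat := Bool.rec (eL1747 i) (eT1742 i) (Nat.ble 1789952 i)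
noncomputable def eT1744 (i : Nat) : Nat := Bool.rec (eT1741 i) (eT1743 i) (Nat.ble 1788928 i)
noncomputable def eT1745 (i : Nat) : Nat := Bool.rec (eL1750 i) (eL1751 i) (Nat.ble 1793024 i)
noncomputable def eT1746 (i : Nat) : Nat := Bool.rec (eL1753 i) (eL1754 i) (Nat.ble 1796096 i)
noncomputable def eT1747 (i : Nat) : Nat := Bool.rec (eL1752 i) (eT1746 i) (Nat.ble 1795072 i)
noncomputable def eT1748 (i : Nat) : Nat := Bool.rec (eT1745 i) (eT1747 i) (Nat.ble 1794048 i)
noncomputable def eT1749 (i : Nat) : Nat := Bool.rec (eT1744 i) (eT1748 i) (Nat.ble 1792000 i)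
noncomputable def eT1750 (i : Nat) : Nat := Bool.rec (eL1755 i) (eL1756 i) (Nat.ble 1798144 i)
noncomputable def eT1751 (i : Nat) : Nat := Bool.rec (eL1758 i) (eL1759 i) (Nat.ble 1801216 i)
noncomputable def eT1752 (i : Nat) : Nat := Bool.rec (eL1757 i) (eT1751 i) (Nat.ble 1800192 i)
noncomputable def eT1753 (i : Nat) : Nat := Bool.rec (eT1750 i) (eT1752 i) (Nat.ble 1799168 i)
noncomputable def eT1754 (i : Nat) : Nat := Bool.rec (eL1761 i) (eL1762 i) (Nat.ble 1804288 i)
noncomputable def eT1755 (i : Nat) : Nat := Bool.rec (eL1760 i) (eT1754 i) (Nat.ble 1803264 i)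
noncomputable def eT1756 (i : Nat) : Nat := Bool.rec (eL1764 i) (eL1765 i) (Nat.ble 1807360 i)
noncomputable def eT1757 (i : Nat) : Nat := Bool.rec (eL1763 i) (eT1756 i) (Nat.ble 1806336 i)
noncomputable def eT1758 (i : Nat) : Nat := Bool.rec (eT1755 i) (eT1757 i) (Nat.ble 1805312 i)
noncomputable def eT1759 (i : Nat) : Nat := Bool.rec (eT1753 i) (eT1758 i) (Nat.ble 1802240 i)
noncomputable def eT1760 (i : Nat) : Nat := Bool.rec (eT1749 i) (eT1759 i) (Nat.ble 1797120 i)
noncomputable def eT1761 (i : Nat) : Nat := Bool.rec (eT1740 i) (eT1760 i) (Nat.ble 1786880 i)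
noncomputable def eT1762 (i : Nat) : Nat := Bool.rec (eL1766 i) (eL1767 i) (Nat.ble 1809408 i)
noncomputable def eT1763 (i : Nat) : Nat := Bool.rec (eL1769 i) (eL1770 i) (Nat.ble 1812480 i)
noncomputable def eT1764 (i : Nat) : Nat := Bool.rec (eL1768 i) (eT1763 i) (Nat.ble 1811456 i)
noncomputable def eT1765 (i : Nat) : Nat := Bool.rec (eT1762 i) (eT1764 i) (Nat.ble 1810432 i)
noncomputable def eT1766 (i : Nat) : Nat := Bool.rec (eL1771 i) (eL1772 i) (Nat.ble 1814528 i)
noncomputable def eT1767 (i : Nat) : Nat := Bool.rec (eL1774 i) (eL1775 i) (Nat.ble 1817600 i)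
noncomputable def eT1768 (i : Nat) : Nat := Bool.rec (eL1773 i) (eT1767 i) (Nat.ble 1816576 i)
noncomputable def eT1769 (i : Nat) : Nat := Bool.rec (eT1766 i) (eT1768 i) (Nat.ble 1815552 i)
noncomputable def eT1770 (i : Nat) : Nat := Bool.rec (eT1765 i) (eT1769 i) (Nat.ble 1813504 i)
noncomputable def eT1771 (i : Nat) : Nat := Bool.rec (eL1776 i) (eL1777 i) (Nat.ble 1819648 i)
noncomputable def eT1772 (i : Nat) : Nat := Bool.rec (eL1779 i) (eL1780 i) (Nat.ble 1822720 i)
noncomputable def eT1773 (i : Nat) : Nat := Bool.rec (eL1778 i) (eT1772 i) (Nat.ble 1821696 i)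
noncomputable def eT1774 (i : Nat) : Nat := Bool.rec (eT1771 i) (eT1773 i) (Nat.ble 1820672 i)
noncomputable def eT1775 (i : Nat) : Nat := Bool.rec (eL1781 i) (eL1782 i) (Nat.ble 1824768 i)
noncomputable def eT1776 (i : Nat) : Nat := Bool.rec (eL1784 i) (eL1785 i) (Nat.ble 1827840 i)
noncomputable def eT1777 (i : Nat) : Nat := Bool.rec (eL1783 i) (eT1776 i) (Nat.ble 1826816 i)
noncomputable def eT1778 (i : Nat) : Nat := Bool.rec (eT1775 i) (eT1777 i) (Nat.ble 1825792 i)
noncomputable def eT1779 (i : Nat) : Nat := Bool.rec (eT1774 i) (eT1778 i) (Nat.ble 1823744 i)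
noncomputable def eT1780 (i : Nat) : Nat := Bool.rec (eT1770 i) (eT1779 i) (Nat.ble 1818624 i)
noncomputable def eT1781 (i : Nat) : Nat := Bool.rec (eL1786 i) (eL1787 i) (Nat.ble 1829888 i)
noncomputable def eT1782 (i : Nat) : Nat := Bool.rec (eL1789 i) (eL1790 i) (Nat.ble 1832960 i)
noncomputable def eT1783 (i : Nat) : Nat := Bool.rec (eL1788 i) (eT1782 i) (Nat.ble 1831936 i)
noncomputable def eT1784 (i : Nat) : Nat := Bool.rec (eT1781 i) (eT1783 i) (Nat.ble 1830912 i)
noncomputable def eT1785 (i : Nat) : Nat := Bool.rec (eL1791 i) (eL1792 i) (Nat.ble 1835008 i)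
noncomputable def eT1786 (i : Nat) : Nat := Bool.rec (eL1794 i) (eL1795 i) (Nat.ble 1838080 i)
noncomputable def eT1787 (i : Nat) : Nat := Bool.rec (eL1793 i) (eT1786 i) (Nat.ble 1837056 i)
noncomputable def eT1788 (i : Nat) : Nat := Bool.rec (eT1785 i) (eT1787 i) (Nat.ble 1836032 i)
noncomputable def eT1789 (i : Nat) : Nat := Bool.rec (eT1784 i) (eT1788 i) (Nat.ble 1833984 i)
noncomputable def eT1790 (i : Nat) : Nat := Bool.rec (eL1796 i) (eL1797 i) (Nat.ble 1840128 i)
noncomputable def eT1791 (i : Nat) : Nat := Bool.rec (eL1799 i) (eL1800 i) (Nat.ble 1843200 i)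
noncomputable def eT1792 (i : Nat) : Nat := Bool.rec (eL1798 i) (eT1791 i) (Nat.ble 1842176 i)
noncomputable def eT1793 (i : Nat) : Nat := Bool.rec (eT1790 i) (eT1792 i) (Nat.ble 1841152 i)
noncomputable def eT1794 (i : Nat) : Nat := Bool.rec (eL1802 i) (eL1803 i) (Nat.ble 1846272 i)
noncomputable def eT1795 (i : Nat) : Nat := Bool.rec (eL1801 i) (eT1794 i) (Nat.ble 1845248 i)
noncomputable def eT1796 (i : Nat) : Nat := Bool.rec (eL1805 i) (eL1806 i) (Nat.ble 1849344 i)
noncomputable def eT1797 (i : Nat) : Nat := Bool.rec (eL1804 i) (eT1796 i) (Nat.ble 1848320 i)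
noncomputable def eT1798 (i : Nat) : Nat := Bool.rec (eT1795 i) (eT1797 i) (Nat.ble 1847296 i)
noncomputable def eT1799 (i : Nat) : Nat := Bool.rec (eT1793 i) (eT1798 i) (Nat.ble 1844224 i)
noncomputable def eT1800 (i : Nat) : Nat := Bool.rec (eT1789 i) (eT1799 i) (Nat.ble 1839104 i)
noncomputable def eT1801 (i : Nat) : Nat := Bool.rec (eT1780 i) (eT1800 i) (Nat.ble 1828864 i)
noncomputable def eT1802 (i : Nat) : Nat := Bool.rec (eT1761 i) (eT1801 i) (Nat.ble 1808384 i)
noncomputable def eT1803 (i : Nat) : Nat := Bool.rec (eT1721 i) (eT1802 i) (Nat.ble 1766400 i)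
noncomputable def eT1804 (i : Nat) : Nat := Bool.rec (eL1807 i) (eL1808 i) (Nat.ble 1851392 i)
noncomputable def eT1805 (i : Nat) : Nat := Bool.rec (eL1810 i) (eL1811 i) (Nat.ble 1854464 i)
noncomputable def eT1806 (i : Nat) : Nat := Bool.rec (eL1809 i) (eT1805 i) (Nat.ble 1853440 i)
noncomputable def eT1807 (i : Nat) : Nat := Bool.rec (eT1804 i) (eT1806 i) (Nat.ble 1852416 i)
noncomputable def eT1808 (i : Nat) : Nat := Bool.rec (eL1812 i) (eL1813 i) (Nat.ble 1856512 i)
noncomputable def eT1809 (i : Nat) : Nat := Bool.rec (eL1815 i) (eL1816 i) (Nat.ble 1859584 i)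
noncomputable def eT1810 (i : Nat) : Nat := Bool.rec (eL1814 i) (eT1809 i) (Nat.ble 1858560 i)
noncomputable def eT1811 (i : Nat) : Nat := Bool.rec (eT1808 i) (eT1810 i) (Nat.ble 1857536 i)
noncomputable def eT1812 (i : Nat) : Nat := Bool.rec (eT1807 i) (eT1811 i) (Nat.ble 1855488 i)
noncomputable def eT1813 (i : Nat) : Nat := Bool.rec (eL1817 i) (eL1818 i) (Nat.ble 1861632 i)
noncomputable def eT1814 (i : Nat) : Nat := Bool.rec (eL1820 i) (eL1821 i) (Nat.ble 1864704 i)
noncomputable def eT1815 (i : Nat) : Nat := Bool.rec (eL1819 i) (eT1814 i) (Nat.ble 1863680 i)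
noncomputable def eT1816 (i : Nat) : Nat := Bool.rec (eT1813 i) (eT1815 i) (Nat.ble 1862656 i)
noncomputable def eT1817 (i : Nat) : Nat := Bool.rec (eL1822 i) (eL1823 i) (Nat.ble 1866752 i)
noncomputable def eT1818 (i : Nat) : Nat := Bool.rec (eL1825 i) (eL1826 i) (Nat.ble 1869824 i)
noncomputable def eT1819 (i : Nat) : Nat := Bool.rec (eL1824 i) (eT1818 i) (Nat.ble 1868800 i)
noncomputable def eT1820 (i : Nat) : Nat := Bool.rec (eT1817 i) (eT1819 i) (Nat.ble 1867776 i)
noncomputable def eT1821 (i : Nat) : Nat := Bool.rec (eT1816 i) (eT1820 i) (Nat.ble 1865728 i)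
noncomputable def eT1822 (i : Nat) : Nat := Bool.rec (eT1812 i) (eT1821 i) (Nat.ble 1860608 i)
noncomputable def eT1823 (i : Nat) : Nat := Bool.rec (eL1827 i) (eL1828 i) (Nat.ble 1871872 i)
noncomputable def eT1824 (i : Nat) : Nat := Bool.rec (eL1830 i) (eL1831 i) (Nat.ble 1874944 i)
noncomputable def eT1825 (i : Nat) : Nat := Bool.rec (eL1829 i) (eT1824 i) (Nat.ble 1873920 i)
noncomputable def eT1826 (i : Nat) : Nat := Bool.rec (eT1823 i) (eT1825 i) (Nat.ble 1872896 i)
noncomputable def eT1827 (i : Nat) : Nat := Bool.rec (eL1832 i) (eL1833 i) (Nat.ble 1876992 i)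
noncomputable def eT1828 (i : Nat) : Nat := Bool.rec (eL1835 i) (eL1836 i) (Nat.ble 1880064 i)
noncomputable def eT1829 (i : Nat) : Nat := Bool.rec (eL1834 i) (eT1828 i) (Nat.ble 1879040 i)
noncomputable def eT1830 (i : Nat) : Nat := Bool.rec (eT1827 i) (eT1829 i) (Nat.ble 1878016 i)
noncomputable def eT1831 (i : Nat) : Nat := Bool.rec (eT1826 i) (eT1830 i) (Nat.ble 1875968 i)
noncomputable def eT1832 (i : Nat) : Nat := Bool.rec (eL1837 i) (eL1838 i) (Nat.ble 1882112 i)
noncomputable def eT1833 (i : Nat) : Nat := Bool.rec (eL1840 i) (eL1841 i) (Nat.ble 1885184 i)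
noncomputable def eT1834 (i : Nat) : Nat := Bool.rec (eL1839 i) (eT1833 i) (Nat.ble 1884160 i)
noncomputable def eT1835 (i : Nat) : Nat := Bool.rec (eT1832 i) (eT1834 i) (Nat.ble 1883136 i)
noncomputable def eT1836 (i : Nat) : Nat := Bool.rec (eL1843 i) (eL1844 i) (Nat.ble 1888256 i)
noncomputable def eT1837 (i : Nat) : Nat := Bool.rec (eL1842 i) (eT1836 i) (Nat.ble 1887232 i)
noncomputable def eT1838 (i : Nat) : Nat := Bool.rec (eL1846 i) (eL1847 i) (Nat.ble 1891328 i)
noncomputable def eT1839 (i : Nat) : Nat := Bool.rec (eL1845 i) (eT1838 i) (Nat.ble 1890304 i)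
noncomputable def eT1840 (i : Nat) : Nat := Bool.rec (eT1837 i) (eT1839 i) (Nat.ble 1889280 i)
noncomputable def eT1841 (i : Nat) : Nat := Bool.rec (eT1835 i) (eT1840 i) (Nat.ble 1886208 i)
noncomputable def eT1842 (i : Nat) : Nat := Bool.rec (eT1831 i) (eT1841 i) (Nat.ble 1881088 i)
noncomputable def eT1843 (i : Nat) : Nat := Bool.rec (eT1822 i) (eT1842 i) (Nat.ble 1870848 i)
noncomputable def eT1844 (i : Nat) : Nat := Bool.rec (eL1848 i) (eL1849 i) (Nat.ble 1893376 i)
noncomputable def eT1845 (i : Nat) : Nat := Bool.rec (eL1851 i) (eL1852 i) (Nat.ble 1896448 i)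
noncomputable def eT1846 (i : Nat) : Nat := Bool.rec (eL1850 i) (eT1845 i) (Nat.ble 1895424 i)
noncomputable def eT1847 (i : Nat) : Nat := Bool.rec (eT1844 i) (eT1846 i) (Nat.ble 1894400 i)
noncomputable def eT1848 (i : Nat) : Nat := Bool.rec (eL1853 i) (eL1854 i) (Nat.ble 1898496 i)
noncomputable def eT1849 (i : Nat) : Nat := Bool.rec (eL1856 i) (eL1857 i) (Nat.ble 1901568 i)
noncomputable def eT1850 (i : Nat) : Nat := Bool.rec (eL1855 i) (eT1849 i) (Nat.ble 1900544 i)
noncomputable def eT1851 (i : Nat) : Nat := Bool.rec (eT1848 i) (eT1850 i) (Nat.ble 1899520 i)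
noncomputable def eT1852 (i : Nat) : Nat := Bool.rec (eT1847 i) (eT1851 i) (Nat.ble 1897472 i)
noncomputable def eT1853 (i : Nat) : Nat := Bool.rec (eL1858 i) (eL1859 i) (Nat.ble 1903616 i)
noncomputable def eT1854 (i : Nat) : Nat := Bool.rec (eL1861 i) (eL1862 i) (Nat.ble 1906688 i)
noncomputable def eT1855 (i : Nat) : Nat := Bool.rec (eL1860 i) (eT1854 i) (Nat.ble 1905664 i)
noncomputable def eT1856 (i : Nat) : Nat := Bool.rec (eT1853 i) (eT1855 i) (Nat.ble 1904640 i)
noncomputable def eT1857 (i : Nat) : Nat := Bool.rec (eL1863 i) (eL1864 i) (Nat.ble 1908736 i)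
noncomputable def eT1858 (i : Nat) : Nat := Bool.rec (eL1866 i) (eL1867 i) (Nat.ble 1911808 i)
noncomputable def eT1859 (i : Nat) : Nat := Bool.rec (eL1865 i) (eT1858 i) (Nat.ble 1910784 i)
noncomputable def eT1860 (i : Nat) : Nat := Bool.rec (eT1857 i) (eT1859 i) (Nat.ble 1909760 i)
noncomputable def eT1861 (i : Nat) : Nat := Bool.rec (eT1856 i) (eT1860 i) (Nat.ble 1907712 i)
noncomputable def eT1862 (i : Nat) : Nat := Bool.rec (eT1852 i) (eT1861 i) (Nat.ble 1902592 i)
noncomputable def eT1863 (i : Nat) : Nat := Bool.rec (eL1868 i) (eL1869 i) (Nat.ble 1913856 i)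
noncomputable def eT1864 (i : Nat) : Nat := Bool.rec (eL1871 i) (eL1872 i) (Nat.ble 1916928 i)
noncomputable def eT1865 (i : Nat) : Nat := Bool.rec (eL1870 i) (eT1864 i) (Nat.ble 1915904 i)
noncomputable def eT1866 (i : Nat) : Nat := Bool.rec (eT1863 i) (eT1865 i) (Nat.ble 1914880 i)
noncomputable def eT1867 (i : Nat) : Nat := Bool.rec (eL1873 i) (eL1874 i) (Nat.ble 1918976 i)
noncomputable def eT1868 (i : Nat) : Nat := Bool.rec (eL1876 i) (eL1877 i) (Nat.ble 1922048 i)
noncomputable def eT1869 (i : Nat) : Nat := Bool.rec (eL1875 i) (eT1868 i) (Nat.ble 1921024 i)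
noncomputable def eT1870 (i : Nat) : Nat := Bool.rec (eT1867 i) (eT1869 i) (Nat.ble 1920000 i)
noncomputable def eT1871 (i : Nat) : Nat := Bool.rec (eT1866 i) (eT1870 i) (Nat.ble 1917952 i)
noncomputable def eT1872 (i : Nat) : Nat := Bool.rec (eL1878 i) (eL1879 i) (Nat.ble 1924096 i)
noncomputable def eT1873 (i : Nat) : Nat := Bool.rec (eL1881 i) (eL1882 i) (Nat.ble 1927168 i)
noncomputable def eT1874 (i : Nat) : Nat := Bool.rec (eL1880 i) (eT1873 i) (Nat.ble 1926144 i)
noncomputable def eT1875 (i : Nat) : Nat := Bool.rec (eT1872 i) (eT1874 i) (Nat.ble 1925120 i)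
noncomputable def eT1876 (i : Nat) : Nat := Bool.rec (eL1884 i) (eL1885 i) (Nat.ble 1930240 i)
noncomputable def eT1877 (i : Nat) : Nat := Bool.rec (eL1883 i) (eT1876 i) (Nat.ble 1929216 i)
noncomputable def eT1878 (i : Nat) : Nat := Bool.rec (eL1887 i) (eL1888 i) (Nat.ble 1933312 i)
noncomputable def eT1879 (i : Nat) : Nat := Bool.rec (eL1886 i) (eT1878 i) (Nat.ble 1932288 i)
noncomputable def eT1880 (i : Nat) : Nat := Bool.rec (eT1877 i) (eT1879 i) (Nat.ble 1931264 i)
noncomputable def eT1881 (i : Nat) : Nat := Bool.rec (eT1875 i) (eT1880 i) (Nat.ble 1928192 i)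
noncomputable def eT1882 (i : Nat) : Nat := Bool.rec (eT1871 i) (eT1881 i) (Nat.ble 1923072 i)
noncomputable def eT1883 (i : Nat) : Nat := Bool.rec (eT1862 i) (eT1882 i) (Nat.ble 1912832 i)
noncomputable def eT1884 (i : Nat) : Nat := Bool.rec (eT1843 i) (eT1883 i) (Nat.ble 1892352 i)
noncomputable def eT1885 (i : Nat) : Nat := Bool.rec (eL1889 i) (eL1890 i) (Nat.ble 1935360 i)
noncomputable def eT1886 (i : Nat) : Nat := Bool.rec (eL1892 i) (eL1893 i) (Nat.ble 1938432 i)
noncomputable def eT1887 (i : Nat) : Nat := Bool.rec (eL1891 i) (eT1886 i) (Nat.ble 1937408 i)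
noncomputable def eT1888 (i : Nat) : Nat := Bool.rec (eT1885 i) (eT1887 i) (Nat.ble 1936384 i)
noncomputable def eT1889 (i : Nat) : Nat := Bool.rec (eL1894 i) (eL1895 i) (Nat.ble 1940480 i)
noncomputable def eT1890 (i : Nat) : Nat := Bool.rec (eL1897 i) (eL1898 i) (Nat.ble 1943552 i)
noncomputable def eT1891 (i : Nat) : Nat := Bool.rec (eL1896 i) (eT1890 i) (Nat.ble 1942528 i)
noncomputable def eT1892 (i : Nat) : Nat := Bool.rec (eT1889 i) (eT1891 i) (Nat.ble 1941504 i)
noncomputable def eT1893 (i : Nat) : Nat := Bool.rec (eT1888 i) (eT1892 i) (Nat.ble 1939456 i)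
noncomputable def eT1894 (i : Nat) : Nat := Bool.rec (eL1899 i) (eL1900 i) (Nat.ble 1945600 i)
noncomputable def eT1895 (i : Nat) : Nat := Bool.rec (eL1902 i) (eL1903 i) (Nat.ble 1948672 i)
noncomputable def eT1896 (i : Nat) : Nat := Bool.rec (eL1901 i) (eT1895 i) (Nat.ble 1947648 i)
noncomputable def eT1897 (i : Nat) : Nat := Bool.rec (eT1894 i) (eT1896 i) (Nat.ble 1946624 i)
noncomputable def eT1898 (i : Nat) : Nat := Bool.rec (eL1904 i) (eL1905 i) (Nat.ble 1950720 i)
noncomputable def eT1899 (i : Nat) : Nat := Bool.rec (eL1907 i) (eL1908 i) (Nat.ble 1953792 i)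
noncomputable def eT1900 (i : Nat) : Nat := Bool.rec (eL1906 i) (eT1899 i) (Nat.ble 1952768 i)
noncomputable def eT1901 (i : Nat) : Nat := Bool.rec (eT1898 i) (eT1900 i) (Nat.ble 1951744 i)
noncomputable def eT1902 (i : Nat) : Nat := Bool.rec (eT1897 i) (eT1901 i) (Nat.ble 1949696 i)
noncomputable def eT1903 (i : Nat) : Nat := Bool.rec (eT1893 i) (eT1902 i) (Nat.ble 1944576 i)
noncomputable def eT1904 (i : Nat) : Nat := Bool.rec (eL1909 i) (eL1910 i) (Nat.ble 1955840 i)
noncomputable def eT1905 (i : Nat) : Nat := Bool.rec (eL1912 i) (eL1913 i) (Nat.ble 1958912 i)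
noncomputable def eT1906 (i : Nat) : Nat := Bool.rec (eL1911 i) (eT1905 i) (Nat.ble 1957888 i)
noncomputable def eT1907 (i : Nat) : Nat := Bool.rec (eT1904 i) (eT1906 i) (Nat.ble 1956864 i)
noncomputable def eT1908 (i : Nat) : Nat := Bool.rec (eL1914 i) (eL1915 i) (Nat.ble 1960960 i)
noncomputable def eT1909 (i : Nat) : Nat := Bool.rec (eL1917 i) (eL1918 i) (Nat.ble 1964032 i)
noncomputable def eT1910 (i : Nat) : Nat := Bool.rec (eL1916 i) (eT1909 i) (Nat.ble 1963008 i)
noncomputable def eT1911 (i : Nat) : Nat := Bool.rec (eT1908 i) (eT1910 i) (Nat.ble 1961984 i)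
noncomputable def eT1912 (i : Nat) : Nat := Bool.rec (eT1907 i) (eT1911 i) (Nat.ble 1959936 i)
noncomputable def eT1913 (i : Nat) : Nat := Bool.rec (eL1919 i) (eL1920 i) (Nat.ble 1966080 i)
noncomputable def eT1914 (i : Nat) : Nat := Bool.rec (eL1922 i) (eL1923 i) (Nat.ble 1969152 i)
noncomputable def eT1915 (i : Nat) : Nat := Bool.rec (eL1921 i) (eT1914 i) (Nat.ble 1968128 i)
noncomputable def eT1916 (i : Nat) : Nat := Bool.rec (eT1913 i) (eT1915 i) (Nat.ble 1967104 i)
noncomputable def eT1917 (i : Nat) : Nat := Bool.rec (eL1925 i) (eL1926 i) (Nat.ble 1972224 i)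
noncomputable def eT1918 (i : Nat) : Nat := Bool.rec (eL1924 i) (eT1917 i) (Nat.ble 1971200 i)
noncomputable def eT1919 (i : Nat) : Nat := Bool.rec (eL1928 i) (eL1929 i) (Nat.ble 1975296 i)
noncomputable def eT1920 (i : Nat) : Nat := Bool.rec (eL1927 i) (eT1919 i) (Nat.ble 1974272 i)
noncomputable def eT1921 (i : Nat) : Nat := Bool.rec (eT1918 i) (eT1920 i) (Nat.ble 1973248 i)
noncomputable def eT1922 (i : Nat) : Nat := Bool.rec (eT1916 i) (eT1921 i) (Nat.ble 1970176 i)
noncomputable def eT1923 (i : Nat) : Nat := Bool.rec (eT1912 i) (eT1922 i) (Nat.ble 1965056 i)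
noncomputable def eT1924 (i : Nat) : Nat := Bool.rec (eT1903 i) (eT1923 i) (Nat.ble 1954816 i)
noncomputable def eT1925 (i : Nat) : Nat := Bool.rec (eL1930 i) (eL1931 i) (Nat.ble 1977344 i)
noncomputable def eT1926 (i : Nat) : Nat := Bool.rec (eL1933 i) (eL1934 i) (Nat.ble 1980416 i)
noncomputable def eT1927 (i : Nat) : Nat := Bool.rec (eL1932 i) (eT1926 i) (Nat.ble 1979392 i)
noncomputable def eT1928 (i : Nat) : Nat := Bool.rec (eT1925 i) (eT1927 i) (Nat.ble 1978368 i)
noncomputable def eT1929 (i : Nat) : Nat := Bool.rec (eL1935 i) (eL1936 i) (Nat.ble 1982464 i)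
noncomputable def eT1930 (i : Nat) : Nat := Bool.rec (eL1938 i) (eL1939 i) (Nat.ble 1985536 i)
noncomputable def eT1931 (i : Nat) : Nat := Bool.rec (eL1937 i) (eT1930 i) (Nat.ble 1984512 i)
noncomputable def eT1932 (i : Nat) : Nat := Bool.rec (eT1929 i) (eT1931 i) (Nat.ble 1983488 i)
noncomputable def eT1933 (i : Nat) : Nat := Bool.rec (eT1928 i) (eT1932 i) (Nat.ble 1981440 i)
noncomputable def eT1934 (i : Nat) : Nat := Bool.rec (eL1940 i) (eL1941 i) (Nat.ble 1987584 i)
noncomputable def eT1935 (i : Nat) : Nat := Bool.rec (eL1943 i) (eL1944 i) (Nat.ble 1990656 i)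
noncomputable def eT1936 (i : Nat) : Nat := Bool.rec (eL1942 i) (eT1935 i) (Nat.ble 1989632 i)
noncomputable def eT1937 (i : Nat) : Nat := Bool.rec (eT1934 i) (eT1936 i) (Nat.ble 1988608 i)
noncomputable def eT1938 (i : Nat) : Nat := Bool.rec (eL1946 i) (eL1947 i) (Nat.ble 1993728 i)
noncomputable def eT1939 (i : Nat) : Nat := Bool.rec (eL1945 i) (eT1938 i) (Nat.ble 1992704 i)
noncomputable def eT1940 (i : Nat) : Nat := Bool.rec (eL1949 i) (eL1950 i) (Nat.ble 1996800 i)
noncomputable def eT1941 (i : Nat) : Nat := Bool.rec (eL1948 i) (eT1940 i) (Nat.ble 1995776 i)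
noncomputable def eT1942 (i : Nat) : Nat := Bool.rec (eT1939 i) (eT1941 i) (Nat.ble 1994752 i)
noncomputable def eT1943 (i : Nat) : Nat := Bool.rec (eT1937 i) (eT1942 i) (Nat.ble 1991680 i)
noncomputable def eT1944 (i : Nat) : Nat := Bool.rec (eT1933 i) (eT1943 i) (Nat.ble 1986560 i)
noncomputable def eT1945 (i : Nat) : Nat := Bool.rec (eL1951 i) (eL1952 i) (Nat.ble 1998848 i)
noncomputable def eT1946 (i : Nat) : Nat := Bool.rec (eL1954 i) (eL1955 i) (Nat.ble 2001920 i)
noncomputable def eT1947 (i : Nat) : Nat := Bool.rec (eL1953 i) (eT1946 i) (Nat.ble 2000896 i)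
noncomputable def eT1948 (i : Nat) : Nat := Bool.rec (eT1945 i) (eT1947 i) (Nat.ble 1999872 i)
noncomputable def eT1949 (i : Nat) : Nat := Bool.rec (eL1956 i) (eL1957 i) (Nat.ble 2003968 i)
noncomputable def eT1950 (i : Nat) : Nat := Bool.rec (eL1959 i) (eL1960 i) (Nat.ble 2007040 i)
noncomputable def eT1951 (i : Nat) : Nat := Bool.rec (eL1958 i) (eT1950 i) (Nat.ble 2006016 i)
noncomputable def eT1952 (i : Nat) : Nat := Bool.rec (eT1949 i) (eT1951 i) (Nat.ble 2004992 i)
noncomputable def eT1953 (i : Nat) : Nat := Bool.rec (eT1948 i) (eT1952 i) (Nat.ble 2002944 i)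
noncomputable def eT1954 (i : Nat) : Nat := Bool.rec (eL1961 i) (eL1962 i) (Nat.ble 2009088 i)
noncomputable def eT1955 (i : Nat) : Nat := Bool.rec (eL1964 i) (eL1965 i) (Nat.ble 2012160 i)
noncomputable def eT1956 (i : Nat) : Nat := Bool.rec (eL1963 i) (eT1955 i) (Nat.ble 2011136 i)
noncomputable def eT1957 (i : Nat) : Nat := Bool.rec (eT1954 i) (eT1956 i) (Nat.ble 2010112 i)
noncomputable def eT1958 (i : Nat) : Nat := Bool.rec (eL1967 i) (eL1968 i) (Nat.ble 2015232 i)
noncomputable def eT1959 (i : Nat) : Nat := Bool.rec (eL1966 i) (eT1958 i) (Nat.ble 2014208 i)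
noncomputable def eT1960 (i : Nat) : Nat := Bool.rec (eL1970 i) (eL1971 i) (Nat.ble 2018304 i)
noncomputable def eT1961 (i : Nat) : Nat := Bool.rec (eL1969 i) (eT1960 i) (Nat.ble 2017280 i)
noncomputable def eT1962 (i : Nat) : Nat := Bool.rec (eT1959 i) (eT1961 i) (Nat.ble 2016256 i)
noncomputable def eT1963 (i : Nat) : Nat := Bool.rec (eT1957 i) (eT1962 i) (Nat.ble 2013184 i)
noncomputable def eT1964 (i : Nat) : Nat := Bool.rec (eT1953 i) (eT1963 i) (Nat.ble 2008064 i)
noncomputable def eT1965 (i : Nat) : Nat := Bool.rec (eT1944 i) (eT1964 i) (Nat.ble 1997824 i)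
noncomputable def eT1966 (i : Nat) : Nat := Bool.rec (eT1924 i) (eT1965 i) (Nat.ble 1976320 i)
noncomputable def eT1967 (i : Nat) : Nat := Bool.rec (eT1884 i) (eT1966 i) (Nat.ble 1934336 i)
noncomputable def eT1968 (i : Nat) : Nat := Bool.rec (eT1803 i) (eT1967 i) (Nat.ble 1850368 i)
noncomputable def eT1969 (i : Nat) : Nat := Bool.rec (eT1640 i) (eT1968 i) (Nat.ble 1682432 i)
noncomputable def eT1970 (i : Nat) : Nat := Bool.rec (eL1972 i) (eL1973 i) (Nat.ble 2020352 i)
noncomputable def eT1971 (i : Nat) : Nat := Bool.rec (eL1975 i) (eL1976 i) (Nat.ble 2023424 i)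
noncomputable def eT1972 (i : Nat) : Nat := Bool.rec (eL1974 i) (eT1971 i) (Nat.ble 2022400 i)
noncomputable def eT1973 (i : Nat) : Nat := Bool.rec (eT1970 i) (eT1972 i) (Nat.ble 2021376 i)
noncomputable def eT1974 (i : Nat) : Nat := Bool.rec (eL1977 i) (eL1978 i) (Nat.ble 2025472 i)
noncomputable def eT1975 (i : Nat) : Nat := Bool.rec (eL1980 i) (eL1981 i) (Nat.ble 2028544 i)
noncomputable def eT1976 (i : Nat) : Nat := Bool.rec (eL1979 i) (eT1975 i) (Nat.ble 2027520 i)
noncomputable def eT1977 (i : Nat) : Nat := Bool.rec (eT1974 i) (eT1976 i) (Nat.ble 2026496 i)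
noncomputable def eT1978 (i : Nat) : Nat := Bool.rec (eT1973 i) (eT1977 i) (Nat.ble 2024448 i)
noncomputable def eT1979 (i : Nat) : Nat := Bool.rec (eL1982 i) (eL1983 i) (Nat.ble 2030592 i)
noncomputable def eT1980 (i : Nat) : Nat := Bool.rec (eL1985 i) (eL1986 i) (Nat.ble 2033664 i)
noncomputable def eT1981 (i : Nat) : Nat := Bool.rec (eL1984 i) (eT1980 i) (Nat.ble 2032640 i)
noncomputable def eT1982 (i : Nat) : Nat := Bool.rec (eT1979 i) (eT1981 i) (Nat.ble 2031616 i)
noncomputable def eT1983 (i : Nat) : Nat := Bool.rec (eL1987 i) (eL1988 i) (Nat.ble 2035712 i)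
noncomputable def eT1984 (i : Nat) : Nat := Bool.rec (eL1990 i) (eL1991 i) (Nat.ble 2038784 i)
noncomputable def eT1985 (i : Nat) : Nat := Bool.rec (eL1989 i) (eT1984 i) (Nat.ble 2037760 i)
noncomputable def eT1986 (i : Nat) : Nat := Bool.rec (eT1983 i) (eT1985 i) (Nat.ble 2036736 i)
noncomputable def eT1987 (i : Nat) : Nat := Bool.rec (eT1982 i) (eT1986 i) (Nat.ble 2034688 i)
noncomputable def eT1988 (i : Nat) : Nat := Bool.rec (eT1978 i) (eT1987 i) (Nat.ble 2029568 i)
noncomputable def eT1989 (i : Nat) : Nat := Bool.rec (eL1992 i) (eL1993 i) (Nat.ble 2040832 i)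
noncomputable def eT1990 (i : Nat) : Nat := Bool.rec (eL1995 i) (eL1996 i) (Nat.ble 2043904 i)
noncomputable def eT1991 (i : Nat) : Nat := Bool.rec (eL1994 i) (eT1990 i) (Nat.ble 2042880 i)
noncomputable def eT1992 (i : Nat) : Nat := Bool.rec (eT1989 i) (eT1991 i) (Nat.ble 2041856 i)
noncomputable def eT1993 (i : Nat) : Nat := Bool.rec (eL1997 i) (eL1998 i) (Nat.ble 2045952 i)
noncomputable def eT1994 (i : Nat) : Nat := Bool.rec (eL2000 i) (eL2001 i) (Nat.ble 2049024 i)
noncomputable def eT1995 (i : Nat) : Nat := Bool.rec (eL1999 i) (eT1994 i) (Nat.ble 2048000 i)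
noncomputable def eT1996 (i : Nat) : Nat := Bool.rec (eT1993 i) (eT1995 i) (Nat.ble 2046976 i)
noncomputable def eT1997 (i : Nat) : Nat := Bool.rec (eT1992 i) (eT1996 i) (Nat.ble 2044928 i)
noncomputable def eT1998 (i : Nat) : Nat := Bool.rec (eL2002 i) (eL2003 i) (Nat.ble 2051072 i)
noncomputable def eT1999 (i : Nat) : Nat := Bool.rec (eL2005 i) (eL2006 i) (Nat.ble 2054144 i)
noncomputable def eT2000 (i : Nat) : Nat := Bool.rec (eL2004 i) (eT1999 i) (Nat.ble 2053120 i)
noncomputable def eT2001 (i : Nat) : Nat := Bool.rec (eT1998 i) (eT2000 i) (Nat.ble 2052096 i)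
noncomputable def eT2002 (i : Nat) : Nat := Bool.rec (eL2008 i) (eL2009 i) (Nat.ble 2057216 i)
noncomputable def eT2003 (i : Nat) : Nat := Bool.rec (eL2007 i) (eT2002 i) (Nat.ble 2056192 i)
noncomputable def eT2004 (i : Nat) : Nat := Bool.rec (eL2011 i) (eL2012 i) (Nat.ble 2060288 i)
noncomputable def eT2005 (i : Nat) : Nat := Bool.rec (eL2010 i) (eT2004 i) (Nat.ble 2059264 i)
noncomputable def eT2006 (i : Nat) : Nat := Bool.rec (eT2003 i) (eT2005 i) (Nat.ble 2058240 i)
noncomputable def eT2007 (i : Nat) : Nat := Bool.rec (eT2001 i) (eT2006 i) (Nat.ble 2055168 i)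
noncomputable def eT2008 (i : Nat) : Nat := Bool.rec (eT1997 i) (eT2007 i) (Nat.ble 2050048 i)
noncomputable def eT2009 (i : Nat) : Nat := Bool.rec (eT1988 i) (eT2008 i) (Nat.ble 2039808 i)
noncomputable def eT2010 (i : Nat) : Nat := Bool.rec (eL2013 i) (eL2014 i) (Nat.ble 2062336 i)
noncomputable def eT2011 (i : Nat) : Nat := Bool.rec (eL2016 i) (eL2017 i) (Nat.ble 2065408 i)
noncomputable def eT2012 (i : Nat) : Nat := Bool.rec (eL2015 i) (eT2011 i) (Nat.ble 2064384 i)
noncomputable def eT2013 (i : Nat) : Nat := Bool.rec (eT2010 i) (eT2012 i) (Nat.ble 2063360 i)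
noncomputable def eT2014 (i : Nat) : Nat := Bool.rec (eL2018 i) (eL2019 i) (Nat.ble 2067456 i)
noncomputable def eT2015 (i : Nat) : Nat := Bool.rec (eL2021 i) (eL2022 i) (Nat.ble 2070528 i)
noncomputable def eT2016 (i : Nat) : Nat := Bool.rec (eL2020 i) (eT2015 i) (Nat.ble 2069504 i)
noncomputable def eT2017 (i : Nat) : Nat := Bool.rec (eT2014 i) (eT2016 i) (Nat.ble 2068480 i)
noncomputable def eT2018 (i : Nat) : Nat := Bool.rec (eT2013 i) (eT2017 i) (Nat.ble 2066432 i)
noncomputable def eT2019 (i : Nat) : Nat := Bool.rec (eL2023 i) (eL2024 i) (Nat.ble 2072576 i)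
noncomputable def eT2020 (i : Nat) : Nat := Bool.rec (eL2026 i) (eL2027 i) (Nat.ble 2075648 i)
noncomputable def eT2021 (i : Nat) : Nat := Bool.rec (eL2025 i) (eT2020 i) (Nat.ble 2074624 i)
noncomputable def eT2022 (i : Nat) : Nat := Bool.rec (eT2019 i) (eT2021 i) (Nat.ble 2073600 i)
noncomputable def eT2023 (i : Nat) : Nat := Bool.rec (eL2028 i) (eL2029 i) (Nat.ble 2077696 i)
noncomputable def eT2024 (i : Nat) : Nat := Bool.rec (eL2031 i) (eL2032 i) (Nat.ble 2080768 i)
noncomputable def eT2025 (i : Nat) : Nat := Bool.rec (eL2030 i) (eT2024 i) (Nat.ble 2079744 i)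
noncomputable def eT2026 (i : Nat) : Nat := Bool.rec (eT2023 i) (eT2025 i) (Nat.ble 2078720 i)
noncomputable def eT2027 (i : Nat) : Nat := Bool.rec (eT2022 i) (eT2026 i) (Nat.ble 2076672 i)
noncomputable def eT2028 (i : Nat) : Nat := Bool.rec (eT2018 i) (eT2027 i) (Nat.ble 2071552 i)
noncomputable def eT2029 (i : Nat) : Nat := Bool.rec (eL2033 i) (eL2034 i) (Nat.ble 2082816 i)
noncomputable def eT2030 (i : Nat) : Nat := Bool.rec (eL2036 i) (eL2037 i) (Nat.ble 2085888 i)
noncomputable def eT2031 (i : Nat) : Nat := Bool.rec (eL2035 i) (eT2030 i) (Nat.ble 2084864 i)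
noncomputable def eT2032 (i : Nat) : Nat := Bool.rec (eT2029 i) (eT2031 i) (Nat.ble 2083840 i)
noncomputable def eT2033 (i : Nat) : Nat := Bool.rec (eL2038 i) (eL2039 i) (Nat.ble 2087936 i)
noncomputable def eT2034 (i : Nat) : Nat := Bool.rec (eL2041 i) (eL2042 i) (Nat.ble 2091008 i)
noncomputable def eT2035 (i : Nat) : Nat := Bool.rec (eL2040 i) (eT2034 i) (Nat.ble 2089984 i)
noncomputable def eT2036 (i : Nat) : Nat := Bool.rec (eT2033 i) (eT2035 i) (Nat.ble 2088960 i)
noncomputable def eT2037 (i : Nat) : Nat := Bool.rec (eT2032 i) (eT2036 i) (Nat.ble 2086912 i)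
noncomputable def eT2038 (i : Nat) : Nat := Bool.rec (eL2043 i) (eL2044 i) (Nat.ble 2093056 i)
noncomputable def eT2039 (i : Nat) : Nat := Bool.rec (eL2046 i) (eL2047 i) (Nat.ble 2096128 i)
noncomputable def eT2040 (i : Nat) : Nat := Bool.rec (eL2045 i) (eT2039 i) (Nat.ble 2095104 i)
noncomputable def eT2041 (i : Nat) : Nat := Bool.rec (eT2038 i) (eT2040 i) (Nat.ble 2094080 i)
noncomputable def eT2042 (i : Nat) : Nat := Bool.rec (eL2049 i) (eL2050 i) (Nat.ble 2099200 i)
noncomputable def eT2043 (i : Nat) : Nat := Bool.rec (eL2048 i) (eT2042 i) (Nat.ble 2098176 i)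
noncomputable def eT2044 (i : Nat) : Nat := Bool.rec (eL2052 i) (eL2053 i) (Nat.ble 2102272 i)
noncomputable def eT2045 (i : Nat) : Nat := Bool.rec (eL2051 i) (eT2044 i) (Nat.ble 2101248 i)
noncomputable def eT2046 (i : Nat) : Nat := Bool.rec (eT2043 i) (eT2045 i) (Nat.ble 2100224 i)
noncomputable def eT2047 (i : Nat) : Nat := Bool.rec (eT2041 i) (eT2046 i) (Nat.ble 2097152 i)
noncomputable def eT2048 (i : Nat) : Nat := Bool.rec (eT2037 i) (eT2047 i) (Nat.ble 2092032 i)
noncomputable def eT2049 (i : Nat) : Nat := Bool.rec (eT2028 i) (eT2048 i) (Nat.ble 2081792 i)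
noncomputable def eT2050 (i : Nat) : Nat := Bool.rec (eT2009 i) (eT2049 i) (Nat.ble 2061312 i)
noncomputable def eT2051 (i : Nat) : Nat := Bool.rec (eL2054 i) (eL2055 i) (Nat.ble 2104320 i)
noncomputable def eT2052 (i : Nat) : Nat := Bool.rec (eL2057 i) (eL2058 i) (Nat.ble 2107392 i)
noncomputable def eT2053 (i : Nat) : Nat := Bool.rec (eL2056 i) (eT2052 i) (Nat.ble 2106368 i)
noncomputable def eT2054 (i : Nat) : Nat := Bool.rec (eT2051 i) (eT2053 i) (Nat.ble 2105344 i)
noncomputable def eT2055 (i : Nat) : Nat := Bool.rec (eL2059 i) (eL2060 i) (Nat.ble 2109440 i)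
noncomputable def eT2056 (i : Nat) : Nat := Bool.rec (eL2062 i) (eL2063 i) (Nat.ble 2112512 i)
noncomputable def eT2057 (i : Nat) : Nat := Bool.rec (eL2061 i) (eT2056 i) (Nat.ble 2111488 i)
noncomputable def eT2058 (i : Nat) : Nat := Bool.rec (eT2055 i) (eT2057 i) (Nat.ble 2110464 i)
noncomputable def eT2059 (i : Nat) : Nat := Bool.rec (eT2054 i) (eT2058 i) (Nat.ble 2108416 i)
noncomputable def eT2060 (i : Nat) : Nat := Bool.rec (eL2064 i) (eL2065 i) (Nat.ble 2114560 i)
noncomputable def eT2061 (i : Nat) : Nat := Bool.rec (eL2067 i) (eL2068 i) (Nat.ble 2117632 i)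
noncomputable def eT2062 (i : Nat) : Nat := Bool.rec (eL2066 i) (eT2061 i) (Nat.ble 2116608 i)
noncomputable def eT2063 (i : Nat) : Nat := Bool.rec (eT2060 i) (eT2062 i) (Nat.ble 2115584 i)
noncomputable def eT2064 (i : Nat) : Nat := Bool.rec (eL2069 i) (eL2070 i) (Nat.ble 2119680 i)
noncomputable def eT2065 (i : Nat) : Nat := Bool.rec (eL2072 i) (eL2073 i) (Nat.ble 2122752 i)
noncomputable def eT2066 (i : Nat) : Nat := Bool.rec (eL2071 i) (eT2065 i) (Nat.ble 2121728 i)
noncomputable def eT2067 (i : Nat) : Nat := Bool.rec (eT2064 i) (eT2066 i) (Nat.ble 2120704 i)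
noncomputable def eT2068 (i : Nat) : Nat := Bool.rec (eT2063 i) (eT2067 i) (Nat.ble 2118656 i)
noncomputable def eT2069 (i : Nat) : Nat := Bool.rec (eT2059 i) (eT2068 i) (Nat.ble 2113536 i)
noncomputable def eT2070 (i : Nat) : Nat := Bool.rec (eL2074 i) (eL2075 i) (Nat.ble 2124800 i)
noncomputable def eT2071 (i : Nat) : Nat := Bool.rec (eL2077 i) (eL2078 i) (Nat.ble 2127872 i)
noncomputable def eT2072 (i : Nat) : Nat := Bool.rec (eL2076 i) (eT2071 i) (Nat.ble 2126848 i)
noncomputable def eT2073 (i : Nat) : Nat := Bool.rec (eT2070 i) (eT2072 i) (Nat.ble 2125824 i)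
noncomputable def eT2074 (i : Nat) : Nat := Bool.rec (eL2079 i) (eL2080 i) (Nat.ble 2129920 i)
noncomputable def eT2075 (i : Nat) : Nat := Bool.rec (eL2082 i) (eL2083 i) (Nat.ble 2132992 i)
noncomputable def eT2076 (i : Nat) : Nat := Bool.rec (eL2081 i) (eT2075 i) (Nat.ble 2131968 i)
noncomputable def eT2077 (i : Nat) : Nat := Bool.rec (eT2074 i) (eT2076 i) (Nat.ble 2130944 i)
noncomputable def eT2078 (i : Nat) : Nat := Bool.rec (eT2073 i) (eT2077 i) (Nat.ble 2128896 i)
noncomputable def eT2079 (i : Nat) : Nat := Bool.rec (eL2084 i) (eL2085 i) (Nat.ble 2135040 i)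
noncomputable def eT2080 (i : Nat) : Nat := Bool.rec (eL2087 i) (eL2088 i) (Nat.ble 2138112 i)
noncomputable def eT2081 (i : Nat) : Nat := Bool.rec (eL2086 i) (eT2080 i) (Nat.ble 2137088 i)
noncomputable def eT2082 (i : Nat) : Nat := Bool.rec (eT2079 i) (eT2081 i) (Nat.ble 2136064 i)
noncomputable def eT2083 (i : Nat) : Nat := Bool.rec (eL2090 i) (eL2091 i) (Nat.ble 2141184 i)
noncomputable def eT2084 (i : Nat) : Nat := Bool.rec (eL2089 i) (eT2083 i) (Nat.ble 2140160 i)
noncomputable def eT2085 (i : Nat) : Nat := Bool.rec (eL2093 i) (eL2094 i) (Nat.ble 2144256 i)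
noncomputable def eT2086 (i : Nat) : Nat := Bool.rec (eL2092 i) (eT2085 i) (Nat.ble 2143232 i)
noncomputable def eT2087 (i : Nat) : Nat := Bool.rec (eT2084 i) (eT2086 i) (Nat.ble 2142208 i)
noncomputable def eT2088 (i : Nat) : Nat := Bool.rec (eT2082 i) (eT2087 i) (Nat.ble 2139136 i)
noncomputable def eT2089 (i : Nat) : Nat := Bool.rec (eT2078 i) (eT2088 i) (Nat.ble 2134016 i)
noncomputable def eT2090 (i : Nat) : Nat := Bool.rec (eT2069 i) (eT2089 i) (Nat.ble 2123776 i)
noncomputable def eT2091 (i : Nat) : Nat := Bool.rec (eL2095 i) (eL2096 i) (Nat.ble 2146304 i)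
noncomputable def eT2092 (i : Nat) : Nat := Bool.rec (eL2098 i) (eL2099 i) (Nat.ble 2149376 i)
noncomputable def eT2093 (i : Nat) : Nat := Bool.rec (eL2097 i) (eT2092 i) (Nat.ble 2148352 i)
noncomputable def eT2094 (i : Nat) : Nat := Bool.rec (eT2091 i) (eT2093 i) (Nat.ble 2147328 i)
noncomputable def eT2095 (i : Nat) : Nat := Bool.rec (eL2100 i) (eL2101 i) (Nat.ble 2151424 i)
noncomputable def eT2096 (i : Nat) : Nat := Bool.rec (eL2103 i) (eL2104 i) (Nat.ble 2154496 i)
noncomputable def eT2097 (i : Nat) : Nat := Bool.rec (eL2102 i) (eT2096 i) (Nat.ble 2153472 i)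
noncomputable def eT2098 (i : Nat) : Nat := Bool.rec (eT2095 i) (eT2097 i) (Nat.ble 2152448 i)
noncomputable def eT2099 (i : Nat) : Nat := Bool.rec (eT2094 i) (eT2098 i) (Nat.ble 2150400 i)
noncomputable def eT2100 (i : Nat) : Nat := Bool.rec (eL2105 i) (eL2106 i) (Nat.ble 2156544 i)
noncomputable def eT2101 (i : Nat) : Nat := Bool.rec (eL2108 i) (eL2109 i) (Nat.ble 2159616 i)
noncomputable def eT2102 (i : Nat) : Nat := Bool.rec (eL2107 i) (eT2101 i) (Nat.ble 2158592 i)
noncomputable def eT2103 (i : Nat) : Nat := Bool.rec (eT2100 i) (eT2102 i) (Nat.ble 2157568 i)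
noncomputable def eT2104 (i : Nat) : Nat := Bool.rec (eL2110 i) (eL2111 i) (Nat.ble 2161664 i)
noncomputable def eT2105 (i : Nat) : Nat := Bool.rec (eL2113 i) (eL2114 i) (Nat.ble 2164736 i)
noncomputable def eT2106 (i : Nat) : Nat := Bool.rec (eL2112 i) (eT2105 i) (Nat.ble 2163712 i)
noncomputable def eT2107 (i : Nat) : Nat := Bool.rec (eT2104 i) (eT2106 i) (Nat.ble 2162688 i)
noncomputable def eT2108 (i : Nat) : Nat := Bool.rec (eT2103 i) (eT2107 i) (Nat.ble 2160640 i)
noncomputable def eT2109 (i : Nat) : Nat := Bool.rec (eT2099 i) (eT2108 i) (Nat.ble 2155520 i)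
noncomputable def eT2110 (i : Nat) : Nat := Bool.rec (eL2115 i) (eL2116 i) (Nat.ble 2166784 i)
noncomputable def eT2111 (i : Nat) : Nat := Bool.rec (eL2118 i) (eL2119 i) (Nat.ble 2169856 i)
noncomputable def eT2112 (i : Nat) : Nat := Bool.rec (eL2117 i) (eT2111 i) (Nat.ble 2168832 i)
noncomputable def eT2113 (i : Nat) : Nat := Bool.rec (eT2110 i) (eT2112 i) (Nat.ble 2167808 i)
noncomputable def eT2114 (i : Nat) : Nat := Bool.rec (eL2120 i) (eL2121 i) (Nat.ble 2171904 i)
noncomputable def eT2115 (i : Nat) : Nat := Bool.rec (eL2123 i) (eL2124 i) (Nat.ble 2174976 i)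
noncomputable def eT2116 (i : Nat) : Nat := Bool.rec (eL2122 i) (eT2115 i) (Nat.ble 2173952 i)
noncomputable def eT2117 (i : Nat) : Nat := Bool.rec (eT2114 i) (eT2116 i) (Nat.ble 2172928 i)
noncomputable def eT2118 (i : Nat) : Nat := Bool.rec (eT2113 i) (eT2117 i) (Nat.ble 2170880 i)
noncomputable def eT2119 (i : Nat) : Nat := Bool.rec (eL2125 i) (eL2126 i) (Nat.ble 2177024 i)
noncomputable def eT2120 (i : Nat) : Nat := Bool.rec (eL2128 i) (eL2129 i) (Nat.ble 2180096 i)
noncomputable def eT2121 (i : Nat) : Nat := Bool.rec (eL2127 i) (eT2120 i) (Nat.ble 2179072 i)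
noncomputable def eT2122 (i : Nat) : Nat := Bool.rec (eT2119 i) (eT2121 i) (Nat.ble 2178048 i)
noncomputable def eT2123 (i : Nat) : Nat := Bool.rec (eL2131 i) (eL2132 i) (Nat.ble 2183168 i)
noncomputable def eT2124 (i : Nat) : Nat := Bool.rec (eL2130 i) (eT2123 i) (Nat.ble 2182144 i)
noncomputable def eT2125 (i : Nat) : Nat := Bool.rec (eL2134 i) (eL2135 i) (Nat.ble 2186240 i)
noncomputable def eT2126 (i : Nat) : Nat := Bool.rec (eL2133 i) (eT2125 i) (Nat.ble 2185216 i)
noncomputable def eT2127 (i : Nat) : Nat := Bool.rec (eT2124 i) (eT2126 i) (Nat.ble 2184192 i)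
noncomputable def eT2128 (i : Nat) : Nat := Bool.rec (eT2122 i) (eT2127 i) (Nat.ble 2181120 i)
noncomputable def eT2129 (i : Nat) : Nat := Bool.rec (eT2118 i) (eT2128 i) (Nat.ble 2176000 i)
noncomputable def eT2130 (i : Nat) : Nat := Bool.rec (eT2109 i) (eT2129 i) (Nat.ble 2165760 i)
noncomputable def eT2131 (i : Nat) : Nat := Bool.rec (eT2090 i) (eT2130 i) (Nat.ble 2145280 i)
noncomputable def eT2132 (i : Nat) : Nat := Bool.rec (eT2050 i) (eT2131 i) (Nat.ble 2103296 i)
noncomputable def eT2133 (i : Nat) : Nat := Bool.rec (eL2136 i) (eL2137 i) (Nat.ble 2188288 i)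
noncomputable def eT2134 (i : Nat) : Nat := Bool.rec (eL2139 i) (eL2140 i) (Nat.ble 2191360 i)
noncomputable def eT2135 (i : Nat) : Nat := Bool.rec (eL2138 i) (eT2134 i) (Nat.ble 2190336 i)
noncomputable def eT2136 (i : Nat) : Nat := Bool.rec (eT2133 i) (eT2135 i) (Nat.ble 2189312 i)
noncomputable def eT2137 (i : Nat) : Nat := Bool.rec (eL2141 i) (eL2142 i) (Nat.ble 2193408 i)
noncomputable def eT2138 (i : Nat) : Nat := Bool.rec (eL2144 i) (eL2145 i) (Nat.ble 2196480 i)
noncomputable def eT2139 (i : Nat) : Nat := Bool.rec (eL2143 i) (eT2138 i) (Nat.ble 2195456 i)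
noncomputable def eT2140 (i : Nat) : Nat := Bool.rec (eT2137 i) (eT2139 i) (Nat.ble 2194432 i)
noncomputable def eT2141 (i : Nat) : Nat := Bool.rec (eT2136 i) (eT2140 i) (Nat.ble 2192384 i)
noncomputable def eT2142 (i : Nat) : Nat := Bool.rec (eL2146 i) (eL2147 i) (Nat.ble 2198528 i)
noncomputable def eT2143 (i : Nat) : Nat := Bool.rec (eL2149 i) (eL2150 i) (Nat.ble 2201600 i)
noncomputable def eT2144 (i : Nat) : Nat := Bool.rec (eL2148 i) (eT2143 i) (Nat.ble 2200576 i)
noncomputable def eT2145 (i : Nat) : Nat := Bool.rec (eT2142 i) (eT2144 i) (Nat.ble 2199552 i)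
noncomputable def eT2146 (i : Nat) : Nat := Bool.rec (eL2151 i) (eL2152 i) (Nat.ble 2203648 i)
noncomputable def eT2147 (i : Nat) : Nat := Bool.rec (eL2154 i) (eL2155 i) (Nat.ble 2206720 i)
noncomputable def eT2148 (i : Nat) : Nat := Bool.rec (eL2153 i) (eT2147 i) (Nat.ble 2205696 i)
noncomputable def eT2149 (i : Nat) : Nat := Bool.rec (eT2146 i) (eT2148 i) (Nat.ble 2204672 i)
noncomputable def eT2150 (i : Nat) : Nat := Bool.rec (eT2145 i) (eT2149 i) (Nat.ble 2202624 i)
noncomputable def eT2151 (i : Nat) : Nat := Bool.rec (eT2141 i) (eT2150 i) (Nat.ble 2197504 i)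
noncomputable def eT2152 (i : Nat) : Nat := Bool.rec (eL2156 i) (eL2157 i) (Nat.ble 2208768 i)
noncomputable def eT2153 (i : Nat) : Nat := Bool.rec (eL2159 i) (eL2160 i) (Nat.ble 2211840 i)
noncomputable def eT2154 (i : Nat) : Nat := Bool.rec (eL2158 i) (eT2153 i) (Nat.ble 2210816 i)
noncomputable def eT2155 (i : Nat) : Nat := Bool.rec (eT2152 i) (eT2154 i) (Nat.ble 2209792 i)
noncomputable def eT2156 (i : Nat) : Nat := Bool.rec (eL2161 i) (eL2162 i) (Nat.ble 2213888 i)
noncomputable def eT2157 (i : Nat) : Nat := Bool.rec (eL2164 i) (eL2165 i) (Nat.ble 2216960 i)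
noncomputable def eT2158 (i : Nat) : Nat := Bool.rec (eL2163 i) (eT2157 i) (Nat.ble 2215936 i)
noncomputable def eT2159 (i : Nat) : Nat := Bool.rec (eT2156 i) (eT2158 i) (Nat.ble 2214912 i)
noncomputable def eT2160 (i : Nat) : Nat := Bool.rec (eT2155 i) (eT2159 i) (Nat.ble 2212864 i)
noncomputable def eT2161 (i : Nat) : Nat := Bool.rec (eL2166 i) (eL2167 i) (Nat.ble 2219008 i)
noncomputable def eT2162 (i : Nat) : Nat := Bool.rec (eL2169 i) (eL2170 i) (Nat.ble 2222080 i)
noncomputable def eT2163 (i : Nat) : Nat := Bool.rec (eL2168 i) (eT2162 i) (Nat.ble 2221056 i)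
noncomputable def eT2164 (i : Nat) : Nat := Bool.rec (eT2161 i) (eT2163 i) (Nat.ble 2220032 i)
noncomputable def eT2165 (i : Nat) : Nat := Bool.rec (eL2172 i) (eL2173 i) (Nat.ble 2225152 i)
noncomputable def eT2166 (i : Nat) : Nat := Bool.rec (eL2171 i) (eT2165 i) (Nat.ble 2224128 i)
noncomputable def eT2167 (i : Nat) : Nat := Bool.rec (eL2175 i) (eL2176 i) (Nat.ble 2228224 i)
noncomputable def eT2168 (i : Nat) : Nat := Bool.rec (eL2174 i) (eT2167 i) (Nat.ble 2227200 i)
noncomputable def eT2169 (i : Nat) : Nat := Bool.rec (eT2166 i) (eT2168 i) (Nat.ble 2226176 i)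
noncomputable def eT2170 (i : Nat) : Nat := Bool.rec (eT2164 i) (eT2169 i) (Nat.ble 2223104 i)
noncomputable def eT2171 (i : Nat) : Nat := Bool.rec (eT2160 i) (eT2170 i) (Nat.ble 2217984 i)
noncomputable def eT2172 (i : Nat) : Nat := Bool.rec (eT2151 i) (eT2171 i) (Nat.ble 2207744 i)
noncomputable def eT2173 (i : Nat) : Nat := Bool.rec (eL2177 i) (eL2178 i) (Nat.ble 2230272 i)
noncomputable def eT2174 (i : Nat) : Nat := Bool.rec (eL2180 i) (eL2181 i) (Nat.ble 2233344 i)
noncomputable def eT2175 (i : Nat) : Nat := Bool.rec (eL2179 i) (eT2174 i) (Nat.ble 2232320 i)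
noncomputable def eT2176 (i : Nat) : Nat := Bool.rec (eT2173 i) (eT2175 i) (Nat.ble 2231296 i)
noncomputable def eT2177 (i : Nat) : Nat := Bool.rec (eL2182 i) (eL2183 i) (Nat.ble 2235392 i)
noncomputable def eT2178 (i : Nat) : Nat := Bool.rec (eL2185 i) (eL2186 i) (Nat.ble 2238464 i)
noncomputable def eT2179 (i : Nat) : Nat := Bool.rec (eL2184 i) (eT2178 i) (Nat.ble 2237440 i)
noncomputable def eT2180 (i : Nat) : Nat := Bool.rec (eT2177 i) (eT2179 i) (Nat.ble 2236416 i)
noncomputable def eT2181 (i : Nat) : Nat := Bool.rec (eT2176 i) (eT2180 i) (Nat.ble 2234368 i)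
noncomputable def eT2182 (i : Nat) : Nat := Bool.rec (eL2187 i) (eL2188 i) (Nat.ble 2240512 i)
noncomputable def eT2183 (i : Nat) : Nat := Bool.rec (eL2190 i) (eL2191 i) (Nat.ble 2243584 i)
noncomputable def eT2184 (i : Nat) : Nat := Bool.rec (eL2189 i) (eT2183 i) (Nat.ble 2242560 i)
noncomputable def eT2185 (i : Nat) : Nat := Bool.rec (eT2182 i) (eT2184 i) (Nat.ble 2241536 i)
noncomputable def eT2186 (i : Nat) : Nat := Bool.rec (eL2192 i) (eL2193 i) (Nat.ble 2245632 i)
noncomputable def eT2187 (i : Nat) : Nat := Bool.rec (eL2195 i) (eL2196 i) (Nat.ble 2248704 i)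
noncomputable def eT2188 (i : Nat) : Nat := Bool.rec (eL2194 i) (eT2187 i) (Nat.ble 2247680 i)
noncomputable def eT2189 (i : Nat) : Nat := Bool.rec (eT2186 i) (eT2188 i) (Nat.ble 2246656 i)
noncomputable def eT2190 (i : Nat) : Nat := Bool.rec (eT2185 i) (eT2189 i) (Nat.ble 2244608 i)
noncomputable def eT2191 (i : Nat) : Nat := Bool.rec (eT2181 i) (eT2190 i) (Nat.ble 2239488 i)
noncomputable def eT2192 (i : Nat) : Nat := Bool.rec (eL2197 i) (eL2198 i) (Nat.ble 2250752 i)
noncomputable def eT2193 (i : Nat) : Nat := Bool.rec (eL2200 i) (eL2201 i) (Nat.ble 2253824 i)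
noncomputable def eT2194 (i : Nat) : Nat := Bool.rec (eL2199 i) (eT2193 i) (Nat.ble 2252800 i)
noncomputable def eT2195 (i : Nat) : Nat := Bool.rec (eT2192 i) (eT2194 i) (Nat.ble 2251776 i)
noncomputable def eT2196 (i : Nat) : Nat := Bool.rec (eL2202 i) (eL2203 i) (Nat.ble 2255872 i)
noncomputable def eT2197 (i : Nat) : Nat := Bool.rec (eL2205 i) (eL2206 i) (Nat.ble 2258944 i)
noncomputable def eT2198 (i : Nat) : Nat := Bool.rec (eL2204 i) (eT2197 i) (Nat.ble 2257920 i)
noncomputable def eT2199 (i : Nat) : Nat := Bool.rec (eT2196 i) (eT2198 i) (Nat.ble 2256896 i)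
noncomputable def eT2200 (i : Nat) : Nat := Bool.rec (eT2195 i) (eT2199 i) (Nat.ble 2254848 i)
noncomputable def eT2201 (i : Nat) : Nat := Bool.rec (eL2207 i) (eL2208 i) (Nat.ble 2260992 i)
noncomputable def eT2202 (i : Nat) : Nat := Bool.rec (eL2210 i) (eL2211 i) (Nat.ble 2264064 i)
noncomputable def eT2203 (i : Nat) : Nat := Bool.rec (eL2209 i) (eT2202 i) (Nat.ble 2263040 i)
noncomputable def eT2204 (i : Nat) : Nat := Bool.rec (eT2201 i) (eT2203 i) (Nat.ble 2262016 i)
noncomputable def eT2205 (i : Nat) : Nat := Bool.rec (eL2213 i) (eL2214 i) (Nat.ble 2267136 i)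
noncomputable def eT2206 (i : Nat) : Nat := Bool.rec (eL2212 i) (eT2205 i) (Nat.ble 2266112 i)
noncomputable def eT2207 (i : Nat) : Nat := Bool.rec (eL2216 i) (eL2217 i) (Nat.ble 2270208 i)
noncomputable def eT2208 (i : Nat) : Nat := Bool.rec (eL2215 i) (eT2207 i) (Nat.ble 2269184 i)
noncomputable def eT2209 (i : Nat) : Nat := Bool.rec (eT2206 i) (eT2208 i) (Nat.ble 2268160 i)
noncomputable def eT2210 (i : Nat) : Nat := Bool.rec (eT2204 i) (eT2209 i) (Nat.ble 2265088 i)
noncomputable def eT2211 (i : Nat) : Nat := Bool.rec (eT2200 i) (eT2210 i) (Nat.ble 2259968 i)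
noncomputable def eT2212 (i : Nat) : Nat := Bool.rec (eT2191 i) (eT2211 i) (Nat.ble 2249728 i)
noncomputable def eT2213 (i : Nat) : Nat := Bool.rec (eT2172 i) (eT2212 i) (Nat.ble 2229248 i)
noncomputable def eT2214 (i : Nat) : Nat := Bool.rec (eL2218 i) (eL2219 i) (Nat.ble 2272256 i)
noncomputable def eT2215 (i : Nat) : Nat := Bool.rec (eL2221 i) (eL2222 i) (Nat.ble 2275328 i)
noncomputable def eT2216 (i : Nat) : Nat := Bool.rec (eL2220 i) (eT2215 i) (Nat.ble 2274304 i)
noncomputable def eT2217 (i : Nat) : Nat := Bool.rec (eT2214 i) (eT2216 i) (Nat.ble 2273280 i)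
noncomputable def eT2218 (i : Nat) : Nat := Bool.rec (eL2223 i) (eL2224 i) (Nat.ble 2277376 i)
noncomputable def eT2219 (i : Nat) : Nat := Bool.rec (eL2226 i) (eL2227 i) (Nat.ble 2280448 i)
noncomputable def eT2220 (i : Nat) : Nat := Bool.rec (eL2225 i) (eT2219 i) (Nat.ble 2279424 i)
noncomputable def eT2221 (i : Nat) : Nat := Bool.rec (eT2218 i) (eT2220 i) (Nat.ble 2278400 i)
noncomputable def eT2222 (i : Nat) : Nat := Bool.rec (eT2217 i) (eT2221 i) (Nat.ble 2276352 i)
noncomputable def eT2223 (i : Nat) : Nat := Bool.rec (eL2228 i) (eL2229 i) (Nat.ble 2282496 i)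
noncomputable def eT2224 (i : Nat) : Nat := Bool.rec (eL2231 i) (eL2232 i) (Nat.ble 2285568 i)
noncomputable def eT2225 (i : Nat) : Nat := Bool.rec (eL2230 i) (eT2224 i) (Nat.ble 2284544 i)
noncomputable def eT2226 (i : Nat) : Nat := Bool.rec (eT2223 i) (eT2225 i) (Nat.ble 2283520 i)
noncomputable def eT2227 (i : Nat) : Nat := Bool.rec (eL2233 i) (eL2234 i) (Nat.ble 2287616 i)
noncomputable def eT2228 (i : Nat) : Nat := Bool.rec (eL2236 i) (eL2237 i) (Nat.ble 2290688 i)
noncomputable def eT2229 (i : Nat) : Nat := Bool.rec (eL2235 i) (eT2228 i) (Nat.ble 2289664 i)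
noncomputable def eT2230 (i : Nat) : Nat := Bool.rec (eT2227 i) (eT2229 i) (Nat.ble 2288640 i)
noncomputable def eT2231 (i : Nat) : Nat := Bool.rec (eT2226 i) (eT2230 i) (Nat.ble 2286592 i)
noncomputable def eT2232 (i : Nat) : Nat := Bool.rec (eT2222 i) (eT2231 i) (Nat.ble 2281472 i)
noncomputable def eT2233 (i : Nat) : Nat := Bool.rec (eL2238 i) (eL2239 i) (Nat.ble 2292736 i)
noncomputable def eT2234 (i : Nat) : Nat := Bool.rec (eL2241 i) (eL2242 i) (Nat.ble 2295808 i)
noncomputable def eT2235 (i : Nat) : Nat := Bool.rec (eL2240 i) (eT2234 i) (Nat.ble 2294784 i)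
noncomputable def eT2236 (i : Nat) : Nat := Bool.rec (eT2233 i) (eT2235 i) (Nat.ble 2293760 i)
noncomputable def eT2237 (i : Nat) : Nat := Bool.rec (eL2243 i) (eL2244 i) (Nat.ble 2297856 i)
noncomputable def eT2238 (i : Nat) : Nat := Bool.rec (eL2246 i) (eL2247 i) (Nat.ble 2300928 i)
noncomputable def eT2239 (i : Nat) : Nat := Bool.rec (eL2245 i) (eT2238 i) (Nat.ble 2299904 i)
noncomputable def eT2240 (i : Nat) : Nat := Bool.rec (eT2237 i) (eT2239 i) (Nat.ble 2298880 i)
noncomputable def eT2241 (i : Nat) : Nat := Bool.rec (eT2236 i) (eT2240 i) (Nat.ble 2296832 i)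
noncomputable def eT2242 (i : Nat) : Nat := Bool.rec (eL2248 i) (eL2249 i) (Nat.ble 2302976 i)
noncomputable def eT2243 (i : Nat) : Nat := Bool.rec (eL2251 i) (eL2252 i) (Nat.ble 2306048 i)
noncomputable def eT2244 (i : Nat) : Nat := Bool.rec (eL2250 i) (eT2243 i) (Nat.ble 2305024 i)
noncomputable def eT2245 (i : Nat) : Nat := Bool.rec (eT2242 i) (eT2244 i) (Nat.ble 2304000 i)
noncomputable def eT2246 (i : Nat) : Nat := Bool.rec (eL2254 i) (eL2255 i) (Nat.ble 2309120 i)
noncomputable def eT2247 (i : Nat) : Nat := Bool.rec (eL2253 i) (eT2246 i) (Nat.ble 2308096 i)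
noncomputable def eT2248 (i : Nat) : Nat := Bool.rec (eL2257 i) (eL2258 i) (Nat.ble 2312192 i)
noncomputable def eT2249 (i : Nat) : Nat := Bool.rec (eL2256 i) (eT2248 i) (Nat.ble 2311168 i)
noncomputable def eT2250 (i : Nat) : Nat := Bool.rec (eT2247 i) (eT2249 i) (Nat.ble 2310144 i)
noncomputable def eT2251 (i : Nat) : Nat := Bool.rec (eT2245 i) (eT2250 i) (Nat.ble 2307072 i)
noncomputable def eT2252 (i : Nat) : Nat := Bool.rec (eT2241 i) (eT2251 i) (Nat.ble 2301952 i)
noncomputable def eT2253 (i : Nat) : Nat := Bool.rec (eT2232 i) (eT2252 i) (Nat.ble 2291712 i)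
noncomputable def eT2254 (i : Nat) : Nat := Bool.rec (eL2259 i) (eL2260 i) (Nat.ble 2314240 i)
noncomputable def eT2255 (i : Nat) : Nat := Bool.rec (eL2262 i) (eL2263 i) (Nat.ble 2317312 i)
noncomputable def eT2256 (i : Nat) : Nat := Bool.rec (eL2261 i) (eT2255 i) (Nat.ble 2316288 i)
noncomputable def eT2257 (i : Nat) : Nat := Bool.rec (eT2254 i) (eT2256 i) (Nat.ble 2315264 i)
noncomputable def eT2258 (i : Nat) : Nat := Bool.rec (eL2264 i) (eL2265 i) (Nat.ble 2319360 i)
noncomputable def eT2259 (i : Nat) : Nat := Bool.rec (eL2267 i) (eL2268 i) (Nat.ble 2322432 i)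
noncomputable def eT2260 (i : Nat) : Nat := Bool.rec (eL2266 i) (eT2259 i) (Nat.ble 2321408 i)
noncomputable def eT2261 (i : Nat) : Nat := Bool.rec (eT2258 i) (eT2260 i) (Nat.ble 2320384 i)
noncomputable def eT2262 (i : Nat) : Nat := Bool.rec (eT2257 i) (eT2261 i) (Nat.ble 2318336 i)
noncomputable def eT2263 (i : Nat) : Nat := Bool.rec (eL2269 i) (eL2270 i) (Nat.ble 2324480 i)
noncomputable def eT2264 (i : Nat) : Nat := Bool.rec (eL2272 i) (eL2273 i) (Nat.ble 2327552 i)
noncomputable def eT2265 (i : Nat) : Nat := Bool.rec (eL2271 i) (eT2264 i) (Nat.ble 2326528 i)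
noncomputable def eT2266 (i : Nat) : Nat := Bool.rec (eT2263 i) (eT2265 i) (Nat.ble 2325504 i)
noncomputable def eT2267 (i : Nat) : Nat := Bool.rec (eL2275 i) (eL2276 i) (Nat.ble 2330624 i)
noncomputable def eT2268 (i : Nat) : Nat := Bool.rec (eL2274 i) (eT2267 i) (Nat.ble 2329600 i)
noncomputable def eT2269 (i : Nat) : Nat := Bool.rec (eL2278 i) (eL2279 i) (Nat.ble 2333696 i)
noncomputable def eT2270 (i : Nat) : Nat := Bool.rec (eL2277 i) (eT2269 i) (Nat.ble 2332672 i)
noncomputable def eT2271 (i : Nat) : Nat := Bool.rec (eT2268 i) (eT2270 i) (Nat.ble 2331648 i)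
noncomputable def eT2272 (i : Nat) : Nat := Bool.rec (eT2266 i) (eT2271 i) (Nat.ble 2328576 i)
noncomputable def eT2273 (i : Nat) : Nat := Bool.rec (eT2262 i) (eT2272 i) (Nat.ble 2323456 i)
noncomputable def eT2274 (i : Nat) : Nat := Bool.rec (eL2280 i) (eL2281 i) (Nat.ble 2335744 i)
noncomputable def eT2275 (i : Nat) : Nat := Bool.rec (eL2283 i) (eL2284 i) (Nat.ble 2338816 i)
noncomputable def eT2276 (i : Nat) : Nat := Bool.rec (eL2282 i) (eT2275 i) (Nat.ble 2337792 i)
noncomputable def eT2277 (i : Nat) : Nat := Bool.rec (eT2274 i) (eT2276 i) (Nat.ble 2336768 i)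
noncomputable def eT2278 (i : Nat) : Nat := Bool.rec (eL2285 i) (eL2286 i) (Nat.ble 2340864 i)
noncomputable def eT2279 (i : Nat) : Nat := Bool.rec (eL2288 i) (eL2289 i) (Nat.ble 2343936 i)
noncomputable def eT2280 (i : Nat) : Nat := Bool.rec (eL2287 i) (eT2279 i) (Nat.ble 2342912 i)
noncomputable def eT2281 (i : Nat) : Nat := Bool.rec (eT2278 i) (eT2280 i) (Nat.ble 2341888 i)
noncomputable def eT2282 (i : Nat) : Nat := Bool.rec (eT2277 i) (eT2281 i) (Nat.ble 2339840 i)
noncomputable def eT2283 (i : Nat) : Nat := Bool.rec (eL2290 i) (eL2291 i) (Nat.ble 2345984 i)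
noncomputable def eT2284 (i : Nat) : Nat := Bool.rec (eL2293 i) (eL2294 i) (Nat.ble 2349056 i)
noncomputable def eT2285 (i : Nat) : Nat := Bool.rec (eL2292 i) (eT2284 i) (Nat.ble 2348032 i)
noncomputable def eT2286 (i : Nat) : Nat := Bool.rec (eT2283 i) (eT2285 i) (Nat.ble 2347008 i)
noncomputable def eT2287 (i : Nat) : Nat := Bool.rec (eL2296 i) (eL2297 i) (Nat.ble 2352128 i)
noncomputable def eT2288 (i : Nat) : Nat := Bool.rec (eL2295 i) (eT2287 i) (Nat.ble 2351104 i)
noncomputable def eT2289 (i : Nat) : Nat := Bool.rec (eL2299 i) (eL2300 i) (Nat.ble 2355200 i)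
noncomputable def eT2290 (i : Nat) : Nat := Bool.rec (eL2298 i) (eT2289 i) (Nat.ble 2354176 i)
noncomputable def eT2291 (i : Nat) : Nat := Bool.rec (eT2288 i) (eT2290 i) (Nat.ble 2353152 i)
noncomputable def eT2292 (i : Nat) : Nat := Bool.rec (eT2286 i) (eT2291 i) (Nat.ble 2350080 i)
noncomputable def eT2293 (i : Nat) : Nat := Bool.rec (eT2282 i) (eT2292 i) (Nat.ble 2344960 i)
noncomputable def eT2294 (i : Nat) : Nat := Bool.rec (eT2273 i) (eT2293 i) (Nat.ble 2334720 i)
noncomputable def eT2295 (i : Nat) : Nat := Bool.rec (eT2253 i) (eT2294 i) (Nat.ble 2313216 i)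
noncomputable def eT2296 (i : Nat) : Nat := Bool.rec (eT2213 i) (eT2295 i) (Nat.ble 2271232 i)
noncomputable def eT2297 (i : Nat) : Nat := Bool.rec (eT2132 i) (eT2296 i) (Nat.ble 2187264 i)
noncomputable def eT2298 (i : Nat) : Nat := Bool.rec (eL2301 i) (eL2302 i) (Nat.ble 2357248 i)
noncomputable def eT2299 (i : Nat) : Nat := Bool.rec (eL2304 i) (eL2305 i) (Nat.ble 2360320 i)
noncomputable def eT2300 (i : Nat) : Nat := Bool.rec (eL2303 i) (eT2299 i) (Nat.ble 2359296 i)
noncomputable def eT2301 (i : Nat) : Nat := Bool.rec (eT2298 i) (eT2300 i) (Nat.ble 2358272 i)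
noncomputable def eT2302 (i : Nat) : Nat := Bool.rec (eL2306 i) (eL2307 i) (Nat.ble 2362368 i)
noncomputable def eT2303 (i : Nat) : Nat := Bool.rec (eL2309 i) (eL2310 i) (Nat.ble 2365440 i)
noncomputable def eT2304 (i : Nat) : Nat := Bool.rec (eL2308 i) (eT2303 i) (Nat.ble 2364416 i)
noncomputable def eT2305 (i : Nat) : Nat := Bool.rec (eT2302 i) (eT2304 i) (Nat.ble 2363392 i)
noncomputable def eT2306 (i : Nat) : Nat := Bool.rec (eT2301 i) (eT2305 i) (Nat.ble 2361344 i)
noncomputable def eT2307 (i : Nat) : Nat := Bool.rec (eL2311 i) (eL2312 i) (Nat.ble 2367488 i)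
noncomputable def eT2308 (i : Nat) : Nat := Bool.rec (eL2314 i) (eL2315 i) (Nat.ble 2370560 i)
noncomputable def eT2309 (i : Nat) : Nat := Bool.rec (eL2313 i) (eT2308 i) (Nat.ble 2369536 i)
noncomputable def eT2310 (i : Nat) : Nat := Bool.rec (eT2307 i) (eT2309 i) (Nat.ble 2368512 i)
noncomputable def eT2311 (i : Nat) : Nat := Bool.rec (eL2316 i) (eL2317 i) (Nat.ble 2372608 i)
noncomputable def eT2312 (i : Nat) : Nat := Bool.rec (eL2319 i) (eL2320 i) (Nat.ble 2375680 i)
noncomputable def eT2313 (i : Nat) : Nat := Bool.rec (eL2318 i) (eT2312 i) (Nat.ble 2374656 i)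
noncomputable def eT2314 (i : Nat) : Nat := Bool.rec (eT2311 i) (eT2313 i) (Nat.ble 2373632 i)
noncomputable def eT2315 (i : Nat) : Nat := Bool.rec (eT2310 i) (eT2314 i) (Nat.ble 2371584 i)
noncomputable def eT2316 (i : Nat) : Nat := Bool.rec (eT2306 i) (eT2315 i) (Nat.ble 2366464 i)
noncomputable def eT2317 (i : Nat) : Nat := Bool.rec (eL2321 i) (eL2322 i) (Nat.ble 2377728 i)
noncomputable def eT2318 (i : Nat) : Nat := Bool.rec (eL2324 i) (eL2325 i) (Nat.ble 2380800 i)
noncomputable def eT2319 (i : Nat) : Nat := Bool.rec (eL2323 i) (eT2318 i) (Nat.ble 2379776 i)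
noncomputable def eT2320 (i : Nat) : Nat := Bool.rec (eT2317 i) (eT2319 i) (Nat.ble 2378752 i)
noncomputable def eT2321 (i : Nat) : Nat := Bool.rec (eL2326 i) (eL2327 i) (Nat.ble 2382848 i)
noncomputable def eT2322 (i : Nat) : Nat := Bool.rec (eL2329 i) (eL2330 i) (Nat.ble 2385920 i)
noncomputable def eT2323 (i : Nat) : Nat := Bool.rec (eL2328 i) (eT2322 i) (Nat.ble 2384896 i)
noncomputable def eT2324 (i : Nat) : Nat := Bool.rec (eT2321 i) (eT2323 i) (Nat.ble 2383872 i)
noncomputable def eT2325 (i : Nat) : Nat := Bool.rec (eT2320 i) (eT2324 i) (Nat.ble 2381824 i)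
noncomputable def eT2326 (i : Nat) : Nat := Bool.rec (eL2331 i) (eL2332 i) (Nat.ble 2387968 i)
noncomputable def eT2327 (i : Nat) : Nat := Bool.rec (eL2334 i) (eL2335 i) (Nat.ble 2391040 i)
noncomputable def eT2328 (i : Nat) : Nat := Bool.rec (eL2333 i) (eT2327 i) (Nat.ble 2390016 i)
noncomputable def eT2329 (i : Nat) : Nat := Bool.rec (eT2326 i) (eT2328 i) (Nat.ble 2388992 i)
noncomputable def eT2330 (i : Nat) : Nat := Bool.rec (eL2337 i) (eL2338 i) (Nat.ble 2394112 i)
noncomputable def eT2331 (i : Nat) : Nat := Bool.rec (eL2336 i) (eT2330 i) (Nat.ble 2393088 i)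
noncomputable def eT2332 (i : Nat) : Nat := Bool.rec (eL2340 i) (eL2341 i) (Nat.ble 2397184 i)
noncomputable def eT2333 (i : Nat) : Nat := Bool.rec (eL2339 i) (eT2332 i) (Nat.ble 2396160 i)
noncomputable def eT2334 (i : Nat) : Nat := Bool.rec (eT2331 i) (eT2333 i) (Nat.ble 2395136 i)
noncomputable def eT2335 (i : Nat) : Nat := Bool.rec (eT2329 i) (eT2334 i) (Nat.ble 2392064 i)
noncomputable def eT2336 (i : Nat) : Nat := Bool.rec (eT2325 i) (eT2335 i) (Nat.ble 2386944 i)
noncomputable def eT2337 (i : Nat) : Nat := Bool.rec (eT2316 i) (eT2336 i) (Nat.ble 2376704 i)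
noncomputable def eT2338 (i : Nat) : Nat := Bool.rec (eL2342 i) (eL2343 i) (Nat.ble 2399232 i)
noncomputable def eT2339 (i : Nat) : Nat := Bool.rec (eL2345 i) (eL2346 i) (Nat.ble 2402304 i)
noncomputable def eT2340 (i : Nat) : Nat := Bool.rec (eL2344 i) (eT2339 i) (Nat.ble 2401280 i)
noncomputable def eT2341 (i : Nat) : Nat := Bool.rec (eT2338 i) (eT2340 i) (Nat.ble 2400256 i)
noncomputable def eT2342 (i : Nat) : Nat := Bool.rec (eL2347 i) (eL2348 i) (Nat.ble 2404352 i)
noncomputable def eT2343 (i : Nat) : Nat := Bool.rec (eL2350 i) (eL2351 i) (Nat.ble 2407424 i)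
noncomputable def eT2344 (i : Nat) : Nat := Bool.rec (eL2349 i) (eT2343 i) (Nat.ble 2406400 i)
noncomputable def eT2345 (i : Nat) : Nat := Bool.rec (eT2342 i) (eT2344 i) (Nat.ble 2405376 i)
noncomputable def eT2346 (i : Nat) : Nat := Bool.rec (eT2341 i) (eT2345 i) (Nat.ble 2403328 i)
noncomputable def eT2347 (i : Nat) : Nat := Bool.rec (eL2352 i) (eL2353 i) (Nat.ble 2409472 i)
noncomputable def eT2348 (i : Nat) : Nat := Bool.rec (eL2355 i) (eL2356 i) (Nat.ble 2412544 i)
noncomputable def eT2349 (i : Nat) : Nat := Bool.rec (eL2354 i) (eT2348 i) (Nat.ble 2411520 i)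
noncomputable def eT2350 (i : Nat) : Nat := Bool.rec (eT2347 i) (eT2349 i) (Nat.ble 2410496 i)
noncomputable def eT2351 (i : Nat) : Nat := Bool.rec (eL2357 i) (eL2358 i) (Nat.ble 2414592 i)
noncomputable def eT2352 (i : Nat) : Nat := Bool.rec (eL2360 i) (eL2361 i) (Nat.ble 2417664 i)
noncomputable def eT2353 (i : Nat) : Nat := Bool.rec (eL2359 i) (eT2352 i) (Nat.ble 2416640 i)
noncomputable def eT2354 (i : Nat) : Nat := Bool.rec (eT2351 i) (eT2353 i) (Nat.ble 2415616 i)
noncomputable def eT2355 (i : Nat) : Nat := Bool.rec (eT2350 i) (eT2354 i) (Nat.ble 2413568 i)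
noncomputable def eT2356 (i : Nat) : Nat := Bool.rec (eT2346 i) (eT2355 i) (Nat.ble 2408448 i)
noncomputable def eT2357 (i : Nat) : Nat := Bool.rec (eL2362 i) (eL2363 i) (Nat.ble 2419712 i)
noncomputable def eT2358 (i : Nat) : Nat := Bool.rec (eL2365 i) (eL2366 i) (Nat.ble 2422784 i)
noncomputable def eT2359 (i : Nat) : Nat := Bool.rec (eL2364 i) (eT2358 i) (Nat.ble 2421760 i)
noncomputable def eT2360 (i : Nat) : Nat := Bool.rec (eT2357 i) (eT2359 i) (Nat.ble 2420736 i)
noncomputable def eT2361 (i : Nat) : Nat := Bool.rec (eL2367 i) (eL2368 i) (Nat.ble 2424832 i)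
noncomputable def eT2362 (i : Nat) : Nat := Bool.rec (eL2370 i) (eL2371 i) (Nat.ble 2427904 i)
noncomputable def eT2363 (i : Nat) : Nat := Bool.rec (eL2369 i) (eT2362 i) (Nat.ble 2426880 i)
noncomputable def eT2364 (i : Nat) : Nat := Bool.rec (eT2361 i) (eT2363 i) (Nat.ble 2425856 i)
noncomputable def eT2365 (i : Nat) : Nat := Bool.rec (eT2360 i) (eT2364 i) (Nat.ble 2423808 i)
noncomputable def eT2366 (i : Nat) : Nat := Bool.rec (eL2372 i) (eL2373 i) (Nat.ble 2429952 i)
noncomputable def eT2367 (i : Nat) : Nat := Bool.rec (eL2375 i) (eL2376 i) (Nat.ble 2433024 i)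
noncomputable def eT2368 (i : Nat) : Nat := Bool.rec (eL2374 i) (eT2367 i) (Nat.ble 2432000 i)
noncomputable def eT2369 (i : Nat) : Nat := Bool.rec (eT2366 i) (eT2368 i) (Nat.ble 2430976 i)
noncomputable def eT2370 (i : Nat) : Nat := Bool.rec (eL2378 i) (eL2379 i) (Nat.ble 2436096 i)
noncomputable def eT2371 (i : Nat) : Nat := Bool.rec (eL2377 i) (eT2370 i) (Nat.ble 2435072 i)
noncomputable def eT2372 (i : Nat) : Nat := Bool.rec (eL2381 i) (eL2382 i) (Nat.ble 2439168 i)
noncomputable def eT2373 (i : Nat) : Nat := Bool.rec (eL2380 i) (eT2372 i) (Nat.ble 2438144 i)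
noncomputable def eT2374 (i : Nat) : Nat := Bool.rec (eT2371 i) (eT2373 i) (Nat.ble 2437120 i)
noncomputable def eT2375 (i : Nat) : Nat := Bool.rec (eT2369 i) (eT2374 i) (Nat.ble 2434048 i)
noncomputable def eT2376 (i : Nat) : Nat := Bool.rec (eT2365 i) (eT2375 i) (Nat.ble 2428928 i)
noncomputable def eT2377 (i : Nat) : Nat := Bool.rec (eT2356 i) (eT2376 i) (Nat.ble 2418688 i)
noncomputable def eT2378 (i : Nat) : Nat := Bool.rec (eT2337 i) (eT2377 i) (Nat.ble 2398208 i)
noncomputable def eT2379 (i : Nat) : Nat := Bool.rec (eL2383 i) (eL2384 i) (Nat.ble 2441216 i)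
noncomputable def eT2380 (i : Nat) : Nat := Bool.rec (eL2386 i) (eL2387 i) (Nat.ble 2444288 i)
noncomputable def eT2381 (i : Nat) : Nat := Bool.rec (eL2385 i) (eT2380 i) (Nat.ble 2443264 i)
noncomputable def eT2382 (i : Nat) : Nat := Bool.rec (eT2379 i) (eT2381 i) (Nat.ble 2442240 i)
noncomputable def eT2383 (i : Nat) : Nat := Bool.rec (eL2388 i) (eL2389 i) (Nat.ble 2446336 i)
noncomputable def eT2384 (i : Nat) : Nat := Bool.rec (eL2391 i) (eL2392 i) (Nat.ble 2449408 i)
noncomputable def eT2385 (i : Nat) : Nat := Bool.rec (eL2390 i) (eT2384 i) (Nat.ble 2448384 i)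
noncomputable def eT2386 (i : Nat) : Nat := Bool.rec (eT2383 i) (eT2385 i) (Nat.ble 2447360 i)
noncomputable def eT2387 (i : Nat) : Nat := Bool.rec (eT2382 i) (eT2386 i) (Nat.ble 2445312 i)
noncomputable def eT2388 (i : Nat) : Nat := Bool.rec (eL2393 i) (eL2394 i) (Nat.ble 2451456 i)
noncomputable def eT2389 (i : Nat) : Nat := Bool.rec (eL2396 i) (eL2397 i) (Nat.ble 2454528 i)
noncomputable def eT2390 (i : Nat) : Nat := Bool.rec (eL2395 i) (eT2389 i) (Nat.ble 2453504 i)
noncomputable def eT2391 (i : Nat) : Nat := Bool.rec (eT2388 i) (eT2390 i) (Nat.ble 2452480 i)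
noncomputable def eT2392 (i : Nat) : Nat := Bool.rec (eL2398 i) (eL2399 i) (Nat.ble 2456576 i)
noncomputable def eT2393 (i : Nat) : Nat := Bool.rec (eL2401 i) (eL2402 i) (Nat.ble 2459648 i)
noncomputable def eT2394 (i : Nat) : Nat := Bool.rec (eL2400 i) (eT2393 i) (Nat.ble 2458624 i)
noncomputable def eT2395 (i : Nat) : Nat := Bool.rec (eT2392 i) (eT2394 i) (Nat.ble 2457600 i)
noncomputable def eT2396 (i : Nat) : Nat := Bool.rec (eT2391 i) (eT2395 i) (Nat.ble 2455552 i)
noncomputable def eT2397 (i : Nat) : Nat := Bool.rec (eT2387 i) (eT2396 i) (Nat.ble 2450432 i)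
noncomputable def eT2398 (i : Nat) : Nat := Bool.rec (eL2403 i) (eL2404 i) (Nat.ble 2461696 i)
noncomputable def eT2399 (i : Nat) : Nat := Bool.rec (eL2406 i) (eL2407 i) (Nat.ble 2464768 i)
noncomputable def eT2400 (i : Nat) : Nat := Bool.rec (eL2405 i) (eT2399 i) (Nat.ble 2463744 i)
noncomputable def eT2401 (i : Nat) : Nat := Bool.rec (eT2398 i) (eT2400 i) (Nat.ble 2462720 i)
noncomputable def eT2402 (i : Nat) : Nat := Bool.rec (eL2408 i) (eL2409 i) (Nat.ble 2466816 i)
noncomputable def eT2403 (i : Nat) : Nat := Bool.rec (eL2411 i) (eL2412 i) (Nat.ble 2469888 i)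
noncomputable def eT2404 (i : Nat) : Nat := Bool.rec (eL2410 i) (eT2403 i) (Nat.ble 2468864 i)
noncomputable def eT2405 (i : Nat) : Nat := Bool.rec (eT2402 i) (eT2404 i) (Nat.ble 2467840 i)
noncomputable def eT2406 (i : Nat) : Nat := Bool.rec (eT2401 i) (eT2405 i) (Nat.ble 2465792 i)
noncomputable def eT2407 (i : Nat) : Nat := Bool.rec (eL2413 i) (eL2414 i) (Nat.ble 2471936 i)
noncomputable def eT2408 (i : Nat) : Nat := Bool.rec (eL2416 i) (eL2417 i) (Nat.ble 2475008 i)
noncomputable def eT2409 (i : Nat) : Nat := Bool.rec (eL2415 i) (eT2408 i) (Nat.ble 2473984 i)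
noncomputable def eT2410 (i : Nat) : Nat := Bool.rec (eT2407 i) (eT2409 i) (Nat.ble 2472960 i)
noncomputable def eT2411 (i : Nat) : Nat := Bool.rec (eL2419 i) (eL2420 i) (Nat.ble 2478080 i)
noncomputable def eT2412 (i : Nat) : Nat := Bool.rec (eL2418 i) (eT2411 i) (Nat.ble 2477056 i)
noncomputable def eT2413 (i : Nat) : Nat := Bool.rec (eL2422 i) (eL2423 i) (Nat.ble 2481152 i)
noncomputable def eT2414 (i : Nat) : Nat := Bool.rec (eL2421 i) (eT2413 i) (Nat.ble 2480128 i)
noncomputable def eT2415 (i : Nat) : Nat := Bool.rec (eT2412 i) (eT2414 i) (Nat.ble 2479104 i)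
noncomputable def eT2416 (i : Nat) : Nat := Bool.rec (eT2410 i) (eT2415 i) (Nat.ble 2476032 i)
noncomputable def eT2417 (i : Nat) : Nat := Bool.rec (eT2406 i) (eT2416 i) (Nat.ble 2470912 i)
noncomputable def eT2418 (i : Nat) : Nat := Bool.rec (eT2397 i) (eT2417 i) (Nat.ble 2460672 i)
noncomputable def eT2419 (i : Nat) : Nat := Bool.rec (eL2424 i) (eL2425 i) (Nat.ble 2483200 i)
noncomputable def eT2420 (i : Nat) : Nat := Bool.rec (eL2427 i) (eL2428 i) (Nat.ble 2486272 i)
noncomputable def eT2421 (i : Nat) : Nat := Bool.rec (eL2426 i) (eT2420 i) (Nat.ble 2485248 i)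
noncomputable def eT2422 (i : Nat) : Nat := Bool.rec (eT2419 i) (eT2421 i) (Nat.ble 2484224 i)
noncomputable def eT2423 (i : Nat) : Nat := Bool.rec (eL2429 i) (eL2430 i) (Nat.ble 2488320 i)
noncomputable def eT2424 (i : Nat) : Nat := Bool.rec (eL2432 i) (eL2433 i) (Nat.ble 2491392 i)
noncomputable def eT2425 (i : Nat) : Nat := Bool.rec (eL2431 i) (eT2424 i) (Nat.ble 2490368 i)
noncomputable def eT2426 (i : Nat) : Nat := Bool.rec (eT2423 i) (eT2425 i) (Nat.ble 2489344 i)
noncomputable def eT2427 (i : Nat) : Nat := Bool.rec (eT2422 i) (eT2426 i) (Nat.ble 2487296 i)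
noncomputable def eT2428 (i : Nat) : Nat := Bool.rec (eL2434 i) (eL2435 i) (Nat.ble 2493440 i)
noncomputable def eT2429 (i : Nat) : Nat := Bool.rec (eL2437 i) (eL2438 i) (Nat.ble 2496512 i)
noncomputable def eT2430 (i : Nat) : Nat := Bool.rec (eL2436 i) (eT2429 i) (Nat.ble 2495488 i)
noncomputable def eT2431 (i : Nat) : Nat := Bool.rec (eT2428 i) (eT2430 i) (Nat.ble 2494464 i)
noncomputable def eT2432 (i : Nat) : Nat := Bool.rec (eL2439 i) (eL2440 i) (Nat.ble 2498560 i)
noncomputable def eT2433 (i : Nat) : Nat := Bool.rec (eL2442 i) (eL2443 i) (Nat.ble 2501632 i)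
noncomputable def eT2434 (i : Nat) : Nat := Bool.rec (eL2441 i) (eT2433 i) (Nat.ble 2500608 i)
noncomputable def eT2435 (i : Nat) : Nat := Bool.rec (eT2432 i) (eT2434 i) (Nat.ble 2499584 i)
noncomputable def eT2436 (i : Nat) : Nat := Bool.rec (eT2431 i) (eT2435 i) (Nat.ble 2497536 i)
noncomputable def eT2437 (i : Nat) : Nat := Bool.rec (eT2427 i) (eT2436 i) (Nat.ble 2492416 i)
noncomputable def eT2438 (i : Nat) : Nat := Bool.rec (eL2444 i) (eL2445 i) (Nat.ble 2503680 i)
noncomputable def eT2439 (i : Nat) : Nat := Bool.rec (eL2447 i) (eL2448 i) (Nat.ble 2506752 i)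
noncomputable def eT2440 (i : Nat) : Nat := Bool.rec (eL2446 i) (eT2439 i) (Nat.ble 2505728 i)
noncomputable def eT2441 (i : Nat) : Nat := Bool.rec (eT2438 i) (eT2440 i) (Nat.ble 2504704 i)
noncomputable def eT2442 (i : Nat) : Nat := Bool.rec (eL2449 i) (eL2450 i) (Nat.ble 2508800 i)
noncomputable def eT2443 (i : Nat) : Nat := Bool.rec (eL2452 i) (eL2453 i) (Nat.ble 2511872 i)
noncomputable def eT2444 (i : Nat) : Nat := Bool.rec (eL2451 i) (eT2443 i) (Nat.ble 2510848 i)
noncomputable def eT2445 (i : Nat) : Nat := Bool.rec (eT2442 i) (eT2444 i) (Nat.ble 2509824 i)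
noncomputable def eT2446 (i : Nat) : Nat := Bool.rec (eT2441 i) (eT2445 i) (Nat.ble 2507776 i)
noncomputable def eT2447 (i : Nat) : Nat := Bool.rec (eL2454 i) (eL2455 i) (Nat.ble 2513920 i)
noncomputable def eT2448 (i : Nat) : Nat := Bool.rec (eL2457 i) (eL2458 i) (Nat.ble 2516992 i)
noncomputable def eT2449 (i : Nat) : Nat := Bool.rec (eL2456 i) (eT2448 i) (Nat.ble 2515968 i)
noncomputable def eT2450 (i : Nat) : Nat := Bool.rec (eT2447 i) (eT2449 i) (Nat.ble 2514944 i)
noncomputable def eT2451 (i : Nat) : Nat := Bool.rec (eL2460 i) (eL2461 i) (Nat.ble 2520064 i)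
noncomputable def eT2452 (i : Nat) : Nat := Bool.rec (eL2459 i) (eT2451 i) (Nat.ble 2519040 i)
noncomputable def eT2453 (i : Nat) : Nat := Bool.rec (eL2463 i) (eL2464 i) (Nat.ble 2523136 i)
noncomputable def eT2454 (i : Nat) : Nat := Bool.rec (eL2462 i) (eT2453 i) (Nat.ble 2522112 i)
noncomputable def eT2455 (i : Nat) : Nat := Bool.rec (eT2452 i) (eT2454 i) (Nat.ble 2521088 i)
noncomputable def eT2456 (i : Nat) : Nat := Bool.rec (eT2450 i) (eT2455 i) (Nat.ble 2518016 i)
noncomputable def eT2457 (i : Nat) : Nat := Bool.rec (eT2446 i) (eT2456 i) (Nat.ble 2512896 i)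
noncomputable def eT2458 (i : Nat) : Nat := Bool.rec (eT2437 i) (eT2457 i) (Nat.ble 2502656 i)
noncomputable def eT2459 (i : Nat) : Nat := Bool.rec (eT2418 i) (eT2458 i) (Nat.ble 2482176 i)
noncomputable def eT2460 (i : Nat) : Nat := Bool.rec (eT2378 i) (eT2459 i) (Nat.ble 2440192 i)
noncomputable def eT2461 (i : Nat) : Nat := Bool.rec (eL2465 i) (eL2466 i) (Nat.ble 2525184 i)
noncomputable def eT2462 (i : Nat) : Nat := Bool.rec (eL2468 i) (eL2469 i) (Nat.ble 2528256 i)
noncomputable def eT2463 (i : Nat) : Nat := Bool.rec (eL2467 i) (eT2462 i) (Nat.ble 2527232 i)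
noncomputable def eT2464 (i : Nat) : Nat := Bool.rec (eT2461 i) (eT2463 i) (Nat.ble 2526208 i)
noncomputable def eT2465 (i : Nat) : Nat := Bool.rec (eL2470 i) (eL2471 i) (Nat.ble 2530304 i)
noncomputable def eT2466 (i : Nat) : Nat := Bool.rec (eL2473 i) (eL2474 i) (Nat.ble 2533376 i)
noncomputable def eT2467 (i : Nat) : Nat := Bool.rec (eL2472 i) (eT2466 i) (Nat.ble 2532352 i)
noncomputable def eT2468 (i : Nat) : Nat := Bool.rec (eT2465 i) (eT2467 i) (Nat.ble 2531328 i)
noncomputable def eT2469 (i : Nat) : Nat := Bool.rec (eT2464 i) (eT2468 i) (Nat.ble 2529280 i)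
noncomputable def eT2470 (i : Nat) : Nat := Bool.rec (eL2475 i) (eL2476 i) (Nat.ble 2535424 i)
noncomputable def eT2471 (i : Nat) : Nat := Bool.rec (eL2478 i) (eL2479 i) (Nat.ble 2538496 i)
noncomputable def eT2472 (i : Nat) : Nat := Bool.rec (eL2477 i) (eT2471 i) (Nat.ble 2537472 i)
noncomputable def eT2473 (i : Nat) : Nat := Bool.rec (eT2470 i) (eT2472 i) (Nat.ble 2536448 i)
noncomputable def eT2474 (i : Nat) : Nat := Bool.rec (eL2480 i) (eL2481 i) (Nat.ble 2540544 i)
noncomputable def eT2475 (i : Nat) : Nat := Bool.rec (eL2483 i) (eL2484 i) (Nat.ble 2543616 i)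
noncomputable def eT2476 (i : Nat) : Nat := Bool.rec (eL2482 i) (eT2475 i) (Nat.ble 2542592 i)
noncomputable def eT2477 (i : Nat) : Nat := Bool.rec (eT2474 i) (eT2476 i) (Nat.ble 2541568 i)
noncomputable def eT2478 (i : Nat) : Nat := Bool.rec (eT2473 i) (eT2477 i) (Nat.ble 2539520 i)
noncomputable def eT2479 (i : Nat) : Nat := Bool.rec (eT2469 i) (eT2478 i) (Nat.ble 2534400 i)
noncomputable def eT2480 (i : Nat) : Nat := Bool.rec (eL2485 i) (eL2486 i) (Nat.ble 2545664 i)
noncomputable def eT2481 (i : Nat) : Nat := Bool.rec (eL2488 i) (eL2489 i) (Nat.ble 2548736 i)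
noncomputable def eT2482 (i : Nat) : Nat := Bool.rec (eL2487 i) (eT2481 i) (Nat.ble 2547712 i)
noncomputable def eT2483 (i : Nat) : Nat := Bool.rec (eT2480 i) (eT2482 i) (Nat.ble 2546688 i)
noncomputable def eT2484 (i : Nat) : Nat := Bool.rec (eL2490 i) (eL2491 i) (Nat.ble 2550784 i)
noncomputable def eT2485 (i : Nat) : Nat := Bool.rec (eL2493 i) (eL2494 i) (Nat.ble 2553856 i)
noncomputable def eT2486 (i : Nat) : Nat := Bool.rec (eL2492 i) (eT2485 i) (Nat.ble 2552832 i)
noncomputable def eT2487 (i : Nat) : Nat := Bool.rec (eT2484 i) (eT2486 i) (Nat.ble 2551808 i)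
noncomputable def eT2488 (i : Nat) : Nat := Bool.rec (eT2483 i) (eT2487 i) (Nat.ble 2549760 i)
noncomputable def eT2489 (i : Nat) : Nat := Bool.rec (eL2495 i) (eL2496 i) (Nat.ble 2555904 i)
noncomputable def eT2490 (i : Nat) : Nat := Bool.rec (eL2498 i) (eL2499 i) (Nat.ble 2558976 i)
noncomputable def eT2491 (i : Nat) : Nat := Bool.rec (eL2497 i) (eT2490 i) (Nat.ble 2557952 i)
noncomputable def eT2492 (i : Nat) : Nat := Bool.rec (eT2489 i) (eT2491 i) (Nat.ble 2556928 i)
noncomputable def eT2493 (i : Nat) : Nat := Bool.rec (eL2501 i) (eL2502 i) (Nat.ble 2562048 i)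
noncomputable def eT2494 (i : Nat) : Nat := Bool.rec (eL2500 i) (eT2493 i) (Nat.ble 2561024 i)
noncomputable def eT2495 (i : Nat) : Nat := Bool.rec (eL2504 i) (eL2505 i) (Nat.ble 2565120 i)
noncomputable def eT2496 (i : Nat) : Nat := Bool.rec (eL2503 i) (eT2495 i) (Nat.ble 2564096 i)
noncomputable def eT2497 (i : Nat) : Nat := Bool.rec (eT2494 i) (eT2496 i) (Nat.ble 2563072 i)
noncomputable def eT2498 (i : Nat) : Nat := Bool.rec (eT2492 i) (eT2497 i) (Nat.ble 2560000 i)
noncomputable def eT2499 (i : Nat) : Nat := Bool.rec (eT2488 i) (eT2498 i) (Nat.ble 2554880 i)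
noncomputable def eT2500 (i : Nat) : Nat := Bool.rec (eT2479 i) (eT2499 i) (Nat.ble 2544640 i)
noncomputable def eT2501 (i : Nat) : Nat := Bool.rec (eL2506 i) (eL2507 i) (Nat.ble 2567168 i)
noncomputable def eT2502 (i : Nat) : Nat := Bool.rec (eL2509 i) (eL2510 i) (Nat.ble 2570240 i)
noncomputable def eT2503 (i : Nat) : Nat := Bool.rec (eL2508 i) (eT2502 i) (Nat.ble 2569216 i)
noncomputable def eT2504 (i : Nat) : Nat := Bool.rec (eT2501 i) (eT2503 i) (Nat.ble 2568192 i)
noncomputable def eT2505 (i : Nat) : Nat := Bool.rec (eL2511 i) (eL2512 i) (Nat.ble 2572288 i)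
noncomputable def eT2506 (i : Nat) : Nat := Bool.rec (eL2514 i) (eL2515 i) (Nat.ble 2575360 i)
noncomputable def eT2507 (i : Nat) : Nat := Bool.rec (eL2513 i) (eT2506 i) (Nat.ble 2574336 i)
noncomputable def eT2508 (i : Nat) : Nat := Bool.rec (eT2505 i) (eT2507 i) (Nat.ble 2573312 i)
noncomputable def eT2509 (i : Nat) : Nat := Bool.rec (eT2504 i) (eT2508 i) (Nat.ble 2571264 i)
noncomputable def eT2510 (i : Nat) : Nat := Bool.rec (eL2516 i) (eL2517 i) (Nat.ble 2577408 i)
noncomputable def eT2511 (i : Nat) : Nat := Bool.rec (eL2519 i) (eL2520 i) (Nat.ble 2580480 i)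
noncomputable def eT2512 (i : Nat) : Nat := Bool.rec (eL2518 i) (eT2511 i) (Nat.ble 2579456 i)
noncomputable def eT2513 (i : Nat) : Nat := Bool.rec (eT2510 i) (eT2512 i) (Nat.ble 2578432 i)
noncomputable def eT2514 (i : Nat) : Nat := Bool.rec (eL2521 i) (eL2522 i) (Nat.ble 2582528 i)
noncomputable def eT2515 (i : Nat) : Nat := Bool.rec (eL2524 i) (eL2525 i) (Nat.ble 2585600 i)
noncomputable def eT2516 (i : Nat) : Nat := Bool.rec (eL2523 i) (eT2515 i) (Nat.ble 2584576 i)
noncomputable def eT2517 (i : Nat) : Nat := Bool.rec (eT2514 i) (eT2516 i) (Nat.ble 2583552 i)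
noncomputable def eT2518 (i : Nat) : Nat := Bool.rec (eT2513 i) (eT2517 i) (Nat.ble 2581504 i)
noncomputable def eT2519 (i : Nat) : Nat := Bool.rec (eT2509 i) (eT2518 i) (Nat.ble 2576384 i)
noncomputable def eT2520 (i : Nat) : Nat := Bool.rec (eL2526 i) (eL2527 i) (Nat.ble 2587648 i)
noncomputable def eT2521 (i : Nat) : Nat := Bool.rec (eL2529 i) (eL2530 i) (Nat.ble 2590720 i)
noncomputable def eT2522 (i : Nat) : Nat := Bool.rec (eL2528 i) (eT2521 i) (Nat.ble 2589696 i)
noncomputable def eT2523 (i : Nat) : Nat := Bool.rec (eT2520 i) (eT2522 i) (Nat.ble 2588672 i)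
noncomputable def eT2524 (i : Nat) : Nat := Bool.rec (eL2531 i) (eL2532 i) (Nat.ble 2592768 i)
noncomputable def eT2525 (i : Nat) : Nat := Bool.rec (eL2534 i) (eL2535 i) (Nat.ble 2595840 i)
noncomputable def eT2526 (i : Nat) : Nat := Bool.rec (eL2533 i) (eT2525 i) (Nat.ble 2594816 i)
noncomputable def eT2527 (i : Nat) : Nat := Bool.rec (eT2524 i) (eT2526 i) (Nat.ble 2593792 i)
noncomputable def eT2528 (i : Nat) : Nat := Bool.rec (eT2523 i) (eT2527 i) (Nat.ble 2591744 i)
noncomputable def eT2529 (i : Nat) : Nat := Bool.rec (eL2536 i) (eL2537 i) (Nat.ble 2597888 i)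
noncomputable def eT2530 (i : Nat) : Nat := Bool.rec (eL2539 i) (eL2540 i) (Nat.ble 2600960 i)
noncomputable def eT2531 (i : Nat) : Nat := Bool.rec (eL2538 i) (eT2530 i) (Nat.ble 2599936 i)
noncomputable def eT2532 (i : Nat) : Nat := Bool.rec (eT2529 i) (eT2531 i) (Nat.ble 2598912 i)
noncomputable def eT2533 (i : Nat) : Nat := Bool.rec (eL2542 i) (eL2543 i) (Nat.ble 2604032 i)
noncomputable def eT2534 (i : Nat) : Nat := Bool.rec (eL2541 i) (eT2533 i) (Nat.ble 2603008 i)
noncomputable def eT2535 (i : Nat) : Nat := Bool.rec (eL2545 i) (eL2546 i) (Nat.ble 2607104 i)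
noncomputable def eT2536 (i : Nat) : Nat := Bool.rec (eL2544 i) (eT2535 i) (Nat.ble 2606080 i)
noncomputable def eT2537 (i : Nat) : Nat := Bool.rec (eT2534 i) (eT2536 i) (Nat.ble 2605056 i)
noncomputable def eT2538 (i : Nat) : Nat := Bool.rec (eT2532 i) (eT2537 i) (Nat.ble 2601984 i)
noncomputable def eT2539 (i : Nat) : Nat := Bool.rec (eT2528 i) (eT2538 i) (Nat.ble 2596864 i)
noncomputable def eT2540 (i : Nat) : Nat := Bool.rec (eT2519 i) (eT2539 i) (Nat.ble 2586624 i)
noncomputable def eT2541 (i : Nat) : Nat := Bool.rec (eT2500 i) (eT2540 i) (Nat.ble 2566144 i)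
noncomputable def eT2542 (i : Nat) : Nat := Bool.rec (eL2547 i) (eL2548 i) (Nat.ble 2609152 i)
noncomputable def eT2543 (i : Nat) : Nat := Bool.rec (eL2550 i) (eL2551 i) (Nat.ble 2612224 i)
noncomputable def eT2544 (i : Nat) : Nat := Bool.rec (eL2549 i) (eT2543 i) (Nat.ble 2611200 i)
noncomputable def eT2545 (i : Nat) : Nat := Bool.rec (eT2542 i) (eT2544 i) (Nat.ble 2610176 i)
noncomputable def eT2546 (i : Nat) : Nat := Bool.rec (eL2552 i) (eL2553 i) (Nat.ble 2614272 i)
noncomputable def eT2547 (i : Nat) : Nat := Bool.rec (eL2555 i) (eL2556 i) (Nat.ble 2617344 i)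
noncomputable def eT2548 (i : Nat) : Nat := Bool.rec (eL2554 i) (eT2547 i) (Nat.ble 2616320 i)
noncomputable def eT2549 (i : Nat) : Nat := Bool.rec (eT2546 i) (eT2548 i) (Nat.ble 2615296 i)
noncomputable def eT2550 (i : Nat) : Nat := Bool.rec (eT2545 i) (eT2549 i) (Nat.ble 2613248 i)
noncomputable def eT2551 (i : Nat) : Nat := Bool.rec (eL2557 i) (eL2558 i) (Nat.ble 2619392 i)
noncomputable def eT2552 (i : Nat) : Nat := Bool.rec (eL2560 i) (eL2561 i) (Nat.ble 2622464 i)
noncomputable def eT2553 (i : Nat) : Nat := Bool.rec (eL2559 i) (eT2552 i) (Nat.ble 2621440 i)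
noncomputable def eT2554 (i : Nat) : Nat := Bool.rec (eT2551 i) (eT2553 i) (Nat.ble 2620416 i)
noncomputable def eT2555 (i : Nat) : Nat := Bool.rec (eL2562 i) (eL2563 i) (Nat.ble 2624512 i)
noncomputable def eT2556 (i : Nat) : Nat := Bool.rec (eL2565 i) (eL2566 i) (Nat.ble 2627584 i)
noncomputable def eT2557 (i : Nat) : Nat := Bool.rec (eL2564 i) (eT2556 i) (Nat.ble 2626560 i)
noncomputable def eT2558 (i : Nat) : Nat := Bool.rec (eT2555 i) (eT2557 i) (Nat.ble 2625536 i)
noncomputable def eT2559 (i : Nat) : Nat := Bool.rec (eT2554 i) (eT2558 i) (Nat.ble 2623488 i)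
noncomputable def eT2560 (i : Nat) : Nat := Bool.rec (eT2550 i) (eT2559 i) (Nat.ble 2618368 i)
noncomputable def eT2561 (i : Nat) : Nat := Bool.rec (eL2567 i) (eL2568 i) (Nat.ble 2629632 i)
noncomputable def eT2562 (i : Nat) : Nat := Bool.rec (eL2570 i) (eL2571 i) (Nat.ble 2632704 i)
noncomputable def eT2563 (i : Nat) : Nat := Bool.rec (eL2569 i) (eT2562 i) (Nat.ble 2631680 i)
noncomputable def eT2564 (i : Nat) : Nat := Bool.rec (eT2561 i) (eT2563 i) (Nat.ble 2630656 i)
noncomputable def eT2565 (i : Nat) : Nat := Bool.rec (eL2572 i) (eL2573 i) (Nat.ble 2634752 i)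
noncomputable def eT2566 (i : Nat) : Nat := Bool.rec (eL2575 i) (eL2576 i) (Nat.ble 2637824 i)
noncomputable def eT2567 (i : Nat) : Nat := Bool.rec (eL2574 i) (eT2566 i) (Nat.ble 2636800 i)
noncomputable def eT2568 (i : Nat) : Nat := Bool.rec (eT2565 i) (eT2567 i) (Nat.ble 2635776 i)
noncomputable def eT2569 (i : Nat) : Nat := Bool.rec (eT2564 i) (eT2568 i) (Nat.ble 2633728 i)
noncomputable def eT2570 (i : Nat) : Nat := Bool.rec (eL2577 i) (eL2578 i) (Nat.ble 2639872 i)
noncomputable def eT2571 (i : Nat) : Nat := Bool.rec (eL2580 i) (eL2581 i) (Nat.ble 2642944 i)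
noncomputable def eT2572 (i : Nat) : Nat := Bool.rec (eL2579 i) (eT2571 i) (Nat.ble 2641920 i)
noncomputable def eT2573 (i : Nat) : Nat := Bool.rec (eT2570 i) (eT2572 i) (Nat.ble 2640896 i)
noncomputable def eT2574 (i : Nat) : Nat := Bool.rec (eL2583 i) (eL2584 i) (Nat.ble 2646016 i)
noncomputable def eT2575 (i : Nat) : Nat := Bool.rec (eL2582 i) (eT2574 i) (Nat.ble 2644992 i)
noncomputable def eT2576 (i : Nat) : Nat := Bool.rec (eL2586 i) (eL2587 i) (Nat.ble 2649088 i)
noncomputable def eT2577 (i : Nat) : Nat := Bool.rec (eL2585 i) (eT2576 i) (Nat.ble 2648064 i)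
noncomputable def eT2578 (i : Nat) : Nat := Bool.rec (eT2575 i) (eT2577 i) (Nat.ble 2647040 i)
noncomputable def eT2579 (i : Nat) : Nat := Bool.rec (eT2573 i) (eT2578 i) (Nat.ble 2643968 i)
noncomputable def eT2580 (i : Nat) : Nat := Bool.rec (eT2569 i) (eT2579 i) (Nat.ble 2638848 i)
noncomputable def eT2581 (i : Nat) : Nat := Bool.rec (eT2560 i) (eT2580 i) (Nat.ble 2628608 i)
noncomputable def eT2582 (i : Nat) : Nat := Bool.rec (eL2588 i) (eL2589 i) (Nat.ble 2651136 i)
noncomputable def eT2583 (i : Nat) : Nat := Bool.rec (eL2591 i) (eL2592 i) (Nat.ble 2654208 i)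
noncomputable def eT2584 (i : Nat) : Nat := Bool.rec (eL2590 i) (eT2583 i) (Nat.ble 2653184 i)
noncomputable def eT2585 (i : Nat) : Nat := Bool.rec (eT2582 i) (eT2584 i) (Nat.ble 2652160 i)
noncomputable def eT2586 (i : Nat) : Nat := Bool.rec (eL2593 i) (eL2594 i) (Nat.ble 2656256 i)
noncomputable def eT2587 (i : Nat) : Nat := Bool.rec (eL2596 i) (eL2597 i) (Nat.ble 2659328 i)
noncomputable def eT2588 (i : Nat) : Nat := Bool.rec (eL2595 i) (eT2587 i) (Nat.ble 2658304 i)
noncomputable def eT2589 (i : Nat) : Nat := Bool.rec (eT2586 i) (eT2588 i) (Nat.ble 2657280 i)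
noncomputable def eT2590 (i : Nat) : Nat := Bool.rec (eT2585 i) (eT2589 i) (Nat.ble 2655232 i)
noncomputable def eT2591 (i : Nat) : Nat := Bool.rec (eL2598 i) (eL2599 i) (Nat.ble 2661376 i)
noncomputable def eT2592 (i : Nat) : Nat := Bool.rec (eL2601 i) (eL2602 i) (Nat.ble 2664448 i)
noncomputable def eT2593 (i : Nat) : Nat := Bool.rec (eL2600 i) (eT2592 i) (Nat.ble 2663424 i)
noncomputable def eT2594 (i : Nat) : Nat := Bool.rec (eT2591 i) (eT2593 i) (Nat.ble 2662400 i)
noncomputable def eT2595 (i : Nat) : Nat := Bool.rec (eL2604 i) (eL2605 i) (Nat.ble 2667520 i)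
noncomputable def eT2596 (i : Nat) : Nat := Bool.rec (eL2603 i) (eT2595 i) (Nat.ble 2666496 i)
noncomputable def eT2597 (i : Nat) : Nat := Bool.rec (eL2607 i) (eL2608 i) (Nat.ble 2670592 i)
noncomputable def eT2598 (i : Nat) : Nat := Bool.rec (eL2606 i) (eT2597 i) (Nat.ble 2669568 i)
noncomputable def eT2599 (i : Nat) : Nat := Bool.rec (eT2596 i) (eT2598 i) (Nat.ble 2668544 i)
noncomputable def eT2600 (i : Nat) : Nat := Bool.rec (eT2594 i) (eT2599 i) (Nat.ble 2665472 i)
noncomputable def eT2601 (i : Nat) : Nat := Bool.rec (eT2590 i) (eT2600 i) (Nat.ble 2660352 i)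
noncomputable def eT2602 (i : Nat) : Nat := Bool.rec (eL2609 i) (eL2610 i) (Nat.ble 2672640 i)
noncomputable def eT2603 (i : Nat) : Nat := Bool.rec (eL2612 i) (eL2613 i) (Nat.ble 2675712 i)
noncomputable def eT2604 (i : Nat) : Nat := Bool.rec (eL2611 i) (eT2603 i) (Nat.ble 2674688 i)
noncomputable def eT2605 (i : Nat) : Nat := Bool.rec (eT2602 i) (eT2604 i) (Nat.ble 2673664 i)
noncomputable def eT2606 (i : Nat) : Nat := Bool.rec (eL2614 i) (eL2615 i) (Nat.ble 2677760 i)
noncomputable def eT2607 (i : Nat) : Nat := Bool.rec (eL2617 i) (eL2618 i) (Nat.ble 2680832 i)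
noncomputable def eT2608 (i : Nat) : Nat := Bool.rec (eL2616 i) (eT2607 i) (Nat.ble 2679808 i)
noncomputable def eT2609 (i : Nat) : Nat := Bool.rec (eT2606 i) (eT2608 i) (Nat.ble 2678784 i)
noncomputable def eT2610 (i : Nat) : Nat := Bool.rec (eT2605 i) (eT2609 i) (Nat.ble 2676736 i)
noncomputable def eT2611 (i : Nat) : Nat := Bool.rec (eL2619 i) (eL2620 i) (Nat.ble 2682880 i)
noncomputable def eT2612 (i : Nat) : Nat := Bool.rec (eL2622 i) (eL2623 i) (Nat.ble 2685952 i)
noncomputable def eT2613 (i : Nat) : Nat := Bool.rec (eL2621 i) (eT2612 i) (Nat.ble 2684928 i)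
noncomputable def eT2614 (i : Nat) : Nat := Bool.rec (eT2611 i) (eT2613 i) (Nat.ble 2683904 i)
noncomputable def eT2615 (i : Nat) : Nat := Bool.rec (eL2625 i) (eL2626 i) (Nat.ble 2689024 i)
noncomputable def eT2616 (i : Nat) : Nat := Bool.rec (eL2624 i) (eT2615 i) (Nat.ble 2688000 i)
noncomputable def eT2617 (i : Nat) : Nat := Bool.rec (eL2628 i) (eL2629 i) (Nat.ble 2692096 i)
noncomputable def eT2618 (i : Nat) : Nat := Bool.rec (eL2627 i) (eT2617 i) (Nat.ble 2691072 i)
noncomputable def eT2619 (i : Nat) : Nat := Bool.rec (eT2616 i) (eT2618 i) (Nat.ble 2690048 i)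
noncomputable def eT2620 (i : Nat) : Nat := Bool.rec (eT2614 i) (eT2619 i) (Nat.ble 2686976 i)
noncomputable def eT2621 (i : Nat) : Nat := Bool.rec (eT2610 i) (eT2620 i) (Nat.ble 2681856 i)
noncomputable def eT2622 (i : Nat) : Nat := Bool.rec (eT2601 i) (eT2621 i) (Nat.ble 2671616 i)
noncomputable def eT2623 (i : Nat) : Nat := Bool.rec (eT2581 i) (eT2622 i) (Nat.ble 2650112 i)
noncomputable def eT2624 (i : Nat) : Nat := Bool.rec (eT2541 i) (eT2623 i) (Nat.ble 2608128 i)
noncomputable def eT2625 (i : Nat) : Nat := Bool.rec (eT2460 i) (eT2624 i) (Nat.ble 2524160 i)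
noncomputable def eT2626 (i : Nat) : Nat := Bool.rec (eT2297 i) (eT2625 i) (Nat.ble 2356224 i)
noncomputable def eT2627 (i : Nat) : Nat := Bool.rec (eT1969 i) (eT2626 i) (Nat.ble 2019328 i)
noncomputable def eT2628 (i : Nat) : Nat := Bool.rec (eT1313 i) (eT2627 i) (Nat.ble 1346560 i)
noncomputable def eT2629 (i : Nat) : Nat := Bool.rec (eL2630 i) (eL2631 i) (Nat.ble 2694144 i)
noncomputable def eT2630 (i : Nat) : Nat := Bool.rec (eL2633 i) (eL2634 i) (Nat.ble 2697216 i)
noncomputable def eT2631 (i : Nat) : Nat := Bool.rec (eL2632 i) (eT2630 i) (Nat.ble 2696192 i)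
noncomputable def eT2632 (i : Nat) : Nat := Bool.rec (eT2629 i) (eT2631 i) (Nat.ble 2695168 i)
noncomputable def eT2633 (i : Nat) : Nat := Bool.rec (eL2635 i) (eL2636 i) (Nat.ble 2699264 i)
noncomputable def eT2634 (i : Nat) : Nat := Bool.rec (eL2638 i) (eL2639 i) (Nat.ble 2702336 i)
noncomputable def eT2635 (i : Nat) : Nat := Bool.rec (eL2637 i) (eT2634 i) (Nat.ble 2701312 i)
noncomputable def eT2636 (i : Nat) : Nat := Bool.rec (eT2633 i) (eT2635 i) (Nat.ble 2700288 i)
noncomputable def eT2637 (i : Nat) : Nat := Bool.rec (eT2632 i) (eT2636 i) (Nat.ble 2698240 i)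
noncomputable def eT2638 (i : Nat) : Nat := Bool.rec (eL2640 i) (eL2641 i) (Nat.ble 2704384 i)
noncomputable def eT2639 (i : Nat) : Nat := Bool.rec (eL2643 i) (eL2644 i) (Nat.ble 2707456 i)
noncomputable def eT2640 (i : Nat) : Nat := Bool.rec (eL2642 i) (eT2639 i) (Nat.ble 2706432 i)
noncomputable def eT2641 (i : Nat) : Nat := Bool.rec (eT2638 i) (eT2640 i) (Nat.ble 2705408 i)
noncomputable def eT2642 (i : Nat) : Nat := Bool.rec (eL2645 i) (eL2646 i) (Nat.ble 2709504 i)
noncomputable def eT2643 (i : Nat) : Nat := Bool.rec (eL2648 i) (eL2649 i) (Nat.ble 2712576 i)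
noncomputable def eT2644 (i : Nat) : Nat := Bool.rec (eL2647 i) (eT2643 i) (Nat.ble 2711552 i)
noncomputable def eT2645 (i : Nat) : Nat := Bool.rec (eT2642 i) (eT2644 i) (Nat.ble 2710528 i)
noncomputable def eT2646 (i : Nat) : Nat := Bool.rec (eT2641 i) (eT2645 i) (Nat.ble 2708480 i)
noncomputable def eT2647 (i : Nat) : Nat := Bool.rec (eT2637 i) (eT2646 i) (Nat.ble 2703360 i)
noncomputable def eT2648 (i : Nat) : Nat := Bool.rec (eL2650 i) (eL2651 i) (Nat.ble 2714624 i)
noncomputable def eT2649 (i : Nat) : Nat := Bool.rec (eL2653 i) (eL2654 i) (Nat.ble 2717696 i)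
noncomputable def eT2650 (i : Nat) : Nat := Bool.rec (eL2652 i) (eT2649 i) (Nat.ble 2716672 i)
noncomputable def eT2651 (i : Nat) : Nat := Bool.rec (eT2648 i) (eT2650 i) (Nat.ble 2715648 i)
noncomputable def eT2652 (i : Nat) : Nat := Bool.rec (eL2655 i) (eL2656 i) (Nat.ble 2719744 i)
noncomputable def eT2653 (i : Nat) : Nat := Bool.rec (eL2658 i) (eL2659 i) (Nat.ble 2722816 i)
noncomputable def eT2654 (i : Nat) : Nat := Bool.rec (eL2657 i) (eT2653 i) (Nat.ble 2721792 i)
noncomputable def eT2655 (i : Nat) : Nat := Bool.rec (eT2652 i) (eT2654 i) (Nat.ble 2720768 i)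
noncomputable def eT2656 (i : Nat) : Nat := Bool.rec (eT2651 i) (eT2655 i) (Nat.ble 2718720 i)
noncomputable def eT2657 (i : Nat) : Nat := Bool.rec (eL2660 i) (eL2661 i) (Nat.ble 2724864 i)
noncomputable def eT2658 (i : Nat) : Nat := Bool.rec (eL2663 i) (eL2664 i) (Nat.ble 2727936 i)
noncomputable def eT2659 (i : Nat) : Nat := Bool.rec (eL2662 i) (eT2658 i) (Nat.ble 2726912 i)
noncomputable def eT2660 (i : Nat) : Nat := Bool.rec (eT2657 i) (eT2659 i) (Nat.ble 2725888 i)
noncomputable def eT2661 (i : Nat) : Nat := Bool.rec (eL2666 i) (eL2667 i) (Nat.ble 2731008 i)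
noncomputable def eT2662 (i : Nat) : Nat := Bool.rec (eL2665 i) (eT2661 i) (Nat.ble 2729984 i)
noncomputable def eT2663 (i : Nat) : Nat := Bool.rec (eL2669 i) (eL2670 i) (Nat.ble 2734080 i)
noncomputable def eT2664 (i : Nat) : Nat := Bool.rec (eL2668 i) (eT2663 i) (Nat.ble 2733056 i)
noncomputable def eT2665 (i : Nat) : Nat := Bool.rec (eT2662 i) (eT2664 i) (Nat.ble 2732032 i)
noncomputable def eT2666 (i : Nat) : Nat := Bool.rec (eT2660 i) (eT2665 i) (Nat.ble 2728960 i)
noncomputable def eT2667 (i : Nat) : Nat := Bool.rec (eT2656 i) (eT2666 i) (Nat.ble 2723840 i)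
noncomputable def eT2668 (i : Nat) : Nat := Bool.rec (eT2647 i) (eT2667 i) (Nat.ble 2713600 i)
noncomputable def eT2669 (i : Nat) : Nat := Bool.rec (eL2671 i) (eL2672 i) (Nat.ble 2736128 i)
noncomputable def eT2670 (i : Nat) : Nat := Bool.rec (eL2674 i) (eL2675 i) (Nat.ble 2739200 i)
noncomputable def eT2671 (i : Nat) : Nat := Bool.rec (eL2673 i) (eT2670 i) (Nat.ble 2738176 i)
noncomputable def eT2672 (i : Nat) : Nat := Bool.rec (eT2669 i) (eT2671 i) (Nat.ble 2737152 i)
noncomputable def eT2673 (i : Nat) : Nat := Bool.rec (eL2676 i) (eL2677 i) (Nat.ble 2741248 i)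
noncomputable def eT2674 (i : Nat) : Nat := Bool.rec (eL2679 i) (eL2680 i) (Nat.ble 2744320 i)
noncomputable def eT2675 (i : Nat) : Nat := Bool.rec (eL2678 i) (eT2674 i) (Nat.ble 2743296 i)
noncomputable def eT2676 (i : Nat) : Nat := Bool.rec (eT2673 i) (eT2675 i) (Nat.ble 2742272 i)
noncomputable def eT2677 (i : Nat) : Nat := Bool.rec (eT2672 i) (eT2676 i) (Nat.ble 2740224 i)
noncomputable def eT2678 (i : Nat) : Nat := Bool.rec (eL2681 i) (eL2682 i) (Nat.ble 2746368 i)
noncomputable def eT2679 (i : Nat) : Nat := Bool.rec (eL2684 i) (eL2685 i) (Nat.ble 2749440 i)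
noncomputable def eT2680 (i : Nat) : Nat := Bool.rec (eL2683 i) (eT2679 i) (Nat.ble 2748416 i)
noncomputable def eT2681 (i : Nat) : Nat := Bool.rec (eT2678 i) (eT2680 i) (Nat.ble 2747392 i)
noncomputable def eT2682 (i : Nat) : Nat := Bool.rec (eL2686 i) (eL2687 i) (Nat.ble 2751488 i)
noncomputable def eT2683 (i : Nat) : Nat := Bool.rec (eL2689 i) (eL2690 i) (Nat.ble 2754560 i)
noncomputable def eT2684 (i : Nat) : Nat := Bool.rec (eL2688 i) (eT2683 i) (Nat.ble 2753536 i)
noncomputable def eT2685 (i : Nat) : Nat := Bool.rec (eT2682 i) (eT2684 i) (Nat.ble 2752512 i)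
noncomputable def eT2686 (i : Nat) : Nat := Bool.rec (eT2681 i) (eT2685 i) (Nat.ble 2750464 i)
noncomputable def eT2687 (i : Nat) : Nat := Bool.rec (eT2677 i) (eT2686 i) (Nat.ble 2745344 i)
noncomputable def eT2688 (i : Nat) : Nat := Bool.rec (eL2691 i) (eL2692 i) (Nat.ble 2756608 i)
noncomputable def eT2689 (i : Nat) : Nat := Bool.rec (eL2694 i) (eL2695 i) (Nat.ble 2759680 i)
noncomputable def eT2690 (i : Nat) : Nat := Bool.rec (eL2693 i) (eT2689 i) (Nat.ble 2758656 i)
noncomputable def eT2691 (i : Nat) : Nat := Bool.rec (eT2688 i) (eT2690 i) (Nat.ble 2757632 i)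
noncomputable def eT2692 (i : Nat) : Nat := Bool.rec (eL2696 i) (eL2697 i) (Nat.ble 2761728 i)
noncomputable def eT2693 (i : Nat) : Nat := Bool.rec (eL2699 i) (eL2700 i) (Nat.ble 2764800 i)
noncomputable def eT2694 (i : Nat) : Nat := Bool.rec (eL2698 i) (eT2693 i) (Nat.ble 2763776 i)
noncomputable def eT2695 (i : Nat) : Nat := Bool.rec (eT2692 i) (eT2694 i) (Nat.ble 2762752 i)
noncomputable def eT2696 (i : Nat) : Nat := Bool.rec (eT2691 i) (eT2695 i) (Nat.ble 2760704 i)
noncomputable def eT2697 (i : Nat) : Nat := Bool.rec (eL2701 i) (eL2702 i) (Nat.ble 2766848 i)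
noncomputable def eT2698 (i : Nat) : Nat := Bool.rec (eL2704 i) (eL2705 i) (Nat.ble 2769920 i)
noncomputable def eT2699 (i : Nat) : Nat := Bool.rec (eL2703 i) (eT2698 i) (Nat.ble 2768896 i)
noncomputable def eT2700 (i : Nat) : Nat := Bool.rec (eT2697 i) (eT2699 i) (Nat.ble 2767872 i)
noncomputable def eT2701 (i : Nat) : Nat := Bool.rec (eL2707 i) (eL2708 i) (Nat.ble 2772992 i)
noncomputable def eT2702 (i : Nat) : Nat := Bool.rec (eL2706 i) (eT2701 i) (Nat.ble 2771968 i)
noncomputable def eT2703 (i : Nat) : Nat := Bool.rec (eL2710 i) (eL2711 i) (Nat.ble 2776064 i)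
noncomputable def eT2704 (i : Nat) : Nat := Bool.rec (eL2709 i) (eT2703 i) (Nat.ble 2775040 i)
noncomputable def eT2705 (i : Nat) : Nat := Bool.rec (eT2702 i) (eT2704 i) (Nat.ble 2774016 i)
noncomputable def eT2706 (i : Nat) : Nat := Bool.rec (eT2700 i) (eT2705 i) (Nat.ble 2770944 i)
noncomputable def eT2707 (i : Nat) : Nat := Bool.rec (eT2696 i) (eT2706 i) (Nat.ble 2765824 i)
noncomputable def eT2708 (i : Nat) : Nat := Bool.rec (eT2687 i) (eT2707 i) (Nat.ble 2755584 i)
noncomputable def eT2709 (i : Nat) : Nat := Bool.rec (eT2668 i) (eT2708 i) (Nat.ble 2735104 i)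
noncomputable def eT2710 (i : Nat) : Nat := Bool.rec (eL2712 i) (eL2713 i) (Nat.ble 2778112 i)
noncomputable def eT2711 (i : Nat) : Nat := Bool.rec (eL2715 i) (eL2716 i) (Nat.ble 2781184 i)
noncomputable def eT2712 (i : Nat) : Nat := Bool.rec (eL2714 i) (eT2711 i) (Nat.ble 2780160 i)
noncomputable def eT2713 (i : Nat) : Nat := Bool.rec (eT2710 i) (eT2712 i) (Nat.ble 2779136 i)
noncomputable def eT2714 (i : Nat) : Nat := Bool.rec (eL2717 i) (eL2718 i) (Nat.ble 2783232 i)
noncomputable def eT2715 (i : Nat) : Nat := Bool.rec (eL2720 i) (eL2721 i) (Nat.ble 2786304 i)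
noncomputable def eT2716 (i : Nat) : Nat := Bool.rec (eL2719 i) (eT2715 i) (Nat.ble 2785280 i)
noncomputable def eT2717 (i : Nat) : Nat := Bool.rec (eT2714 i) (eT2716 i) (Nat.ble 2784256 i)
noncomputable def eT2718 (i : Nat) : Nat := Bool.rec (eT2713 i) (eT2717 i) (Nat.ble 2782208 i)
noncomputable def eT2719 (i : Nat) : Nat := Bool.rec (eL2722 i) (eL2723 i) (Nat.ble 2788352 i)
noncomputable def eT2720 (i : Nat) : Nat := Bool.rec (eL2725 i) (eL2726 i) (Nat.ble 2791424 i)
noncomputable def eT2721 (i : Nat) : Nat := Bool.rec (eL2724 i) (eT2720 i) (Nat.ble 2790400 i)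
noncomputable def eT2722 (i : Nat) : Nat := Bool.rec (eT2719 i) (eT2721 i) (Nat.ble 2789376 i)
noncomputable def eT2723 (i : Nat) : Nat := Bool.rec (eL2727 i) (eL2728 i) (Nat.ble 2793472 i)
noncomputable def eT2724 (i : Nat) : Nat := Bool.rec (eL2730 i) (eL2731 i) (Nat.ble 2796544 i)
noncomputable def eT2725 (i : Nat) : Nat := Bool.rec (eL2729 i) (eT2724 i) (Nat.ble 2795520 i)
noncomputable def eT2726 (i : Nat) : Nat := Bool.rec (eT2723 i) (eT2725 i) (Nat.ble 2794496 i)
noncomputable def eT2727 (i : Nat) : Nat := Bool.rec (eT2722 i) (eT2726 i) (Nat.ble 2792448 i)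
noncomputable def eT2728 (i : Nat) : Nat := Bool.rec (eT2718 i) (eT2727 i) (Nat.ble 2787328 i)
noncomputable def eT2729 (i : Nat) : Nat := Bool.rec (eL2732 i) (eL2733 i) (Nat.ble 2798592 i)
noncomputable def eT2730 (i : Nat) : Nat := Bool.rec (eL2735 i) (eL2736 i) (Nat.ble 2801664 i)
noncomputable def eT2731 (i : Nat) : Nat := Bool.rec (eL2734 i) (eT2730 i) (Nat.ble 2800640 i)
noncomputable def eT2732 (i : Nat) : Nat := Bool.rec (eT2729 i) (eT2731 i) (Nat.ble 2799616 i)
noncomputable def eT2733 (i : Nat) : Nat := Bool.rec (eL2737 i) (eL2738 i) (Nat.ble 2803712 i)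
noncomputable def eT2734 (i : Nat) : Nat := Bool.rec (eL2740 i) (eL2741 i) (Nat.ble 2806784 i)
noncomputable def eT2735 (i : Nat) : Nat := Bool.rec (eL2739 i) (eT2734 i) (Nat.ble 2805760 i)
noncomputable def eT2736 (i : Nat) : Nat := Bool.rec (eT2733 i) (eT2735 i) (Nat.ble 2804736 i)
noncomputable def eT2737 (i : Nat) : Nat := Bool.rec (eT2732 i) (eT2736 i) (Nat.ble 2802688 i)
noncomputable def eT2738 (i : Nat) : Nat := Bool.rec (eL2742 i) (eL2743 i) (Nat.ble 2808832 i)
noncomputable def eT2739 (i : Nat) : Nat := Bool.rec (eL2745 i) (eL2746 i) (Nat.ble 2811904 i)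
noncomputable def eT2740 (i : Nat) : Nat := Bool.rec (eL2744 i) (eT2739 i) (Nat.ble 2810880 i)
noncomputable def eT2741 (i : Nat) : Nat := Bool.rec (eT2738 i) (eT2740 i) (Nat.ble 2809856 i)
noncomputable def eT2742 (i : Nat) : Nat := Bool.rec (eL2748 i) (eL2749 i) (Nat.ble 2814976 i)
noncomputable def eT2743 (i : Nat) : Nat := Bool.rec (eL2747 i) (eT2742 i) (Nat.ble 2813952 i)
noncomputable def eT2744 (i : Nat) : Nat := Bool.rec (eL2751 i) (eL2752 i) (Nat.ble 2818048 i)
noncomputable def eT2745 (i : Nat) : Nat := Bool.rec (eL2750 i) (eT2744 i) (Nat.ble 2817024 i)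
noncomputable def eT2746 (i : Nat) : Nat := Bool.rec (eT2743 i) (eT2745 i) (Nat.ble 2816000 i)
noncomputable def eT2747 (i : Nat) : Nat := Bool.rec (eT2741 i) (eT2746 i) (Nat.ble 2812928 i)
noncomputable def eT2748 (i : Nat) : Nat := Bool.rec (eT2737 i) (eT2747 i) (Nat.ble 2807808 i)
noncomputable def eT2749 (i : Nat) : Nat := Bool.rec (eT2728 i) (eT2748 i) (Nat.ble 2797568 i)
noncomputable def eT2750 (i : Nat) : Nat := Bool.rec (eL2753 i) (eL2754 i) (Nat.ble 2820096 i)
noncomputable def eT2751 (i : Nat) : Nat := Bool.rec (eL2756 i) (eL2757 i) (Nat.ble 2823168 i)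
noncomputable def eT2752 (i : Nat) : Nat := Bool.rec (eL2755 i) (eT2751 i) (Nat.ble 2822144 i)
noncomputable def eT2753 (i : Nat) : Nat := Bool.rec (eT2750 i) (eT2752 i) (Nat.ble 2821120 i)
noncomputable def eT2754 (i : Nat) : Nat := Bool.rec (eL2758 i) (eL2759 i) (Nat.ble 2825216 i)
noncomputable def eT2755 (i : Nat) : Nat := Bool.rec (eL2761 i) (eL2762 i) (Nat.ble 2828288 i)
noncomputable def eT2756 (i : Nat) : Nat := Bool.rec (eL2760 i) (eT2755 i) (Nat.ble 2827264 i)
noncomputable def eT2757 (i : Nat) : Nat := Bool.rec (eT2754 i) (eT2756 i) (Nat.ble 2826240 i)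
noncomputable def eT2758 (i : Nat) : Nat := Bool.rec (eT2753 i) (eT2757 i) (Nat.ble 2824192 i)
noncomputable def eT2759 (i : Nat) : Nat := Bool.rec (eL2763 i) (eL2764 i) (Nat.ble 2830336 i)
noncomputable def eT2760 (i : Nat) : Nat := Bool.rec (eL2766 i) (eL2767 i) (Nat.ble 2833408 i)
noncomputable def eT2761 (i : Nat) : Nat := Bool.rec (eL2765 i) (eT2760 i) (Nat.ble 2832384 i)
noncomputable def eT2762 (i : Nat) : Nat := Bool.rec (eT2759 i) (eT2761 i) (Nat.ble 2831360 i)
noncomputable def eT2763 (i : Nat) : Nat := Bool.rec (eL2768 i) (eL2769 i) (Nat.ble 2835456 i)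
noncomputable def eT2764 (i : Nat) : Nat := Bool.rec (eL2771 i) (eL2772 i) (Nat.ble 2838528 i)
noncomputable def eT2765 (i : Nat) : Nat := Bool.rec (eL2770 i) (eT2764 i) (Nat.ble 2837504 i)
noncomputable def eT2766 (i : Nat) : Nat := Bool.rec (eT2763 i) (eT2765 i) (Nat.ble 2836480 i)
noncomputable def eT2767 (i : Nat) : Nat := Bool.rec (eT2762 i) (eT2766 i) (Nat.ble 2834432 i)
noncomputable def eT2768 (i : Nat) : Nat := Bool.rec (eT2758 i) (eT2767 i) (Nat.ble 2829312 i)
noncomputable def eT2769 (i : Nat) : Nat := Bool.rec (eL2773 i) (eL2774 i) (Nat.ble 2840576 i)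
noncomputable def eT2770 (i : Nat) : Nat := Bool.rec (eL2776 i) (eL2777 i) (Nat.ble 2843648 i)
noncomputable def eT2771 (i : Nat) : Nat := Bool.rec (eL2775 i) (eT2770 i) (Nat.ble 2842624 i)
noncomputable def eT2772 (i : Nat) : Nat := Bool.rec (eT2769 i) (eT2771 i) (Nat.ble 2841600 i)
noncomputable def eT2773 (i : Nat) : Nat := Bool.rec (eL2778 i) (eL2779 i) (Nat.ble 2845696 i)
noncomputable def eT2774 (i : Nat) : Nat := Bool.rec (eL2781 i) (eL2782 i) (Nat.ble 2848768 i)
noncomputable def eT2775 (i : Nat) : Nat := Bool.rec (eL2780 i) (eT2774 i) (Nat.ble 2847744 i)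
noncomputable def eT2776 (i : Nat) : Nat := Bool.rec (eT2773 i) (eT2775 i) (Nat.ble 2846720 i)
noncomputable def eT2777 (i : Nat) : Nat := Bool.rec (eT2772 i) (eT2776 i) (Nat.ble 2844672 i)
noncomputable def eT2778 (i : Nat) : Nat := Bool.rec (eL2783 i) (eL2784 i) (Nat.ble 2850816 i)
noncomputable def eT2779 (i : Nat) : Nat := Bool.rec (eL2786 i) (eL2787 i) (Nat.ble 2853888 i)
noncomputable def eT2780 (i : Nat) : Nat := Bool.rec (eL2785 i) (eT2779 i) (Nat.ble 2852864 i)
noncomputable def eT2781 (i : Nat) : Nat := Bool.rec (eT2778 i) (eT2780 i) (Nat.ble 2851840 i)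
noncomputable def eT2782 (i : Nat) : Nat := Bool.rec (eL2789 i) (eL2790 i) (Nat.ble 2856960 i)
noncomputable def eT2783 (i : Nat) : Nat := Bool.rec (eL2788 i) (eT2782 i) (Nat.ble 2855936 i)
noncomputable def eT2784 (i : Nat) : Nat := Bool.rec (eL2792 i) (eL2793 i) (Nat.ble 2860032 i)
noncomputable def eT2785 (i : Nat) : Nat := Bool.rec (eL2791 i) (eT2784 i) (Nat.ble 2859008 i)
noncomputable def eT2786 (i : Nat) : Nat := Bool.rec (eT2783 i) (eT2785 i) (Nat.ble 2857984 i)
noncomputable def eT2787 (i : Nat) : Nat := Bool.rec (eT2781 i) (eT2786 i) (Nat.ble 2854912 i)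
noncomputable def eT2788 (i : Nat) : Nat := Bool.rec (eT2777 i) (eT2787 i) (Nat.ble 2849792 i)
noncomputable def eT2789 (i : Nat) : Nat := Bool.rec (eT2768 i) (eT2788 i) (Nat.ble 2839552 i)
noncomputable def eT2790 (i : Nat) : Nat := Bool.rec (eT2749 i) (eT2789 i) (Nat.ble 2819072 i)
noncomputable def eT2791 (i : Nat) : Nat := Bool.rec (eT2709 i) (eT2790 i) (Nat.ble 2777088 i)
noncomputable def eT2792 (i : Nat) : Nat := Bool.rec (eL2794 i) (eL2795 i) (Nat.ble 2862080 i)
noncomputable def eT2793 (i : Nat) : Nat := Bool.rec (eL2797 i) (eL2798 i) (Nat.ble 2865152 i)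
noncomputable def eT2794 (i : Nat) : Nat := Bool.rec (eL2796 i) (eT2793 i) (Nat.ble 2864128 i)
noncomputable def eT2795 (i : Nat) : Nat := Bool.rec (eT2792 i) (eT2794 i) (Nat.ble 2863104 i)
noncomputable def eT2796 (i : Nat) : Nat := Bool.rec (eL2799 i) (eL2800 i) (Nat.ble 2867200 i)
noncomputable def eT2797 (i : Nat) : Nat := Bool.rec (eL2802 i) (eL2803 i) (Nat.ble 2870272 i)
noncomputable def eT2798 (i : Nat) : Nat := Bool.rec (eL2801 i) (eT2797 i) (Nat.ble 2869248 i)
noncomputable def eT2799 (i : Nat) : Nat := Bool.rec (eT2796 i) (eT2798 i) (Nat.ble 2868224 i)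
noncomputable def eT2800 (i : Nat) : Nat := Bool.rec (eT2795 i) (eT2799 i) (Nat.ble 2866176 i)
noncomputable def eT2801 (i : Nat) : Nat := Bool.rec (eL2804 i) (eL2805 i) (Nat.ble 2872320 i)
noncomputable def eT2802 (i : Nat) : Nat := Bool.rec (eL2807 i) (eL2808 i) (Nat.ble 2875392 i)
noncomputable def eT2803 (i : Nat) : Nat := Bool.rec (eL2806 i) (eT2802 i) (Nat.ble 2874368 i)
noncomputable def eT2804 (i : Nat) : Nat := Bool.rec (eT2801 i) (eT2803 i) (Nat.ble 2873344 i)
noncomputable def eT2805 (i : Nat) : Nat := Bool.rec (eL2809 i) (eL2810 i) (Nat.ble 2877440 i)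
noncomputable def eT2806 (i : Nat) : Nat := Bool.rec (eL2812 i) (eL2813 i) (Nat.ble 2880512 i)
noncomputable def eT2807 (i : Nat) : Nat := Bool.rec (eL2811 i) (eT2806 i) (Nat.ble 2879488 i)
noncomputable def eT2808 (i : Nat) : Nat := Bool.rec (eT2805 i) (eT2807 i) (Nat.ble 2878464 i)
noncomputable def eT2809 (i : Nat) : Nat := Bool.rec (eT2804 i) (eT2808 i) (Nat.ble 2876416 i)
noncomputable def eT2810 (i : Nat) : Nat := Bool.rec (eT2800 i) (eT2809 i) (Nat.ble 2871296 i)
noncomputable def eT2811 (i : Nat) : Nat := Bool.rec (eL2814 i) (eL2815 i) (Nat.ble 2882560 i)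
noncomputable def eT2812 (i : Nat) : Nat := Bool.rec (eL2817 i) (eL2818 i) (Nat.ble 2885632 i)
noncomputable def eT2813 (i : Nat) : Nat := Bool.rec (eL2816 i) (eT2812 i) (Nat.ble 2884608 i)
noncomputable def eT2814 (i : Nat) : Nat := Bool.rec (eT2811 i) (eT2813 i) (Nat.ble 2883584 i)
noncomputable def eT2815 (i : Nat) : Nat := Bool.rec (eL2819 i) (eL2820 i) (Nat.ble 2887680 i)
noncomputable def eT2816 (i : Nat) : Nat := Bool.rec (eL2822 i) (eL2823 i) (Nat.ble 2890752 i)
noncomputable def eT2817 (i : Nat) : Nat := Bool.rec (eL2821 i) (eT2816 i) (Nat.ble 2889728 i)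
noncomputable def eT2818 (i : Nat) : Nat := Bool.rec (eT2815 i) (eT2817 i) (Nat.ble 2888704 i)
noncomputable def eT2819 (i : Nat) : Nat := Bool.rec (eT2814 i) (eT2818 i) (Nat.ble 2886656 i)
noncomputable def eT2820 (i : Nat) : Nat := Bool.rec (eL2824 i) (eL2825 i) (Nat.ble 2892800 i)
noncomputable def eT2821 (i : Nat) : Nat := Bool.rec (eL2827 i) (eL2828 i) (Nat.ble 2895872 i)
noncomputable def eT2822 (i : Nat) : Nat := Bool.rec (eL2826 i) (eT2821 i) (Nat.ble 2894848 i)
noncomputable def eT2823 (i : Nat) : Nat := Bool.rec (eT2820 i) (eT2822 i) (Nat.ble 2893824 i)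
noncomputable def eT2824 (i : Nat) : Nat := Bool.rec (eL2830 i) (eL2831 i) (Nat.ble 2898944 i)
noncomputable def eT2825 (i : Nat) : Nat := Bool.rec (eL2829 i) (eT2824 i) (Nat.ble 2897920 i)
noncomputable def eT2826 (i : Nat) : Nat := Bool.rec (eL2833 i) (eL2834 i) (Nat.ble 2902016 i)
noncomputable def eT2827 (i : Nat) : Nat := Bool.rec (eL2832 i) (eT2826 i) (Nat.ble 2900992 i)
noncomputable def eT2828 (i : Nat) : Nat := Bool.rec (eT2825 i) (eT2827 i) (Nat.ble 2899968 i)
noncomputable def eT2829 (i : Nat) : Nat := Bool.rec (eT2823 i) (eT2828 i) (Nat.ble 2896896 i)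
noncomputable def eT2830 (i : Nat) : Nat := Bool.rec (eT2819 i) (eT2829 i) (Nat.ble 2891776 i)
noncomputable def eT2831 (i : Nat) : Nat := Bool.rec (eT2810 i) (eT2830 i) (Nat.ble 2881536 i)
noncomputable def eT2832 (i : Nat) : Nat := Bool.rec (eL2835 i) (eL2836 i) (Nat.ble 2904064 i)
noncomputable def eT2833 (i : Nat) : Nat := Bool.rec (eL2838 i) (eL2839 i) (Nat.ble 2907136 i)
noncomputable def eT2834 (i : Nat) : Nat := Bool.rec (eL2837 i) (eT2833 i) (Nat.ble 2906112 i)
noncomputable def eT2835 (i : Nat) : Nat := Bool.rec (eT2832 i) (eT2834 i) (Nat.ble 2905088 i)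
noncomputable def eT2836 (i : Nat) : Nat := Bool.rec (eL2840 i) (eL2841 i) (Nat.ble 2909184 i)
noncomputable def eT2837 (i : Nat) : Nat := Bool.rec (eL2843 i) (eL2844 i) (Nat.ble 2912256 i)
noncomputable def eT2838 (i : Nat) : Nat := Bool.rec (eL2842 i) (eT2837 i) (Nat.ble 2911232 i)
noncomputable def eT2839 (i : Nat) : Nat := Bool.rec (eT2836 i) (eT2838 i) (Nat.ble 2910208 i)
noncomputable def eT2840 (i : Nat) : Nat := Bool.rec (eT2835 i) (eT2839 i) (Nat.ble 2908160 i)
noncomputable def eT2841 (i : Nat) : Nat := Bool.rec (eL2845 i) (eL2846 i) (Nat.ble 2914304 i)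
noncomputable def eT2842 (i : Nat) : Nat := Bool.rec (eL2848 i) (eL2849 i) (Nat.ble 2917376 i)
noncomputable def eT2843 (i : Nat) : Nat := Bool.rec (eL2847 i) (eT2842 i) (Nat.ble 2916352 i)
noncomputable def eT2844 (i : Nat) : Nat := Bool.rec (eT2841 i) (eT2843 i) (Nat.ble 2915328 i)
noncomputable def eT2845 (i : Nat) : Nat := Bool.rec (eL2850 i) (eL2851 i) (Nat.ble 2919424 i)
noncomputable def eT2846 (i : Nat) : Nat := Bool.rec (eL2853 i) (eL2854 i) (Nat.ble 2922496 i)
noncomputable def eT2847 (i : Nat) : Nat := Bool.rec (eL2852 i) (eT2846 i) (Nat.ble 2921472 i)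
noncomputable def eT2848 (i : Nat) : Nat := Bool.rec (eT2845 i) (eT2847 i) (Nat.ble 2920448 i)
noncomputable def eT2849 (i : Nat) : Nat := Bool.rec (eT2844 i) (eT2848 i) (Nat.ble 2918400 i)
noncomputable def eT2850 (i : Nat) : Nat := Bool.rec (eT2840 i) (eT2849 i) (Nat.ble 2913280 i)
noncomputable def eT2851 (i : Nat) : Nat := Bool.rec (eL2855 i) (eL2856 i) (Nat.ble 2924544 i)
noncomputable def eT2852 (i : Nat) : Nat := Bool.rec (eL2858 i) (eL2859 i) (Nat.ble 2927616 i)
noncomputable def eT2853 (i : Nat) : Nat := Bool.rec (eL2857 i) (eT2852 i) (Nat.ble 2926592 i)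
noncomputable def eT2854 (i : Nat) : Nat := Bool.rec (eT2851 i) (eT2853 i) (Nat.ble 2925568 i)
noncomputable def eT2855 (i : Nat) : Nat := Bool.rec (eL2860 i) (eL2861 i) (Nat.ble 2929664 i)
noncomputable def eT2856 (i : Nat) : Nat := Bool.rec (eL2863 i) (eL2864 i) (Nat.ble 2932736 i)
noncomputable def eT2857 (i : Nat) : Nat := Bool.rec (eL2862 i) (eT2856 i) (Nat.ble 2931712 i)
noncomputable def eT2858 (i : Nat) : Nat := Bool.rec (eT2855 i) (eT2857 i) (Nat.ble 2930688 i)
noncomputable def eT2859 (i : Nat) : Nat := Bool.rec (eT2854 i) (eT2858 i) (Nat.ble 2928640 i)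
noncomputable def eT2860 (i : Nat) : Nat := Bool.rec (eL2865 i) (eL2866 i) (Nat.ble 2934784 i)
noncomputable def eT2861 (i : Nat) : Nat := Bool.rec (eL2868 i) (eL2869 i) (Nat.ble 2937856 i)
noncomputable def eT2862 (i : Nat) : Nat := Bool.rec (eL2867 i) (eT2861 i) (Nat.ble 2936832 i)
noncomputable def eT2863 (i : Nat) : Nat := Bool.rec (eT2860 i) (eT2862 i) (Nat.ble 2935808 i)
noncomputable def eT2864 (i : Nat) : Nat := Bool.rec (eL2871 i) (eL2872 i) (Nat.ble 2940928 i)
noncomputable def eT2865 (i : Nat) : Nat := Bool.rec (eL2870 i) (eT2864 i) (Nat.ble 2939904 i)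
noncomputable def eT2866 (i : Nat) : Nat := Bool.rec (eL2874 i) (eL2875 i) (Nat.ble 2944000 i)
noncomputable def eT2867 (i : Nat) : Nat := Bool.rec (eL2873 i) (eT2866 i) (Nat.ble 2942976 i)
noncomputable def eT2868 (i : Nat) : Nat := Bool.rec (eT2865 i) (eT2867 i) (Nat.ble 2941952 i)
noncomputable def eT2869 (i : Nat) : Nat := Bool.rec (eT2863 i) (eT2868 i) (Nat.ble 2938880 i)
noncomputable def eT2870 (i : Nat) : Nat := Bool.rec (eT2859 i) (eT2869 i) (Nat.ble 2933760 i)
noncomputable def eT2871 (i : Nat) : Nat := Bool.rec (eT2850 i) (eT2870 i) (Nat.ble 2923520 i)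
noncomputable def eT2872 (i : Nat) : Nat := Bool.rec (eT2831 i) (eT2871 i) (Nat.ble 2903040 i)
noncomputable def eT2873 (i : Nat) : Nat := Bool.rec (eL2876 i) (eL2877 i) (Nat.ble 2946048 i)
noncomputable def eT2874 (i : Nat) : Nat := Bool.rec (eL2879 i) (eL2880 i) (Nat.ble 2949120 i)
noncomputable def eT2875 (i : Nat) : Nat := Bool.rec (eL2878 i) (eT2874 i) (Nat.ble 2948096 i)
noncomputable def eT2876 (i : Nat) : Nat := Bool.rec (eT2873 i) (eT2875 i) (Nat.ble 2947072 i)
noncomputable def eT2877 (i : Nat) : Nat := Bool.rec (eL2881 i) (eL2882 i) (Nat.ble 2951168 i)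
noncomputable def eT2878 (i : Nat) : Nat := Bool.rec (eL2884 i) (eL2885 i) (Nat.ble 2954240 i)
noncomputable def eT2879 (i : Nat) : Nat := Bool.rec (eL2883 i) (eT2878 i) (Nat.ble 2953216 i)
noncomputable def eT2880 (i : Nat) : Nat := Bool.rec (eT2877 i) (eT2879 i) (Nat.ble 2952192 i)
noncomputable def eT2881 (i : Nat) : Nat := Bool.rec (eT2876 i) (eT2880 i) (Nat.ble 2950144 i)
noncomputable def eT2882 (i : Nat) : Nat := Bool.rec (eL2886 i) (eL2887 i) (Nat.ble 2956288 i)
noncomputable def eT2883 (i : Nat) : Nat := Bool.rec (eL2889 i) (eL2890 i) (Nat.ble 2959360 i)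
noncomputable def eT2884 (i : Nat) : Nat := Bool.rec (eL2888 i) (eT2883 i) (Nat.ble 2958336 i)
noncomputable def eT2885 (i : Nat) : Nat := Bool.rec (eT2882 i) (eT2884 i) (Nat.ble 2957312 i)
noncomputable def eT2886 (i : Nat) : Nat := Bool.rec (eL2891 i) (eL2892 i) (Nat.ble 2961408 i)
noncomputable def eT2887 (i : Nat) : Nat := Bool.rec (eL2894 i) (eL2895 i) (Nat.ble 2964480 i)
noncomputable def eT2888 (i : Nat) : Nat := Bool.rec (eL2893 i) (eT2887 i) (Nat.ble 2963456 i)
noncomputable def eT2889 (i : Nat) : Nat := Bool.rec (eT2886 i) (eT2888 i) (Nat.ble 2962432 i)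
noncomputable def eT2890 (i : Nat) : Nat := Bool.rec (eT2885 i) (eT2889 i) (Nat.ble 2960384 i)
noncomputable def eT2891 (i : Nat) : Nat := Bool.rec (eT2881 i) (eT2890 i) (Nat.ble 2955264 i)
noncomputable def eT2892 (i : Nat) : Nat := Bool.rec (eL2896 i) (eL2897 i) (Nat.ble 2966528 i)
noncomputable def eT2893 (i : Nat) : Nat := Bool.rec (eL2899 i) (eL2900 i) (Nat.ble 2969600 i)
noncomputable def eT2894 (i : Nat) : Nat := Bool.rec (eL2898 i) (eT2893 i) (Nat.ble 2968576 i)
noncomputable def eT2895 (i : Nat) : Nat := Bool.rec (eT2892 i) (eT2894 i) (Nat.ble 2967552 i)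
noncomputable def eT2896 (i : Nat) : Nat := Bool.rec (eL2901 i) (eL2902 i) (Nat.ble 2971648 i)
noncomputable def eT2897 (i : Nat) : Nat := Bool.rec (eL2904 i) (eL2905 i) (Nat.ble 2974720 i)
noncomputable def eT2898 (i : Nat) : Nat := Bool.rec (eL2903 i) (eT2897 i) (Nat.ble 2973696 i)
noncomputable def eT2899 (i : Nat) : Nat := Bool.rec (eT2896 i) (eT2898 i) (Nat.ble 2972672 i)
noncomputable def eT2900 (i : Nat) : Nat := Bool.rec (eT2895 i) (eT2899 i) (Nat.ble 2970624 i)
noncomputable def eT2901 (i : Nat) : Nat := Bool.rec (eL2906 i) (eL2907 i) (Nat.ble 2976768 i)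
noncomputable def eT2902 (i : Nat) : Nat := Bool.rec (eL2909 i) (eL2910 i) (Nat.ble 2979840 i)
noncomputable def eT2903 (i : Nat) : Nat := Bool.rec (eL2908 i) (eT2902 i) (Nat.ble 2978816 i)
noncomputable def eT2904 (i : Nat) : Nat := Bool.rec (eT2901 i) (eT2903 i) (Nat.ble 2977792 i)
noncomputable def eT2905 (i : Nat) : Nat := Bool.rec (eL2912 i) (eL2913 i) (Nat.ble 2982912 i)
noncomputable def eT2906 (i : Nat) : Nat := Bool.rec (eL2911 i) (eT2905 i) (Nat.ble 2981888 i)
noncomputable def eT2907 (i : Nat) : Nat := Bool.rec (eL2915 i) (eL2916 i) (Nat.ble 2985984 i)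
noncomputable def eT2908 (i : Nat) : Nat := Bool.rec (eL2914 i) (eT2907 i) (Nat.ble 2984960 i)
noncomputable def eT2909 (i : Nat) : Nat := Bool.rec (eT2906 i) (eT2908 i) (Nat.ble 2983936 i)
noncomputable def eT2910 (i : Nat) : Nat := Bool.rec (eT2904 i) (eT2909 i) (Nat.ble 2980864 i)
noncomputable def eT2911 (i : Nat) : Nat := Bool.rec (eT2900 i) (eT2910 i) (Nat.ble 2975744 i)
noncomputable def eT2912 (i : Nat) : Nat := Bool.rec (eT2891 i) (eT2911 i) (Nat.ble 2965504 i)
noncomputable def eT2913 (i : Nat) : Nat := Bool.rec (eL2917 i) (eL2918 i) (Nat.ble 2988032 i)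
noncomputable def eT2914 (i : Nat) : Nat := Bool.rec (eL2920 i) (eL2921 i) (Nat.ble 2991104 i)
noncomputable def eT2915 (i : Nat) : Nat := Bool.rec (eL2919 i) (eT2914 i) (Nat.ble 2990080 i)
noncomputable def eT2916 (i : Nat) : Nat := Bool.rec (eT2913 i) (eT2915 i) (Nat.ble 2989056 i)
noncomputable def eT2917 (i : Nat) : Nat := Bool.rec (eL2922 i) (eL2923 i) (Nat.ble 2993152 i)
noncomputable def eT2918 (i : Nat) : Nat := Bool.rec (eL2925 i) (eL2926 i) (Nat.ble 2996224 i)
noncomputable def eT2919 (i : Nat) : Nat := Bool.rec (eL2924 i) (eT2918 i) (Nat.ble 2995200 i)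
noncomputable def eT2920 (i : Nat) : Nat := Bool.rec (eT2917 i) (eT2919 i) (Nat.ble 2994176 i)
noncomputable def eT2921 (i : Nat) : Nat := Bool.rec (eT2916 i) (eT2920 i) (Nat.ble 2992128 i)
noncomputable def eT2922 (i : Nat) : Nat := Bool.rec (eL2927 i) (eL2928 i) (Nat.ble 2998272 i)
noncomputable def eT2923 (i : Nat) : Nat := Bool.rec (eL2930 i) (eL2931 i) (Nat.ble 3001344 i)
noncomputable def eT2924 (i : Nat) : Nat := Bool.rec (eL2929 i) (eT2923 i) (Nat.ble 3000320 i)
noncomputable def eT2925 (i : Nat) : Nat := Bool.rec (eT2922 i) (eT2924 i) (Nat.ble 2999296 i)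
noncomputable def eT2926 (i : Nat) : Nat := Bool.rec (eL2932 i) (eL2933 i) (Nat.ble 3003392 i)
noncomputable def eT2927 (i : Nat) : Nat := Bool.rec (eL2935 i) (eL2936 i) (Nat.ble 3006464 i)
noncomputable def eT2928 (i : Nat) : Nat := Bool.rec (eL2934 i) (eT2927 i) (Nat.ble 3005440 i)
noncomputable def eT2929 (i : Nat) : Nat := Bool.rec (eT2926 i) (eT2928 i) (Nat.ble 3004416 i)
noncomputable def eT2930 (i : Nat) : Nat := Bool.rec (eT2925 i) (eT2929 i) (Nat.ble 3002368 i)
noncomputable def eT2931 (i : Nat) : Nat := Bool.rec (eT2921 i) (eT2930 i) (Nat.ble 2997248 i)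
noncomputable def eT2932 (i : Nat) : Nat := Bool.rec (eL2937 i) (eL2938 i) (Nat.ble 3008512 i)
noncomputable def eT2933 (i : Nat) : Nat := Bool.rec (eL2940 i) (eL2941 i) (Nat.ble 3011584 i)
noncomputable def eT2934 (i : Nat) : Nat := Bool.rec (eL2939 i) (eT2933 i) (Nat.ble 3010560 i)
noncomputable def eT2935 (i : Nat) : Nat := Bool.rec (eT2932 i) (eT2934 i) (Nat.ble 3009536 i)
noncomputable def eT2936 (i : Nat) : Nat := Bool.rec (eL2942 i) (eL2943 i) (Nat.ble 3013632 i)
noncomputable def eT2937 (i : Nat) : Nat := Bool.rec (eL2945 i) (eL2946 i) (Nat.ble 3016704 i)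
noncomputable def eT2938 (i : Nat) : Nat := Bool.rec (eL2944 i) (eT2937 i) (Nat.ble 3015680 i)
noncomputable def eT2939 (i : Nat) : Nat := Bool.rec (eT2936 i) (eT2938 i) (Nat.ble 3014656 i)
noncomputable def eT2940 (i : Nat) : Nat := Bool.rec (eT2935 i) (eT2939 i) (Nat.ble 3012608 i)
noncomputable def eT2941 (i : Nat) : Nat := Bool.rec (eL2947 i) (eL2948 i) (Nat.ble 3018752 i)
noncomputable def eT2942 (i : Nat) : Nat := Bool.rec (eL2950 i) (eL2951 i) (Nat.ble 3021824 i)
noncomputable def eT2943 (i : Nat) : Nat := Bool.rec (eL2949 i) (eT2942 i) (Nat.ble 3020800 i)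
noncomputable def eT2944 (i : Nat) : Nat := Bool.rec (eT2941 i) (eT2943 i) (Nat.ble 3019776 i)
noncomputable def eT2945 (i : Nat) : Nat := Bool.rec (eL2953 i) (eL2954 i) (Nat.ble 3024896 i)
noncomputable def eT2946 (i : Nat) : Nat := Bool.rec (eL2952 i) (eT2945 i) (Nat.ble 3023872 i)
noncomputable def eT2947 (i : Nat) : Nat := Bool.rec (eL2956 i) (eL2957 i) (Nat.ble 3027968 i)
noncomputable def eT2948 (i : Nat) : Nat := Bool.rec (eL2955 i) (eT2947 i) (Nat.ble 3026944 i)
noncomputable def eT2949 (i : Nat) : Nat := Bool.rec (eT2946 i) (eT2948 i) (Nat.ble 3025920 i)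
noncomputable def eT2950 (i : Nat) : Nat := Bool.rec (eT2944 i) (eT2949 i) (Nat.ble 3022848 i)
noncomputable def eT2951 (i : Nat) : Nat := Bool.rec (eT2940 i) (eT2950 i) (Nat.ble 3017728 i)
noncomputable def eT2952 (i : Nat) : Nat := Bool.rec (eT2931 i) (eT2951 i) (Nat.ble 3007488 i)
noncomputable def eT2953 (i : Nat) : Nat := Bool.rec (eT2912 i) (eT2952 i) (Nat.ble 2987008 i)
noncomputable def eT2954 (i : Nat) : Nat := Bool.rec (eT2872 i) (eT2953 i) (Nat.ble 2945024 i)
noncomputable def eT2955 (i : Nat) : Nat := Bool.rec (eT2791 i) (eT2954 i) (Nat.ble 2861056 i)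
noncomputable def eT2956 (i : Nat) : Nat := Bool.rec (eL2958 i) (eL2959 i) (Nat.ble 3030016 i)
noncomputable def eT2957 (i : Nat) : Nat := Bool.rec (eL2961 i) (eL2962 i) (Nat.ble 3033088 i)
noncomputable def eT2958 (i : Nat) : Nat := Bool.rec (eL2960 i) (eT2957 i) (Nat.ble 3032064 i)
noncomputable def eT2959 (i : Nat) : Nat := Bool.rec (eT2956 i) (eT2958 i) (Nat.ble 3031040 i)
noncomputable def eT2960 (i : Nat) : Nat := Bool.rec (eL2963 i) (eL2964 i) (Nat.ble 3035136 i)
noncomputable def eT2961 (i : Nat) : Nat := Bool.rec (eL2966 i) (eL2967 i) (Nat.ble 3038208 i)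
noncomputable def eT2962 (i : Nat) : Nat := Bool.rec (eL2965 i) (eT2961 i) (Nat.ble 3037184 i)
noncomputable def eT2963 (i : Nat) : Nat := Bool.rec (eT2960 i) (eT2962 i) (Nat.ble 3036160 i)
noncomputable def eT2964 (i : Nat) : Nat := Bool.rec (eT2959 i) (eT2963 i) (Nat.ble 3034112 i)
noncomputable def eT2965 (i : Nat) : Nat := Bool.rec (eL2968 i) (eL2969 i) (Nat.ble 3040256 i)
noncomputable def eT2966 (i : Nat) : Nat := Bool.rec (eL2971 i) (eL2972 i) (Nat.ble 3043328 i)
noncomputable def eT2967 (i : Nat) : Nat := Bool.rec (eL2970 i) (eT2966 i) (Nat.ble 3042304 i)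
noncomputable def eT2968 (i : Nat) : Nat := Bool.rec (eT2965 i) (eT2967 i) (Nat.ble 3041280 i)
noncomputable def eT2969 (i : Nat) : Nat := Bool.rec (eL2973 i) (eL2974 i) (Nat.ble 3045376 i)
noncomputable def eT2970 (i : Nat) : Nat := Bool.rec (eL2976 i) (eL2977 i) (Nat.ble 3048448 i)
noncomputable def eT2971 (i : Nat) : Nat := Bool.rec (eL2975 i) (eT2970 i) (Nat.ble 3047424 i)
noncomputable def eT2972 (i : Nat) : Nat := Bool.rec (eT2969 i) (eT2971 i) (Nat.ble 3046400 i)
noncomputable def eT2973 (i : Nat) : Nat := Bool.rec (eT2968 i) (eT2972 i) (Nat.ble 3044352 i)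
noncomputable def eT2974 (i : Nat) : Nat := Bool.rec (eT2964 i) (eT2973 i) (Nat.ble 3039232 i)
noncomputable def eT2975 (i : Nat) : Nat := Bool.rec (eL2978 i) (eL2979 i) (Nat.ble 3050496 i)
noncomputable def eT2976 (i : Nat) : Nat := Bool.rec (eL2981 i) (eL2982 i) (Nat.ble 3053568 i)
noncomputable def eT2977 (i : Nat) : Nat := Bool.rec (eL2980 i) (eT2976 i) (Nat.ble 3052544 i)
noncomputable def eT2978 (i : Nat) : Nat := Bool.rec (eT2975 i) (eT2977 i) (Nat.ble 3051520 i)
noncomputable def eT2979 (i : Nat) : Nat := Bool.rec (eL2983 i) (eL2984 i) (Nat.ble 3055616 i)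
noncomputable def eT2980 (i : Nat) : Nat := Bool.rec (eL2986 i) (eL2987 i) (Nat.ble 3058688 i)
noncomputable def eT2981 (i : Nat) : Nat := Bool.rec (eL2985 i) (eT2980 i) (Nat.ble 3057664 i)
noncomputable def eT2982 (i : Nat) : Nat := Bool.rec (eT2979 i) (eT2981 i) (Nat.ble 3056640 i)
noncomputable def eT2983 (i : Nat) : Nat := Bool.rec (eT2978 i) (eT2982 i) (Nat.ble 3054592 i)
noncomputable def eT2984 (i : Nat) : Nat := Bool.rec (eL2988 i) (eL2989 i) (Nat.ble 3060736 i)
noncomputable def eT2985 (i : Nat) : Nat := Bool.rec (eL2991 i) (eL2992 i) (Nat.ble 3063808 i)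
noncomputable def eT2986 (i : Nat) : Nat := Bool.rec (eL2990 i) (eT2985 i) (Nat.ble 3062784 i)
noncomputable def eT2987 (i : Nat) : Nat := Bool.rec (eT2984 i) (eT2986 i) (Nat.ble 3061760 i)
noncomputable def eT2988 (i : Nat) : Nat := Bool.rec (eL2994 i) (eL2995 i) (Nat.ble 3066880 i)
noncomputable def eT2989 (i : Nat) : Nat := Bool.rec (eL2993 i) (eT2988 i) (Nat.ble 3065856 i)
noncomputable def eT2990 (i : Nat) : Nat := Bool.rec (eL2997 i) (eL2998 i) (Nat.ble 3069952 i)
noncomputable def eT2991 (i : Nat) : Nat := Bool.rec (eL2996 i) (eT2990 i) (Nat.ble 3068928 i)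
noncomputable def eT2992 (i : Nat) : Nat := Bool.rec (eT2989 i) (eT2991 i) (Nat.ble 3067904 i)
noncomputable def eT2993 (i : Nat) : Nat := Bool.rec (eT2987 i) (eT2992 i) (Nat.ble 3064832 i)
noncomputable def eT2994 (i : Nat) : Nat := Bool.rec (eT2983 i) (eT2993 i) (Nat.ble 3059712 i)
noncomputable def eT2995 (i : Nat) : Nat := Bool.rec (eT2974 i) (eT2994 i) (Nat.ble 3049472 i)
noncomputable def eT2996 (i : Nat) : Nat := Bool.rec (eL2999 i) (eL3000 i) (Nat.ble 3072000 i)
noncomputable def eT2997 (i : Nat) : Nat := Bool.rec (eL3002 i) (eL3003 i) (Nat.ble 3075072 i)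
noncomputable def eT2998 (i : Nat) : Nat := Bool.rec (eL3001 i) (eT2997 i) (Nat.ble 3074048 i)
noncomputable def eT2999 (i : Nat) : Nat := Bool.rec (eT2996 i) (eT2998 i) (Nat.ble 3073024 i)
noncomputable def eT3000 (i : Nat) : Nat := Bool.rec (eL3004 i) (eL3005 i) (Nat.ble 3077120 i)
noncomputable def eT3001 (i : Nat) : Nat := Bool.rec (eL3007 i) (eL3008 i) (Nat.ble 3080192 i)
noncomputable def eT3002 (i : Nat) : Nat := Bool.rec (eL3006 i) (eT3001 i) (Nat.ble 3079168 i)
noncomputable def eT3003 (i : Nat) : Nat := Bool.rec (eT3000 i) (eT3002 i) (Nat.ble 3078144 i)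
noncomputable def eT3004 (i : Nat) : Nat := Bool.rec (eT2999 i) (eT3003 i) (Nat.ble 3076096 i)
noncomputable def eT3005 (i : Nat) : Nat := Bool.rec (eL3009 i) (eL3010 i) (Nat.ble 3082240 i)
noncomputable def eT3006 (i : Nat) : Nat := Bool.rec (eL3012 i) (eL3013 i) (Nat.ble 3085312 i)
noncomputable def eT3007 (i : Nat) : Nat := Bool.rec (eL3011 i) (eT3006 i) (Nat.ble 3084288 i)
noncomputable def eT3008 (i : Nat) : Nat := Bool.rec (eT3005 i) (eT3007 i) (Nat.ble 3083264 i)
noncomputable def eT3009 (i : Nat) : Nat := Bool.rec (eL3014 i) (eL3015 i) (Nat.ble 3087360 i)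
noncomputable def eT3010 (i : Nat) : Nat := Bool.rec (eL3017 i) (eL3018 i) (Nat.ble 3090432 i)
noncomputable def eT3011 (i : Nat) : Nat := Bool.rec (eL3016 i) (eT3010 i) (Nat.ble 3089408 i)
noncomputable def eT3012 (i : Nat) : Nat := Bool.rec (eT3009 i) (eT3011 i) (Nat.ble 3088384 i)
noncomputable def eT3013 (i : Nat) : Nat := Bool.rec (eT3008 i) (eT3012 i) (Nat.ble 3086336 i)
noncomputable def eT3014 (i : Nat) : Nat := Bool.rec (eT3004 i) (eT3013 i) (Nat.ble 3081216 i)
noncomputable def eT3015 (i : Nat) : Nat := Bool.rec (eL3019 i) (eL3020 i) (Nat.ble 3092480 i)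
noncomputable def eT3016 (i : Nat) : Nat := Bool.rec (eL3022 i) (eL3023 i) (Nat.ble 3095552 i)
noncomputable def eT3017 (i : Nat) : Nat := Bool.rec (eL3021 i) (eT3016 i) (Nat.ble 3094528 i)
noncomputable def eT3018 (i : Nat) : Nat := Bool.rec (eT3015 i) (eT3017 i) (Nat.ble 3093504 i)
noncomputable def eT3019 (i : Nat) : Nat := Bool.rec (eL3024 i) (eL3025 i) (Nat.ble 3097600 i)
noncomputable def eT3020 (i : Nat) : Nat := Bool.rec (eL3027 i) (eL3028 i) (Nat.ble 3100672 i)
noncomputable def eT3021 (i : Nat) : Nat := Bool.rec (eL3026 i) (eT3020 i) (Nat.ble 3099648 i)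
noncomputable def eT3022 (i : Nat) : Nat := Bool.rec (eT3019 i) (eT3021 i) (Nat.ble 3098624 i)
noncomputable def eT3023 (i : Nat) : Nat := Bool.rec (eT3018 i) (eT3022 i) (Nat.ble 3096576 i)
noncomputable def eT3024 (i : Nat) : Nat := Bool.rec (eL3029 i) (eL3030 i) (Nat.ble 3102720 i)
noncomputable def eT3025 (i : Nat) : Nat := Bool.rec (eL3032 i) (eL3033 i) (Nat.ble 3105792 i)
noncomputable def eT3026 (i : Nat) : Nat := Bool.rec (eL3031 i) (eT3025 i) (Nat.ble 3104768 i)
noncomputable def eT3027 (i : Nat) : Nat := Bool.rec (eT3024 i) (eT3026 i) (Nat.ble 3103744 i)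
noncomputable def eT3028 (i : Nat) : Nat := Bool.rec (eL3035 i) (eL3036 i) (Nat.ble 3108864 i)
noncomputable def eT3029 (i : Nat) : Nat := Bool.rec (eL3034 i) (eT3028 i) (Nat.ble 3107840 i)
noncomputable def eT3030 (i : Nat) : Nat := Bool.rec (eL3038 i) (eL3039 i) (Nat.ble 3111936 i)
noncomputable def eT3031 (i : Nat) : Nat := Bool.rec (eL3037 i) (eT3030 i) (Nat.ble 3110912 i)
noncomputable def eT3032 (i : Nat) : Nat := Bool.rec (eT3029 i) (eT3031 i) (Nat.ble 3109888 i)
noncomputable def eT3033 (i : Nat) : Nat := Bool.rec (eT3027 i) (eT3032 i) (Nat.ble 3106816 i)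
noncomputable def eT3034 (i : Nat) : Nat := Bool.rec (eT3023 i) (eT3033 i) (Nat.ble 3101696 i)
noncomputable def eT3035 (i : Nat) : Nat := Bool.rec (eT3014 i) (eT3034 i) (Nat.ble 3091456 i)
noncomputable def eT3036 (i : Nat) : Nat := Bool.rec (eT2995 i) (eT3035 i) (Nat.ble 3070976 i)
noncomputable def eT3037 (i : Nat) : Nat := Bool.rec (eL3040 i) (eL3041 i) (Nat.ble 3113984 i)
noncomputable def eT3038 (i : Nat) : Nat := Bool.rec (eL3043 i) (eL3044 i) (Nat.ble 3117056 i)
noncomputable def eT3039 (i : Nat) : Nat := Bool.rec (eL3042 i) (eT3038 i) (Nat.ble 3116032 i)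
noncomputable def eT3040 (i : Nat) : Nat := Bool.rec (eT3037 i) (eT3039 i) (Nat.ble 3115008 i)
noncomputable def eT3041 (i : Nat) : Nat := Bool.rec (eL3045 i) (eL3046 i) (Nat.ble 3119104 i)
noncomputable def eT3042 (i : Nat) : Nat := Bool.rec (eL3048 i) (eL3049 i) (Nat.ble 3122176 i)
noncomputable def eT3043 (i : Nat) : Nat := Bool.rec (eL3047 i) (eT3042 i) (Nat.ble 3121152 i)
noncomputable def eT3044 (i : Nat) : Nat := Bool.rec (eT3041 i) (eT3043 i) (Nat.ble 3120128 i)
noncomputable def eT3045 (i : Nat) : Nat := Bool.rec (eT3040 i) (eT3044 i) (Nat.ble 3118080 i)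
noncomputable def eT3046 (i : Nat) : Nat := Bool.rec (eL3050 i) (eL3051 i) (Nat.ble 3124224 i)
noncomputable def eT3047 (i : Nat) : Nat := Bool.rec (eL3053 i) (eL3054 i) (Nat.ble 3127296 i)
noncomputable def eT3048 (i : Nat) : Nat := Bool.rec (eL3052 i) (eT3047 i) (Nat.ble 3126272 i)
noncomputable def eT3049 (i : Nat) : Nat := Bool.rec (eT3046 i) (eT3048 i) (Nat.ble 3125248 i)
noncomputable def eT3050 (i : Nat) : Nat := Bool.rec (eL3055 i) (eL3056 i) (Nat.ble 3129344 i)
noncomputable def eT3051 (i : Nat) : Nat := Bool.rec (eL3058 i) (eL3059 i) (Nat.ble 3132416 i)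
noncomputable def eT3052 (i : Nat) : Nat := Bool.rec (eL3057 i) (eT3051 i) (Nat.ble 3131392 i)
noncomputable def eT3053 (i : Nat) : Nat := Bool.rec (eT3050 i) (eT3052 i) (Nat.ble 3130368 i)
noncomputable def eT3054 (i : Nat) : Nat := Bool.rec (eT3049 i) (eT3053 i) (Nat.ble 3128320 i)
noncomputable def eT3055 (i : Nat) : Nat := Bool.rec (eT3045 i) (eT3054 i) (Nat.ble 3123200 i)
noncomputable def eT3056 (i : Nat) : Nat := Bool.rec (eL3060 i) (eL3061 i) (Nat.ble 3134464 i)
noncomputable def eT3057 (i : Nat) : Nat := Bool.rec (eL3063 i) (eL3064 i) (Nat.ble 3137536 i)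
noncomputable def eT3058 (i : Nat) : Nat := Bool.rec (eL3062 i) (eT3057 i) (Nat.ble 3136512 i)
noncomputable def eT3059 (i : Nat) : Nat := Bool.rec (eT3056 i) (eT3058 i) (Nat.ble 3135488 i)
noncomputable def eT3060 (i : Nat) : Nat := Bool.rec (eL3065 i) (eL3066 i) (Nat.ble 3139584 i)
noncomputable def eT3061 (i : Nat) : Nat := Bool.rec (eL3068 i) (eL3069 i) (Nat.ble 3142656 i)
noncomputable def eT3062 (i : Nat) : Nat := Bool.rec (eL3067 i) (eT3061 i) (Nat.ble 3141632 i)
noncomputable def eT3063 (i : Nat) : Nat := Bool.rec (eT3060 i) (eT3062 i) (Nat.ble 3140608 i)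
noncomputable def eT3064 (i : Nat) : Nat := Bool.rec (eT3059 i) (eT3063 i) (Nat.ble 3138560 i)
noncomputable def eT3065 (i : Nat) : Nat := Bool.rec (eL3070 i) (eL3071 i) (Nat.ble 3144704 i)
noncomputable def eT3066 (i : Nat) : Nat := Bool.rec (eL3073 i) (eL3074 i) (Nat.ble 3147776 i)
noncomputable def eT3067 (i : Nat) : Nat := Bool.rec (eL3072 i) (eT3066 i) (Nat.ble 3146752 i)
noncomputable def eT3068 (i : Nat) : Nat := Bool.rec (eT3065 i) (eT3067 i) (Nat.ble 3145728 i)
noncomputable def eT3069 (i : Nat) : Nat := Bool.rec (eL3076 i) (eL3077 i) (Nat.ble 3150848 i)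
noncomputable def eT3070 (i : Nat) : Nat := Bool.rec (eL3075 i) (eT3069 i) (Nat.ble 3149824 i)
noncomputable def eT3071 (i : Nat) : Nat := Bool.rec (eL3079 i) (eL3080 i) (Nat.ble 3153920 i)
noncomputable def eT3072 (i : Nat) : Nat := Bool.rec (eL3078 i) (eT3071 i) (Nat.ble 3152896 i)
noncomputable def eT3073 (i : Nat) : Nat := Bool.rec (eT3070 i) (eT3072 i) (Nat.ble 3151872 i)
noncomputable def eT3074 (i : Nat) : Nat := Bool.rec (eT3068 i) (eT3073 i) (Nat.ble 3148800 i)
noncomputable def eT3075 (i : Nat) : Nat := Bool.rec (eT3064 i) (eT3074 i) (Nat.ble 3143680 i)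
noncomputable def eT3076 (i : Nat) : Nat := Bool.rec (eT3055 i) (eT3075 i) (Nat.ble 3133440 i)
noncomputable def eT3077 (i : Nat) : Nat := Bool.rec (eL3081 i) (eL3082 i) (Nat.ble 3155968 i)
noncomputable def eT3078 (i : Nat) : Nat := Bool.rec (eL3084 i) (eL3085 i) (Nat.ble 3159040 i)
noncomputable def eT3079 (i : Nat) : Nat := Bool.rec (eL3083 i) (eT3078 i) (Nat.ble 3158016 i)
noncomputable def eT3080 (i : Nat) : Nat := Bool.rec (eT3077 i) (eT3079 i) (Nat.ble 3156992 i)
noncomputable def eT3081 (i : Nat) : Nat := Bool.rec (eL3086 i) (eL3087 i) (Nat.ble 3161088 i)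
noncomputable def eT3082 (i : Nat) : Nat := Bool.rec (eL3089 i) (eL3090 i) (Nat.ble 3164160 i)
noncomputable def eT3083 (i : Nat) : Nat := Bool.rec (eL3088 i) (eT3082 i) (Nat.ble 3163136 i)
noncomputable def eT3084 (i : Nat) : Nat := Bool.rec (eT3081 i) (eT3083 i) (Nat.ble 3162112 i)
noncomputable def eT3085 (i : Nat) : Nat := Bool.rec (eT3080 i) (eT3084 i) (Nat.ble 3160064 i)
noncomputable def eT3086 (i : Nat) : Nat := Bool.rec (eL3091 i) (eL3092 i) (Nat.ble 3166208 i)
noncomputable def eT3087 (i : Nat) : Nat := Bool.rec (eL3094 i) (eL3095 i) (Nat.ble 3169280 i)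
noncomputable def eT3088 (i : Nat) : Nat := Bool.rec (eL3093 i) (eT3087 i) (Nat.ble 3168256 i)
noncomputable def eT3089 (i : Nat) : Nat := Bool.rec (eT3086 i) (eT3088 i) (Nat.ble 3167232 i)
noncomputable def eT3090 (i : Nat) : Nat := Bool.rec (eL3096 i) (eL3097 i) (Nat.ble 3171328 i)
noncomputable def eT3091 (i : Nat) : Nat := Bool.rec (eL3099 i) (eL3100 i) (Nat.ble 3174400 i)
noncomputable def eT3092 (i : Nat) : Nat := Bool.rec (eL3098 i) (eT3091 i) (Nat.ble 3173376 i)
noncomputable def eT3093 (i : Nat) : Nat := Bool.rec (eT3090 i) (eT3092 i) (Nat.ble 3172352 i)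
noncomputable def eT3094 (i : Nat) : Nat := Bool.rec (eT3089 i) (eT3093 i) (Nat.ble 3170304 i)
noncomputable def eT3095 (i : Nat) : Nat := Bool.rec (eT3085 i) (eT3094 i) (Nat.ble 3165184 i)
noncomputable def eT3096 (i : Nat) : Nat := Bool.rec (eL3101 i) (eL3102 i) (Nat.ble 3176448 i)
noncomputable def eT3097 (i : Nat) : Nat := Bool.rec (eL3104 i) (eL3105 i) (Nat.ble 3179520 i)
noncomputable def eT3098 (i : Nat) : Nat := Bool.rec (eL3103 i) (eT3097 i) (Nat.ble 3178496 i)
noncomputable def eT3099 (i : Nat) : Nat := Bool.rec (eT3096 i) (eT3098 i) (Nat.ble 3177472 i)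
noncomputable def eT3100 (i : Nat) : Nat := Bool.rec (eL3106 i) (eL3107 i) (Nat.ble 3181568 i)
noncomputable def eT3101 (i : Nat) : Nat := Bool.rec (eL3109 i) (eL3110 i) (Nat.ble 3184640 i)
noncomputable def eT3102 (i : Nat) : Nat := Bool.rec (eL3108 i) (eT3101 i) (Nat.ble 3183616 i)
noncomputable def eT3103 (i : Nat) : Nat := Bool.rec (eT3100 i) (eT3102 i) (Nat.ble 3182592 i)
noncomputable def eT3104 (i : Nat) : Nat := Bool.rec (eT3099 i) (eT3103 i) (Nat.ble 3180544 i)
noncomputable def eT3105 (i : Nat) : Nat := Bool.rec (eL3111 i) (eL3112 i) (Nat.ble 3186688 i)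
noncomputable def eT3106 (i : Nat) : Nat := Bool.rec (eL3114 i) (eL3115 i) (Nat.ble 3189760 i)
noncomputable def eT3107 (i : Nat) : Nat := Bool.rec (eL3113 i) (eT3106 i) (Nat.ble 3188736 i)
noncomputable def eT3108 (i : Nat) : Nat := Bool.rec (eT3105 i) (eT3107 i) (Nat.ble 3187712 i)
noncomputable def eT3109 (i : Nat) : Nat := Bool.rec (eL3117 i) (eL3118 i) (Nat.ble 3192832 i)
noncomputable def eT3110 (i : Nat) : Nat := Bool.rec (eL3116 i) (eT3109 i) (Nat.ble 3191808 i)
noncomputable def eT3111 (i : Nat) : Nat := Bool.rec (eL3120 i) (eL3121 i) (Nat.ble 3195904 i)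
noncomputable def eT3112 (i : Nat) : Nat := Bool.rec (eL3119 i) (eT3111 i) (Nat.ble 3194880 i)
noncomputable def eT3113 (i : Nat) : Nat := Bool.rec (eT3110 i) (eT3112 i) (Nat.ble 3193856 i)
noncomputable def eT3114 (i : Nat) : Nat := Bool.rec (eT3108 i) (eT3113 i) (Nat.ble 3190784 i)
noncomputable def eT3115 (i : Nat) : Nat := Bool.rec (eT3104 i) (eT3114 i) (Nat.ble 3185664 i)
noncomputable def eT3116 (i : Nat) : Nat := Bool.rec (eT3095 i) (eT3115 i) (Nat.ble 3175424 i)
noncomputable def eT3117 (i : Nat) : Nat := Bool.rec (eT3076 i) (eT3116 i) (Nat.ble 3154944 i)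
noncomputable def eT3118 (i : Nat) : Nat := Bool.rec (eT3036 i) (eT3117 i) (Nat.ble 3112960 i)
noncomputable def eT3119 (i : Nat) : Nat := Bool.rec (eL3122 i) (eL3123 i) (Nat.ble 3197952 i)
noncomputable def eT3120 (i : Nat) : Nat := Bool.rec (eL3125 i) (eL3126 i) (Nat.ble 3201024 i)
noncomputable def eT3121 (i : Nat) : Nat := Bool.rec (eL3124 i) (eT3120 i) (Nat.ble 3200000 i)
noncomputable def eT3122 (i : Nat) : Nat := Bool.rec (eT3119 i) (eT3121 i) (Nat.ble 3198976 i)
noncomputable def eT3123 (i : Nat) : Nat := Bool.rec (eL3127 i) (eL3128 i) (Nat.ble 3203072 i)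
noncomputable def eT3124 (i : Nat) : Nat := Bool.rec (eL3130 i) (eL3131 i) (Nat.ble 3206144 i)
noncomputable def eT3125 (i : Nat) : Nat := Bool.rec (eL3129 i) (eT3124 i) (Nat.ble 3205120 i)
noncomputable def eT3126 (i : Nat) : Nat := Bool.rec (eT3123 i) (eT3125 i) (Nat.ble 3204096 i)
noncomputable def eT3127 (i : Nat) : Nat := Bool.rec (eT3122 i) (eT3126 i) (Nat.ble 3202048 i)
noncomputable def eT3128 (i : Nat) : Nat := Bool.rec (eL3132 i) (eL3133 i) (Nat.ble 3208192 i)
noncomputable def eT3129 (i : Nat) : Nat := Bool.rec (eL3135 i) (eL3136 i) (Nat.ble 3211264 i)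
noncomputable def eT3130 (i : Nat) : Nat := Bool.rec (eL3134 i) (eT3129 i) (Nat.ble 3210240 i)
noncomputable def eT3131 (i : Nat) : Nat := Bool.rec (eT3128 i) (eT3130 i) (Nat.ble 3209216 i)
noncomputable def eT3132 (i : Nat) : Nat := Bool.rec (eL3137 i) (eL3138 i) (Nat.ble 3213312 i)
noncomputable def eT3133 (i : Nat) : Nat := Bool.rec (eL3140 i) (eL3141 i) (Nat.ble 3216384 i)
noncomputable def eT3134 (i : Nat) : Nat := Bool.rec (eL3139 i) (eT3133 i) (Nat.ble 3215360 i)
noncomputable def eT3135 (i : Nat) : Nat := Bool.rec (eT3132 i) (eT3134 i) (Nat.ble 3214336 i)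
noncomputable def eT3136 (i : Nat) : Nat := Bool.rec (eT3131 i) (eT3135 i) (Nat.ble 3212288 i)
noncomputable def eT3137 (i : Nat) : Nat := Bool.rec (eT3127 i) (eT3136 i) (Nat.ble 3207168 i)
noncomputable def eT3138 (i : Nat) : Nat := Bool.rec (eL3142 i) (eL3143 i) (Nat.ble 3218432 i)
noncomputable def eT3139 (i : Nat) : Nat := Bool.rec (eL3145 i) (eL3146 i) (Nat.ble 3221504 i)
noncomputable def eT3140 (i : Nat) : Nat := Bool.rec (eL3144 i) (eT3139 i) (Nat.ble 3220480 i)
noncomputable def eT3141 (i : Nat) : Nat := Bool.rec (eT3138 i) (eT3140 i) (Nat.ble 3219456 i)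
noncomputable def eT3142 (i : Nat) : Nat := Bool.rec (eL3147 i) (eL3148 i) (Nat.ble 3223552 i)
noncomputable def eT3143 (i : Nat) : Nat := Bool.rec (eL3150 i) (eL3151 i) (Nat.ble 3226624 i)
noncomputable def eT3144 (i : Nat) : Nat := Bool.rec (eL3149 i) (eT3143 i) (Nat.ble 3225600 i)
noncomputable def eT3145 (i : Nat) : Nat := Bool.rec (eT3142 i) (eT3144 i) (Nat.ble 3224576 i)
noncomputable def eT3146 (i : Nat) : Nat := Bool.rec (eT3141 i) (eT3145 i) (Nat.ble 3222528 i)
noncomputable def eT3147 (i : Nat) : Nat := Bool.rec (eL3152 i) (eL3153 i) (Nat.ble 3228672 i)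
noncomputable def eT3148 (i : Nat) : Nat := Bool.rec (eL3155 i) (eL3156 i) (Nat.ble 3231744 i)
noncomputable def eT3149 (i : Nat) : Nat := Bool.rec (eL3154 i) (eT3148 i) (Nat.ble 3230720 i)
noncomputable def eT3150 (i : Nat) : Nat := Bool.rec (eT3147 i) (eT3149 i) (Nat.ble 3229696 i)
noncomputable def eT3151 (i : Nat) : Nat := Bool.rec (eL3158 i) (eL3159 i) (Nat.ble 3234816 i)
noncomputable def eT3152 (i : Nat) : Nat := Bool.rec (eL3157 i) (eT3151 i) (Nat.ble 3233792 i)
noncomputable def eT3153 (i : Nat) : Nat := Bool.rec (eL3161 i) (eL3162 i) (Nat.ble 3237888 i)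
noncomputable def eT3154 (i : Nat) : Nat := Bool.rec (eL3160 i) (eT3153 i) (Nat.ble 3236864 i)
noncomputable def eT3155 (i : Nat) : Nat := Bool.rec (eT3152 i) (eT3154 i) (Nat.ble 3235840 i)
noncomputable def eT3156 (i : Nat) : Nat := Bool.rec (eT3150 i) (eT3155 i) (Nat.ble 3232768 i)
noncomputable def eT3157 (i : Nat) : Nat := Bool.rec (eT3146 i) (eT3156 i) (Nat.ble 3227648 i)
noncomputable def eT3158 (i : Nat) : Nat := Bool.rec (eT3137 i) (eT3157 i) (Nat.ble 3217408 i)
noncomputable def eT3159 (i : Nat) : Nat := Bool.rec (eL3163 i) (eL3164 i) (Nat.ble 3239936 i)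
noncomputable def eT3160 (i : Nat) : Nat := Bool.rec (eL3166 i) (eL3167 i) (Nat.ble 3243008 i)
noncomputable def eT3161 (i : Nat) : Nat := Bool.rec (eL3165 i) (eT3160 i) (Nat.ble 3241984 i)
noncomputable def eT3162 (i : Nat) : Nat := Bool.rec (eT3159 i) (eT3161 i) (Nat.ble 3240960 i)
noncomputable def eT3163 (i : Nat) : Nat := Bool.rec (eL3168 i) (eL3169 i) (Nat.ble 3245056 i)
noncomputable def eT3164 (i : Nat) : Nat := Bool.rec (eL3171 i) (eL3172 i) (Nat.ble 3248128 i)
noncomputable def eT3165 (i : Nat) : Nat := Bool.rec (eL3170 i) (eT3164 i) (Nat.ble 3247104 i)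
noncomputable def eT3166 (i : Nat) : Nat := Bool.rec (eT3163 i) (eT3165 i) (Nat.ble 3246080 i)
noncomputable def eT3167 (i : Nat) : Nat := Bool.rec (eT3162 i) (eT3166 i) (Nat.ble 3244032 i)
noncomputable def eT3168 (i : Nat) : Nat := Bool.rec (eL3173 i) (eL3174 i) (Nat.ble 3250176 i)
noncomputable def eT3169 (i : Nat) : Nat := Bool.rec (eL3176 i) (eL3177 i) (Nat.ble 3253248 i)
noncomputable def eT3170 (i : Nat) : Nat := Bool.rec (eL3175 i) (eT3169 i) (Nat.ble 3252224 i)
noncomputable def eT3171 (i : Nat) : Nat := Bool.rec (eT3168 i) (eT3170 i) (Nat.ble 3251200 i)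
noncomputable def eT3172 (i : Nat) : Nat := Bool.rec (eL3178 i) (eL3179 i) (Nat.ble 3255296 i)
noncomputable def eT3173 (i : Nat) : Nat := Bool.rec (eL3181 i) (eL3182 i) (Nat.ble 3258368 i)
noncomputable def eT3174 (i : Nat) : Nat := Bool.rec (eL3180 i) (eT3173 i) (Nat.ble 3257344 i)
noncomputable def eT3175 (i : Nat) : Nat := Bool.rec (eT3172 i) (eT3174 i) (Nat.ble 3256320 i)
noncomputable def eT3176 (i : Nat) : Nat := Bool.rec (eT3171 i) (eT3175 i) (Nat.ble 3254272 i)
noncomputable def eT3177 (i : Nat) : Nat := Bool.rec (eT3167 i) (eT3176 i) (Nat.ble 3249152 i)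
noncomputable def eT3178 (i : Nat) : Nat := Bool.rec (eL3183 i) (eL3184 i) (Nat.ble 3260416 i)
noncomputable def eT3179 (i : Nat) : Nat := Bool.rec (eL3186 i) (eL3187 i) (Nat.ble 3263488 i)
noncomputable def eT3180 (i : Nat) : Nat := Bool.rec (eL3185 i) (eT3179 i) (Nat.ble 3262464 i)
noncomputable def eT3181 (i : Nat) : Nat := Bool.rec (eT3178 i) (eT3180 i) (Nat.ble 3261440 i)
noncomputable def eT3182 (i : Nat) : Nat := Bool.rec (eL3188 i) (eL3189 i) (Nat.ble 3265536 i)
noncomputable def eT3183 (i : Nat) : Nat := Bool.rec (eL3191 i) (eL3192 i) (Nat.ble 3268608 i)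
noncomputable def eT3184 (i : Nat) : Nat := Bool.rec (eL3190 i) (eT3183 i) (Nat.ble 3267584 i)
noncomputable def eT3185 (i : Nat) : Nat := Bool.rec (eT3182 i) (eT3184 i) (Nat.ble 3266560 i)
noncomputable def eT3186 (i : Nat) : Nat := Bool.rec (eT3181 i) (eT3185 i) (Nat.ble 3264512 i)
noncomputable def eT3187 (i : Nat) : Nat := Bool.rec (eL3193 i) (eL3194 i) (Nat.ble 3270656 i)
noncomputable def eT3188 (i : Nat) : Nat := Bool.rec (eL3196 i) (eL3197 i) (Nat.ble 3273728 i)
noncomputable def eT3189 (i : Nat) : Nat := Bool.rec (eL3195 i) (eT3188 i) (Nat.ble 3272704 i)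
noncomputable def eT3190 (i : Nat) : Nat := Bool.rec (eT3187 i) (eT3189 i) (Nat.ble 3271680 i)
noncomputable def eT3191 (i : Nat) : Nat := Bool.rec (eL3199 i) (eL3200 i) (Nat.ble 3276800 i)
noncomputable def eT3192 (i : Nat) : Nat := Bool.rec (eL3198 i) (eT3191 i) (Nat.ble 3275776 i)
noncomputable def eT3193 (i : Nat) : Nat := Bool.rec (eL3202 i) (eL3203 i) (Nat.ble 3279872 i)
noncomputable def eT3194 (i : Nat) : Nat := Bool.rec (eL3201 i) (eT3193 i) (Nat.ble 3278848 i)
noncomputable def eT3195 (i : Nat) : Nat := Bool.rec (eT3192 i) (eT3194 i) (Nat.ble 3277824 i)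
noncomputable def eT3196 (i : Nat) : Nat := Bool.rec (eT3190 i) (eT3195 i) (Nat.ble 3274752 i)
noncomputable def eT3197 (i : Nat) : Nat := Bool.rec (eT3186 i) (eT3196 i) (Nat.ble 3269632 i)
noncomputable def eT3198 (i : Nat) : Nat := Bool.rec (eT3177 i) (eT3197 i) (Nat.ble 3259392 i)
noncomputable def eT3199 (i : Nat) : Nat := Bool.rec (eT3158 i) (eT3198 i) (Nat.ble 3238912 i)
noncomputable def eT3200 (i : Nat) : Nat := Bool.rec (eL3204 i) (eL3205 i) (Nat.ble 3281920 i)
noncomputable def eT3201 (i : Nat) : Nat := Bool.rec (eL3207 i) (eL3208 i) (Nat.ble 3284992 i)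
noncomputable def eT3202 (i : Nat) : Nat := Bool.rec (eL3206 i) (eT3201 i) (Nat.ble 3283968 i)
noncomputable def eT3203 (i : Nat) : Nat := Bool.rec (eT3200 i) (eT3202 i) (Nat.ble 3282944 i)
noncomputable def eT3204 (i : Nat) : Nat := Bool.rec (eL3209 i) (eL3210 i) (Nat.ble 3287040 i)
noncomputable def eT3205 (i : Nat) : Nat := Bool.rec (eL3212 i) (eL3213 i) (Nat.ble 3290112 i)
noncomputable def eT3206 (i : Nat) : Nat := Bool.rec (eL3211 i) (eT3205 i) (Nat.ble 3289088 i)
noncomputable def eT3207 (i : Nat) : Nat := Bool.rec (eT3204 i) (eT3206 i) (Nat.ble 3288064 i)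
noncomputable def eT3208 (i : Nat) : Nat := Bool.rec (eT3203 i) (eT3207 i) (Nat.ble 3286016 i)
noncomputable def eT3209 (i : Nat) : Nat := Bool.rec (eL3214 i) (eL3215 i) (Nat.ble 3292160 i)
noncomputable def eT3210 (i : Nat) : Nat := Bool.rec (eL3217 i) (eL3218 i) (Nat.ble 3295232 i)
noncomputable def eT3211 (i : Nat) : Nat := Bool.rec (eL3216 i) (eT3210 i) (Nat.ble 3294208 i)
noncomputable def eT3212 (i : Nat) : Nat := Bool.rec (eT3209 i) (eT3211 i) (Nat.ble 3293184 i)
noncomputable def eT3213 (i : Nat) : Nat := Bool.rec (eL3219 i) (eL3220 i) (Nat.ble 3297280 i)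
noncomputable def eT3214 (i : Nat) : Nat := Bool.rec (eL3222 i) (eL3223 i) (Nat.ble 3300352 i)
noncomputable def eT3215 (i : Nat) : Nat := Bool.rec (eL3221 i) (eT3214 i) (Nat.ble 3299328 i)
noncomputable def eT3216 (i : Nat) : Nat := Bool.rec (eT3213 i) (eT3215 i) (Nat.ble 3298304 i)
noncomputable def eT3217 (i : Nat) : Nat := Bool.rec (eT3212 i) (eT3216 i) (Nat.ble 3296256 i)
noncomputable def eT3218 (i : Nat) : Nat := Bool.rec (eT3208 i) (eT3217 i) (Nat.ble 3291136 i)
noncomputable def eT3219 (i : Nat) : Nat := Bool.rec (eL3224 i) (eL3225 i) (Nat.ble 3302400 i)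
noncomputable def eT3220 (i : Nat) : Nat := Bool.rec (eL3227 i) (eL3228 i) (Nat.ble 3305472 i)
noncomputable def eT3221 (i : Nat) : Nat := Bool.rec (eL3226 i) (eT3220 i) (Nat.ble 3304448 i)
noncomputable def eT3222 (i : Nat) : Nat := Bool.rec (eT3219 i) (eT3221 i) (Nat.ble 3303424 i)
noncomputable def eT3223 (i : Nat) : Nat := Bool.rec (eL3229 i) (eL3230 i) (Nat.ble 3307520 i)
noncomputable def eT3224 (i : Nat) : Nat := Bool.rec (eL3232 i) (eL3233 i) (Nat.ble 3310592 i)
noncomputable def eT3225 (i : Nat) : Nat := Bool.rec (eL3231 i) (eT3224 i) (Nat.ble 3309568 i)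
noncomputable def eT3226 (i : Nat) : Nat := Bool.rec (eT3223 i) (eT3225 i) (Nat.ble 3308544 i)
noncomputable def eT3227 (i : Nat) : Nat := Bool.rec (eT3222 i) (eT3226 i) (Nat.ble 3306496 i)
noncomputable def eT3228 (i : Nat) : Nat := Bool.rec (eL3234 i) (eL3235 i) (Nat.ble 3312640 i)
noncomputable def eT3229 (i : Nat) : Nat := Bool.rec (eL3237 i) (eL3238 i) (Nat.ble 3315712 i)
noncomputable def eT3230 (i : Nat) : Nat := Bool.rec (eL3236 i) (eT3229 i) (Nat.ble 3314688 i)
noncomputable def eT3231 (i : Nat) : Nat := Bool.rec (eT3228 i) (eT3230 i) (Nat.ble 3313664 i)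
noncomputable def eT3232 (i : Nat) : Nat := Bool.rec (eL3240 i) (eL3241 i) (Nat.ble 3318784 i)
noncomputable def eT3233 (i : Nat) : Nat := Bool.rec (eL3239 i) (eT3232 i) (Nat.ble 3317760 i)
noncomputable def eT3234 (i : Nat) : Nat := Bool.rec (eL3243 i) (eL3244 i) (Nat.ble 3321856 i)
noncomputable def eT3235 (i : Nat) : Nat := Bool.rec (eL3242 i) (eT3234 i) (Nat.ble 3320832 i)
noncomputable def eT3236 (i : Nat) : Nat := Bool.rec (eT3233 i) (eT3235 i) (Nat.ble 3319808 i)
noncomputable def eT3237 (i : Nat) : Nat := Bool.rec (eT3231 i) (eT3236 i) (Nat.ble 3316736 i)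
noncomputable def eT3238 (i : Nat) : Nat := Bool.rec (eT3227 i) (eT3237 i) (Nat.ble 3311616 i)
noncomputable def eT3239 (i : Nat) : Nat := Bool.rec (eT3218 i) (eT3238 i) (Nat.ble 3301376 i)
noncomputable def eT3240 (i : Nat) : Nat := Bool.rec (eL3245 i) (eL3246 i) (Nat.ble 3323904 i)
noncomputable def eT3241 (i : Nat) : Nat := Bool.rec (eL3248 i) (eL3249 i) (Nat.ble 3326976 i)
noncomputable def eT3242 (i : Nat) : Nat := Bool.rec (eL3247 i) (eT3241 i) (Nat.ble 3325952 i)
noncomputable def eT3243 (i : Nat) : Nat := Bool.rec (eT3240 i) (eT3242 i) (Nat.ble 3324928 i)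
noncomputable def eT3244 (i : Nat) : Nat := Bool.rec (eL3250 i) (eL3251 i) (Nat.ble 3329024 i)
noncomputable def eT3245 (i : Nat) : Nat := Bool.rec (eL3253 i) (eL3254 i) (Nat.ble 3332096 i)
noncomputable def eT3246 (i : Nat) : Nat := Bool.rec (eL3252 i) (eT3245 i) (Nat.ble 3331072 i)
noncomputable def eT3247 (i : Nat) : Nat := Bool.rec (eT3244 i) (eT3246 i) (Nat.ble 3330048 i)
noncomputable def eT3248 (i : Nat) : Nat := Bool.rec (eT3243 i) (eT3247 i) (Nat.ble 3328000 i)
noncomputable def eT3249 (i : Nat) : Nat := Bool.rec (eL3255 i) (eL3256 i) (Nat.ble 3334144 i)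
noncomputable def eT3250 (i : Nat) : Nat := Bool.rec (eL3258 i) (eL3259 i) (Nat.ble 3337216 i)
noncomputable def eT3251 (i : Nat) : Nat := Bool.rec (eL3257 i) (eT3250 i) (Nat.ble 3336192 i)
noncomputable def eT3252 (i : Nat) : Nat := Bool.rec (eT3249 i) (eT3251 i) (Nat.ble 3335168 i)
noncomputable def eT3253 (i : Nat) : Nat := Bool.rec (eL3261 i) (eL3262 i) (Nat.ble 3340288 i)
noncomputable def eT3254 (i : Nat) : Nat := Bool.rec (eL3260 i) (eT3253 i) (Nat.ble 3339264 i)
noncomputable def eT3255 (i : Nat) : Nat := Bool.rec (eL3264 i) (eL3265 i) (Nat.ble 3343360 i)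
noncomputable def eT3256 (i : Nat) : Nat := Bool.rec (eL3263 i) (eT3255 i) (Nat.ble 3342336 i)
noncomputable def eT3257 (i : Nat) : Nat := Bool.rec (eT3254 i) (eT3256 i) (Nat.ble 3341312 i)
noncomputable def eT3258 (i : Nat) : Nat := Bool.rec (eT3252 i) (eT3257 i) (Nat.ble 3338240 i)
noncomputable def eT3259 (i : Nat) : Nat := Bool.rec (eT3248 i) (eT3258 i) (Nat.ble 3333120 i)
noncomputable def eT3260 (i : Nat) : Nat := Bool.rec (eL3266 i) (eL3267 i) (Nat.ble 3345408 i)
noncomputable def eT3261 (i : Nat) : Nat := Bool.rec (eL3269 i) (eL3270 i) (Nat.ble 3348480 i)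
noncomputable def eT3262 (i : Nat) : Nat := Bool.rec (eL3268 i) (eT3261 i) (Nat.ble 3347456 i)
noncomputable def eT3263 (i : Nat) : Nat := Bool.rec (eT3260 i) (eT3262 i) (Nat.ble 3346432 i)
noncomputable def eT3264 (i : Nat) : Nat := Bool.rec (eL3271 i) (eL3272 i) (Nat.ble 3350528 i)
noncomputable def eT3265 (i : Nat) : Nat := Bool.rec (eL3274 i) (eL3275 i) (Nat.ble 3353600 i)
noncomputable def eT3266 (i : Nat) : Nat := Bool.rec (eL3273 i) (eT3265 i) (Nat.ble 3352576 i)
noncomputable def eT3267 (i : Nat) : Nat := Bool.rec (eT3264 i) (eT3266 i) (Nat.ble 3351552 i)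
noncomputable def eT3268 (i : Nat) : Nat := Bool.rec (eT3263 i) (eT3267 i) (Nat.ble 3349504 i)
noncomputable def eT3269 (i : Nat) : Nat := Bool.rec (eL3276 i) (eL3277 i) (Nat.ble 3355648 i)
noncomputable def eT3270 (i : Nat) : Nat := Bool.rec (eL3279 i) (eL3280 i) (Nat.ble 3358720 i)
noncomputable def eT3271 (i : Nat) : Nat := Bool.rec (eL3278 i) (eT3270 i) (Nat.ble 3357696 i)
noncomputable def eT3272 (i : Nat) : Nat := Bool.rec (eT3269 i) (eT3271 i) (Nat.ble 3356672 i)
noncomputable def eT3273 (i : Nat) : Nat := Bool.rec (eL3282 i) (eL3283 i) (Nat.ble 3361792 i)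
noncomputable def eT3274 (i : Nat) : Nat := Bool.rec (eL3281 i) (eT3273 i) (Nat.ble 3360768 i)
noncomputable def eT3275 (i : Nat) : Nat := Bool.rec (eL3285 i) (eL3286 i) (Nat.ble 3364864 i)
noncomputable def eT3276 (i : Nat) : Nat := Bool.rec (eL3284 i) (eT3275 i) (Nat.ble 3363840 i)
noncomputable def eT3277 (i : Nat) : Nat := Bool.rec (eT3274 i) (eT3276 i) (Nat.ble 3362816 i)
noncomputable def eT3278 (i : Nat) : Nat := Bool.rec (eT3272 i) (eT3277 i) (Nat.ble 3359744 i)
noncomputable def eT3279 (i : Nat) : Nat := Bool.rec (eT3268 i) (eT3278 i) (Nat.ble 3354624 i)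
noncomputable def eT3280 (i : Nat) : Nat := Bool.rec (eT3259 i) (eT3279 i) (Nat.ble 3344384 i)
noncomputable def eT3281 (i : Nat) : Nat := Bool.rec (eT3239 i) (eT3280 i) (Nat.ble 3322880 i)
noncomputable def eT3282 (i : Nat) : Nat := Bool.rec (eT3199 i) (eT3281 i) (Nat.ble 3280896 i)
noncomputable def eT3283 (i : Nat) : Nat := Bool.rec (eT3118 i) (eT3282 i) (Nat.ble 3196928 i)
noncomputable def eT3284 (i : Nat) : Nat := Bool.rec (eT2955 i) (eT3283 i) (Nat.ble 3028992 i)
noncomputable def eT3285 (i : Nat) : Nat := Bool.rec (eL3287 i) (eL3288 i) (Nat.ble 3366912 i)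
noncomputable def eT3286 (i : Nat) : Nat := Bool.rec (eL3290 i) (eL3291 i) (Nat.ble 3369984 i)
noncomputable def eT3287 (i : Nat) : Nat := Bool.rec (eL3289 i) (eT3286 i) (Nat.ble 3368960 i)
noncomputable def eT3288 (i : Nat) : Nat := Bool.rec (eT3285 i) (eT3287 i) (Nat.ble 3367936 i)
noncomputable def eT3289 (i : Nat) : Nat := Bool.rec (eL3292 i) (eL3293 i) (Nat.ble 3372032 i)
noncomputable def eT3290 (i : Nat) : Nat := Bool.rec (eL3295 i) (eL3296 i) (Nat.ble 3375104 i)
noncomputable def eT3291 (i : Nat) : Nat := Bool.rec (eL3294 i) (eT3290 i) (Nat.ble 3374080 i)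
noncomputable def eT3292 (i : Nat) : Nat := Bool.rec (eT3289 i) (eT3291 i) (Nat.ble 3373056 i)
noncomputable def eT3293 (i : Nat) : Nat := Bool.rec (eT3288 i) (eT3292 i) (Nat.ble 3371008 i)
noncomputable def eT3294 (i : Nat) : Nat := Bool.rec (eL3297 i) (eL3298 i) (Nat.ble 3377152 i)
noncomputable def eT3295 (i : Nat) : Nat := Bool.rec (eL3300 i) (eL3301 i) (Nat.ble 3380224 i)
noncomputable def eT3296 (i : Nat) : Nat := Bool.rec (eL3299 i) (eT3295 i) (Nat.ble 3379200 i)
noncomputable def eT3297 (i : Nat) : Nat := Bool.rec (eT3294 i) (eT3296 i) (Nat.ble 3378176 i)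
noncomputable def eT3298 (i : Nat) : Nat := Bool.rec (eL3302 i) (eL3303 i) (Nat.ble 3382272 i)
noncomputable def eT3299 (i : Nat) : Nat := Bool.rec (eL3305 i) (eL3306 i) (Nat.ble 3385344 i)
noncomputable def eT3300 (i : Nat) : Nat := Bool.rec (eL3304 i) (eT3299 i) (Nat.ble 3384320 i)
noncomputable def eT3301 (i : Nat) : Nat := Bool.rec (eT3298 i) (eT3300 i) (Nat.ble 3383296 i)
noncomputable def eT3302 (i : Nat) : Nat := Bool.rec (eT3297 i) (eT3301 i) (Nat.ble 3381248 i)
noncomputable def eT3303 (i : Nat) : Nat := Bool.rec (eT3293 i) (eT3302 i) (Nat.ble 3376128 i)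
noncomputable def eT3304 (i : Nat) : Nat := Bool.rec (eL3307 i) (eL3308 i) (Nat.ble 3387392 i)
noncomputable def eT3305 (i : Nat) : Nat := Bool.rec (eL3310 i) (eL3311 i) (Nat.ble 3390464 i)
noncomputable def eT3306 (i : Nat) : Nat := Bool.rec (eL3309 i) (eT3305 i) (Nat.ble 3389440 i)
noncomputable def eT3307 (i : Nat) : Nat := Bool.rec (eT3304 i) (eT3306 i) (Nat.ble 3388416 i)
noncomputable def eT3308 (i : Nat) : Nat := Bool.rec (eL3312 i) (eL3313 i) (Nat.ble 3392512 i)
noncomputable def eT3309 (i : Nat) : Nat := Bool.rec (eL3315 i) (eL3316 i) (Nat.ble 3395584 i)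
noncomputable def eT3310 (i : Nat) : Nat := Bool.rec (eL3314 i) (eT3309 i) (Nat.ble 3394560 i)
noncomputable def eT3311 (i : Nat) : Nat := Bool.rec (eT3308 i) (eT3310 i) (Nat.ble 3393536 i)
noncomputable def eT3312 (i : Nat) : Nat := Bool.rec (eT3307 i) (eT3311 i) (Nat.ble 3391488 i)
noncomputable def eT3313 (i : Nat) : Nat := Bool.rec (eL3317 i) (eL3318 i) (Nat.ble 3397632 i)
noncomputable def eT3314 (i : Nat) : Nat := Bool.rec (eL3320 i) (eL3321 i) (Nat.ble 3400704 i)
noncomputable def eT3315 (i : Nat) : Nat := Bool.rec (eL3319 i) (eT3314 i) (Nat.ble 3399680 i)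
noncomputable def eT3316 (i : Nat) : Nat := Bool.rec (eT3313 i) (eT3315 i) (Nat.ble 3398656 i)
noncomputable def eT3317 (i : Nat) : Nat := Bool.rec (eL3323 i) (eL3324 i) (Nat.ble 3403776 i)
noncomputable def eT3318 (i : Nat) : Nat := Bool.rec (eL3322 i) (eT3317 i) (Nat.ble 3402752 i)
noncomputable def eT3319 (i : Nat) : Nat := Bool.rec (eL3326 i) (eL3327 i) (Nat.ble 3406848 i)
noncomputable def eT3320 (i : Nat) : Nat := Bool.rec (eL3325 i) (eT3319 i) (Nat.ble 3405824 i)
noncomputable def eT3321 (i : Nat) : Nat := Bool.rec (eT3318 i) (eT3320 i) (Nat.ble 3404800 i)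
noncomputable def eT3322 (i : Nat) : Nat := Bool.rec (eT3316 i) (eT3321 i) (Nat.ble 3401728 i)
noncomputable def eT3323 (i : Nat) : Nat := Bool.rec (eT3312 i) (eT3322 i) (Nat.ble 3396608 i)
noncomputable def eT3324 (i : Nat) : Nat := Bool.rec (eT3303 i) (eT3323 i) (Nat.ble 3386368 i)
noncomputable def eT3325 (i : Nat) : Nat := Bool.rec (eL3328 i) (eL3329 i) (Nat.ble 3408896 i)
noncomputable def eT3326 (i : Nat) : Nat := Bool.rec (eL3331 i) (eL3332 i) (Nat.ble 3411968 i)
noncomputable def eT3327 (i : Nat) : Nat := Bool.rec (eL3330 i) (eT3326 i) (Nat.ble 3410944 i)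
noncomputable def eT3328 (i : Nat) : Nat := Bool.rec (eT3325 i) (eT3327 i) (Nat.ble 3409920 i)
noncomputable def eT3329 (i : Nat) : Nat := Bool.rec (eL3333 i) (eL3334 i) (Nat.ble 3414016 i)
noncomputable def eT3330 (i : Nat) : Nat := Bool.rec (eL3336 i) (eL3337 i) (Nat.ble 3417088 i)
noncomputable def eT3331 (i : Nat) : Nat := Bool.rec (eL3335 i) (eT3330 i) (Nat.ble 3416064 i)
noncomputable def eT3332 (i : Nat) : Nat := Bool.rec (eT3329 i) (eT3331 i) (Nat.ble 3415040 i)
noncomputable def eT3333 (i : Nat) : Nat := Bool.rec (eT3328 i) (eT3332 i) (Nat.ble 3412992 i)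
noncomputable def eT3334 (i : Nat) : Nat := Bool.rec (eL3338 i) (eL3339 i) (Nat.ble 3419136 i)
noncomputable def eT3335 (i : Nat) : Nat := Bool.rec (eL3341 i) (eL3342 i) (Nat.ble 3422208 i)
noncomputable def eT3336 (i : Nat) : Nat := Bool.rec (eL3340 i) (eT3335 i) (Nat.ble 3421184 i)
noncomputable def eT3337 (i : Nat) : Nat := Bool.rec (eT3334 i) (eT3336 i) (Nat.ble 3420160 i)
noncomputable def eT3338 (i : Nat) : Nat := Bool.rec (eL3343 i) (eL3344 i) (Nat.ble 3424256 i)
noncomputable def eT3339 (i : Nat) : Nat := Bool.rec (eL3346 i) (eL3347 i) (Nat.ble 3427328 i)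
noncomputable def eT3340 (i : Nat) : Nat := Bool.rec (eL3345 i) (eT3339 i) (Nat.ble 3426304 i)
noncomputable def eT3341 (i : Nat) : Nat := Bool.rec (eT3338 i) (eT3340 i) (Nat.ble 3425280 i)
noncomputable def eT3342 (i : Nat) : Nat := Bool.rec (eT3337 i) (eT3341 i) (Nat.ble 3423232 i)
noncomputable def eT3343 (i : Nat) : Nat := Bool.rec (eT3333 i) (eT3342 i) (Nat.ble 3418112 i)
noncomputable def eT3344 (i : Nat) : Nat := Bool.rec (eL3348 i) (eL3349 i) (Nat.ble 3429376 i)
noncomputable def eT3345 (i : Nat) : Nat := Bool.rec (eL3351 i) (eL3352 i) (Nat.ble 3432448 i)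
noncomputable def eT3346 (i : Nat) : Nat := Bool.rec (eL3350 i) (eT3345 i) (Nat.ble 3431424 i)
noncomputable def eT3347 (i : Nat) : Nat := Bool.rec (eT3344 i) (eT3346 i) (Nat.ble 3430400 i)
noncomputable def eT3348 (i : Nat) : Nat := Bool.rec (eL3353 i) (eL3354 i) (Nat.ble 3434496 i)
noncomputable def eT3349 (i : Nat) : Nat := Bool.rec (eL3356 i) (eL3357 i) (Nat.ble 3437568 i)
noncomputable def eT3350 (i : Nat) : Nat := Bool.rec (eL3355 i) (eT3349 i) (Nat.ble 3436544 i)
noncomputable def eT3351 (i : Nat) : Nat := Bool.rec (eT3348 i) (eT3350 i) (Nat.ble 3435520 i)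
noncomputable def eT3352 (i : Nat) : Nat := Bool.rec (eT3347 i) (eT3351 i) (Nat.ble 3433472 i)
noncomputable def eT3353 (i : Nat) : Nat := Bool.rec (eL3358 i) (eL3359 i) (Nat.ble 3439616 i)
noncomputable def eT3354 (i : Nat) : Nat := Bool.rec (eL3361 i) (eL3362 i) (Nat.ble 3442688 i)
noncomputable def eT3355 (i : Nat) : Nat := Bool.rec (eL3360 i) (eT3354 i) (Nat.ble 3441664 i)
noncomputable def eT3356 (i : Nat) : Nat := Bool.rec (eT3353 i) (eT3355 i) (Nat.ble 3440640 i)
noncomputable def eT3357 (i : Nat) : Nat := Bool.rec (eL3364 i) (eL3365 i) (Nat.ble 3445760 i)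
noncomputable def eT3358 (i : Nat) : Nat := Bool.rec (eL3363 i) (eT3357 i) (Nat.ble 3444736 i)
noncomputable def eT3359 (i : Nat) : Nat := Bool.rec (eL3367 i) (eL3368 i) (Nat.ble 3448832 i)
noncomputable def eT3360 (i : Nat) : Nat := Bool.rec (eL3366 i) (eT3359 i) (Nat.ble 3447808 i)
noncomputable def eT3361 (i : Nat) : Nat := Bool.rec (eT3358 i) (eT3360 i) (Nat.ble 3446784 i)
noncomputable def eT3362 (i : Nat) : Nat := Bool.rec (eT3356 i) (eT3361 i) (Nat.ble 3443712 i)
noncomputable def eT3363 (i : Nat) : Nat := Bool.rec (eT3352 i) (eT3362 i) (Nat.ble 3438592 i)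
noncomputable def eT3364 (i : Nat) : Nat := Bool.rec (eT3343 i) (eT3363 i) (Nat.ble 3428352 i)
noncomputable def eT3365 (i : Nat) : Nat := Bool.rec (eT3324 i) (eT3364 i) (Nat.ble 3407872 i)
noncomputable def eT3366 (i : Nat) : Nat := Bool.rec (eL3369 i) (eL3370 i) (Nat.ble 3450880 i)
noncomputable def eT3367 (i : Nat) : Nat := Bool.rec (eL3372 i) (eL3373 i) (Nat.ble 3453952 i)
noncomputable def eT3368 (i : Nat) : Nat := Bool.rec (eL3371 i) (eT3367 i) (Nat.ble 3452928 i)
noncomputable def eT3369 (i : Nat) : Nat := Bool.rec (eT3366 i) (eT3368 i) (Nat.ble 3451904 i)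
noncomputable def eT3370 (i : Nat) : Nat := Bool.rec (eL3374 i) (eL3375 i) (Nat.ble 3456000 i)
noncomputable def eT3371 (i : Nat) : Nat := Bool.rec (eL3377 i) (eL3378 i) (Nat.ble 3459072 i)
noncomputable def eT3372 (i : Nat) : Nat := Bool.rec (eL3376 i) (eT3371 i) (Nat.ble 3458048 i)
noncomputable def eT3373 (i : Nat) : Nat := Bool.rec (eT3370 i) (eT3372 i) (Nat.ble 3457024 i)
noncomputable def eT3374 (i : Nat) : Nat := Bool.rec (eT3369 i) (eT3373 i) (Nat.ble 3454976 i)
noncomputable def eT3375 (i : Nat) : Nat := Bool.rec (eL3379 i) (eL3380 i) (Nat.ble 3461120 i)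
noncomputable def eT3376 (i : Nat) : Nat := Bool.rec (eL3382 i) (eL3383 i) (Nat.ble 3464192 i)
noncomputable def eT3377 (i : Nat) : Nat := Bool.rec (eL3381 i) (eT3376 i) (Nat.ble 3463168 i)
noncomputable def eT3378 (i : Nat) : Nat := Bool.rec (eT3375 i) (eT3377 i) (Nat.ble 3462144 i)
noncomputable def eT3379 (i : Nat) : Nat := Bool.rec (eL3384 i) (eL3385 i) (Nat.ble 3466240 i)
noncomputable def eT3380 (i : Nat) : Nat := Bool.rec (eL3387 i) (eL3388 i) (Nat.ble 3469312 i)
noncomputable def eT3381 (i : Nat) : Nat := Bool.rec (eL3386 i) (eT3380 i) (Nat.ble 3468288 i)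
noncomputable def eT3382 (i : Nat) : Nat := Bool.rec (eT3379 i) (eT3381 i) (Nat.ble 3467264 i)
noncomputable def eT3383 (i : Nat) : Nat := Bool.rec (eT3378 i) (eT3382 i) (Nat.ble 3465216 i)
noncomputable def eT3384 (i : Nat) : Nat := Bool.rec (eT3374 i) (eT3383 i) (Nat.ble 3460096 i)
noncomputable def eT3385 (i : Nat) : Nat := Bool.rec (eL3389 i) (eL3390 i) (Nat.ble 3471360 i)
noncomputable def eT3386 (i : Nat) : Nat := Bool.rec (eL3392 i) (eL3393 i) (Nat.ble 3474432 i)
noncomputable def eT3387 (i : Nat) : Nat := Bool.rec (eL3391 i) (eT3386 i) (Nat.ble 3473408 i)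
noncomputable def eT3388 (i : Nat) : Nat := Bool.rec (eT3385 i) (eT3387 i) (Nat.ble 3472384 i)
noncomputable def eT3389 (i : Nat) : Nat := Bool.rec (eL3394 i) (eL3395 i) (Nat.ble 3476480 i)
noncomputable def eT3390 (i : Nat) : Nat := Bool.rec (eL3397 i) (eL3398 i) (Nat.ble 3479552 i)
noncomputable def eT3391 (i : Nat) : Nat := Bool.rec (eL3396 i) (eT3390 i) (Nat.ble 3478528 i)
noncomputable def eT3392 (i : Nat) : Nat := Bool.rec (eT3389 i) (eT3391 i) (Nat.ble 3477504 i)
noncomputable def eT3393 (i : Nat) : Nat := Bool.rec (eT3388 i) (eT3392 i) (Nat.ble 3475456 i)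
noncomputable def eT3394 (i : Nat) : Nat := Bool.rec (eL3399 i) (eL3400 i) (Nat.ble 3481600 i)
noncomputable def eT3395 (i : Nat) : Nat := Bool.rec (eL3402 i) (eL3403 i) (Nat.ble 3484672 i)
noncomputable def eT3396 (i : Nat) : Nat := Bool.rec (eL3401 i) (eT3395 i) (Nat.ble 3483648 i)
noncomputable def eT3397 (i : Nat) : Nat := Bool.rec (eT3394 i) (eT3396 i) (Nat.ble 3482624 i)
noncomputable def eT3398 (i : Nat) : Nat := Bool.rec (eL3405 i) (eL3406 i) (Nat.ble 3487744 i)
noncomputable def eT3399 (i : Nat) : Nat := Bool.rec (eL3404 i) (eT3398 i) (Nat.ble 3486720 i)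
noncomputable def eT3400 (i : Nat) : Nat := Bool.rec (eL3408 i) (eL3409 i) (Nat.ble 3490816 i)
noncomputable def eT3401 (i : Nat) : Nat := Bool.rec (eL3407 i) (eT3400 i) (Nat.ble 3489792 i)
noncomputable def eT3402 (i : Nat) : Nat := Bool.rec (eT3399 i) (eT3401 i) (Nat.ble 3488768 i)
noncomputable def eT3403 (i : Nat) : Nat := Bool.rec (eT3397 i) (eT3402 i) (Nat.ble 3485696 i)
noncomputable def eT3404 (i : Nat) : Nat := Bool.rec (eT3393 i) (eT3403 i) (Nat.ble 3480576 i)
noncomputable def eT3405 (i : Nat) : Nat := Bool.rec (eT3384 i) (eT3404 i) (Nat.ble 3470336 i)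
noncomputable def eT3406 (i : Nat) : Nat := Bool.rec (eL3410 i) (eL3411 i) (Nat.ble 3492864 i)
noncomputable def eT3407 (i : Nat) : Nat := Bool.rec (eL3413 i) (eL3414 i) (Nat.ble 3495936 i)
noncomputable def eT3408 (i : Nat) : Nat := Bool.rec (eL3412 i) (eT3407 i) (Nat.ble 3494912 i)
noncomputable def eT3409 (i : Nat) : Nat := Bool.rec (eT3406 i) (eT3408 i) (Nat.ble 3493888 i)
noncomputable def eT3410 (i : Nat) : Nat := Bool.rec (eL3415 i) (eL3416 i) (Nat.ble 3497984 i)
noncomputable def eT3411 (i : Nat) : Nat := Bool.rec (eL3418 i) (eL3419 i) (Nat.ble 3501056 i)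
noncomputable def eT3412 (i : Nat) : Nat := Bool.rec (eL3417 i) (eT3411 i) (Nat.ble 3500032 i)
noncomputable def eT3413 (i : Nat) : Nat := Bool.rec (eT3410 i) (eT3412 i) (Nat.ble 3499008 i)
noncomputable def eT3414 (i : Nat) : Nat := Bool.rec (eT3409 i) (eT3413 i) (Nat.ble 3496960 i)
noncomputable def eT3415 (i : Nat) : Nat := Bool.rec (eL3420 i) (eL3421 i) (Nat.ble 3503104 i)
noncomputable def eT3416 (i : Nat) : Nat := Bool.rec (eL3423 i) (eL3424 i) (Nat.ble 3506176 i)
noncomputable def eT3417 (i : Nat) : Nat := Bool.rec (eL3422 i) (eT3416 i) (Nat.ble 3505152 i)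
noncomputable def eT3418 (i : Nat) : Nat := Bool.rec (eT3415 i) (eT3417 i) (Nat.ble 3504128 i)
noncomputable def eT3419 (i : Nat) : Nat := Bool.rec (eL3425 i) (eL3426 i) (Nat.ble 3508224 i)
noncomputable def eT3420 (i : Nat) : Nat := Bool.rec (eL3428 i) (eL3429 i) (Nat.ble 3511296 i)
noncomputable def eT3421 (i : Nat) : Nat := Bool.rec (eL3427 i) (eT3420 i) (Nat.ble 3510272 i)
noncomputable def eT3422 (i : Nat) : Nat := Bool.rec (eT3419 i) (eT3421 i) (Nat.ble 3509248 i)
noncomputable def eT3423 (i : Nat) : Nat := Bool.rec (eT3418 i) (eT3422 i) (Nat.ble 3507200 i)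
noncomputable def eT3424 (i : Nat) : Nat := Bool.rec (eT3414 i) (eT3423 i) (Nat.ble 3502080 i)
noncomputable def eT3425 (i : Nat) : Nat := Bool.rec (eL3430 i) (eL3431 i) (Nat.ble 3513344 i)
noncomputable def eT3426 (i : Nat) : Nat := Bool.rec (eL3433 i) (eL3434 i) (Nat.ble 3516416 i)
noncomputable def eT3427 (i : Nat) : Nat := Bool.rec (eL3432 i) (eT3426 i) (Nat.ble 3515392 i)
noncomputable def eT3428 (i : Nat) : Nat := Bool.rec (eT3425 i) (eT3427 i) (Nat.ble 3514368 i)
noncomputable def eT3429 (i : Nat) : Nat := Bool.rec (eL3435 i) (eL3436 i) (Nat.ble 3518464 i)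
noncomputable def eT3430 (i : Nat) : Nat := Bool.rec (eL3438 i) (eL3439 i) (Nat.ble 3521536 i)
noncomputable def eT3431 (i : Nat) : Nat := Bool.rec (eL3437 i) (eT3430 i) (Nat.ble 3520512 i)
noncomputable def eT3432 (i : Nat) : Nat := Bool.rec (eT3429 i) (eT3431 i) (Nat.ble 3519488 i)
noncomputable def eT3433 (i : Nat) : Nat := Bool.rec (eT3428 i) (eT3432 i) (Nat.ble 3517440 i)
noncomputable def eT3434 (i : Nat) : Nat := Bool.rec (eL3440 i) (eL3441 i) (Nat.ble 3523584 i)
noncomputable def eT3435 (i : Nat) : Nat := Bool.rec (eL3443 i) (eL3444 i) (Nat.ble 3526656 i)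
noncomputable def eT3436 (i : Nat) : Nat := Bool.rec (eL3442 i) (eT3435 i) (Nat.ble 3525632 i)
noncomputable def eT3437 (i : Nat) : Nat := Bool.rec (eT3434 i) (eT3436 i) (Nat.ble 3524608 i)
noncomputable def eT3438 (i : Nat) : Nat := Bool.rec (eL3446 i) (eL3447 i) (Nat.ble 3529728 i)
noncomputable def eT3439 (i : Nat) : Nat := Bool.rec (eL3445 i) (eT3438 i) (Nat.ble 3528704 i)
noncomputable def eT3440 (i : Nat) : Nat := Bool.rec (eL3449 i) (eL3450 i) (Nat.ble 3532800 i)
noncomputable def eT3441 (i : Nat) : Nat := Bool.rec (eL3448 i) (eT3440 i) (Nat.ble 3531776 i)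
noncomputable def eT3442 (i : Nat) : Nat := Bool.rec (eT3439 i) (eT3441 i) (Nat.ble 3530752 i)
noncomputable def eT3443 (i : Nat) : Nat := Bool.rec (eT3437 i) (eT3442 i) (Nat.ble 3527680 i)
noncomputable def eT3444 (i : Nat) : Nat := Bool.rec (eT3433 i) (eT3443 i) (Nat.ble 3522560 i)
noncomputable def eT3445 (i : Nat) : Nat := Bool.rec (eT3424 i) (eT3444 i) (Nat.ble 3512320 i)
noncomputable def eT3446 (i : Nat) : Nat := Bool.rec (eT3405 i) (eT3445 i) (Nat.ble 3491840 i)
noncomputable def eT3447 (i : Nat) : Nat := Bool.rec (eT3365 i) (eT3446 i) (Nat.ble 3449856 i)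
noncomputable def eT3448 (i : Nat) : Nat := Bool.rec (eL3451 i) (eL3452 i) (Nat.ble 3534848 i)
noncomputable def eT3449 (i : Nat) : Nat := Bool.rec (eL3454 i) (eL3455 i) (Nat.ble 3537920 i)
noncomputable def eT3450 (i : Nat) : Nat := Bool.rec (eL3453 i) (eT3449 i) (Nat.ble 3536896 i)
noncomputable def eT3451 (i : Nat) : Nat := Bool.rec (eT3448 i) (eT3450 i) (Nat.ble 3535872 i)
noncomputable def eT3452 (i : Nat) : Nat := Bool.rec (eL3456 i) (eL3457 i) (Nat.ble 3539968 i)
noncomputable def eT3453 (i : Nat) : Nat := Bool.rec (eL3459 i) (eL3460 i) (Nat.ble 3543040 i)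
noncomputable def eT3454 (i : Nat) : Nat := Bool.rec (eL3458 i) (eT3453 i) (Nat.ble 3542016 i)
noncomputable def eT3455 (i : Nat) : Nat := Bool.rec (eT3452 i) (eT3454 i) (Nat.ble 3540992 i)
noncomputable def eT3456 (i : Nat) : Nat := Bool.rec (eT3451 i) (eT3455 i) (Nat.ble 3538944 i)
noncomputable def eT3457 (i : Nat) : Nat := Bool.rec (eL3461 i) (eL3462 i) (Nat.ble 3545088 i)
noncomputable def eT3458 (i : Nat) : Nat := Bool.rec (eL3464 i) (eL3465 i) (Nat.ble 3548160 i)
noncomputable def eT3459 (i : Nat) : Nat := Bool.rec (eL3463 i) (eT3458 i) (Nat.ble 3547136 i)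
noncomputable def eT3460 (i : Nat) : Nat := Bool.rec (eT3457 i) (eT3459 i) (Nat.ble 3546112 i)
noncomputable def eT3461 (i : Nat) : Nat := Bool.rec (eL3466 i) (eL3467 i) (Nat.ble 3550208 i)
noncomputable def eT3462 (i : Nat) : Nat := Bool.rec (eL3469 i) (eL3470 i) (Nat.ble 3553280 i)
noncomputable def eT3463 (i : Nat) : Nat := Bool.rec (eL3468 i) (eT3462 i) (Nat.ble 3552256 i)
noncomputable def eT3464 (i : Nat) : Nat := Bool.rec (eT3461 i) (eT3463 i) (Nat.ble 3551232 i)
noncomputable def eT3465 (i : Nat) : Nat := Bool.rec (eT3460 i) (eT3464 i) (Nat.ble 3549184 i)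
noncomputable def eT3466 (i : Nat) : Nat := Bool.rec (eT3456 i) (eT3465 i) (Nat.ble 3544064 i)
noncomputable def eT3467 (i : Nat) : Nat := Bool.rec (eL3471 i) (eL3472 i) (Nat.ble 3555328 i)
noncomputable def eT3468 (i : Nat) : Nat := Bool.rec (eL3474 i) (eL3475 i) (Nat.ble 3558400 i)
noncomputable def eT3469 (i : Nat) : Nat := Bool.rec (eL3473 i) (eT3468 i) (Nat.ble 3557376 i)
noncomputable def eT3470 (i : Nat) : Nat := Bool.rec (eT3467 i) (eT3469 i) (Nat.ble 3556352 i)
noncomputable def eT3471 (i : Nat) : Nat := Bool.rec (eL3476 i) (eL3477 i) (Nat.ble 3560448 i)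
noncomputable def eT3472 (i : Nat) : Nat := Bool.rec (eL3479 i) (eL3480 i) (Nat.ble 3563520 i)
noncomputable def eT3473 (i : Nat) : Nat := Bool.rec (eL3478 i) (eT3472 i) (Nat.ble 3562496 i)
noncomputable def eT3474 (i : Nat) : Nat := Bool.rec (eT3471 i) (eT3473 i) (Nat.ble 3561472 i)
noncomputable def eT3475 (i : Nat) : Nat := Bool.rec (eT3470 i) (eT3474 i) (Nat.ble 3559424 i)
noncomputable def eT3476 (i : Nat) : Nat := Bool.rec (eL3481 i) (eL3482 i) (Nat.ble 3565568 i)
noncomputable def eT3477 (i : Nat) : Nat := Bool.rec (eL3484 i) (eL3485 i) (Nat.ble 3568640 i)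
noncomputable def eT3478 (i : Nat) : Nat := Bool.rec (eL3483 i) (eT3477 i) (Nat.ble 3567616 i)
noncomputable def eT3479 (i : Nat) : Nat := Bool.rec (eT3476 i) (eT3478 i) (Nat.ble 3566592 i)
noncomputable def eT3480 (i : Nat) : Nat := Bool.rec (eL3487 i) (eL3488 i) (Nat.ble 3571712 i)
noncomputable def eT3481 (i : Nat) : Nat := Bool.rec (eL3486 i) (eT3480 i) (Nat.ble 3570688 i)
noncomputable def eT3482 (i : Nat) : Nat := Bool.rec (eL3490 i) (eL3491 i) (Nat.ble 3574784 i)
noncomputable def eT3483 (i : Nat) : Nat := Bool.rec (eL3489 i) (eT3482 i) (Nat.ble 3573760 i)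
noncomputable def eT3484 (i : Nat) : Nat := Bool.rec (eT3481 i) (eT3483 i) (Nat.ble 3572736 i)
noncomputable def eT3485 (i : Nat) : Nat := Bool.rec (eT3479 i) (eT3484 i) (Nat.ble 3569664 i)
noncomputable def eT3486 (i : Nat) : Nat := Bool.rec (eT3475 i) (eT3485 i) (Nat.ble 3564544 i)
noncomputable def eT3487 (i : Nat) : Nat := Bool.rec (eT3466 i) (eT3486 i) (Nat.ble 3554304 i)
noncomputable def eT3488 (i : Nat) : Nat := Bool.rec (eL3492 i) (eL3493 i) (Nat.ble 3576832 i)
noncomputable def eT3489 (i : Nat) : Nat := Bool.rec (eL3495 i) (eL3496 i) (Nat.ble 3579904 i)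
noncomputable def eT3490 (i : Nat) : Nat := Bool.rec (eL3494 i) (eT3489 i) (Nat.ble 3578880 i)
noncomputable def eT3491 (i : Nat) : Nat := Bool.rec (eT3488 i) (eT3490 i) (Nat.ble 3577856 i)
noncomputable def eT3492 (i : Nat) : Nat := Bool.rec (eL3497 i) (eL3498 i) (Nat.ble 3581952 i)
noncomputable def eT3493 (i : Nat) : Nat := Bool.rec (eL3500 i) (eL3501 i) (Nat.ble 3585024 i)
noncomputable def eT3494 (i : Nat) : Nat := Bool.rec (eL3499 i) (eT3493 i) (Nat.ble 3584000 i)
noncomputable def eT3495 (i : Nat) : Nat := Bool.rec (eT3492 i) (eT3494 i) (Nat.ble 3582976 i)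
noncomputable def eT3496 (i : Nat) : Nat := Bool.rec (eT3491 i) (eT3495 i) (Nat.ble 3580928 i)
noncomputable def eT3497 (i : Nat) : Nat := Bool.rec (eL3502 i) (eL3503 i) (Nat.ble 3587072 i)
noncomputable def eT3498 (i : Nat) : Nat := Bool.rec (eL3505 i) (eL3506 i) (Nat.ble 3590144 i)
noncomputable def eT3499 (i : Nat) : Nat := Bool.rec (eL3504 i) (eT3498 i) (Nat.ble 3589120 i)
noncomputable def eT3500 (i : Nat) : Nat := Bool.rec (eT3497 i) (eT3499 i) (Nat.ble 3588096 i)
noncomputable def eT3501 (i : Nat) : Nat := Bool.rec (eL3507 i) (eL3508 i) (Nat.ble 3592192 i)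
noncomputable def eT3502 (i : Nat) : Nat := Bool.rec (eL3510 i) (eL3511 i) (Nat.ble 3595264 i)
noncomputable def eT3503 (i : Nat) : Nat := Bool.rec (eL3509 i) (eT3502 i) (Nat.ble 3594240 i)
noncomputable def eT3504 (i : Nat) : Nat := Bool.rec (eT3501 i) (eT3503 i) (Nat.ble 3593216 i)
noncomputable def eT3505 (i : Nat) : Nat := Bool.rec (eT3500 i) (eT3504 i) (Nat.ble 3591168 i)
noncomputable def eT3506 (i : Nat) : Nat := Bool.rec (eT3496 i) (eT3505 i) (Nat.ble 3586048 i)
noncomputable def eT3507 (i : Nat) : Nat := Bool.rec (eL3512 i) (eL3513 i) (Nat.ble 3597312 i)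
noncomputable def eT3508 (i : Nat) : Nat := Bool.rec (eL3515 i) (eL3516 i) (Nat.ble 3600384 i)
noncomputable def eT3509 (i : Nat) : Nat := Bool.rec (eL3514 i) (eT3508 i) (Nat.ble 3599360 i)
noncomputable def eT3510 (i : Nat) : Nat := Bool.rec (eT3507 i) (eT3509 i) (Nat.ble 3598336 i)
noncomputable def eT3511 (i : Nat) : Nat := Bool.rec (eL3517 i) (eL3518 i) (Nat.ble 3602432 i)
noncomputable def eT3512 (i : Nat) : Nat := Bool.rec (eL3520 i) (eL3521 i) (Nat.ble 3605504 i)
noncomputable def eT3513 (i : Nat) : Nat := Bool.rec (eL3519 i) (eT3512 i) (Nat.ble 3604480 i)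
noncomputable def eT3514 (i : Nat) : Nat := Bool.rec (eT3511 i) (eT3513 i) (Nat.ble 3603456 i)
noncomputable def eT3515 (i : Nat) : Nat := Bool.rec (eT3510 i) (eT3514 i) (Nat.ble 3601408 i)
noncomputable def eT3516 (i : Nat) : Nat := Bool.rec (eL3522 i) (eL3523 i) (Nat.ble 3607552 i)
noncomputable def eT3517 (i : Nat) : Nat := Bool.rec (eL3525 i) (eL3526 i) (Nat.ble 3610624 i)
noncomputable def eT3518 (i : Nat) : Nat := Bool.rec (eL3524 i) (eT3517 i) (Nat.ble 3609600 i)
noncomputable def eT3519 (i : Nat) : Nat := Bool.rec (eT3516 i) (eT3518 i) (Nat.ble 3608576 i)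
noncomputable def eT3520 (i : Nat) : Nat := Bool.rec (eL3528 i) (eL3529 i) (Nat.ble 3613696 i)
noncomputable def eT3521 (i : Nat) : Nat := Bool.rec (eL3527 i) (eT3520 i) (Nat.ble 3612672 i)
noncomputable def eT3522 (i : Nat) : Nat := Bool.rec (eL3531 i) (eL3532 i) (Nat.ble 3616768 i)
noncomputable def eT3523 (i : Nat) : Nat := Bool.rec (eL3530 i) (eT3522 i) (Nat.ble 3615744 i)
noncomputable def eT3524 (i : Nat) : Nat := Bool.rec (eT3521 i) (eT3523 i) (Nat.ble 3614720 i)
noncomputable def eT3525 (i : Nat) : Nat := Bool.rec (eT3519 i) (eT3524 i) (Nat.ble 3611648 i)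
noncomputable def eT3526 (i : Nat) : Nat := Bool.rec (eT3515 i) (eT3525 i) (Nat.ble 3606528 i)
noncomputable def eT3527 (i : Nat) : Nat := Bool.rec (eT3506 i) (eT3526 i) (Nat.ble 3596288 i)
noncomputable def eT3528 (i : Nat) : Nat := Bool.rec (eT3487 i) (eT3527 i) (Nat.ble 3575808 i)
noncomputable def eT3529 (i : Nat) : Nat := Bool.rec (eL3533 i) (eL3534 i) (Nat.ble 3618816 i)
noncomputable def eT3530 (i : Nat) : Nat := Bool.rec (eL3536 i) (eL3537 i) (Nat.ble 3621888 i)
noncomputable def eT3531 (i : Nat) : Nat := Bool.rec (eL3535 i) (eT3530 i) (Nat.ble 3620864 i)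
noncomputable def eT3532 (i : Nat) : Nat := Bool.rec (eT3529 i) (eT3531 i) (Nat.ble 3619840 i)
noncomputable def eT3533 (i : Nat) : Nat := Bool.rec (eL3538 i) (eL3539 i) (Nat.ble 3623936 i)
noncomputable def eT3534 (i : Nat) : Nat := Bool.rec (eL3541 i) (eL3542 i) (Nat.ble 3627008 i)
noncomputable def eT3535 (i : Nat) : Nat := Bool.rec (eL3540 i) (eT3534 i) (Nat.ble 3625984 i)
noncomputable def eT3536 (i : Nat) : Nat := Bool.rec (eT3533 i) (eT3535 i) (Nat.ble 3624960 i)
noncomputable def eT3537 (i : Nat) : Nat := Bool.rec (eT3532 i) (eT3536 i) (Nat.ble 3622912 i)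
noncomputable def eT3538 (i : Nat) : Nat := Bool.rec (eL3543 i) (eL3544 i) (Nat.ble 3629056 i)
noncomputable def eT3539 (i : Nat) : Nat := Bool.rec (eL3546 i) (eL3547 i) (Nat.ble 3632128 i)
noncomputable def eT3540 (i : Nat) : Nat := Bool.rec (eL3545 i) (eT3539 i) (Nat.ble 3631104 i)
noncomputable def eT3541 (i : Nat) : Nat := Bool.rec (eT3538 i) (eT3540 i) (Nat.ble 3630080 i)
noncomputable def eT3542 (i : Nat) : Nat := Bool.rec (eL3548 i) (eL3549 i) (Nat.ble 3634176 i)
noncomputable def eT3543 (i : Nat) : Nat := Bool.rec (eL3551 i) (eL3552 i) (Nat.ble 3637248 i)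
noncomputable def eT3544 (i : Nat) : Nat := Bool.rec (eL3550 i) (eT3543 i) (Nat.ble 3636224 i)
noncomputable def eT3545 (i : Nat) : Nat := Bool.rec (eT3542 i) (eT3544 i) (Nat.ble 3635200 i)
noncomputable def eT3546 (i : Nat) : Nat := Bool.rec (eT3541 i) (eT3545 i) (Nat.ble 3633152 i)
noncomputable def eT3547 (i : Nat) : Nat := Bool.rec (eT3537 i) (eT3546 i) (Nat.ble 3628032 i)
noncomputable def eT3548 (i : Nat) : Nat := Bool.rec (eL3553 i) (eL3554 i) (Nat.ble 3639296 i)
noncomputable def eT3549 (i : Nat) : Nat := Bool.rec (eL3556 i) (eL3557 i) (Nat.ble 3642368 i)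
noncomputable def eT3550 (i : Nat) : Nat := Bool.rec (eL3555 i) (eT3549 i) (Nat.ble 3641344 i)
noncomputable def eT3551 (i : Nat) : Nat := Bool.rec (eT3548 i) (eT3550 i) (Nat.ble 3640320 i)
noncomputable def eT3552 (i : Nat) : Nat := Bool.rec (eL3558 i) (eL3559 i) (Nat.ble 3644416 i)
noncomputable def eT3553 (i : Nat) : Nat := Bool.rec (eL3561 i) (eL3562 i) (Nat.ble 3647488 i)
noncomputable def eT3554 (i : Nat) : Nat := Bool.rec (eL3560 i) (eT3553 i) (Nat.ble 3646464 i)
noncomputable def eT3555 (i : Nat) : Nat := Bool.rec (eT3552 i) (eT3554 i) (Nat.ble 3645440 i)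
noncomputable def eT3556 (i : Nat) : Nat := Bool.rec (eT3551 i) (eT3555 i) (Nat.ble 3643392 i)
noncomputable def eT3557 (i : Nat) : Nat := Bool.rec (eL3563 i) (eL3564 i) (Nat.ble 3649536 i)
noncomputable def eT3558 (i : Nat) : Nat := Bool.rec (eL3566 i) (eL3567 i) (Nat.ble 3652608 i)
noncomputable def eT3559 (i : Nat) : Nat := Bool.rec (eL3565 i) (eT3558 i) (Nat.ble 3651584 i)
noncomputable def eT3560 (i : Nat) : Nat := Bool.rec (eT3557 i) (eT3559 i) (Nat.ble 3650560 i)
noncomputable def eT3561 (i : Nat) : Nat := Bool.rec (eL3569 i) (eL3570 i) (Nat.ble 3655680 i)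
noncomputable def eT3562 (i : Nat) : Nat := Bool.rec (eL3568 i) (eT3561 i) (Nat.ble 3654656 i)
noncomputable def eT3563 (i : Nat) : Nat := Bool.rec (eL3572 i) (eL3573 i) (Nat.ble 3658752 i)
noncomputable def eT3564 (i : Nat) : Nat := Bool.rec (eL3571 i) (eT3563 i) (Nat.ble 3657728 i)
noncomputable def eT3565 (i : Nat) : Nat := Bool.rec (eT3562 i) (eT3564 i) (Nat.ble 3656704 i)
noncomputable def eT3566 (i : Nat) : Nat := Bool.rec (eT3560 i) (eT3565 i) (Nat.ble 3653632 i)
noncomputable def eT3567 (i : Nat) : Nat := Bool.rec (eT3556 i) (eT3566 i) (Nat.ble 3648512 i)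
noncomputable def eT3568 (i : Nat) : Nat := Bool.rec (eT3547 i) (eT3567 i) (Nat.ble 3638272 i)
noncomputable def eT3569 (i : Nat) : Nat := Bool.rec (eL3574 i) (eL3575 i) (Nat.ble 3660800 i)
noncomputable def eT3570 (i : Nat) : Nat := Bool.rec (eL3577 i) (eL3578 i) (Nat.ble 3663872 i)
noncomputable def eT3571 (i : Nat) : Nat := Bool.rec (eL3576 i) (eT3570 i) (Nat.ble 3662848 i)
noncomputable def eT3572 (i : Nat) : Nat := Bool.rec (eT3569 i) (eT3571 i) (Nat.ble 3661824 i)
noncomputable def eT3573 (i : Nat) : Nat := Bool.rec (eL3579 i) (eL3580 i) (Nat.ble 3665920 i)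
noncomputable def eT3574 (i : Nat) : Nat := Bool.rec (eL3582 i) (eL3583 i) (Nat.ble 3668992 i)
noncomputable def eT3575 (i : Nat) : Nat := Bool.rec (eL3581 i) (eT3574 i) (Nat.ble 3667968 i)
noncomputable def eT3576 (i : Nat) : Nat := Bool.rec (eT3573 i) (eT3575 i) (Nat.ble 3666944 i)
noncomputable def eT3577 (i : Nat) : Nat := Bool.rec (eT3572 i) (eT3576 i) (Nat.ble 3664896 i)
noncomputable def eT3578 (i : Nat) : Nat := Bool.rec (eL3584 i) (eL3585 i) (Nat.ble 3671040 i)
noncomputable def eT3579 (i : Nat) : Nat := Bool.rec (eL3587 i) (eL3588 i) (Nat.ble 3674112 i)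
noncomputable def eT3580 (i : Nat) : Nat := Bool.rec (eL3586 i) (eT3579 i) (Nat.ble 3673088 i)
noncomputable def eT3581 (i : Nat) : Nat := Bool.rec (eT3578 i) (eT3580 i) (Nat.ble 3672064 i)
noncomputable def eT3582 (i : Nat) : Nat := Bool.rec (eL3590 i) (eL3591 i) (Nat.ble 3677184 i)
noncomputable def eT3583 (i : Nat) : Nat := Bool.rec (eL3589 i) (eT3582 i) (Nat.ble 3676160 i)
noncomputable def eT3584 (i : Nat) : Nat := Bool.rec (eL3593 i) (eL3594 i) (Nat.ble 3680256 i)
noncomputable def eT3585 (i : Nat) : Nat := Bool.rec (eL3592 i) (eT3584 i) (Nat.ble 3679232 i)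
noncomputable def eT3586 (i : Nat) : Nat := Bool.rec (eT3583 i) (eT3585 i) (Nat.ble 3678208 i)
noncomputable def eT3587 (i : Nat) : Nat := Bool.rec (eT3581 i) (eT3586 i) (Nat.ble 3675136 i)
noncomputable def eT3588 (i : Nat) : Nat := Bool.rec (eT3577 i) (eT3587 i) (Nat.ble 3670016 i)
noncomputable def eT3589 (i : Nat) : Nat := Bool.rec (eL3595 i) (eL3596 i) (Nat.ble 3682304 i)
noncomputable def eT3590 (i : Nat) : Nat := Bool.rec (eL3598 i) (eL3599 i) (Nat.ble 3685376 i)
noncomputable def eT3591 (i : Nat) : Nat := Bool.rec (eL3597 i) (eT3590 i) (Nat.ble 3684352 i)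
noncomputable def eT3592 (i : Nat) : Nat := Bool.rec (eT3589 i) (eT3591 i) (Nat.ble 3683328 i)
noncomputable def eT3593 (i : Nat) : Nat := Bool.rec (eL3600 i) (eL3601 i) (Nat.ble 3687424 i)
noncomputable def eT3594 (i : Nat) : Nat := Bool.rec (eL3603 i) (eL3604 i) (Nat.ble 3690496 i)
noncomputable def eT3595 (i : Nat) : Nat := Bool.rec (eL3602 i) (eT3594 i) (Nat.ble 3689472 i)
noncomputable def eT3596 (i : Nat) : Nat := Bool.rec (eT3593 i) (eT3595 i) (Nat.ble 3688448 i)
noncomputable def eT3597 (i : Nat) : Nat := Bool.rec (eT3592 i) (eT3596 i) (Nat.ble 3686400 i)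
noncomputable def eT3598 (i : Nat) : Nat := Bool.rec (eL3605 i) (eL3606 i) (Nat.ble 3692544 i)
noncomputable def eT3599 (i : Nat) : Nat := Bool.rec (eL3608 i) (eL3609 i) (Nat.ble 3695616 i)
noncomputable def eT3600 (i : Nat) : Nat := Bool.rec (eL3607 i) (eT3599 i) (Nat.ble 3694592 i)
noncomputable def eT3601 (i : Nat) : Nat := Bool.rec (eT3598 i) (eT3600 i) (Nat.ble 3693568 i)
noncomputable def eT3602 (i : Nat) : Nat := Bool.rec (eL3611 i) (eL3612 i) (Nat.ble 3698688 i)
noncomputable def eT3603 (i : Nat) : Nat := Bool.rec (eL3610 i) (eT3602 i) (Nat.ble 3697664 i)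
noncomputable def eT3604 (i : Nat) : Nat := Bool.rec (eL3614 i) (eL3615 i) (Nat.ble 3701760 i)
noncomputable def eT3605 (i : Nat) : Nat := Bool.rec (eL3613 i) (eT3604 i) (Nat.ble 3700736 i)
noncomputable def eT3606 (i : Nat) : Nat := Bool.rec (eT3603 i) (eT3605 i) (Nat.ble 3699712 i)
noncomputable def eT3607 (i : Nat) : Nat := Bool.rec (eT3601 i) (eT3606 i) (Nat.ble 3696640 i)
noncomputable def eT3608 (i : Nat) : Nat := Bool.rec (eT3597 i) (eT3607 i) (Nat.ble 3691520 i)
noncomputable def eT3609 (i : Nat) : Nat := Bool.rec (eT3588 i) (eT3608 i) (Nat.ble 3681280 i)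
noncomputable def eT3610 (i : Nat) : Nat := Bool.rec (eT3568 i) (eT3609 i) (Nat.ble 3659776 i)
noncomputable def eT3611 (i : Nat) : Nat := Bool.rec (eT3528 i) (eT3610 i) (Nat.ble 3617792 i)
noncomputable def eT3612 (i : Nat) : Nat := Bool.rec (eT3447 i) (eT3611 i) (Nat.ble 3533824 i)
noncomputable def eT3613 (i : Nat) : Nat := Bool.rec (eL3616 i) (eL3617 i) (Nat.ble 3703808 i)
noncomputable def eT3614 (i : Nat) : Nat := Bool.rec (eL3619 i) (eL3620 i) (Nat.ble 3706880 i)
noncomputable def eT3615 (i : Nat) : Nat := Bool.rec (eL3618 i) (eT3614 i) (Nat.ble 3705856 i)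
noncomputable def eT3616 (i : Nat) : Nat := Bool.rec (eT3613 i) (eT3615 i) (Nat.ble 3704832 i)
noncomputable def eT3617 (i : Nat) : Nat := Bool.rec (eL3621 i) (eL3622 i) (Nat.ble 3708928 i)
noncomputable def eT3618 (i : Nat) : Nat := Bool.rec (eL3624 i) (eL3625 i) (Nat.ble 3712000 i)
noncomputable def eT3619 (i : Nat) : Nat := Bool.rec (eL3623 i) (eT3618 i) (Nat.ble 3710976 i)
noncomputable def eT3620 (i : Nat) : Nat := Bool.rec (eT3617 i) (eT3619 i) (Nat.ble 3709952 i)
noncomputable def eT3621 (i : Nat) : Nat := Bool.rec (eT3616 i) (eT3620 i) (Nat.ble 3707904 i)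
noncomputable def eT3622 (i : Nat) : Nat := Bool.rec (eL3626 i) (eL3627 i) (Nat.ble 3714048 i)
noncomputable def eT3623 (i : Nat) : Nat := Bool.rec (eL3629 i) (eL3630 i) (Nat.ble 3717120 i)
noncomputable def eT3624 (i : Nat) : Nat := Bool.rec (eL3628 i) (eT3623 i) (Nat.ble 3716096 i)
noncomputable def eT3625 (i : Nat) : Nat := Bool.rec (eT3622 i) (eT3624 i) (Nat.ble 3715072 i)
noncomputable def eT3626 (i : Nat) : Nat := Bool.rec (eL3631 i) (eL3632 i) (Nat.ble 3719168 i)
noncomputable def eT3627 (i : Nat) : Nat := Bool.rec (eL3634 i) (eL3635 i) (Nat.ble 3722240 i)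
noncomputable def eT3628 (i : Nat) : Nat := Bool.rec (eL3633 i) (eT3627 i) (Nat.ble 3721216 i)
noncomputable def eT3629 (i : Nat) : Nat := Bool.rec (eT3626 i) (eT3628 i) (Nat.ble 3720192 i)
noncomputable def eT3630 (i : Nat) : Nat := Bool.rec (eT3625 i) (eT3629 i) (Nat.ble 3718144 i)
noncomputable def eT3631 (i : Nat) : Nat := Bool.rec (eT3621 i) (eT3630 i) (Nat.ble 3713024 i)
noncomputable def eT3632 (i : Nat) : Nat := Bool.rec (eL3636 i) (eL3637 i) (Nat.ble 3724288 i)
noncomputable def eT3633 (i : Nat) : Nat := Bool.rec (eL3639 i) (eL3640 i) (Nat.ble 3727360 i)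
noncomputable def eT3634 (i : Nat) : Nat := Bool.rec (eL3638 i) (eT3633 i) (Nat.ble 3726336 i)
noncomputable def eT3635 (i : Nat) : Nat := Bool.rec (eT3632 i) (eT3634 i) (Nat.ble 3725312 i)
noncomputable def eT3636 (i : Nat) : Nat := Bool.rec (eL3641 i) (eL3642 i) (Nat.ble 3729408 i)
noncomputable def eT3637 (i : Nat) : Nat := Bool.rec (eL3644 i) (eL3645 i) (Nat.ble 3732480 i)
noncomputable def eT3638 (i : Nat) : Nat := Bool.rec (eL3643 i) (eT3637 i) (Nat.ble 3731456 i)
noncomputable def eT3639 (i : Nat) : Nat := Bool.rec (eT3636 i) (eT3638 i) (Nat.ble 3730432 i)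
noncomputable def eT3640 (i : Nat) : Nat := Bool.rec (eT3635 i) (eT3639 i) (Nat.ble 3728384 i)
noncomputable def eT3641 (i : Nat) : Nat := Bool.rec (eL3646 i) (eL3647 i) (Nat.ble 3734528 i)
noncomputable def eT3642 (i : Nat) : Nat := Bool.rec (eL3649 i) (eL3650 i) (Nat.ble 3737600 i)
noncomputable def eT3643 (i : Nat) : Nat := Bool.rec (eL3648 i) (eT3642 i) (Nat.ble 3736576 i)
noncomputable def eT3644 (i : Nat) : Nat := Bool.rec (eT3641 i) (eT3643 i) (Nat.ble 3735552 i)
noncomputable def eT3645 (i : Nat) : Nat := Bool.rec (eL3652 i) (eL3653 i) (Nat.ble 3740672 i)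
noncomputable def eT3646 (i : Nat) : Nat := Bool.rec (eL3651 i) (eT3645 i) (Nat.ble 3739648 i)
noncomputable def eT3647 (i : Nat) : Nat := Bool.rec (eL3655 i) (eL3656 i) (Nat.ble 3743744 i)
noncomputable def eT3648 (i : Nat) : Nat := Bool.rec (eL3654 i) (eT3647 i) (Nat.ble 3742720 i)
noncomputable def eT3649 (i : Nat) : Nat := Bool.rec (eT3646 i) (eT3648 i) (Nat.ble 3741696 i)
noncomputable def eT3650 (i : Nat) : Nat := Bool.rec (eT3644 i) (eT3649 i) (Nat.ble 3738624 i)
noncomputable def eT3651 (i : Nat) : Nat := Bool.rec (eT3640 i) (eT3650 i) (Nat.ble 3733504 i)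
noncomputable def eT3652 (i : Nat) : Nat := Bool.rec (eT3631 i) (eT3651 i) (Nat.ble 3723264 i)
noncomputable def eT3653 (i : Nat) : Nat := Bool.rec (eL3657 i) (eL3658 i) (Nat.ble 3745792 i)
noncomputable def eT3654 (i : Nat) : Nat := Bool.rec (eL3660 i) (eL3661 i) (Nat.ble 3748864 i)
noncomputable def eT3655 (i : Nat) : Nat := Bool.rec (eL3659 i) (eT3654 i) (Nat.ble 3747840 i)
noncomputable def eT3656 (i : Nat) : Nat := Bool.rec (eT3653 i) (eT3655 i) (Nat.ble 3746816 i)
noncomputable def eT3657 (i : Nat) : Nat := Bool.rec (eL3662 i) (eL3663 i) (Nat.ble 3750912 i)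
noncomputable def eT3658 (i : Nat) : Nat := Bool.rec (eL3665 i) (eL3666 i) (Nat.ble 3753984 i)
noncomputable def eT3659 (i : Nat) : Nat := Bool.rec (eL3664 i) (eT3658 i) (Nat.ble 3752960 i)
noncomputable def eT3660 (i : Nat) : Nat := Bool.rec (eT3657 i) (eT3659 i) (Nat.ble 3751936 i)
noncomputable def eT3661 (i : Nat) : Nat := Bool.rec (eT3656 i) (eT3660 i) (Nat.ble 3749888 i)
noncomputable def eT3662 (i : Nat) : Nat := Bool.rec (eL3667 i) (eL3668 i) (Nat.ble 3756032 i)
noncomputable def eT3663 (i : Nat) : Nat := Bool.rec (eL3670 i) (eL3671 i) (Nat.ble 3759104 i)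
noncomputable def eT3664 (i : Nat) : Nat := Bool.rec (eL3669 i) (eT3663 i) (Nat.ble 3758080 i)
noncomputable def eT3665 (i : Nat) : Nat := Bool.rec (eT3662 i) (eT3664 i) (Nat.ble 3757056 i)
noncomputable def eT3666 (i : Nat) : Nat := Bool.rec (eL3672 i) (eL3673 i) (Nat.ble 3761152 i)
noncomputable def eT3667 (i : Nat) : Nat := Bool.rec (eL3675 i) (eL3676 i) (Nat.ble 3764224 i)
noncomputable def eT3668 (i : Nat) : Nat := Bool.rec (eL3674 i) (eT3667 i) (Nat.ble 3763200 i)
noncomputable def eT3669 (i : Nat) : Nat := Bool.rec (eT3666 i) (eT3668 i) (Nat.ble 3762176 i)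
noncomputable def eT3670 (i : Nat) : Nat := Bool.rec (eT3665 i) (eT3669 i) (Nat.ble 3760128 i)
noncomputable def eT3671 (i : Nat) : Nat := Bool.rec (eT3661 i) (eT3670 i) (Nat.ble 3755008 i)
noncomputable def eT3672 (i : Nat) : Nat := Bool.rec (eL3677 i) (eL3678 i) (Nat.ble 3766272 i)
noncomputable def eT3673 (i : Nat) : Nat := Bool.rec (eL3680 i) (eL3681 i) (Nat.ble 3769344 i)
noncomputable def eT3674 (i : Nat) : Nat := Bool.rec (eL3679 i) (eT3673 i) (Nat.ble 3768320 i)
noncomputable def eT3675 (i : Nat) : Nat := Bool.rec (eT3672 i) (eT3674 i) (Nat.ble 3767296 i)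
noncomputable def eT3676 (i : Nat) : Nat := Bool.rec (eL3682 i) (eL3683 i) (Nat.ble 3771392 i)
noncomputable def eT3677 (i : Nat) : Nat := Bool.rec (eL3685 i) (eL3686 i) (Nat.ble 3774464 i)
noncomputable def eT3678 (i : Nat) : Nat := Bool.rec (eL3684 i) (eT3677 i) (Nat.ble 3773440 i)
noncomputable def eT3679 (i : Nat) : Nat := Bool.rec (eT3676 i) (eT3678 i) (Nat.ble 3772416 i)
noncomputable def eT3680 (i : Nat) : Nat := Bool.rec (eT3675 i) (eT3679 i) (Nat.ble 3770368 i)
noncomputable def eT3681 (i : Nat) : Nat := Bool.rec (eL3687 i) (eL3688 i) (Nat.ble 3776512 i)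
noncomputable def eT3682 (i : Nat) : Nat := Bool.rec (eL3690 i) (eL3691 i) (Nat.ble 3779584 i)
noncomputable def eT3683 (i : Nat) : Nat := Bool.rec (eL3689 i) (eT3682 i) (Nat.ble 3778560 i)
noncomputable def eT3684 (i : Nat) : Nat := Bool.rec (eT3681 i) (eT3683 i) (Nat.ble 3777536 i)
noncomputable def eT3685 (i : Nat) : Nat := Bool.rec (eL3693 i) (eL3694 i) (Nat.ble 3782656 i)
noncomputable def eT3686 (i : Nat) : Nat := Bool.rec (eL3692 i) (eT3685 i) (Nat.ble 3781632 i)
noncomputable def eT3687 (i : Nat) : Nat := Bool.rec (eL3696 i) (eL3697 i) (Nat.ble 3785728 i)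
noncomputable def eT3688 (i : Nat) : Nat := Bool.rec (eL3695 i) (eT3687 i) (Nat.ble 3784704 i)
noncomputable def eT3689 (i : Nat) : Nat := Bool.rec (eT3686 i) (eT3688 i) (Nat.ble 3783680 i)
noncomputable def eT3690 (i : Nat) : Nat := Bool.rec (eT3684 i) (eT3689 i) (Nat.ble 3780608 i)
noncomputable def eT3691 (i : Nat) : Nat := Bool.rec (eT3680 i) (eT3690 i) (Nat.ble 3775488 i)
noncomputable def eT3692 (i : Nat) : Nat := Bool.rec (eT3671 i) (eT3691 i) (Nat.ble 3765248 i)
noncomputable def eT3693 (i : Nat) : Nat := Bool.rec (eT3652 i) (eT3692 i) (Nat.ble 3744768 i)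
noncomputable def eT3694 (i : Nat) : Nat := Bool.rec (eL3698 i) (eL3699 i) (Nat.ble 3787776 i)
noncomputable def eT3695 (i : Nat) : Nat := Bool.rec (eL3701 i) (eL3702 i) (Nat.ble 3790848 i)
noncomputable def eT3696 (i : Nat) : Nat := Bool.rec (eL3700 i) (eT3695 i) (Nat.ble 3789824 i)
noncomputable def eT3697 (i : Nat) : Nat := Bool.rec (eT3694 i) (eT3696 i) (Nat.ble 3788800 i)
noncomputable def eT3698 (i : Nat) : Nat := Bool.rec (eL3703 i) (eL3704 i) (Nat.ble 3792896 i)
noncomputable def eT3699 (i : Nat) : Nat := Bool.rec (eL3706 i) (eL3707 i) (Nat.ble 3795968 i)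
noncomputable def eT3700 (i : Nat) : Nat := Bool.rec (eL3705 i) (eT3699 i) (Nat.ble 3794944 i)
noncomputable def eT3701 (i : Nat) : Nat := Bool.rec (eT3698 i) (eT3700 i) (Nat.ble 3793920 i)
noncomputable def eT3702 (i : Nat) : Nat := Bool.rec (eT3697 i) (eT3701 i) (Nat.ble 3791872 i)
noncomputable def eT3703 (i : Nat) : Nat := Bool.rec (eL3708 i) (eL3709 i) (Nat.ble 3798016 i)
noncomputable def eT3704 (i : Nat) : Nat := Bool.rec (eL3711 i) (eL3712 i) (Nat.ble 3801088 i)
noncomputable def eT3705 (i : Nat) : Nat := Bool.rec (eL3710 i) (eT3704 i) (Nat.ble 3800064 i)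
noncomputable def eT3706 (i : Nat) : Nat := Bool.rec (eT3703 i) (eT3705 i) (Nat.ble 3799040 i)
noncomputable def eT3707 (i : Nat) : Nat := Bool.rec (eL3713 i) (eL3714 i) (Nat.ble 3803136 i)
noncomputable def eT3708 (i : Nat) : Nat := Bool.rec (eL3716 i) (eL3717 i) (Nat.ble 3806208 i)
noncomputable def eT3709 (i : Nat) : Nat := Bool.rec (eL3715 i) (eT3708 i) (Nat.ble 3805184 i)
noncomputable def eT3710 (i : Nat) : Nat := Bool.rec (eT3707 i) (eT3709 i) (Nat.ble 3804160 i)
noncomputable def eT3711 (i : Nat) : Nat := Bool.rec (eT3706 i) (eT3710 i) (Nat.ble 3802112 i)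
noncomputable def eT3712 (i : Nat) : Nat := Bool.rec (eT3702 i) (eT3711 i) (Nat.ble 3796992 i)
noncomputable def eT3713 (i : Nat) : Nat := Bool.rec (eL3718 i) (eL3719 i) (Nat.ble 3808256 i)
noncomputable def eT3714 (i : Nat) : Nat := Bool.rec (eL3721 i) (eL3722 i) (Nat.ble 3811328 i)
noncomputable def eT3715 (i : Nat) : Nat := Bool.rec (eL3720 i) (eT3714 i) (Nat.ble 3810304 i)
noncomputable def eT3716 (i : Nat) : Nat := Bool.rec (eT3713 i) (eT3715 i) (Nat.ble 3809280 i)
noncomputable def eT3717 (i : Nat) : Nat := Bool.rec (eL3723 i) (eL3724 i) (Nat.ble 3813376 i)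
noncomputable def eT3718 (i : Nat) : Nat := Bool.rec (eL3726 i) (eL3727 i) (Nat.ble 3816448 i)
noncomputable def eT3719 (i : Nat) : Nat := Bool.rec (eL3725 i) (eT3718 i) (Nat.ble 3815424 i)
noncomputable def eT3720 (i : Nat) : Nat := Bool.rec (eT3717 i) (eT3719 i) (Nat.ble 3814400 i)
noncomputable def eT3721 (i : Nat) : Nat := Bool.rec (eT3716 i) (eT3720 i) (Nat.ble 3812352 i)
noncomputable def eT3722 (i : Nat) : Nat := Bool.rec (eL3728 i) (eL3729 i) (Nat.ble 3818496 i)
noncomputable def eT3723 (i : Nat) : Nat := Bool.rec (eL3731 i) (eL3732 i) (Nat.ble 3821568 i)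
noncomputable def eT3724 (i : Nat) : Nat := Bool.rec (eL3730 i) (eT3723 i) (Nat.ble 3820544 i)
noncomputable def eT3725 (i : Nat) : Nat := Bool.rec (eT3722 i) (eT3724 i) (Nat.ble 3819520 i)
noncomputable def eT3726 (i : Nat) : Nat := Bool.rec (eL3734 i) (eL3735 i) (Nat.ble 3824640 i)
noncomputable def eT3727 (i : Nat) : Nat := Bool.rec (eL3733 i) (eT3726 i) (Nat.ble 3823616 i)
noncomputable def eT3728 (i : Nat) : Nat := Bool.rec (eL3737 i) (eL3738 i) (Nat.ble 3827712 i)
noncomputable def eT3729 (i : Nat) : Nat := Bool.rec (eL3736 i) (eT3728 i) (Nat.ble 3826688 i)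
noncomputable def eT3730 (i : Nat) : Nat := Bool.rec (eT3727 i) (eT3729 i) (Nat.ble 3825664 i)
noncomputable def eT3731 (i : Nat) : Nat := Bool.rec (eT3725 i) (eT3730 i) (Nat.ble 3822592 i)
noncomputable def eT3732 (i : Nat) : Nat := Bool.rec (eT3721 i) (eT3731 i) (Nat.ble 3817472 i)
noncomputable def eT3733 (i : Nat) : Nat := Bool.rec (eT3712 i) (eT3732 i) (Nat.ble 3807232 i)
noncomputable def eT3734 (i : Nat) : Nat := Bool.rec (eL3739 i) (eL3740 i) (Nat.ble 3829760 i)
noncomputable def eT3735 (i : Nat) : Nat := Bool.rec (eL3742 i) (eL3743 i) (Nat.ble 3832832 i)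
noncomputable def eT3736 (i : Nat) : Nat := Bool.rec (eL3741 i) (eT3735 i) (Nat.ble 3831808 i)
noncomputable def eT3737 (i : Nat) : Nat := Bool.rec (eT3734 i) (eT3736 i) (Nat.ble 3830784 i)
noncomputable def eT3738 (i : Nat) : Nat := Bool.rec (eL3744 i) (eL3745 i) (Nat.ble 3834880 i)
noncomputable def eT3739 (i : Nat) : Nat := Bool.rec (eL3747 i) (eL3748 i) (Nat.ble 3837952 i)
noncomputable def eT3740 (i : Nat) : Nat := Bool.rec (eL3746 i) (eT3739 i) (Nat.ble 3836928 i)
noncomputable def eT3741 (i : Nat) : Nat := Bool.rec (eT3738 i) (eT3740 i) (Nat.ble 3835904 i)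
noncomputable def eT3742 (i : Nat) : Nat := Bool.rec (eT3737 i) (eT3741 i) (Nat.ble 3833856 i)
noncomputable def eT3743 (i : Nat) : Nat := Bool.rec (eL3749 i) (eL3750 i) (Nat.ble 3840000 i)
noncomputable def eT3744 (i : Nat) : Nat := Bool.rec (eL3752 i) (eL3753 i) (Nat.ble 3843072 i)
noncomputable def eT3745 (i : Nat) : Nat := Bool.rec (eL3751 i) (eT3744 i) (Nat.ble 3842048 i)
noncomputable def eT3746 (i : Nat) : Nat := Bool.rec (eT3743 i) (eT3745 i) (Nat.ble 3841024 i)
noncomputable def eT3747 (i : Nat) : Nat := Bool.rec (eL3754 i) (eL3755 i) (Nat.ble 3845120 i)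
noncomputable def eT3748 (i : Nat) : Nat := Bool.rec (eL3757 i) (eL3758 i) (Nat.ble 3848192 i)
noncomputable def eT3749 (i : Nat) : Nat := Bool.rec (eL3756 i) (eT3748 i) (Nat.ble 3847168 i)
noncomputable def eT3750 (i : Nat) : Nat := Bool.rec (eT3747 i) (eT3749 i) (Nat.ble 3846144 i)
noncomputable def eT3751 (i : Nat) : Nat := Bool.rec (eT3746 i) (eT3750 i) (Nat.ble 3844096 i)
noncomputable def eT3752 (i : Nat) : Nat := Bool.rec (eT3742 i) (eT3751 i) (Nat.ble 3838976 i)
noncomputable def eT3753 (i : Nat) : Nat := Bool.rec (eL3759 i) (eL3760 i) (Nat.ble 3850240 i)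
noncomputable def eT3754 (i : Nat) : Nat := Bool.rec (eL3762 i) (eL3763 i) (Nat.ble 3853312 i)
noncomputable def eT3755 (i : Nat) : Nat := Bool.rec (eL3761 i) (eT3754 i) (Nat.ble 3852288 i)
noncomputable def eT3756 (i : Nat) : Nat := Bool.rec (eT3753 i) (eT3755 i) (Nat.ble 3851264 i)
noncomputable def eT3757 (i : Nat) : Nat := Bool.rec (eL3764 i) (eL3765 i) (Nat.ble 3855360 i)
noncomputable def eT3758 (i : Nat) : Nat := Bool.rec (eL3767 i) (eL3768 i) (Nat.ble 3858432 i)
noncomputable def eT3759 (i : Nat) : Nat := Bool.rec (eL3766 i) (eT3758 i) (Nat.ble 3857408 i)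
noncomputable def eT3760 (i : Nat) : Nat := Bool.rec (eT3757 i) (eT3759 i) (Nat.ble 3856384 i)
noncomputable def eT3761 (i : Nat) : Nat := Bool.rec (eT3756 i) (eT3760 i) (Nat.ble 3854336 i)
noncomputable def eT3762 (i : Nat) : Nat := Bool.rec (eL3769 i) (eL3770 i) (Nat.ble 3860480 i)
noncomputable def eT3763 (i : Nat) : Nat := Bool.rec (eL3772 i) (eL3773 i) (Nat.ble 3863552 i)
noncomputable def eT3764 (i : Nat) : Nat := Bool.rec (eL3771 i) (eT3763 i) (Nat.ble 3862528 i)
noncomputable def eT3765 (i : Nat) : Nat := Bool.rec (eT3762 i) (eT3764 i) (Nat.ble 3861504 i)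
noncomputable def eT3766 (i : Nat) : Nat := Bool.rec (eL3775 i) (eL3776 i) (Nat.ble 3866624 i)
noncomputable def eT3767 (i : Nat) : Nat := Bool.rec (eL3774 i) (eT3766 i) (Nat.ble 3865600 i)
noncomputable def eT3768 (i : Nat) : Nat := Bool.rec (eL3778 i) (eL3779 i) (Nat.ble 3869696 i)
noncomputable def eT3769 (i : Nat) : Nat := Bool.rec (eL3777 i) (eT3768 i) (Nat.ble 3868672 i)
noncomputable def eT3770 (i : Nat) : Nat := Bool.rec (eT3767 i) (eT3769 i) (Nat.ble 3867648 i)
noncomputable def eT3771 (i : Nat) : Nat := Bool.rec (eT3765 i) (eT3770 i) (Nat.ble 3864576 i)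
noncomputable def eT3772 (i : Nat) : Nat := Bool.rec (eT3761 i) (eT3771 i) (Nat.ble 3859456 i)
noncomputable def eT3773 (i : Nat) : Nat := Bool.rec (eT3752 i) (eT3772 i) (Nat.ble 3849216 i)
noncomputable def eT3774 (i : Nat) : Nat := Bool.rec (eT3733 i) (eT3773 i) (Nat.ble 3828736 i)
noncomputable def eT3775 (i : Nat) : Nat := Bool.rec (eT3693 i) (eT3774 i) (Nat.ble 3786752 i)
noncomputable def eT3776 (i : Nat) : Nat := Bool.rec (eL3780 i) (eL3781 i) (Nat.ble 3871744 i)
noncomputable def eT3777 (i : Nat) : Nat := Bool.rec (eL3783 i) (eL3784 i) (Nat.ble 3874816 i)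
noncomputable def eT3778 (i : Nat) : Nat := Bool.rec (eL3782 i) (eT3777 i) (Nat.ble 3873792 i)
noncomputable def eT3779 (i : Nat) : Nat := Bool.rec (eT3776 i) (eT3778 i) (Nat.ble 3872768 i)
noncomputable def eT3780 (i : Nat) : Nat := Bool.rec (eL3785 i) (eL3786 i) (Nat.ble 3876864 i)
noncomputable def eT3781 (i : Nat) : Nat := Bool.rec (eL3788 i) (eL3789 i) (Nat.ble 3879936 i)
noncomputable def eT3782 (i : Nat) : Nat := Bool.rec (eL3787 i) (eT3781 i) (Nat.ble 3878912 i)
noncomputable def eT3783 (i : Nat) : Nat := Bool.rec (eT3780 i) (eT3782 i) (Nat.ble 3877888 i)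
noncomputable def eT3784 (i : Nat) : Nat := Bool.rec (eT3779 i) (eT3783 i) (Nat.ble 3875840 i)
noncomputable def eT3785 (i : Nat) : Nat := Bool.rec (eL3790 i) (eL3791 i) (Nat.ble 3881984 i)
noncomputable def eT3786 (i : Nat) : Nat := Bool.rec (eL3793 i) (eL3794 i) (Nat.ble 3885056 i)
noncomputable def eT3787 (i : Nat) : Nat := Bool.rec (eL3792 i) (eT3786 i) (Nat.ble 3884032 i)
noncomputable def eT3788 (i : Nat) : Nat := Bool.rec (eT3785 i) (eT3787 i) (Nat.ble 3883008 i)
noncomputable def eT3789 (i : Nat) : Nat := Bool.rec (eL3795 i) (eL3796 i) (Nat.ble 3887104 i)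
noncomputable def eT3790 (i : Nat) : Nat := Bool.rec (eL3798 i) (eL3799 i) (Nat.ble 3890176 i)
noncomputable def eT3791 (i : Nat) : Nat := Bool.rec (eL3797 i) (eT3790 i) (Nat.ble 3889152 i)
noncomputable def eT3792 (i : Nat) : Nat := Bool.rec (eT3789 i) (eT3791 i) (Nat.ble 3888128 i)
noncomputable def eT3793 (i : Nat) : Nat := Bool.rec (eT3788 i) (eT3792 i) (Nat.ble 3886080 i)
noncomputable def eT3794 (i : Nat) : Nat := Bool.rec (eT3784 i) (eT3793 i) (Nat.ble 3880960 i)
noncomputable def eT3795 (i : Nat) : Nat := Bool.rec (eL3800 i) (eL3801 i) (Nat.ble 3892224 i)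
noncomputable def eT3796 (i : Nat) : Nat := Bool.rec (eL3803 i) (eL3804 i) (Nat.ble 3895296 i)
noncomputable def eT3797 (i : Nat) : Nat := Bool.rec (eL3802 i) (eT3796 i) (Nat.ble 3894272 i)
noncomputable def eT3798 (i : Nat) : Nat := Bool.rec (eT3795 i) (eT3797 i) (Nat.ble 3893248 i)
noncomputable def eT3799 (i : Nat) : Nat := Bool.rec (eL3805 i) (eL3806 i) (Nat.ble 3897344 i)
noncomputable def eT3800 (i : Nat) : Nat := Bool.rec (eL3808 i) (eL3809 i) (Nat.ble 3900416 i)
noncomputable def eT3801 (i : Nat) : Nat := Bool.rec (eL3807 i) (eT3800 i) (Nat.ble 3899392 i)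
noncomputable def eT3802 (i : Nat) : Nat := Bool.rec (eT3799 i) (eT3801 i) (Nat.ble 3898368 i)
noncomputable def eT3803 (i : Nat) : Nat := Bool.rec (eT3798 i) (eT3802 i) (Nat.ble 3896320 i)
noncomputable def eT3804 (i : Nat) : Nat := Bool.rec (eL3810 i) (eL3811 i) (Nat.ble 3902464 i)
noncomputable def eT3805 (i : Nat) : Nat := Bool.rec (eL3813 i) (eL3814 i) (Nat.ble 3905536 i)
noncomputable def eT3806 (i : Nat) : Nat := Bool.rec (eL3812 i) (eT3805 i) (Nat.ble 3904512 i)
noncomputable def eT3807 (i : Nat) : Nat := Bool.rec (eT3804 i) (eT3806 i) (Nat.ble 3903488 i)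
noncomputable def eT3808 (i : Nat) : Nat := Bool.rec (eL3816 i) (eL3817 i) (Nat.ble 3908608 i)
noncomputable def eT3809 (i : Nat) : Nat := Bool.rec (eL3815 i) (eT3808 i) (Nat.ble 3907584 i)
noncomputable def eT3810 (i : Nat) : Nat := Bool.rec (eL3819 i) (eL3820 i) (Nat.ble 3911680 i)
noncomputable def eT3811 (i : Nat) : Nat := Bool.rec (eL3818 i) (eT3810 i) (Nat.ble 3910656 i)
noncomputable def eT3812 (i : Nat) : Nat := Bool.rec (eT3809 i) (eT3811 i) (Nat.ble 3909632 i)
noncomputable def eT3813 (i : Nat) : Nat := Bool.rec (eT3807 i) (eT3812 i) (Nat.ble 3906560 i)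
noncomputable def eT3814 (i : Nat) : Nat := Bool.rec (eT3803 i) (eT3813 i) (Nat.ble 3901440 i)
noncomputable def eT3815 (i : Nat) : Nat := Bool.rec (eT3794 i) (eT3814 i) (Nat.ble 3891200 i)
noncomputable def eT3816 (i : Nat) : Nat := Bool.rec (eL3821 i) (eL3822 i) (Nat.ble 3913728 i)
noncomputable def eT3817 (i : Nat) : Nat := Bool.rec (eL3824 i) (eL3825 i) (Nat.ble 3916800 i)
noncomputable def eT3818 (i : Nat) : Nat := Bool.rec (eL3823 i) (eT3817 i) (Nat.ble 3915776 i)
noncomputable def eT3819 (i : Nat) : Nat := Bool.rec (eT3816 i) (eT3818 i) (Nat.ble 3914752 i)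
noncomputable def eT3820 (i : Nat) : Nat := Bool.rec (eL3826 i) (eL3827 i) (Nat.ble 3918848 i)
noncomputable def eT3821 (i : Nat) : Nat := Bool.rec (eL3829 i) (eL3830 i) (Nat.ble 3921920 i)
noncomputable def eT3822 (i : Nat) : Nat := Bool.rec (eL3828 i) (eT3821 i) (Nat.ble 3920896 i)
noncomputable def eT3823 (i : Nat) : Nat := Bool.rec (eT3820 i) (eT3822 i) (Nat.ble 3919872 i)
noncomputable def eT3824 (i : Nat) : Nat := Bool.rec (eT3819 i) (eT3823 i) (Nat.ble 3917824 i)
noncomputable def eT3825 (i : Nat) : Nat := Bool.rec (eL3831 i) (eL3832 i) (Nat.ble 3923968 i)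
noncomputable def eT3826 (i : Nat) : Nat := Bool.rec (eL3834 i) (eL3835 i) (Nat.ble 3927040 i)
noncomputable def eT3827 (i : Nat) : Nat := Bool.rec (eL3833 i) (eT3826 i) (Nat.ble 3926016 i)
noncomputable def eT3828 (i : Nat) : Nat := Bool.rec (eT3825 i) (eT3827 i) (Nat.ble 3924992 i)
noncomputable def eT3829 (i : Nat) : Nat := Bool.rec (eL3836 i) (eL3837 i) (Nat.ble 3929088 i)
noncomputable def eT3830 (i : Nat) : Nat := Bool.rec (eL3839 i) (eL3840 i) (Nat.ble 3932160 i)
noncomputable def eT3831 (i : Nat) : Nat := Bool.rec (eL3838 i) (eT3830 i) (Nat.ble 3931136 i)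
noncomputable def eT3832 (i : Nat) : Nat := Bool.rec (eT3829 i) (eT3831 i) (Nat.ble 3930112 i)
noncomputable def eT3833 (i : Nat) : Nat := Bool.rec (eT3828 i) (eT3832 i) (Nat.ble 3928064 i)
noncomputable def eT3834 (i : Nat) : Nat := Bool.rec (eT3824 i) (eT3833 i) (Nat.ble 3922944 i)
noncomputable def eT3835 (i : Nat) : Nat := Bool.rec (eL3841 i) (eL3842 i) (Nat.ble 3934208 i)
noncomputable def eT3836 (i : Nat) : Nat := Bool.rec (eL3844 i) (eL3845 i) (Nat.ble 3937280 i)
noncomputable def eT3837 (i : Nat) : Nat := Bool.rec (eL3843 i) (eT3836 i) (Nat.ble 3936256 i)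
noncomputable def eT3838 (i : Nat) : Nat := Bool.rec (eT3835 i) (eT3837 i) (Nat.ble 3935232 i)
noncomputable def eT3839 (i : Nat) : Nat := Bool.rec (eL3846 i) (eL3847 i) (Nat.ble 3939328 i)
noncomputable def eT3840 (i : Nat) : Nat := Bool.rec (eL3849 i) (eL3850 i) (Nat.ble 3942400 i)
noncomputable def eT3841 (i : Nat) : Nat := Bool.rec (eL3848 i) (eT3840 i) (Nat.ble 3941376 i)
noncomputable def eT3842 (i : Nat) : Nat := Bool.rec (eT3839 i) (eT3841 i) (Nat.ble 3940352 i)
noncomputable def eT3843 (i : Nat) : Nat := Bool.rec (eT3838 i) (eT3842 i) (Nat.ble 3938304 i)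
noncomputable def eT3844 (i : Nat) : Nat := Bool.rec (eL3851 i) (eL3852 i) (Nat.ble 3944448 i)
noncomputable def eT3845 (i : Nat) : Nat := Bool.rec (eL3854 i) (eL3855 i) (Nat.ble 3947520 i)
noncomputable def eT3846 (i : Nat) : Nat := Bool.rec (eL3853 i) (eT3845 i) (Nat.ble 3946496 i)
noncomputable def eT3847 (i : Nat) : Nat := Bool.rec (eT3844 i) (eT3846 i) (Nat.ble 3945472 i)
noncomputable def eT3848 (i : Nat) : Nat := Bool.rec (eL3857 i) (eL3858 i) (Nat.ble 3950592 i)
noncomputable def eT3849 (i : Nat) : Nat := Bool.rec (eL3856 i) (eT3848 i) (Nat.ble 3949568 i)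
noncomputable def eT3850 (i : Nat) : Nat := Bool.rec (eL3860 i) (eL3861 i) (Nat.ble 3953664 i)
noncomputable def eT3851 (i : Nat) : Nat := Bool.rec (eL3859 i) (eT3850 i) (Nat.ble 3952640 i)
noncomputable def eT3852 (i : Nat) : Nat := Bool.rec (eT3849 i) (eT3851 i) (Nat.ble 3951616 i)
noncomputable def eT3853 (i : Nat) : Nat := Bool.rec (eT3847 i) (eT3852 i) (Nat.ble 3948544 i)
noncomputable def eT3854 (i : Nat) : Nat := Bool.rec (eT3843 i) (eT3853 i) (Nat.ble 3943424 i)
noncomputable def eT3855 (i : Nat) : Nat := Bool.rec (eT3834 i) (eT3854 i) (Nat.ble 3933184 i)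
noncomputable def eT3856 (i : Nat) : Nat := Bool.rec (eT3815 i) (eT3855 i) (Nat.ble 3912704 i)
noncomputable def eT3857 (i : Nat) : Nat := Bool.rec (eL3862 i) (eL3863 i) (Nat.ble 3955712 i)
noncomputable def eT3858 (i : Nat) : Nat := Bool.rec (eL3865 i) (eL3866 i) (Nat.ble 3958784 i)
noncomputable def eT3859 (i : Nat) : Nat := Bool.rec (eL3864 i) (eT3858 i) (Nat.ble 3957760 i)
noncomputable def eT3860 (i : Nat) : Nat := Bool.rec (eT3857 i) (eT3859 i) (Nat.ble 3956736 i)
noncomputable def eT3861 (i : Nat) : Nat := Bool.rec (eL3867 i) (eL3868 i) (Nat.ble 3960832 i)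
noncomputable def eT3862 (i : Nat) : Nat := Bool.rec (eL3870 i) (eL3871 i) (Nat.ble 3963904 i)
noncomputable def eT3863 (i : Nat) : Nat := Bool.rec (eL3869 i) (eT3862 i) (Nat.ble 3962880 i)
noncomputable def eT3864 (i : Nat) : Nat := Bool.rec (eT3861 i) (eT3863 i) (Nat.ble 3961856 i)
noncomputable def eT3865 (i : Nat) : Nat := Bool.rec (eT3860 i) (eT3864 i) (Nat.ble 3959808 i)
noncomputable def eT3866 (i : Nat) : Nat := Bool.rec (eL3872 i) (eL3873 i) (Nat.ble 3965952 i)
noncomputable def eT3867 (i : Nat) : Nat := Bool.rec (eL3875 i) (eL3876 i) (Nat.ble 3969024 i)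
noncomputable def eT3868 (i : Nat) : Nat := Bool.rec (eL3874 i) (eT3867 i) (Nat.ble 3968000 i)
noncomputable def eT3869 (i : Nat) : Nat := Bool.rec (eT3866 i) (eT3868 i) (Nat.ble 3966976 i)
noncomputable def eT3870 (i : Nat) : Nat := Bool.rec (eL3877 i) (eL3878 i) (Nat.ble 3971072 i)
noncomputable def eT3871 (i : Nat) : Nat := Bool.rec (eL3880 i) (eL3881 i) (Nat.ble 3974144 i)
noncomputable def eT3872 (i : Nat) : Nat := Bool.rec (eL3879 i) (eT3871 i) (Nat.ble 3973120 i)
noncomputable def eT3873 (i : Nat) : Nat := Bool.rec (eT3870 i) (eT3872 i) (Nat.ble 3972096 i)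
noncomputable def eT3874 (i : Nat) : Nat := Bool.rec (eT3869 i) (eT3873 i) (Nat.ble 3970048 i)
noncomputable def eT3875 (i : Nat) : Nat := Bool.rec (eT3865 i) (eT3874 i) (Nat.ble 3964928 i)
noncomputable def eT3876 (i : Nat) : Nat := Bool.rec (eL3882 i) (eL3883 i) (Nat.ble 3976192 i)
noncomputable def eT3877 (i : Nat) : Nat := Bool.rec (eL3885 i) (eL3886 i) (Nat.ble 3979264 i)
noncomputable def eT3878 (i : Nat) : Nat := Bool.rec (eL3884 i) (eT3877 i) (Nat.ble 3978240 i)
noncomputable def eT3879 (i : Nat) : Nat := Bool.rec (eT3876 i) (eT3878 i) (Nat.ble 3977216 i)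
noncomputable def eT3880 (i : Nat) : Nat := Bool.rec (eL3887 i) (eL3888 i) (Nat.ble 3981312 i)
noncomputable def eT3881 (i : Nat) : Nat := Bool.rec (eL3890 i) (eL3891 i) (Nat.ble 3984384 i)
noncomputable def eT3882 (i : Nat) : Nat := Bool.rec (eL3889 i) (eT3881 i) (Nat.ble 3983360 i)
noncomputable def eT3883 (i : Nat) : Nat := Bool.rec (eT3880 i) (eT3882 i) (Nat.ble 3982336 i)
noncomputable def eT3884 (i : Nat) : Nat := Bool.rec (eT3879 i) (eT3883 i) (Nat.ble 3980288 i)
noncomputable def eT3885 (i : Nat) : Nat := Bool.rec (eL3892 i) (eL3893 i) (Nat.ble 3986432 i)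
noncomputable def eT3886 (i : Nat) : Nat := Bool.rec (eL3895 i) (eL3896 i) (Nat.ble 3989504 i)
noncomputable def eT3887 (i : Nat) : Nat := Bool.rec (eL3894 i) (eT3886 i) (Nat.ble 3988480 i)
noncomputable def eT3888 (i : Nat) : Nat := Bool.rec (eT3885 i) (eT3887 i) (Nat.ble 3987456 i)
noncomputable def eT3889 (i : Nat) : Nat := Bool.rec (eL3898 i) (eL3899 i) (Nat.ble 3992576 i)
noncomputable def eT3890 (i : Nat) : Nat := Bool.rec (eL3897 i) (eT3889 i) (Nat.ble 3991552 i)
noncomputable def eT3891 (i : Nat) : Nat := Bool.rec (eL3901 i) (eL3902 i) (Nat.ble 3995648 i)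
noncomputable def eT3892 (i : Nat) : Nat := Bool.rec (eL3900 i) (eT3891 i) (Nat.ble 3994624 i)
noncomputable def eT3893 (i : Nat) : Nat := Bool.rec (eT3890 i) (eT3892 i) (Nat.ble 3993600 i)
noncomputable def eT3894 (i : Nat) : Nat := Bool.rec (eT3888 i) (eT3893 i) (Nat.ble 3990528 i)
noncomputable def eT3895 (i : Nat) : Nat := Bool.rec (eT3884 i) (eT3894 i) (Nat.ble 3985408 i)
noncomputable def eT3896 (i : Nat) : Nat := Bool.rec (eT3875 i) (eT3895 i) (Nat.ble 3975168 i)
noncomputable def eT3897 (i : Nat) : Nat := Bool.rec (eL3903 i) (eL3904 i) (Nat.ble 3997696 i)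
noncomputable def eT3898 (i : Nat) : Nat := Bool.rec (eL3906 i) (eL3907 i) (Nat.ble 4000768 i)
noncomputable def eT3899 (i : Nat) : Nat := Bool.rec (eL3905 i) (eT3898 i) (Nat.ble 3999744 i)
noncomputable def eT3900 (i : Nat) : Nat := Bool.rec (eT3897 i) (eT3899 i) (Nat.ble 3998720 i)
noncomputable def eT3901 (i : Nat) : Nat := Bool.rec (eL3908 i) (eL3909 i) (Nat.ble 4002816 i)
noncomputable def eT3902 (i : Nat) : Nat := Bool.rec (eL3911 i) (eL3912 i) (Nat.ble 4005888 i)
noncomputable def eT3903 (i : Nat) : Nat := Bool.rec (eL3910 i) (eT3902 i) (Nat.ble 4004864 i)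
noncomputable def eT3904 (i : Nat) : Nat := Bool.rec (eT3901 i) (eT3903 i) (Nat.ble 4003840 i)
noncomputable def eT3905 (i : Nat) : Nat := Bool.rec (eT3900 i) (eT3904 i) (Nat.ble 4001792 i)
noncomputable def eT3906 (i : Nat) : Nat := Bool.rec (eL3913 i) (eL3914 i) (Nat.ble 4007936 i)
noncomputable def eT3907 (i : Nat) : Nat := Bool.rec (eL3916 i) (eL3917 i) (Nat.ble 4011008 i)
noncomputable def eT3908 (i : Nat) : Nat := Bool.rec (eL3915 i) (eT3907 i) (Nat.ble 4009984 i)
noncomputable def eT3909 (i : Nat) : Nat := Bool.rec (eT3906 i) (eT3908 i) (Nat.ble 4008960 i)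
noncomputable def eT3910 (i : Nat) : Nat := Bool.rec (eL3919 i) (eL3920 i) (Nat.ble 4014080 i)
noncomputable def eT3911 (i : Nat) : Nat := Bool.rec (eL3918 i) (eT3910 i) (Nat.ble 4013056 i)
noncomputable def eT3912 (i : Nat) : Nat := Bool.rec (eL3922 i) (eL3923 i) (Nat.ble 4017152 i)
noncomputable def eT3913 (i : Nat) : Nat := Bool.rec (eL3921 i) (eT3912 i) (Nat.ble 4016128 i)
noncomputable def eT3914 (i : Nat) : Nat := Bool.rec (eT3911 i) (eT3913 i) (Nat.ble 4015104 i)
noncomputable def eT3915 (i : Nat) : Nat := Bool.rec (eT3909 i) (eT3914 i) (Nat.ble 4012032 i)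
noncomputable def eT3916 (i : Nat) : Nat := Bool.rec (eT3905 i) (eT3915 i) (Nat.ble 4006912 i)
noncomputable def eT3917 (i : Nat) : Nat := Bool.rec (eL3924 i) (eL3925 i) (Nat.ble 4019200 i)
noncomputable def eT3918 (i : Nat) : Nat := Bool.rec (eL3927 i) (eL3928 i) (Nat.ble 4022272 i)
noncomputable def eT3919 (i : Nat) : Nat := Bool.rec (eL3926 i) (eT3918 i) (Nat.ble 4021248 i)
noncomputable def eT3920 (i : Nat) : Nat := Bool.rec (eT3917 i) (eT3919 i) (Nat.ble 4020224 i)
noncomputable def eT3921 (i : Nat) : Nat := Bool.rec (eL3929 i) (eL3930 i) (Nat.ble 4024320 i)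
noncomputable def eT3922 (i : Nat) : Nat := Bool.rec (eL3932 i) (eL3933 i) (Nat.ble 4027392 i)
noncomputable def eT3923 (i : Nat) : Nat := Bool.rec (eL3931 i) (eT3922 i) (Nat.ble 4026368 i)
noncomputable def eT3924 (i : Nat) : Nat := Bool.rec (eT3921 i) (eT3923 i) (Nat.ble 4025344 i)
noncomputable def eT3925 (i : Nat) : Nat := Bool.rec (eT3920 i) (eT3924 i) (Nat.ble 4023296 i)
noncomputable def eT3926 (i : Nat) : Nat := Bool.rec (eL3934 i) (eL3935 i) (Nat.ble 4029440 i)
noncomputable def eT3927 (i : Nat) : Nat := Bool.rec (eL3937 i) (eL3938 i) (Nat.ble 4032512 i)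
noncomputable def eT3928 (i : Nat) : Nat := Bool.rec (eL3936 i) (eT3927 i) (Nat.ble 4031488 i)
noncomputable def eT3929 (i : Nat) : Nat := Bool.rec (eT3926 i) (eT3928 i) (Nat.ble 4030464 i)
noncomputable def eT3930 (i : Nat) : Nat := Bool.rec (eL3940 i) (eL3941 i) (Nat.ble 4035584 i)
noncomputable def eT3931 (i : Nat) : Nat := Bool.rec (eL3939 i) (eT3930 i) (Nat.ble 4034560 i)
noncomputable def eT3932 (i : Nat) : Nat := Bool.rec (eL3943 i) (eL3944 i) (Nat.ble 4038656 i)
noncomputable def eT3933 (i : Nat) : Nat := Bool.rec (eL3942 i) (eT3932 i) (Nat.ble 4037632 i)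
noncomputable def eT3934 (i : Nat) : Nat := Bool.rec (eT3931 i) (eT3933 i) (Nat.ble 4036608 i)
noncomputable def eT3935 (i : Nat) : Nat := Bool.rec (eT3929 i) (eT3934 i) (Nat.ble 4033536 i)
noncomputable def eT3936 (i : Nat) : Nat := Bool.rec (eT3925 i) (eT3935 i) (Nat.ble 4028416 i)
noncomputable def eT3937 (i : Nat) : Nat := Bool.rec (eT3916 i) (eT3936 i) (Nat.ble 4018176 i)
noncomputable def eT3938 (i : Nat) : Nat := Bool.rec (eT3896 i) (eT3937 i) (Nat.ble 3996672 i)
noncomputable def eT3939 (i : Nat) : Nat := Bool.rec (eT3856 i) (eT3938 i) (Nat.ble 3954688 i)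
noncomputable def eT3940 (i : Nat) : Nat := Bool.rec (eT3775 i) (eT3939 i) (Nat.ble 3870720 i)
noncomputable def eT3941 (i : Nat) : Nat := Bool.rec (eT3612 i) (eT3940 i) (Nat.ble 3702784 i)
noncomputable def eT3942 (i : Nat) : Nat := Bool.rec (eT3284 i) (eT3941 i) (Nat.ble 3365888 i)
noncomputable def eT3943 (i : Nat) : Nat := Bool.rec (eL3945 i) (eL3946 i) (Nat.ble 4040704 i)
noncomputable def eT3944 (i : Nat) : Nat := Bool.rec (eL3948 i) (eL3949 i) (Nat.ble 4043776 i)
noncomputable def eT3945 (i : Nat) : Nat := Bool.rec (eL3947 i) (eT3944 i) (Nat.ble 4042752 i)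
noncomputable def eT3946 (i : Nat) : Nat := Bool.rec (eT3943 i) (eT3945 i) (Nat.ble 4041728 i)
noncomputable def eT3947 (i : Nat) : Nat := Bool.rec (eL3950 i) (eL3951 i) (Nat.ble 4045824 i)
noncomputable def eT3948 (i : Nat) : Nat := Bool.rec (eL3953 i) (eL3954 i) (Nat.ble 4048896 i)
noncomputable def eT3949 (i : Nat) : Nat := Bool.rec (eL3952 i) (eT3948 i) (Nat.ble 4047872 i)
noncomputable def eT3950 (i : Nat) : Nat := Bool.rec (eT3947 i) (eT3949 i) (Nat.ble 4046848 i)
noncomputable def eT3951 (i : Nat) : Nat := Bool.rec (eT3946 i) (eT3950 i) (Nat.ble 4044800 i)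
noncomputable def eT3952 (i : Nat) : Nat := Bool.rec (eL3955 i) (eL3956 i) (Nat.ble 4050944 i)
noncomputable def eT3953 (i : Nat) : Nat := Bool.rec (eL3958 i) (eL3959 i) (Nat.ble 4054016 i)
noncomputable def eT3954 (i : Nat) : Nat := Bool.rec (eL3957 i) (eT3953 i) (Nat.ble 4052992 i)
noncomputable def eT3955 (i : Nat) : Nat := Bool.rec (eT3952 i) (eT3954 i) (Nat.ble 4051968 i)
noncomputable def eT3956 (i : Nat) : Nat := Bool.rec (eL3960 i) (eL3961 i) (Nat.ble 4056064 i)
noncomputable def eT3957 (i : Nat) : Nat := Bool.rec (eL3963 i) (eL3964 i) (Nat.ble 4059136 i)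
noncomputable def eT3958 (i : Nat) : Nat := Bool.rec (eL3962 i) (eT3957 i) (Nat.ble 4058112 i)
noncomputable def eT3959 (i : Nat) : Nat := Bool.rec (eT3956 i) (eT3958 i) (Nat.ble 4057088 i)
noncomputable def eT3960 (i : Nat) : Nat := Bool.rec (eT3955 i) (eT3959 i) (Nat.ble 4055040 i)
noncomputable def eT3961 (i : Nat) : Nat := Bool.rec (eT3951 i) (eT3960 i) (Nat.ble 4049920 i)
noncomputable def eT3962 (i : Nat) : Nat := Bool.rec (eL3965 i) (eL3966 i) (Nat.ble 4061184 i)
noncomputable def eT3963 (i : Nat) : Nat := Bool.rec (eL3968 i) (eL3969 i) (Nat.ble 4064256 i)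
noncomputable def eT3964 (i : Nat) : Nat := Bool.rec (eL3967 i) (eT3963 i) (Nat.ble 4063232 i)
noncomputable def eT3965 (i : Nat) : Nat := Bool.rec (eT3962 i) (eT3964 i) (Nat.ble 4062208 i)
noncomputable def eT3966 (i : Nat) : Nat := Bool.rec (eL3970 i) (eL3971 i) (Nat.ble 4066304 i)
noncomputable def eT3967 (i : Nat) : Nat := Bool.rec (eL3973 i) (eL3974 i) (Nat.ble 4069376 i)
noncomputable def eT3968 (i : Nat) : Nat := Bool.rec (eL3972 i) (eT3967 i) (Nat.ble 4068352 i)
noncomputable def eT3969 (i : Nat) : Nat := Bool.rec (eT3966 i) (eT3968 i) (Nat.ble 4067328 i)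
noncomputable def eT3970 (i : Nat) : Nat := Bool.rec (eT3965 i) (eT3969 i) (Nat.ble 4065280 i)
noncomputable def eT3971 (i : Nat) : Nat := Bool.rec (eL3975 i) (eL3976 i) (Nat.ble 4071424 i)
noncomputable def eT3972 (i : Nat) : Nat := Bool.rec (eL3978 i) (eL3979 i) (Nat.ble 4074496 i)
noncomputable def eT3973 (i : Nat) : Nat := Bool.rec (eL3977 i) (eT3972 i) (Nat.ble 4073472 i)
noncomputable def eT3974 (i : Nat) : Nat := Bool.rec (eT3971 i) (eT3973 i) (Nat.ble 4072448 i)
noncomputable def eT3975 (i : Nat) : Nat := Bool.rec (eL3981 i) (eL3982 i) (Nat.ble 4077568 i)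
noncomputable def eT3976 (i : Nat) : Nat := Bool.rec (eL3980 i) (eT3975 i) (Nat.ble 4076544 i)
noncomputable def eT3977 (i : Nat) : Nat := Bool.rec (eL3984 i) (eL3985 i) (Nat.ble 4080640 i)
noncomputable def eT3978 (i : Nat) : Nat := Bool.rec (eL3983 i) (eT3977 i) (Nat.ble 4079616 i)
noncomputable def eT3979 (i : Nat) : Nat := Bool.rec (eT3976 i) (eT3978 i) (Nat.ble 4078592 i)
noncomputable def eT3980 (i : Nat) : Nat := Bool.rec (eT3974 i) (eT3979 i) (Nat.ble 4075520 i)
noncomputable def eT3981 (i : Nat) : Nat := Bool.rec (eT3970 i) (eT3980 i) (Nat.ble 4070400 i)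
noncomputable def eT3982 (i : Nat) : Nat := Bool.rec (eT3961 i) (eT3981 i) (Nat.ble 4060160 i)
noncomputable def eT3983 (i : Nat) : Nat := Bool.rec (eL3986 i) (eL3987 i) (Nat.ble 4082688 i)
noncomputable def eT3984 (i : Nat) : Nat := Bool.rec (eL3989 i) (eL3990 i) (Nat.ble 4085760 i)
noncomputable def eT3985 (i : Nat) : Nat := Bool.rec (eL3988 i) (eT3984 i) (Nat.ble 4084736 i)
noncomputable def eT3986 (i : Nat) : Nat := Bool.rec (eT3983 i) (eT3985 i) (Nat.ble 4083712 i)
noncomputable def eT3987 (i : Nat) : Nat := Bool.rec (eL3991 i) (eL3992 i) (Nat.ble 4087808 i)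
noncomputable def eT3988 (i : Nat) : Nat := Bool.rec (eL3994 i) (eL3995 i) (Nat.ble 4090880 i)
noncomputable def eT3989 (i : Nat) : Nat := Bool.rec (eL3993 i) (eT3988 i) (Nat.ble 4089856 i)
noncomputable def eT3990 (i : Nat) : Nat := Bool.rec (eT3987 i) (eT3989 i) (Nat.ble 4088832 i)
noncomputable def eT3991 (i : Nat) : Nat := Bool.rec (eT3986 i) (eT3990 i) (Nat.ble 4086784 i)
noncomputable def eT3992 (i : Nat) : Nat := Bool.rec (eL3996 i) (eL3997 i) (Nat.ble 4092928 i)
noncomputable def eT3993 (i : Nat) : Nat := Bool.rec (eL3999 i) (eL4000 i) (Nat.ble 4096000 i)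
noncomputable def eT3994 (i : Nat) : Nat := Bool.rec (eL3998 i) (eT3993 i) (Nat.ble 4094976 i)
noncomputable def eT3995 (i : Nat) : Nat := Bool.rec (eT3992 i) (eT3994 i) (Nat.ble 4093952 i)
noncomputable def eT3996 (i : Nat) : Nat := Bool.rec (eL4001 i) (eL4002 i) (Nat.ble 4098048 i)
noncomputable def eT3997 (i : Nat) : Nat := Bool.rec (eL4004 i) (eL4005 i) (Nat.ble 4101120 i)
noncomputable def eT3998 (i : Nat) : Nat := Bool.rec (eL4003 i) (eT3997 i) (Nat.ble 4100096 i)
noncomputable def eT3999 (i : Nat) : Nat := Bool.rec (eT3996 i) (eT3998 i) (Nat.ble 4099072 i)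
noncomputable def eT4000 (i : Nat) : Nat := Bool.rec (eT3995 i) (eT3999 i) (Nat.ble 4097024 i)
noncomputable def eT4001 (i : Nat) : Nat := Bool.rec (eT3991 i) (eT4000 i) (Nat.ble 4091904 i)
noncomputable def eT4002 (i : Nat) : Nat := Bool.rec (eL4006 i) (eL4007 i) (Nat.ble 4103168 i)
noncomputable def eT4003 (i : Nat) : Nat := Bool.rec (eL4009 i) (eL4010 i) (Nat.ble 4106240 i)
noncomputable def eT4004 (i : Nat) : Nat := Bool.rec (eL4008 i) (eT4003 i) (Nat.ble 4105216 i)
noncomputable def eT4005 (i : Nat) : Nat := Bool.rec (eT4002 i) (eT4004 i) (Nat.ble 4104192 i)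
noncomputable def eT4006 (i : Nat) : Nat := Bool.rec (eL4011 i) (eL4012 i) (Nat.ble 4108288 i)
noncomputable def eT4007 (i : Nat) : Nat := Bool.rec (eL4014 i) (eL4015 i) (Nat.ble 4111360 i)
noncomputable def eT4008 (i : Nat) : Nat := Bool.rec (eL4013 i) (eT4007 i) (Nat.ble 4110336 i)
noncomputable def eT4009 (i : Nat) : Nat := Bool.rec (eT4006 i) (eT4008 i) (Nat.ble 4109312 i)
noncomputable def eT4010 (i : Nat) : Nat := Bool.rec (eT4005 i) (eT4009 i) (Nat.ble 4107264 i)
noncomputable def eT4011 (i : Nat) : Nat := Bool.rec (eL4016 i) (eL4017 i) (Nat.ble 4113408 i)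
noncomputable def eT4012 (i : Nat) : Nat := Bool.rec (eL4019 i) (eL4020 i) (Nat.ble 4116480 i)
noncomputable def eT4013 (i : Nat) : Nat := Bool.rec (eL4018 i) (eT4012 i) (Nat.ble 4115456 i)
noncomputable def eT4014 (i : Nat) : Nat := Bool.rec (eT4011 i) (eT4013 i) (Nat.ble 4114432 i)
noncomputable def eT4015 (i : Nat) : Nat := Bool.rec (eL4022 i) (eL4023 i) (Nat.ble 4119552 i)
noncomputable def eT4016 (i : Nat) : Nat := Bool.rec (eL4021 i) (eT4015 i) (Nat.ble 4118528 i)
noncomputable def eT4017 (i : Nat) : Nat := Bool.rec (eL4025 i) (eL4026 i) (Nat.ble 4122624 i)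
noncomputable def eT4018 (i : Nat) : Nat := Bool.rec (eL4024 i) (eT4017 i) (Nat.ble 4121600 i)
noncomputable def eT4019 (i : Nat) : Nat := Bool.rec (eT4016 i) (eT4018 i) (Nat.ble 4120576 i)
noncomputable def eT4020 (i : Nat) : Nat := Bool.rec (eT4014 i) (eT4019 i) (Nat.ble 4117504 i)
noncomputable def eT4021 (i : Nat) : Nat := Bool.rec (eT4010 i) (eT4020 i) (Nat.ble 4112384 i)
noncomputable def eT4022 (i : Nat) : Nat := Bool.rec (eT4001 i) (eT4021 i) (Nat.ble 4102144 i)
noncomputable def eT4023 (i : Nat) : Nat := Bool.rec (eT3982 i) (eT4022 i) (Nat.ble 4081664 i)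
noncomputable def eT4024 (i : Nat) : Nat := Bool.rec (eL4027 i) (eL4028 i) (Nat.ble 4124672 i)
noncomputable def eT4025 (i : Nat) : Nat := Bool.rec (eL4030 i) (eL4031 i) (Nat.ble 4127744 i)
noncomputable def eT4026 (i : Nat) : Nat := Bool.rec (eL4029 i) (eT4025 i) (Nat.ble 4126720 i)
noncomputable def eT4027 (i : Nat) : Nat := Bool.rec (eT4024 i) (eT4026 i) (Nat.ble 4125696 i)
noncomputable def eT4028 (i : Nat) : Nat := Bool.rec (eL4032 i) (eL4033 i) (Nat.ble 4129792 i)
noncomputable def eT4029 (i : Nat) : Nat := Bool.rec (eL4035 i) (eL4036 i) (Nat.ble 4132864 i)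
noncomputable def eT4030 (i : Nat) : Nat := Bool.rec (eL4034 i) (eT4029 i) (Nat.ble 4131840 i)
noncomputable def eT4031 (i : Nat) : Nat := Bool.rec (eT4028 i) (eT4030 i) (Nat.ble 4130816 i)
noncomputable def eT4032 (i : Nat) : Nat := Bool.rec (eT4027 i) (eT4031 i) (Nat.ble 4128768 i)
noncomputable def eT4033 (i : Nat) : Nat := Bool.rec (eL4037 i) (eL4038 i) (Nat.ble 4134912 i)
noncomputable def eT4034 (i : Nat) : Nat := Bool.rec (eL4040 i) (eL4041 i) (Nat.ble 4137984 i)
noncomputable def eT4035 (i : Nat) : Nat := Bool.rec (eL4039 i) (eT4034 i) (Nat.ble 4136960 i)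
noncomputable def eT4036 (i : Nat) : Nat := Bool.rec (eT4033 i) (eT4035 i) (Nat.ble 4135936 i)
noncomputable def eT4037 (i : Nat) : Nat := Bool.rec (eL4042 i) (eL4043 i) (Nat.ble 4140032 i)
noncomputable def eT4038 (i : Nat) : Nat := Bool.rec (eL4045 i) (eL4046 i) (Nat.ble 4143104 i)
noncomputable def eT4039 (i : Nat) : Nat := Bool.rec (eL4044 i) (eT4038 i) (Nat.ble 4142080 i)
noncomputable def eT4040 (i : Nat) : Nat := Bool.rec (eT4037 i) (eT4039 i) (Nat.ble 4141056 i)
noncomputable def eT4041 (i : Nat) : Nat := Bool.rec (eT4036 i) (eT4040 i) (Nat.ble 4139008 i)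
noncomputable def eT4042 (i : Nat) : Nat := Bool.rec (eT4032 i) (eT4041 i) (Nat.ble 4133888 i)
noncomputable def eT4043 (i : Nat) : Nat := Bool.rec (eL4047 i) (eL4048 i) (Nat.ble 4145152 i)
noncomputable def eT4044 (i : Nat) : Nat := Bool.rec (eL4050 i) (eL4051 i) (Nat.ble 4148224 i)
noncomputable def eT4045 (i : Nat) : Nat := Bool.rec (eL4049 i) (eT4044 i) (Nat.ble 4147200 i)
noncomputable def eT4046 (i : Nat) : Nat := Bool.rec (eT4043 i) (eT4045 i) (Nat.ble 4146176 i)
noncomputable def eT4047 (i : Nat) : Nat := Bool.rec (eL4052 i) (eL4053 i) (Nat.ble 4150272 i)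
noncomputable def eT4048 (i : Nat) : Nat := Bool.rec (eL4055 i) (eL4056 i) (Nat.ble 4153344 i)
noncomputable def eT4049 (i : Nat) : Nat := Bool.rec (eL4054 i) (eT4048 i) (Nat.ble 4152320 i)
noncomputable def eT4050 (i : Nat) : Nat := Bool.rec (eT4047 i) (eT4049 i) (Nat.ble 4151296 i)
noncomputable def eT4051 (i : Nat) : Nat := Bool.rec (eT4046 i) (eT4050 i) (Nat.ble 4149248 i)
noncomputable def eT4052 (i : Nat) : Nat := Bool.rec (eL4057 i) (eL4058 i) (Nat.ble 4155392 i)
noncomputable def eT4053 (i : Nat) : Nat := Bool.rec (eL4060 i) (eL4061 i) (Nat.ble 4158464 i)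
noncomputable def eT4054 (i : Nat) : Nat := Bool.rec (eL4059 i) (eT4053 i) (Nat.ble 4157440 i)
noncomputable def eT4055 (i : Nat) : Nat := Bool.rec (eT4052 i) (eT4054 i) (Nat.ble 4156416 i)
noncomputable def eT4056 (i : Nat) : Nat := Bool.rec (eL4063 i) (eL4064 i) (Nat.ble 4161536 i)
noncomputable def eT4057 (i : Nat) : Nat := Bool.rec (eL4062 i) (eT4056 i) (Nat.ble 4160512 i)
noncomputable def eT4058 (i : Nat) : Nat := Bool.rec (eL4066 i) (eL4067 i) (Nat.ble 4164608 i)
noncomputable def eT4059 (i : Nat) : Nat := Bool.rec (eL4065 i) (eT4058 i) (Nat.ble 4163584 i)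
noncomputable def eT4060 (i : Nat) : Nat := Bool.rec (eT4057 i) (eT4059 i) (Nat.ble 4162560 i)
noncomputable def eT4061 (i : Nat) : Nat := Bool.rec (eT4055 i) (eT4060 i) (Nat.ble 4159488 i)
noncomputable def eT4062 (i : Nat) : Nat := Bool.rec (eT4051 i) (eT4061 i) (Nat.ble 4154368 i)
noncomputable def eT4063 (i : Nat) : Nat := Bool.rec (eT4042 i) (eT4062 i) (Nat.ble 4144128 i)
noncomputable def eT4064 (i : Nat) : Nat := Bool.rec (eL4068 i) (eL4069 i) (Nat.ble 4166656 i)
noncomputable def eT4065 (i : Nat) : Nat := Bool.rec (eL4071 i) (eL4072 i) (Nat.ble 4169728 i)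
noncomputable def eT4066 (i : Nat) : Nat := Bool.rec (eL4070 i) (eT4065 i) (Nat.ble 4168704 i)
noncomputable def eT4067 (i : Nat) : Nat := Bool.rec (eT4064 i) (eT4066 i) (Nat.ble 4167680 i)
noncomputable def eT4068 (i : Nat) : Nat := Bool.rec (eL4073 i) (eL4074 i) (Nat.ble 4171776 i)
noncomputable def eT4069 (i : Nat) : Nat := Bool.rec (eL4076 i) (eL4077 i) (Nat.ble 4174848 i)
noncomputable def eT4070 (i : Nat) : Nat := Bool.rec (eL4075 i) (eT4069 i) (Nat.ble 4173824 i)
noncomputable def eT4071 (i : Nat) : Nat := Bool.rec (eT4068 i) (eT4070 i) (Nat.ble 4172800 i)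
noncomputable def eT4072 (i : Nat) : Nat := Bool.rec (eT4067 i) (eT4071 i) (Nat.ble 4170752 i)
noncomputable def eT4073 (i : Nat) : Nat := Bool.rec (eL4078 i) (eL4079 i) (Nat.ble 4176896 i)
noncomputable def eT4074 (i : Nat) : Nat := Bool.rec (eL4081 i) (eL4082 i) (Nat.ble 4179968 i)
noncomputable def eT4075 (i : Nat) : Nat := Bool.rec (eL4080 i) (eT4074 i) (Nat.ble 4178944 i)
noncomputable def eT4076 (i : Nat) : Nat := Bool.rec (eT4073 i) (eT4075 i) (Nat.ble 4177920 i)
noncomputable def eT4077 (i : Nat) : Nat := Bool.rec (eL4083 i) (eL4084 i) (Nat.ble 4182016 i)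
noncomputable def eT4078 (i : Nat) : Nat := Bool.rec (eL4086 i) (eL4087 i) (Nat.ble 4185088 i)
noncomputable def eT4079 (i : Nat) : Nat := Bool.rec (eL4085 i) (eT4078 i) (Nat.ble 4184064 i)
noncomputable def eT4080 (i : Nat) : Nat := Bool.rec (eT4077 i) (eT4079 i) (Nat.ble 4183040 i)
noncomputable def eT4081 (i : Nat) : Nat := Bool.rec (eT4076 i) (eT4080 i) (Nat.ble 4180992 i)
noncomputable def eT4082 (i : Nat) : Nat := Bool.rec (eT4072 i) (eT4081 i) (Nat.ble 4175872 i)
noncomputable def eT4083 (i : Nat) : Nat := Bool.rec (eL4088 i) (eL4089 i) (Nat.ble 4187136 i)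
noncomputable def eT4084 (i : Nat) : Nat := Bool.rec (eL4091 i) (eL4092 i) (Nat.ble 4190208 i)
noncomputable def eT4085 (i : Nat) : Nat := Bool.rec (eL4090 i) (eT4084 i) (Nat.ble 4189184 i)
noncomputable def eT4086 (i : Nat) : Nat := Bool.rec (eT4083 i) (eT4085 i) (Nat.ble 4188160 i)
noncomputable def eT4087 (i : Nat) : Nat := Bool.rec (eL4093 i) (eL4094 i) (Nat.ble 4192256 i)
noncomputable def eT4088 (i : Nat) : Nat := Bool.rec (eL4096 i) (eL4097 i) (Nat.ble 4195328 i)
noncomputable def eT4089 (i : Nat) : Nat := Bool.rec (eL4095 i) (eT4088 i) (Nat.ble 4194304 i)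
noncomputable def eT4090 (i : Nat) : Nat := Bool.rec (eT4087 i) (eT4089 i) (Nat.ble 4193280 i)
noncomputable def eT4091 (i : Nat) : Nat := Bool.rec (eT4086 i) (eT4090 i) (Nat.ble 4191232 i)
noncomputable def eT4092 (i : Nat) : Nat := Bool.rec (eL4098 i) (eL4099 i) (Nat.ble 4197376 i)
noncomputable def eT4093 (i : Nat) : Nat := Bool.rec (eL4101 i) (eL4102 i) (Nat.ble 4200448 i)
noncomputable def eT4094 (i : Nat) : Nat := Bool.rec (eL4100 i) (eT4093 i) (Nat.ble 4199424 i)
noncomputable def eT4095 (i : Nat) : Nat := Bool.rec (eT4092 i) (eT4094 i) (Nat.ble 4198400 i)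
noncomputable def eT4096 (i : Nat) : Nat := Bool.rec (eL4104 i) (eL4105 i) (Nat.ble 4203520 i)
noncomputable def eT4097 (i : Nat) : Nat := Bool.rec (eL4103 i) (eT4096 i) (Nat.ble 4202496 i)
noncomputable def eT4098 (i : Nat) : Nat := Bool.rec (eL4107 i) (eL4108 i) (Nat.ble 4206592 i)
noncomputable def eT4099 (i : Nat) : Nat := Bool.rec (eL4106 i) (eT4098 i) (Nat.ble 4205568 i)
noncomputable def eT4100 (i : Nat) : Nat := Bool.rec (eT4097 i) (eT4099 i) (Nat.ble 4204544 i)
noncomputable def eT4101 (i : Nat) : Nat := Bool.rec (eT4095 i) (eT4100 i) (Nat.ble 4201472 i)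
noncomputable def eT4102 (i : Nat) : Nat := Bool.rec (eT4091 i) (eT4101 i) (Nat.ble 4196352 i)
noncomputable def eT4103 (i : Nat) : Nat := Bool.rec (eT4082 i) (eT4102 i) (Nat.ble 4186112 i)
noncomputable def eT4104 (i : Nat) : Nat := Bool.rec (eT4063 i) (eT4103 i) (Nat.ble 4165632 i)
noncomputable def eT4105 (i : Nat) : Nat := Bool.rec (eT4023 i) (eT4104 i) (Nat.ble 4123648 i)
noncomputable def eT4106 (i : Nat) : Nat := Bool.rec (eL4109 i) (eL4110 i) (Nat.ble 4208640 i)
noncomputable def eT4107 (i : Nat) : Nat := Bool.rec (eL4112 i) (eL4113 i) (Nat.ble 4211712 i)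
noncomputable def eT4108 (i : Nat) : Nat := Bool.rec (eL4111 i) (eT4107 i) (Nat.ble 4210688 i)
noncomputable def eT4109 (i : Nat) : Nat := Bool.rec (eT4106 i) (eT4108 i) (Nat.ble 4209664 i)
noncomputable def eT4110 (i : Nat) : Nat := Bool.rec (eL4114 i) (eL4115 i) (Nat.ble 4213760 i)
noncomputable def eT4111 (i : Nat) : Nat := Bool.rec (eL4117 i) (eL4118 i) (Nat.ble 4216832 i)
noncomputable def eT4112 (i : Nat) : Nat := Bool.rec (eL4116 i) (eT4111 i) (Nat.ble 4215808 i)
noncomputable def eT4113 (i : Nat) : Nat := Bool.rec (eT4110 i) (eT4112 i) (Nat.ble 4214784 i)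
noncomputable def eT4114 (i : Nat) : Nat := Bool.rec (eT4109 i) (eT4113 i) (Nat.ble 4212736 i)
noncomputable def eT4115 (i : Nat) : Nat := Bool.rec (eL4119 i) (eL4120 i) (Nat.ble 4218880 i)
noncomputable def eT4116 (i : Nat) : Nat := Bool.rec (eL4122 i) (eL4123 i) (Nat.ble 4221952 i)
noncomputable def eT4117 (i : Nat) : Nat := Bool.rec (eL4121 i) (eT4116 i) (Nat.ble 4220928 i)
noncomputable def eT4118 (i : Nat) : Nat := Bool.rec (eT4115 i) (eT4117 i) (Nat.ble 4219904 i)
noncomputable def eT4119 (i : Nat) : Nat := Bool.rec (eL4124 i) (eL4125 i) (Nat.ble 4224000 i)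
noncomputable def eT4120 (i : Nat) : Nat := Bool.rec (eL4127 i) (eL4128 i) (Nat.ble 4227072 i)
noncomputable def eT4121 (i : Nat) : Nat := Bool.rec (eL4126 i) (eT4120 i) (Nat.ble 4226048 i)
noncomputable def eT4122 (i : Nat) : Nat := Bool.rec (eT4119 i) (eT4121 i) (Nat.ble 4225024 i)
noncomputable def eT4123 (i : Nat) : Nat := Bool.rec (eT4118 i) (eT4122 i) (Nat.ble 4222976 i)
noncomputable def eT4124 (i : Nat) : Nat := Bool.rec (eT4114 i) (eT4123 i) (Nat.ble 4217856 i)
noncomputable def eT4125 (i : Nat) : Nat := Bool.rec (eL4129 i) (eL4130 i) (Nat.ble 4229120 i)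
noncomputable def eT4126 (i : Nat) : Nat := Bool.rec (eL4132 i) (eL4133 i) (Nat.ble 4232192 i)
noncomputable def eT4127 (i : Nat) : Nat := Bool.rec (eL4131 i) (eT4126 i) (Nat.ble 4231168 i)
noncomputable def eT4128 (i : Nat) : Nat := Bool.rec (eT4125 i) (eT4127 i) (Nat.ble 4230144 i)
noncomputable def eT4129 (i : Nat) : Nat := Bool.rec (eL4134 i) (eL4135 i) (Nat.ble 4234240 i)
noncomputable def eT4130 (i : Nat) : Nat := Bool.rec (eL4137 i) (eL4138 i) (Nat.ble 4237312 i)
noncomputable def eT4131 (i : Nat) : Nat := Bool.rec (eL4136 i) (eT4130 i) (Nat.ble 4236288 i)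
noncomputable def eT4132 (i : Nat) : Nat := Bool.rec (eT4129 i) (eT4131 i) (Nat.ble 4235264 i)
noncomputable def eT4133 (i : Nat) : Nat := Bool.rec (eT4128 i) (eT4132 i) (Nat.ble 4233216 i)
noncomputable def eT4134 (i : Nat) : Nat := Bool.rec (eL4139 i) (eL4140 i) (Nat.ble 4239360 i)
noncomputable def eT4135 (i : Nat) : Nat := Bool.rec (eL4142 i) (eL4143 i) (Nat.ble 4242432 i)
noncomputable def eT4136 (i : Nat) : Nat := Bool.rec (eL4141 i) (eT4135 i) (Nat.ble 4241408 i)
noncomputable def eT4137 (i : Nat) : Nat := Bool.rec (eT4134 i) (eT4136 i) (Nat.ble 4240384 i)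
noncomputable def eT4138 (i : Nat) : Nat := Bool.rec (eL4145 i) (eL4146 i) (Nat.ble 4245504 i)
noncomputable def eT4139 (i : Nat) : Nat := Bool.rec (eL4144 i) (eT4138 i) (Nat.ble 4244480 i)
noncomputable def eT4140 (i : Nat) : Nat := Bool.rec (eL4148 i) (eL4149 i) (Nat.ble 4248576 i)
noncomputable def eT4141 (i : Nat) : Nat := Bool.rec (eL4147 i) (eT4140 i) (Nat.ble 4247552 i)
noncomputable def eT4142 (i : Nat) : Nat := Bool.rec (eT4139 i) (eT4141 i) (Nat.ble 4246528 i)
noncomputable def eT4143 (i : Nat) : Nat := Bool.rec (eT4137 i) (eT4142 i) (Nat.ble 4243456 i)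
noncomputable def eT4144 (i : Nat) : Nat := Bool.rec (eT4133 i) (eT4143 i) (Nat.ble 4238336 i)
noncomputable def eT4145 (i : Nat) : Nat := Bool.rec (eT4124 i) (eT4144 i) (Nat.ble 4228096 i)
noncomputable def eT4146 (i : Nat) : Nat := Bool.rec (eL4150 i) (eL4151 i) (Nat.ble 4250624 i)
noncomputable def eT4147 (i : Nat) : Nat := Bool.rec (eL4153 i) (eL4154 i) (Nat.ble 4253696 i)
noncomputable def eT4148 (i : Nat) : Nat := Bool.rec (eL4152 i) (eT4147 i) (Nat.ble 4252672 i)
noncomputable def eT4149 (i : Nat) : Nat := Bool.rec (eT4146 i) (eT4148 i) (Nat.ble 4251648 i)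
noncomputable def eT4150 (i : Nat) : Nat := Bool.rec (eL4155 i) (eL4156 i) (Nat.ble 4255744 i)
noncomputable def eT4151 (i : Nat) : Nat := Bool.rec (eL4158 i) (eL4159 i) (Nat.ble 4258816 i)
noncomputable def eT4152 (i : Nat) : Nat := Bool.rec (eL4157 i) (eT4151 i) (Nat.ble 4257792 i)
noncomputable def eT4153 (i : Nat) : Nat := Bool.rec (eT4150 i) (eT4152 i) (Nat.ble 4256768 i)
noncomputable def eT4154 (i : Nat) : Nat := Bool.rec (eT4149 i) (eT4153 i) (Nat.ble 4254720 i)
noncomputable def eT4155 (i : Nat) : Nat := Bool.rec (eL4160 i) (eL4161 i) (Nat.ble 4260864 i)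
noncomputable def eT4156 (i : Nat) : Nat := Bool.rec (eL4163 i) (eL4164 i) (Nat.ble 4263936 i)
noncomputable def eT4157 (i : Nat) : Nat := Bool.rec (eL4162 i) (eT4156 i) (Nat.ble 4262912 i)
noncomputable def eT4158 (i : Nat) : Nat := Bool.rec (eT4155 i) (eT4157 i) (Nat.ble 4261888 i)
noncomputable def eT4159 (i : Nat) : Nat := Bool.rec (eL4165 i) (eL4166 i) (Nat.ble 4265984 i)
noncomputable def eT4160 (i : Nat) : Nat := Bool.rec (eL4168 i) (eL4169 i) (Nat.ble 4269056 i)
noncomputable def eT4161 (i : Nat) : Nat := Bool.rec (eL4167 i) (eT4160 i) (Nat.ble 4268032 i)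
noncomputable def eT4162 (i : Nat) : Nat := Bool.rec (eT4159 i) (eT4161 i) (Nat.ble 4267008 i)
noncomputable def eT4163 (i : Nat) : Nat := Bool.rec (eT4158 i) (eT4162 i) (Nat.ble 4264960 i)
noncomputable def eT4164 (i : Nat) : Nat := Bool.rec (eT4154 i) (eT4163 i) (Nat.ble 4259840 i)
noncomputable def eT4165 (i : Nat) : Nat := Bool.rec (eL4170 i) (eL4171 i) (Nat.ble 4271104 i)
noncomputable def eT4166 (i : Nat) : Nat := Bool.rec (eL4173 i) (eL4174 i) (Nat.ble 4274176 i)
noncomputable def eT4167 (i : Nat) : Nat := Bool.rec (eL4172 i) (eT4166 i) (Nat.ble 4273152 i)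
noncomputable def eT4168 (i : Nat) : Nat := Bool.rec (eT4165 i) (eT4167 i) (Nat.ble 4272128 i)
noncomputable def eT4169 (i : Nat) : Nat := Bool.rec (eL4175 i) (eL4176 i) (Nat.ble 4276224 i)
noncomputable def eT4170 (i : Nat) : Nat := Bool.rec (eL4178 i) (eL4179 i) (Nat.ble 4279296 i)
noncomputable def eT4171 (i : Nat) : Nat := Bool.rec (eL4177 i) (eT4170 i) (Nat.ble 4278272 i)
noncomputable def eT4172 (i : Nat) : Nat := Bool.rec (eT4169 i) (eT4171 i) (Nat.ble 4277248 i)
noncomputable def eT4173 (i : Nat) : Nat := Bool.rec (eT4168 i) (eT4172 i) (Nat.ble 4275200 i)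
noncomputable def eT4174 (i : Nat) : Nat := Bool.rec (eL4180 i) (eL4181 i) (Nat.ble 4281344 i)
noncomputable def eT4175 (i : Nat) : Nat := Bool.rec (eL4183 i) (eL4184 i) (Nat.ble 4284416 i)
noncomputable def eT4176 (i : Nat) : Nat := Bool.rec (eL4182 i) (eT4175 i) (Nat.ble 4283392 i)
noncomputable def eT4177 (i : Nat) : Nat := Bool.rec (eT4174 i) (eT4176 i) (Nat.ble 4282368 i)
noncomputable def eT4178 (i : Nat) : Nat := Bool.rec (eL4186 i) (eL4187 i) (Nat.ble 4287488 i)
noncomputable def eT4179 (i : Nat) : Nat := Bool.rec (eL4185 i) (eT4178 i) (Nat.ble 4286464 i)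
noncomputable def eT4180 (i : Nat) : Nat := Bool.rec (eL4189 i) (eL4190 i) (Nat.ble 4290560 i)
noncomputable def eT4181 (i : Nat) : Nat := Bool.rec (eL4188 i) (eT4180 i) (Nat.ble 4289536 i)
noncomputable def eT4182 (i : Nat) : Nat := Bool.rec (eT4179 i) (eT4181 i) (Nat.ble 4288512 i)
noncomputable def eT4183 (i : Nat) : Nat := Bool.rec (eT4177 i) (eT4182 i) (Nat.ble 4285440 i)
noncomputable def eT4184 (i : Nat) : Nat := Bool.rec (eT4173 i) (eT4183 i) (Nat.ble 4280320 i)
noncomputable def eT4185 (i : Nat) : Nat := Bool.rec (eT4164 i) (eT4184 i) (Nat.ble 4270080 i)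
noncomputable def eT4186 (i : Nat) : Nat := Bool.rec (eT4145 i) (eT4185 i) (Nat.ble 4249600 i)
noncomputable def eT4187 (i : Nat) : Nat := Bool.rec (eL4191 i) (eL4192 i) (Nat.ble 4292608 i)
noncomputable def eT4188 (i : Nat) : Nat := Bool.rec (eL4194 i) (eL4195 i) (Nat.ble 4295680 i)
noncomputable def eT4189 (i : Nat) : Nat := Bool.rec (eL4193 i) (eT4188 i) (Nat.ble 4294656 i)
noncomputable def eT4190 (i : Nat) : Nat := Bool.rec (eT4187 i) (eT4189 i) (Nat.ble 4293632 i)
noncomputable def eT4191 (i : Nat) : Nat := Bool.rec (eL4196 i) (eL4197 i) (Nat.ble 4297728 i)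
noncomputable def eT4192 (i : Nat) : Nat := Bool.rec (eL4199 i) (eL4200 i) (Nat.ble 4300800 i)
noncomputable def eT4193 (i : Nat) : Nat := Bool.rec (eL4198 i) (eT4192 i) (Nat.ble 4299776 i)
noncomputable def eT4194 (i : Nat) : Nat := Bool.rec (eT4191 i) (eT4193 i) (Nat.ble 4298752 i)
noncomputable def eT4195 (i : Nat) : Nat := Bool.rec (eT4190 i) (eT4194 i) (Nat.ble 4296704 i)
noncomputable def eT4196 (i : Nat) : Nat := Bool.rec (eL4201 i) (eL4202 i) (Nat.ble 4302848 i)
noncomputable def eT4197 (i : Nat) : Nat := Bool.rec (eL4204 i) (eL4205 i) (Nat.ble 4305920 i)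
noncomputable def eT4198 (i : Nat) : Nat := Bool.rec (eL4203 i) (eT4197 i) (Nat.ble 4304896 i)
noncomputable def eT4199 (i : Nat) : Nat := Bool.rec (eT4196 i) (eT4198 i) (Nat.ble 4303872 i)
noncomputable def eT4200 (i : Nat) : Nat := Bool.rec (eL4206 i) (eL4207 i) (Nat.ble 4307968 i)
noncomputable def eT4201 (i : Nat) : Nat := Bool.rec (eL4209 i) (eL4210 i) (Nat.ble 4311040 i)
noncomputable def eT4202 (i : Nat) : Nat := Bool.rec (eL4208 i) (eT4201 i) (Nat.ble 4310016 i)
noncomputable def eT4203 (i : Nat) : Nat := Bool.rec (eT4200 i) (eT4202 i) (Nat.ble 4308992 i)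
noncomputable def eT4204 (i : Nat) : Nat := Bool.rec (eT4199 i) (eT4203 i) (Nat.ble 4306944 i)
noncomputable def eT4205 (i : Nat) : Nat := Bool.rec (eT4195 i) (eT4204 i) (Nat.ble 4301824 i)
noncomputable def eT4206 (i : Nat) : Nat := Bool.rec (eL4211 i) (eL4212 i) (Nat.ble 4313088 i)
noncomputable def eT4207 (i : Nat) : Nat := Bool.rec (eL4214 i) (eL4215 i) (Nat.ble 4316160 i)
noncomputable def eT4208 (i : Nat) : Nat := Bool.rec (eL4213 i) (eT4207 i) (Nat.ble 4315136 i)
noncomputable def eT4209 (i : Nat) : Nat := Bool.rec (eT4206 i) (eT4208 i) (Nat.ble 4314112 i)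
noncomputable def eT4210 (i : Nat) : Nat := Bool.rec (eL4216 i) (eL4217 i) (Nat.ble 4318208 i)
noncomputable def eT4211 (i : Nat) : Nat := Bool.rec (eL4219 i) (eL4220 i) (Nat.ble 4321280 i)
noncomputable def eT4212 (i : Nat) : Nat := Bool.rec (eL4218 i) (eT4211 i) (Nat.ble 4320256 i)
noncomputable def eT4213 (i : Nat) : Nat := Bool.rec (eT4210 i) (eT4212 i) (Nat.ble 4319232 i)
noncomputable def eT4214 (i : Nat) : Nat := Bool.rec (eT4209 i) (eT4213 i) (Nat.ble 4317184 i)
noncomputable def eT4215 (i : Nat) : Nat := Bool.rec (eL4221 i) (eL4222 i) (Nat.ble 4323328 i)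
noncomputable def eT4216 (i : Nat) : Nat := Bool.rec (eL4224 i) (eL4225 i) (Nat.ble 4326400 i)
noncomputable def eT4217 (i : Nat) : Nat := Bool.rec (eL4223 i) (eT4216 i) (Nat.ble 4325376 i)
noncomputable def eT4218 (i : Nat) : Nat := Bool.rec (eT4215 i) (eT4217 i) (Nat.ble 4324352 i)
noncomputable def eT4219 (i : Nat) : Nat := Bool.rec (eL4227 i) (eL4228 i) (Nat.ble 4329472 i)
noncomputable def eT4220 (i : Nat) : Nat := Bool.rec (eL4226 i) (eT4219 i) (Nat.ble 4328448 i)
noncomputable def eT4221 (i : Nat) : Nat := Bool.rec (eL4230 i) (eL4231 i) (Nat.ble 4332544 i)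
noncomputable def eT4222 (i : Nat) : Nat := Bool.rec (eL4229 i) (eT4221 i) (Nat.ble 4331520 i)
noncomputable def eT4223 (i : Nat) : Nat := Bool.rec (eT4220 i) (eT4222 i) (Nat.ble 4330496 i)
noncomputable def eT4224 (i : Nat) : Nat := Bool.rec (eT4218 i) (eT4223 i) (Nat.ble 4327424 i)
noncomputable def eT4225 (i : Nat) : Nat := Bool.rec (eT4214 i) (eT4224 i) (Nat.ble 4322304 i)
noncomputable def eT4226 (i : Nat) : Nat := Bool.rec (eT4205 i) (eT4225 i) (Nat.ble 4312064 i)
noncomputable def eT4227 (i : Nat) : Nat := Bool.rec (eL4232 i) (eL4233 i) (Nat.ble 4334592 i)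
noncomputable def eT4228 (i : Nat) : Nat := Bool.rec (eL4235 i) (eL4236 i) (Nat.ble 4337664 i)
noncomputable def eT4229 (i : Nat) : Nat := Bool.rec (eL4234 i) (eT4228 i) (Nat.ble 4336640 i)
noncomputable def eT4230 (i : Nat) : Nat := Bool.rec (eT4227 i) (eT4229 i) (Nat.ble 4335616 i)
noncomputable def eT4231 (i : Nat) : Nat := Bool.rec (eL4237 i) (eL4238 i) (Nat.ble 4339712 i)
noncomputable def eT4232 (i : Nat) : Nat := Bool.rec (eL4240 i) (eL4241 i) (Nat.ble 4342784 i)
noncomputable def eT4233 (i : Nat) : Nat := Bool.rec (eL4239 i) (eT4232 i) (Nat.ble 4341760 i)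
noncomputable def eT4234 (i : Nat) : Nat := Bool.rec (eT4231 i) (eT4233 i) (Nat.ble 4340736 i)
noncomputable def eT4235 (i : Nat) : Nat := Bool.rec (eT4230 i) (eT4234 i) (Nat.ble 4338688 i)
noncomputable def eT4236 (i : Nat) : Nat := Bool.rec (eL4242 i) (eL4243 i) (Nat.ble 4344832 i)
noncomputable def eT4237 (i : Nat) : Nat := Bool.rec (eL4245 i) (eL4246 i) (Nat.ble 4347904 i)
noncomputable def eT4238 (i : Nat) : Nat := Bool.rec (eL4244 i) (eT4237 i) (Nat.ble 4346880 i)
noncomputable def eT4239 (i : Nat) : Nat := Bool.rec (eT4236 i) (eT4238 i) (Nat.ble 4345856 i)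
noncomputable def eT4240 (i : Nat) : Nat := Bool.rec (eL4248 i) (eL4249 i) (Nat.ble 4350976 i)
noncomputable def eT4241 (i : Nat) : Nat := Bool.rec (eL4247 i) (eT4240 i) (Nat.ble 4349952 i)
noncomputable def eT4242 (i : Nat) : Nat := Bool.rec (eL4251 i) (eL4252 i) (Nat.ble 4354048 i)
noncomputable def eT4243 (i : Nat) : Nat := Bool.rec (eL4250 i) (eT4242 i) (Nat.ble 4353024 i)
noncomputable def eT4244 (i : Nat) : Nat := Bool.rec (eT4241 i) (eT4243 i) (Nat.ble 4352000 i)
noncomputable def eT4245 (i : Nat) : Nat := Bool.rec (eT4239 i) (eT4244 i) (Nat.ble 4348928 i)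
noncomputable def eT4246 (i : Nat) : Nat := Bool.rec (eT4235 i) (eT4245 i) (Nat.ble 4343808 i)
noncomputable def eT4247 (i : Nat) : Nat := Bool.rec (eL4253 i) (eL4254 i) (Nat.ble 4356096 i)
noncomputable def eT4248 (i : Nat) : Nat := Bool.rec (eL4256 i) (eL4257 i) (Nat.ble 4359168 i)
noncomputable def eT4249 (i : Nat) : Nat := Bool.rec (eL4255 i) (eT4248 i) (Nat.ble 4358144 i)
noncomputable def eT4250 (i : Nat) : Nat := Bool.rec (eT4247 i) (eT4249 i) (Nat.ble 4357120 i)
noncomputable def eT4251 (i : Nat) : Nat := Bool.rec (eL4258 i) (eL4259 i) (Nat.ble 4361216 i)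
noncomputable def eT4252 (i : Nat) : Nat := Bool.rec (eL4261 i) (eL4262 i) (Nat.ble 4364288 i)
noncomputable def eT4253 (i : Nat) : Nat := Bool.rec (eL4260 i) (eT4252 i) (Nat.ble 4363264 i)
noncomputable def eT4254 (i : Nat) : Nat := Bool.rec (eT4251 i) (eT4253 i) (Nat.ble 4362240 i)
noncomputable def eT4255 (i : Nat) : Nat := Bool.rec (eT4250 i) (eT4254 i) (Nat.ble 4360192 i)
noncomputable def eT4256 (i : Nat) : Nat := Bool.rec (eL4263 i) (eL4264 i) (Nat.ble 4366336 i)
noncomputable def eT4257 (i : Nat) : Nat := Bool.rec (eL4266 i) (eL4267 i) (Nat.ble 4369408 i)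
noncomputable def eT4258 (i : Nat) : Nat := Bool.rec (eL4265 i) (eT4257 i) (Nat.ble 4368384 i)
noncomputable def eT4259 (i : Nat) : Nat := Bool.rec (eT4256 i) (eT4258 i) (Nat.ble 4367360 i)
noncomputable def eT4260 (i : Nat) : Nat := Bool.rec (eL4269 i) (eL4270 i) (Nat.ble 4372480 i)
noncomputable def eT4261 (i : Nat) : Nat := Bool.rec (eL4268 i) (eT4260 i) (Nat.ble 4371456 i)
noncomputable def eT4262 (i : Nat) : Nat := Bool.rec (eL4272 i) (eL4273 i) (Nat.ble 4375552 i)
noncomputable def eT4263 (i : Nat) : Nat := Bool.rec (eL4271 i) (eT4262 i) (Nat.ble 4374528 i)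
noncomputable def eT4264 (i : Nat) : Nat := Bool.rec (eT4261 i) (eT4263 i) (Nat.ble 4373504 i)
noncomputable def eT4265 (i : Nat) : Nat := Bool.rec (eT4259 i) (eT4264 i) (Nat.ble 4370432 i)
noncomputable def eT4266 (i : Nat) : Nat := Bool.rec (eT4255 i) (eT4265 i) (Nat.ble 4365312 i)
noncomputable def eT4267 (i : Nat) : Nat := Bool.rec (eT4246 i) (eT4266 i) (Nat.ble 4355072 i)
noncomputable def eT4268 (i : Nat) : Nat := Bool.rec (eT4226 i) (eT4267 i) (Nat.ble 4333568 i)
noncomputable def eT4269 (i : Nat) : Nat := Bool.rec (eT4186 i) (eT4268 i) (Nat.ble 4291584 i)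
noncomputable def eT4270 (i : Nat) : Nat := Bool.rec (eT4105 i) (eT4269 i) (Nat.ble 4207616 i)
noncomputable def eT4271 (i : Nat) : Nat := Bool.rec (eL4274 i) (eL4275 i) (Nat.ble 4377600 i)
noncomputable def eT4272 (i : Nat) : Nat := Bool.rec (eL4277 i) (eL4278 i) (Nat.ble 4380672 i)
noncomputable def eT4273 (i : Nat) : Nat := Bool.rec (eL4276 i) (eT4272 i) (Nat.ble 4379648 i)
noncomputable def eT4274 (i : Nat) : Nat := Bool.rec (eT4271 i) (eT4273 i) (Nat.ble 4378624 i)
noncomputable def eT4275 (i : Nat) : Nat := Bool.rec (eL4279 i) (eL4280 i) (Nat.ble 4382720 i)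
noncomputable def eT4276 (i : Nat) : Nat := Bool.rec (eL4282 i) (eL4283 i) (Nat.ble 4385792 i)
noncomputable def eT4277 (i : Nat) : Nat := Bool.rec (eL4281 i) (eT4276 i) (Nat.ble 4384768 i)
noncomputable def eT4278 (i : Nat) : Nat := Bool.rec (eT4275 i) (eT4277 i) (Nat.ble 4383744 i)
noncomputable def eT4279 (i : Nat) : Nat := Bool.rec (eT4274 i) (eT4278 i) (Nat.ble 4381696 i)
noncomputable def eT4280 (i : Nat) : Nat := Bool.rec (eL4284 i) (eL4285 i) (Nat.ble 4387840 i)
noncomputable def eT4281 (i : Nat) : Nat := Bool.rec (eL4287 i) (eL4288 i) (Nat.ble 4390912 i)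
noncomputable def eT4282 (i : Nat) : Nat := Bool.rec (eL4286 i) (eT4281 i) (Nat.ble 4389888 i)
noncomputable def eT4283 (i : Nat) : Nat := Bool.rec (eT4280 i) (eT4282 i) (Nat.ble 4388864 i)
noncomputable def eT4284 (i : Nat) : Nat := Bool.rec (eL4289 i) (eL4290 i) (Nat.ble 4392960 i)
noncomputable def eT4285 (i : Nat) : Nat := Bool.rec (eL4292 i) (eL4293 i) (Nat.ble 4396032 i)
noncomputable def eT4286 (i : Nat) : Nat := Bool.rec (eL4291 i) (eT4285 i) (Nat.ble 4395008 i)
noncomputable def eT4287 (i : Nat) : Nat := Bool.rec (eT4284 i) (eT4286 i) (Nat.ble 4393984 i)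
noncomputable def eT4288 (i : Nat) : Nat := Bool.rec (eT4283 i) (eT4287 i) (Nat.ble 4391936 i)
noncomputable def eT4289 (i : Nat) : Nat := Bool.rec (eT4279 i) (eT4288 i) (Nat.ble 4386816 i)
noncomputable def eT4290 (i : Nat) : Nat := Bool.rec (eL4294 i) (eL4295 i) (Nat.ble 4398080 i)
noncomputable def eT4291 (i : Nat) : Nat := Bool.rec (eL4297 i) (eL4298 i) (Nat.ble 4401152 i)
noncomputable def eT4292 (i : Nat) : Nat := Bool.rec (eL4296 i) (eT4291 i) (Nat.ble 4400128 i)
noncomputable def eT4293 (i : Nat) : Nat := Bool.rec (eT4290 i) (eT4292 i) (Nat.ble 4399104 i)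
noncomputable def eT4294 (i : Nat) : Nat := Bool.rec (eL4299 i) (eL4300 i) (Nat.ble 4403200 i)
noncomputable def eT4295 (i : Nat) : Nat := Bool.rec (eL4302 i) (eL4303 i) (Nat.ble 4406272 i)
noncomputable def eT4296 (i : Nat) : Nat := Bool.rec (eL4301 i) (eT4295 i) (Nat.ble 4405248 i)
noncomputable def eT4297 (i : Nat) : Nat := Bool.rec (eT4294 i) (eT4296 i) (Nat.ble 4404224 i)
noncomputable def eT4298 (i : Nat) : Nat := Bool.rec (eT4293 i) (eT4297 i) (Nat.ble 4402176 i)
noncomputable def eT4299 (i : Nat) : Nat := Bool.rec (eL4304 i) (eL4305 i) (Nat.ble 4408320 i)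
noncomputable def eT4300 (i : Nat) : Nat := Bool.rec (eL4307 i) (eL4308 i) (Nat.ble 4411392 i)
noncomputable def eT4301 (i : Nat) : Nat := Bool.rec (eL4306 i) (eT4300 i) (Nat.ble 4410368 i)
noncomputable def eT4302 (i : Nat) : Nat := Bool.rec (eT4299 i) (eT4301 i) (Nat.ble 4409344 i)
noncomputable def eT4303 (i : Nat) : Nat := Bool.rec (eL4310 i) (eL4311 i) (Nat.ble 4414464 i)
noncomputable def eT4304 (i : Nat) : Nat := Bool.rec (eL4309 i) (eT4303 i) (Nat.ble 4413440 i)
noncomputable def eT4305 (i : Nat) : Nat := Bool.rec (eL4313 i) (eL4314 i) (Nat.ble 4417536 i)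
noncomputable def eT4306 (i : Nat) : Nat := Bool.rec (eL4312 i) (eT4305 i) (Nat.ble 4416512 i)
noncomputable def eT4307 (i : Nat) : Nat := Bool.rec (eT4304 i) (eT4306 i) (Nat.ble 4415488 i)
noncomputable def eT4308 (i : Nat) : Nat := Bool.rec (eT4302 i) (eT4307 i) (Nat.ble 4412416 i)
noncomputable def eT4309 (i : Nat) : Nat := Bool.rec (eT4298 i) (eT4308 i) (Nat.ble 4407296 i)
noncomputable def eT4310 (i : Nat) : Nat := Bool.rec (eT4289 i) (eT4309 i) (Nat.ble 4397056 i)
noncomputable def eT4311 (i : Nat) : Nat := Bool.rec (eL4315 i) (eL4316 i) (Nat.ble 4419584 i)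
noncomputable def eT4312 (i : Nat) : Nat := Bool.rec (eL4318 i) (eL4319 i) (Nat.ble 4422656 i)
noncomputable def eT4313 (i : Nat) : Nat := Bool.rec (eL4317 i) (eT4312 i) (Nat.ble 4421632 i)
noncomputable def eT4314 (i : Nat) : Nat := Bool.rec (eT4311 i) (eT4313 i) (Nat.ble 4420608 i)
noncomputable def eT4315 (i : Nat) : Nat := Bool.rec (eL4320 i) (eL4321 i) (Nat.ble 4424704 i)
noncomputable def eT4316 (i : Nat) : Nat := Bool.rec (eL4323 i) (eL4324 i) (Nat.ble 4427776 i)
noncomputable def eT4317 (i : Nat) : Nat := Bool.rec (eL4322 i) (eT4316 i) (Nat.ble 4426752 i)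
noncomputable def eT4318 (i : Nat) : Nat := Bool.rec (eT4315 i) (eT4317 i) (Nat.ble 4425728 i)
noncomputable def eT4319 (i : Nat) : Nat := Bool.rec (eT4314 i) (eT4318 i) (Nat.ble 4423680 i)
noncomputable def eT4320 (i : Nat) : Nat := Bool.rec (eL4325 i) (eL4326 i) (Nat.ble 4429824 i)
noncomputable def eT4321 (i : Nat) : Nat := Bool.rec (eL4328 i) (eL4329 i) (Nat.ble 4432896 i)
noncomputable def eT4322 (i : Nat) : Nat := Bool.rec (eL4327 i) (eT4321 i) (Nat.ble 4431872 i)
noncomputable def eT4323 (i : Nat) : Nat := Bool.rec (eT4320 i) (eT4322 i) (Nat.ble 4430848 i)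
noncomputable def eT4324 (i : Nat) : Nat := Bool.rec (eL4330 i) (eL4331 i) (Nat.ble 4434944 i)
noncomputable def eT4325 (i : Nat) : Nat := Bool.rec (eL4333 i) (eL4334 i) (Nat.ble 4438016 i)
noncomputable def eT4326 (i : Nat) : Nat := Bool.rec (eL4332 i) (eT4325 i) (Nat.ble 4436992 i)
noncomputable def eT4327 (i : Nat) : Nat := Bool.rec (eT4324 i) (eT4326 i) (Nat.ble 4435968 i)
noncomputable def eT4328 (i : Nat) : Nat := Bool.rec (eT4323 i) (eT4327 i) (Nat.ble 4433920 i)
noncomputable def eT4329 (i : Nat) : Nat := Bool.rec (eT4319 i) (eT4328 i) (Nat.ble 4428800 i)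
noncomputable def eT4330 (i : Nat) : Nat := Bool.rec (eL4335 i) (eL4336 i) (Nat.ble 4440064 i)
noncomputable def eT4331 (i : Nat) : Nat := Bool.rec (eL4338 i) (eL4339 i) (Nat.ble 4443136 i)
noncomputable def eT4332 (i : Nat) : Nat := Bool.rec (eL4337 i) (eT4331 i) (Nat.ble 4442112 i)
noncomputable def eT4333 (i : Nat) : Nat := Bool.rec (eT4330 i) (eT4332 i) (Nat.ble 4441088 i)
noncomputable def eT4334 (i : Nat) : Nat := Bool.rec (eL4340 i) (eL4341 i) (Nat.ble 4445184 i)
noncomputable def eT4335 (i : Nat) : Nat := Bool.rec (eL4343 i) (eL4344 i) (Nat.ble 4448256 i)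
noncomputable def eT4336 (i : Nat) : Nat := Bool.rec (eL4342 i) (eT4335 i) (Nat.ble 4447232 i)
noncomputable def eT4337 (i : Nat) : Nat := Bool.rec (eT4334 i) (eT4336 i) (Nat.ble 4446208 i)
noncomputable def eT4338 (i : Nat) : Nat := Bool.rec (eT4333 i) (eT4337 i) (Nat.ble 4444160 i)
noncomputable def eT4339 (i : Nat) : Nat := Bool.rec (eL4345 i) (eL4346 i) (Nat.ble 4450304 i)
noncomputable def eT4340 (i : Nat) : Nat := Bool.rec (eL4348 i) (eL4349 i) (Nat.ble 4453376 i)
noncomputable def eT4341 (i : Nat) : Nat := Bool.rec (eL4347 i) (eT4340 i) (Nat.ble 4452352 i)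
noncomputable def eT4342 (i : Nat) : Nat := Bool.rec (eT4339 i) (eT4341 i) (Nat.ble 4451328 i)
noncomputable def eT4343 (i : Nat) : Nat := Bool.rec (eL4351 i) (eL4352 i) (Nat.ble 4456448 i)
noncomputable def eT4344 (i : Nat) : Nat := Bool.rec (eL4350 i) (eT4343 i) (Nat.ble 4455424 i)
noncomputable def eT4345 (i : Nat) : Nat := Bool.rec (eL4354 i) (eL4355 i) (Nat.ble 4459520 i)
noncomputable def eT4346 (i : Nat) : Nat := Bool.rec (eL4353 i) (eT4345 i) (Nat.ble 4458496 i)
noncomputable def eT4347 (i : Nat) : Nat := Bool.rec (eT4344 i) (eT4346 i) (Nat.ble 4457472 i)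
noncomputable def eT4348 (i : Nat) : Nat := Bool.rec (eT4342 i) (eT4347 i) (Nat.ble 4454400 i)
noncomputable def eT4349 (i : Nat) : Nat := Bool.rec (eT4338 i) (eT4348 i) (Nat.ble 4449280 i)
noncomputable def eT4350 (i : Nat) : Nat := Bool.rec (eT4329 i) (eT4349 i) (Nat.ble 4439040 i)
noncomputable def eT4351 (i : Nat) : Nat := Bool.rec (eT4310 i) (eT4350 i) (Nat.ble 4418560 i)
noncomputable def eT4352 (i : Nat) : Nat := Bool.rec (eL4356 i) (eL4357 i) (Nat.ble 4461568 i)
noncomputable def eT4353 (i : Nat) : Nat := Bool.rec (eL4359 i) (eL4360 i) (Nat.ble 4464640 i)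
noncomputable def eT4354 (i : Nat) : Nat := Bool.rec (eL4358 i) (eT4353 i) (Nat.ble 4463616 i)
noncomputable def eT4355 (i : Nat) : Nat := Bool.rec (eT4352 i) (eT4354 i) (Nat.ble 4462592 i)
noncomputable def eT4356 (i : Nat) : Nat := Bool.rec (eL4361 i) (eL4362 i) (Nat.ble 4466688 i)
noncomputable def eT4357 (i : Nat) : Nat := Bool.rec (eL4364 i) (eL4365 i) (Nat.ble 4469760 i)
noncomputable def eT4358 (i : Nat) : Nat := Bool.rec (eL4363 i) (eT4357 i) (Nat.ble 4468736 i)
noncomputable def eT4359 (i : Nat) : Nat := Bool.rec (eT4356 i) (eT4358 i) (Nat.ble 4467712 i)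
noncomputable def eT4360 (i : Nat) : Nat := Bool.rec (eT4355 i) (eT4359 i) (Nat.ble 4465664 i)
noncomputable def eT4361 (i : Nat) : Nat := Bool.rec (eL4366 i) (eL4367 i) (Nat.ble 4471808 i)
noncomputable def eT4362 (i : Nat) : Nat := Bool.rec (eL4369 i) (eL4370 i) (Nat.ble 4474880 i)
noncomputable def eT4363 (i : Nat) : Nat := Bool.rec (eL4368 i) (eT4362 i) (Nat.ble 4473856 i)
noncomputable def eT4364 (i : Nat) : Nat := Bool.rec (eT4361 i) (eT4363 i) (Nat.ble 4472832 i)
noncomputable def eT4365 (i : Nat) : Nat := Bool.rec (eL4371 i) (eL4372 i) (Nat.ble 4476928 i)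
noncomputable def eT4366 (i : Nat) : Nat := Bool.rec (eL4374 i) (eL4375 i) (Nat.ble 4480000 i)
noncomputable def eT4367 (i : Nat) : Nat := Bool.rec (eL4373 i) (eT4366 i) (Nat.ble 4478976 i)
noncomputable def eT4368 (i : Nat) : Nat := Bool.rec (eT4365 i) (eT4367 i) (Nat.ble 4477952 i)
noncomputable def eT4369 (i : Nat) : Nat := Bool.rec (eT4364 i) (eT4368 i) (Nat.ble 4475904 i)
noncomputable def eT4370 (i : Nat) : Nat := Bool.rec (eT4360 i) (eT4369 i) (Nat.ble 4470784 i)
noncomputable def eT4371 (i : Nat) : Nat := Bool.rec (eL4376 i) (eL4377 i) (Nat.ble 4482048 i)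
noncomputable def eT4372 (i : Nat) : Nat := Bool.rec (eL4379 i) (eL4380 i) (Nat.ble 4485120 i)
noncomputable def eT4373 (i : Nat) : Nat := Bool.rec (eL4378 i) (eT4372 i) (Nat.ble 4484096 i)
noncomputable def eT4374 (i : Nat) : Nat := Bool.rec (eT4371 i) (eT4373 i) (Nat.ble 4483072 i)
noncomputable def eT4375 (i : Nat) : Nat := Bool.rec (eL4381 i) (eL4382 i) (Nat.ble 4487168 i)
noncomputable def eT4376 (i : Nat) : Nat := Bool.rec (eL4384 i) (eL4385 i) (Nat.ble 4490240 i)
noncomputable def eT4377 (i : Nat) : Nat := Bool.rec (eL4383 i) (eT4376 i) (Nat.ble 4489216 i)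
noncomputable def eT4378 (i : Nat) : Nat := Bool.rec (eT4375 i) (eT4377 i) (Nat.ble 4488192 i)
noncomputable def eT4379 (i : Nat) : Nat := Bool.rec (eT4374 i) (eT4378 i) (Nat.ble 4486144 i)
noncomputable def eT4380 (i : Nat) : Nat := Bool.rec (eL4386 i) (eL4387 i) (Nat.ble 4492288 i)
noncomputable def eT4381 (i : Nat) : Nat := Bool.rec (eL4389 i) (eL4390 i) (Nat.ble 4495360 i)
noncomputable def eT4382 (i : Nat) : Nat := Bool.rec (eL4388 i) (eT4381 i) (Nat.ble 4494336 i)
noncomputable def eT4383 (i : Nat) : Nat := Bool.rec (eT4380 i) (eT4382 i) (Nat.ble 4493312 i)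
noncomputable def eT4384 (i : Nat) : Nat := Bool.rec (eL4392 i) (eL4393 i) (Nat.ble 4498432 i)
noncomputable def eT4385 (i : Nat) : Nat := Bool.rec (eL4391 i) (eT4384 i) (Nat.ble 4497408 i)
noncomputable def eT4386 (i : Nat) : Nat := Bool.rec (eL4395 i) (eL4396 i) (Nat.ble 4501504 i)
noncomputable def eT4387 (i : Nat) : Nat := Bool.rec (eL4394 i) (eT4386 i) (Nat.ble 4500480 i)
noncomputable def eT4388 (i : Nat) : Nat := Bool.rec (eT4385 i) (eT4387 i) (Nat.ble 4499456 i)
noncomputable def eT4389 (i : Nat) : Nat := Bool.rec (eT4383 i) (eT4388 i) (Nat.ble 4496384 i)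
noncomputable def eT4390 (i : Nat) : Nat := Bool.rec (eT4379 i) (eT4389 i) (Nat.ble 4491264 i)
noncomputable def eT4391 (i : Nat) : Nat := Bool.rec (eT4370 i) (eT4390 i) (Nat.ble 4481024 i)
noncomputable def eT4392 (i : Nat) : Nat := Bool.rec (eL4397 i) (eL4398 i) (Nat.ble 4503552 i)
noncomputable def eT4393 (i : Nat) : Nat := Bool.rec (eL4400 i) (eL4401 i) (Nat.ble 4506624 i)
noncomputable def eT4394 (i : Nat) : Nat := Bool.rec (eL4399 i) (eT4393 i) (Nat.ble 4505600 i)
noncomputable def eT4395 (i : Nat) : Nat := Bool.rec (eT4392 i) (eT4394 i) (Nat.ble 4504576 i)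
noncomputable def eT4396 (i : Nat) : Nat := Bool.rec (eL4402 i) (eL4403 i) (Nat.ble 4508672 i)
noncomputable def eT4397 (i : Nat) : Nat := Bool.rec (eL4405 i) (eL4406 i) (Nat.ble 4511744 i)
noncomputable def eT4398 (i : Nat) : Nat := Bool.rec (eL4404 i) (eT4397 i) (Nat.ble 4510720 i)
noncomputable def eT4399 (i : Nat) : Nat := Bool.rec (eT4396 i) (eT4398 i) (Nat.ble 4509696 i)
noncomputable def eT4400 (i : Nat) : Nat := Bool.rec (eT4395 i) (eT4399 i) (Nat.ble 4507648 i)
noncomputable def eT4401 (i : Nat) : Nat := Bool.rec (eL4407 i) (eL4408 i) (Nat.ble 4513792 i)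
noncomputable def eT4402 (i : Nat) : Nat := Bool.rec (eL4410 i) (eL4411 i) (Nat.ble 4516864 i)
noncomputable def eT4403 (i : Nat) : Nat := Bool.rec (eL4409 i) (eT4402 i) (Nat.ble 4515840 i)
noncomputable def eT4404 (i : Nat) : Nat := Bool.rec (eT4401 i) (eT4403 i) (Nat.ble 4514816 i)
noncomputable def eT4405 (i : Nat) : Nat := Bool.rec (eL4412 i) (eL4413 i) (Nat.ble 4518912 i)
noncomputable def eT4406 (i : Nat) : Nat := Bool.rec (eL4415 i) (eL4416 i) (Nat.ble 4521984 i)
noncomputable def eT4407 (i : Nat) : Nat := Bool.rec (eL4414 i) (eT4406 i) (Nat.ble 4520960 i)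
noncomputable def eT4408 (i : Nat) : Nat := Bool.rec (eT4405 i) (eT4407 i) (Nat.ble 4519936 i)
noncomputable def eT4409 (i : Nat) : Nat := Bool.rec (eT4404 i) (eT4408 i) (Nat.ble 4517888 i)
noncomputable def eT4410 (i : Nat) : Nat := Bool.rec (eT4400 i) (eT4409 i) (Nat.ble 4512768 i)
noncomputable def eT4411 (i : Nat) : Nat := Bool.rec (eL4417 i) (eL4418 i) (Nat.ble 4524032 i)
noncomputable def eT4412 (i : Nat) : Nat := Bool.rec (eL4420 i) (eL4421 i) (Nat.ble 4527104 i)
noncomputable def eT4413 (i : Nat) : Nat := Bool.rec (eL4419 i) (eT4412 i) (Nat.ble 4526080 i)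
noncomputable def eT4414 (i : Nat) : Nat := Bool.rec (eT4411 i) (eT4413 i) (Nat.ble 4525056 i)
noncomputable def eT4415 (i : Nat) : Nat := Bool.rec (eL4422 i) (eL4423 i) (Nat.ble 4529152 i)
noncomputable def eT4416 (i : Nat) : Nat := Bool.rec (eL4425 i) (eL4426 i) (Nat.ble 4532224 i)
noncomputable def eT4417 (i : Nat) : Nat := Bool.rec (eL4424 i) (eT4416 i) (Nat.ble 4531200 i)
noncomputable def eT4418 (i : Nat) : Nat := Bool.rec (eT4415 i) (eT4417 i) (Nat.ble 4530176 i)
noncomputable def eT4419 (i : Nat) : Nat := Bool.rec (eT4414 i) (eT4418 i) (Nat.ble 4528128 i)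
noncomputable def eT4420 (i : Nat) : Nat := Bool.rec (eL4427 i) (eL4428 i) (Nat.ble 4534272 i)
noncomputable def eT4421 (i : Nat) : Nat := Bool.rec (eL4430 i) (eL4431 i) (Nat.ble 4537344 i)
noncomputable def eT4422 (i : Nat) : Nat := Bool.rec (eL4429 i) (eT4421 i) (Nat.ble 4536320 i)
noncomputable def eT4423 (i : Nat) : Nat := Bool.rec (eT4420 i) (eT4422 i) (Nat.ble 4535296 i)
noncomputable def eT4424 (i : Nat) : Nat := Bool.rec (eL4433 i) (eL4434 i) (Nat.ble 4540416 i)
noncomputable def eT4425 (i : Nat) : Nat := Bool.rec (eL4432 i) (eT4424 i) (Nat.ble 4539392 i)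
noncomputable def eT4426 (i : Nat) : Nat := Bool.rec (eL4436 i) (eL4437 i) (Nat.ble 4543488 i)
noncomputable def eT4427 (i : Nat) : Nat := Bool.rec (eL4435 i) (eT4426 i) (Nat.ble 4542464 i)
noncomputable def eT4428 (i : Nat) : Nat := Bool.rec (eT4425 i) (eT4427 i) (Nat.ble 4541440 i)
noncomputable def eT4429 (i : Nat) : Nat := Bool.rec (eT4423 i) (eT4428 i) (Nat.ble 4538368 i)
noncomputable def eT4430 (i : Nat) : Nat := Bool.rec (eT4419 i) (eT4429 i) (Nat.ble 4533248 i)
noncomputable def eT4431 (i : Nat) : Nat := Bool.rec (eT4410 i) (eT4430 i) (Nat.ble 4523008 i)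
noncomputable def eT4432 (i : Nat) : Nat := Bool.rec (eT4391 i) (eT4431 i) (Nat.ble 4502528 i)
noncomputable def eT4433 (i : Nat) : Nat := Bool.rec (eT4351 i) (eT4432 i) (Nat.ble 4460544 i)
noncomputable def eT4434 (i : Nat) : Nat := Bool.rec (eL4438 i) (eL4439 i) (Nat.ble 4545536 i)
noncomputable def eT4435 (i : Nat) : Nat := Bool.rec (eL4441 i) (eL4442 i) (Nat.ble 4548608 i)
noncomputable def eT4436 (i : Nat) : Nat := Bool.rec (eL4440 i) (eT4435 i) (Nat.ble 4547584 i)
noncomputable def eT4437 (i : Nat) : Nat := Bool.rec (eT4434 i) (eT4436 i) (Nat.ble 4546560 i)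
noncomputable def eT4438 (i : Nat) : Nat := Bool.rec (eL4443 i) (eL4444 i) (Nat.ble 4550656 i)
noncomputable def eT4439 (i : Nat) : Nat := Bool.rec (eL4446 i) (eL4447 i) (Nat.ble 4553728 i)
noncomputable def eT4440 (i : Nat) : Nat := Bool.rec (eL4445 i) (eT4439 i) (Nat.ble 4552704 i)
noncomputable def eT4441 (i : Nat) : Nat := Bool.rec (eT4438 i) (eT4440 i) (Nat.ble 4551680 i)
noncomputable def eT4442 (i : Nat) : Nat := Bool.rec (eT4437 i) (eT4441 i) (Nat.ble 4549632 i)
noncomputable def eT4443 (i : Nat) : Nat := Bool.rec (eL4448 i) (eL4449 i) (Nat.ble 4555776 i)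
noncomputable def eT4444 (i : Nat) : Nat := Bool.rec (eL4451 i) (eL4452 i) (Nat.ble 4558848 i)
noncomputable def eT4445 (i : Nat) : Nat := Bool.rec (eL4450 i) (eT4444 i) (Nat.ble 4557824 i)
noncomputable def eT4446 (i : Nat) : Nat := Bool.rec (eT4443 i) (eT4445 i) (Nat.ble 4556800 i)
noncomputable def eT4447 (i : Nat) : Nat := Bool.rec (eL4453 i) (eL4454 i) (Nat.ble 4560896 i)
noncomputable def eT4448 (i : Nat) : Nat := Bool.rec (eL4456 i) (eL4457 i) (Nat.ble 4563968 i)
noncomputable def eT4449 (i : Nat) : Nat := Bool.rec (eL4455 i) (eT4448 i) (Nat.ble 4562944 i)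
noncomputable def eT4450 (i : Nat) : Nat := Bool.rec (eT4447 i) (eT4449 i) (Nat.ble 4561920 i)
noncomputable def eT4451 (i : Nat) : Nat := Bool.rec (eT4446 i) (eT4450 i) (Nat.ble 4559872 i)
noncomputable def eT4452 (i : Nat) : Nat := Bool.rec (eT4442 i) (eT4451 i) (Nat.ble 4554752 i)
noncomputable def eT4453 (i : Nat) : Nat := Bool.rec (eL4458 i) (eL4459 i) (Nat.ble 4566016 i)
noncomputable def eT4454 (i : Nat) : Nat := Bool.rec (eL4461 i) (eL4462 i) (Nat.ble 4569088 i)
noncomputable def eT4455 (i : Nat) : Nat := Bool.rec (eL4460 i) (eT4454 i) (Nat.ble 4568064 i)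
noncomputable def eT4456 (i : Nat) : Nat := Bool.rec (eT4453 i) (eT4455 i) (Nat.ble 4567040 i)
noncomputable def eT4457 (i : Nat) : Nat := Bool.rec (eL4463 i) (eL4464 i) (Nat.ble 4571136 i)
noncomputable def eT4458 (i : Nat) : Nat := Bool.rec (eL4466 i) (eL4467 i) (Nat.ble 4574208 i)
noncomputable def eT4459 (i : Nat) : Nat := Bool.rec (eL4465 i) (eT4458 i) (Nat.ble 4573184 i)
noncomputable def eT4460 (i : Nat) : Nat := Bool.rec (eT4457 i) (eT4459 i) (Nat.ble 4572160 i)
noncomputable def eT4461 (i : Nat) : Nat := Bool.rec (eT4456 i) (eT4460 i) (Nat.ble 4570112 i)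
noncomputable def eT4462 (i : Nat) : Nat := Bool.rec (eL4468 i) (eL4469 i) (Nat.ble 4576256 i)
noncomputable def eT4463 (i : Nat) : Nat := Bool.rec (eL4471 i) (eL4472 i) (Nat.ble 4579328 i)
noncomputable def eT4464 (i : Nat) : Nat := Bool.rec (eL4470 i) (eT4463 i) (Nat.ble 4578304 i)
noncomputable def eT4465 (i : Nat) : Nat := Bool.rec (eT4462 i) (eT4464 i) (Nat.ble 4577280 i)
noncomputable def eT4466 (i : Nat) : Nat := Bool.rec (eL4474 i) (eL4475 i) (Nat.ble 4582400 i)
noncomputable def eT4467 (i : Nat) : Nat := Bool.rec (eL4473 i) (eT4466 i) (Nat.ble 4581376 i)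
noncomputable def eT4468 (i : Nat) : Nat := Bool.rec (eL4477 i) (eL4478 i) (Nat.ble 4585472 i)
noncomputable def eT4469 (i : Nat) : Nat := Bool.rec (eL4476 i) (eT4468 i) (Nat.ble 4584448 i)
noncomputable def eT4470 (i : Nat) : Nat := Bool.rec (eT4467 i) (eT4469 i) (Nat.ble 4583424 i)
noncomputable def eT4471 (i : Nat) : Nat := Bool.rec (eT4465 i) (eT4470 i) (Nat.ble 4580352 i)
noncomputable def eT4472 (i : Nat) : Nat := Bool.rec (eT4461 i) (eT4471 i) (Nat.ble 4575232 i)
noncomputable def eT4473 (i : Nat) : Nat := Bool.rec (eT4452 i) (eT4472 i) (Nat.ble 4564992 i)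
noncomputable def eT4474 (i : Nat) : Nat := Bool.rec (eL4479 i) (eL4480 i) (Nat.ble 4587520 i)
noncomputable def eT4475 (i : Nat) : Nat := Bool.rec (eL4482 i) (eL4483 i) (Nat.ble 4590592 i)
noncomputable def eT4476 (i : Nat) : Nat := Bool.rec (eL4481 i) (eT4475 i) (Nat.ble 4589568 i)
noncomputable def eT4477 (i : Nat) : Nat := Bool.rec (eT4474 i) (eT4476 i) (Nat.ble 4588544 i)
noncomputable def eT4478 (i : Nat) : Nat := Bool.rec (eL4484 i) (eL4485 i) (Nat.ble 4592640 i)
noncomputable def eT4479 (i : Nat) : Nat := Bool.rec (eL4487 i) (eL4488 i) (Nat.ble 4595712 i)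
noncomputable def eT4480 (i : Nat) : Nat := Bool.rec (eL4486 i) (eT4479 i) (Nat.ble 4594688 i)
noncomputable def eT4481 (i : Nat) : Nat := Bool.rec (eT4478 i) (eT4480 i) (Nat.ble 4593664 i)
noncomputable def eT4482 (i : Nat) : Nat := Bool.rec (eT4477 i) (eT4481 i) (Nat.ble 4591616 i)
noncomputable def eT4483 (i : Nat) : Nat := Bool.rec (eL4489 i) (eL4490 i) (Nat.ble 4597760 i)
noncomputable def eT4484 (i : Nat) : Nat := Bool.rec (eL4492 i) (eL4493 i) (Nat.ble 4600832 i)
noncomputable def eT4485 (i : Nat) : Nat := Bool.rec (eL4491 i) (eT4484 i) (Nat.ble 4599808 i)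
noncomputable def eT4486 (i : Nat) : Nat := Bool.rec (eT4483 i) (eT4485 i) (Nat.ble 4598784 i)
noncomputable def eT4487 (i : Nat) : Nat := Bool.rec (eL4494 i) (eL4495 i) (Nat.ble 4602880 i)
noncomputable def eT4488 (i : Nat) : Nat := Bool.rec (eL4497 i) (eL4498 i) (Nat.ble 4605952 i)
noncomputable def eT4489 (i : Nat) : Nat := Bool.rec (eL4496 i) (eT4488 i) (Nat.ble 4604928 i)
noncomputable def eT4490 (i : Nat) : Nat := Bool.rec (eT4487 i) (eT4489 i) (Nat.ble 4603904 i)
noncomputable def eT4491 (i : Nat) : Nat := Bool.rec (eT4486 i) (eT4490 i) (Nat.ble 4601856 i)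
noncomputable def eT4492 (i : Nat) : Nat := Bool.rec (eT4482 i) (eT4491 i) (Nat.ble 4596736 i)
noncomputable def eT4493 (i : Nat) : Nat := Bool.rec (eL4499 i) (eL4500 i) (Nat.ble 4608000 i)
noncomputable def eT4494 (i : Nat) : Nat := Bool.rec (eL4502 i) (eL4503 i) (Nat.ble 4611072 i)
noncomputable def eT4495 (i : Nat) : Nat := Bool.rec (eL4501 i) (eT4494 i) (Nat.ble 4610048 i)
noncomputable def eT4496 (i : Nat) : Nat := Bool.rec (eT4493 i) (eT4495 i) (Nat.ble 4609024 i)
noncomputable def eT4497 (i : Nat) : Nat := Bool.rec (eL4504 i) (eL4505 i) (Nat.ble 4613120 i)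
noncomputable def eT4498 (i : Nat) : Nat := Bool.rec (eL4507 i) (eL4508 i) (Nat.ble 4616192 i)
noncomputable def eT4499 (i : Nat) : Nat := Bool.rec (eL4506 i) (eT4498 i) (Nat.ble 4615168 i)
noncomputable def eT4500 (i : Nat) : Nat := Bool.rec (eT4497 i) (eT4499 i) (Nat.ble 4614144 i)
noncomputable def eT4501 (i : Nat) : Nat := Bool.rec (eT4496 i) (eT4500 i) (Nat.ble 4612096 i)
noncomputable def eT4502 (i : Nat) : Nat := Bool.rec (eL4509 i) (eL4510 i) (Nat.ble 4618240 i)
noncomputable def eT4503 (i : Nat) : Nat := Bool.rec (eL4512 i) (eL4513 i) (Nat.ble 4621312 i)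
noncomputable def eT4504 (i : Nat) : Nat := Bool.rec (eL4511 i) (eT4503 i) (Nat.ble 4620288 i)
noncomputable def eT4505 (i : Nat) : Nat := Bool.rec (eT4502 i) (eT4504 i) (Nat.ble 4619264 i)
noncomputable def eT4506 (i : Nat) : Nat := Bool.rec (eL4515 i) (eL4516 i) (Nat.ble 4624384 i)
noncomputable def eT4507 (i : Nat) : Nat := Bool.rec (eL4514 i) (eT4506 i) (Nat.ble 4623360 i)
noncomputable def eT4508 (i : Nat) : Nat := Bool.rec (eL4518 i) (eL4519 i) (Nat.ble 4627456 i)
noncomputable def eT4509 (i : Nat) : Nat := Bool.rec (eL4517 i) (eT4508 i) (Nat.ble 4626432 i)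
noncomputable def eT4510 (i : Nat) : Nat := Bool.rec (eT4507 i) (eT4509 i) (Nat.ble 4625408 i)
noncomputable def eT4511 (i : Nat) : Nat := Bool.rec (eT4505 i) (eT4510 i) (Nat.ble 4622336 i)
noncomputable def eT4512 (i : Nat) : Nat := Bool.rec (eT4501 i) (eT4511 i) (Nat.ble 4617216 i)
noncomputable def eT4513 (i : Nat) : Nat := Bool.rec (eT4492 i) (eT4512 i) (Nat.ble 4606976 i)
noncomputable def eT4514 (i : Nat) : Nat := Bool.rec (eT4473 i) (eT4513 i) (Nat.ble 4586496 i)
noncomputable def eT4515 (i : Nat) : Nat := Bool.rec (eL4520 i) (eL4521 i) (Nat.ble 4629504 i)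
noncomputable def eT4516 (i : Nat) : Nat := Bool.rec (eL4523 i) (eL4524 i) (Nat.ble 4632576 i)
noncomputable def eT4517 (i : Nat) : Nat := Bool.rec (eL4522 i) (eT4516 i) (Nat.ble 4631552 i)
noncomputable def eT4518 (i : Nat) : Nat := Bool.rec (eT4515 i) (eT4517 i) (Nat.ble 4630528 i)
noncomputable def eT4519 (i : Nat) : Nat := Bool.rec (eL4525 i) (eL4526 i) (Nat.ble 4634624 i)
noncomputable def eT4520 (i : Nat) : Nat := Bool.rec (eL4528 i) (eL4529 i) (Nat.ble 4637696 i)
noncomputable def eT4521 (i : Nat) : Nat := Bool.rec (eL4527 i) (eT4520 i) (Nat.ble 4636672 i)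
noncomputable def eT4522 (i : Nat) : Nat := Bool.rec (eT4519 i) (eT4521 i) (Nat.ble 4635648 i)
noncomputable def eT4523 (i : Nat) : Nat := Bool.rec (eT4518 i) (eT4522 i) (Nat.ble 4633600 i)
noncomputable def eT4524 (i : Nat) : Nat := Bool.rec (eL4530 i) (eL4531 i) (Nat.ble 4639744 i)
noncomputable def eT4525 (i : Nat) : Nat := Bool.rec (eL4533 i) (eL4534 i) (Nat.ble 4642816 i)
noncomputable def eT4526 (i : Nat) : Nat := Bool.rec (eL4532 i) (eT4525 i) (Nat.ble 4641792 i)
noncomputable def eT4527 (i : Nat) : Nat := Bool.rec (eT4524 i) (eT4526 i) (Nat.ble 4640768 i)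
noncomputable def eT4528 (i : Nat) : Nat := Bool.rec (eL4535 i) (eL4536 i) (Nat.ble 4644864 i)
noncomputable def eT4529 (i : Nat) : Nat := Bool.rec (eL4538 i) (eL4539 i) (Nat.ble 4647936 i)
noncomputable def eT4530 (i : Nat) : Nat := Bool.rec (eL4537 i) (eT4529 i) (Nat.ble 4646912 i)
noncomputable def eT4531 (i : Nat) : Nat := Bool.rec (eT4528 i) (eT4530 i) (Nat.ble 4645888 i)
noncomputable def eT4532 (i : Nat) : Nat := Bool.rec (eT4527 i) (eT4531 i) (Nat.ble 4643840 i)
noncomputable def eT4533 (i : Nat) : Nat := Bool.rec (eT4523 i) (eT4532 i) (Nat.ble 4638720 i)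
noncomputable def eT4534 (i : Nat) : Nat := Bool.rec (eL4540 i) (eL4541 i) (Nat.ble 4649984 i)
noncomputable def eT4535 (i : Nat) : Nat := Bool.rec (eL4543 i) (eL4544 i) (Nat.ble 4653056 i)
noncomputable def eT4536 (i : Nat) : Nat := Bool.rec (eL4542 i) (eT4535 i) (Nat.ble 4652032 i)
noncomputable def eT4537 (i : Nat) : Nat := Bool.rec (eT4534 i) (eT4536 i) (Nat.ble 4651008 i)
noncomputable def eT4538 (i : Nat) : Nat := Bool.rec (eL4545 i) (eL4546 i) (Nat.ble 4655104 i)
noncomputable def eT4539 (i : Nat) : Nat := Bool.rec (eL4548 i) (eL4549 i) (Nat.ble 4658176 i)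
noncomputable def eT4540 (i : Nat) : Nat := Bool.rec (eL4547 i) (eT4539 i) (Nat.ble 4657152 i)
noncomputable def eT4541 (i : Nat) : Nat := Bool.rec (eT4538 i) (eT4540 i) (Nat.ble 4656128 i)
noncomputable def eT4542 (i : Nat) : Nat := Bool.rec (eT4537 i) (eT4541 i) (Nat.ble 4654080 i)
noncomputable def eT4543 (i : Nat) : Nat := Bool.rec (eL4550 i) (eL4551 i) (Nat.ble 4660224 i)
noncomputable def eT4544 (i : Nat) : Nat := Bool.rec (eL4553 i) (eL4554 i) (Nat.ble 4663296 i)
noncomputable def eT4545 (i : Nat) : Nat := Bool.rec (eL4552 i) (eT4544 i) (Nat.ble 4662272 i)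
noncomputable def eT4546 (i : Nat) : Nat := Bool.rec (eT4543 i) (eT4545 i) (Nat.ble 4661248 i)
noncomputable def eT4547 (i : Nat) : Nat := Bool.rec (eL4556 i) (eL4557 i) (Nat.ble 4666368 i)
noncomputable def eT4548 (i : Nat) : Nat := Bool.rec (eL4555 i) (eT4547 i) (Nat.ble 4665344 i)
noncomputable def eT4549 (i : Nat) : Nat := Bool.rec (eL4559 i) (eL4560 i) (Nat.ble 4669440 i)
noncomputable def eT4550 (i : Nat) : Nat := Bool.rec (eL4558 i) (eT4549 i) (Nat.ble 4668416 i)
noncomputable def eT4551 (i : Nat) : Nat := Bool.rec (eT4548 i) (eT4550 i) (Nat.ble 4667392 i)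
noncomputable def eT4552 (i : Nat) : Nat := Bool.rec (eT4546 i) (eT4551 i) (Nat.ble 4664320 i)
noncomputable def eT4553 (i : Nat) : Nat := Bool.rec (eT4542 i) (eT4552 i) (Nat.ble 4659200 i)
noncomputable def eT4554 (i : Nat) : Nat := Bool.rec (eT4533 i) (eT4553 i) (Nat.ble 4648960 i)
noncomputable def eT4555 (i : Nat) : Nat := Bool.rec (eL4561 i) (eL4562 i) (Nat.ble 4671488 i)
noncomputable def eT4556 (i : Nat) : Nat := Bool.rec (eL4564 i) (eL4565 i) (Nat.ble 4674560 i)
noncomputable def eT4557 (i : Nat) : Nat := Bool.rec (eL4563 i) (eT4556 i) (Nat.ble 4673536 i)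
noncomputable def eT4558 (i : Nat) : Nat := Bool.rec (eT4555 i) (eT4557 i) (Nat.ble 4672512 i)
noncomputable def eT4559 (i : Nat) : Nat := Bool.rec (eL4566 i) (eL4567 i) (Nat.ble 4676608 i)
noncomputable def eT4560 (i : Nat) : Nat := Bool.rec (eL4569 i) (eL4570 i) (Nat.ble 4679680 i)
noncomputable def eT4561 (i : Nat) : Nat := Bool.rec (eL4568 i) (eT4560 i) (Nat.ble 4678656 i)
noncomputable def eT4562 (i : Nat) : Nat := Bool.rec (eT4559 i) (eT4561 i) (Nat.ble 4677632 i)
noncomputable def eT4563 (i : Nat) : Nat := Bool.rec (eT4558 i) (eT4562 i) (Nat.ble 4675584 i)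
noncomputable def eT4564 (i : Nat) : Nat := Bool.rec (eL4571 i) (eL4572 i) (Nat.ble 4681728 i)
noncomputable def eT4565 (i : Nat) : Nat := Bool.rec (eL4574 i) (eL4575 i) (Nat.ble 4684800 i)
noncomputable def eT4566 (i : Nat) : Nat := Bool.rec (eL4573 i) (eT4565 i) (Nat.ble 4683776 i)
noncomputable def eT4567 (i : Nat) : Nat := Bool.rec (eT4564 i) (eT4566 i) (Nat.ble 4682752 i)
noncomputable def eT4568 (i : Nat) : Nat := Bool.rec (eL4577 i) (eL4578 i) (Nat.ble 4687872 i)
noncomputable def eT4569 (i : Nat) : Nat := Bool.rec (eL4576 i) (eT4568 i) (Nat.ble 4686848 i)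
noncomputable def eT4570 (i : Nat) : Nat := Bool.rec (eL4580 i) (eL4581 i) (Nat.ble 4690944 i)
noncomputable def eT4571 (i : Nat) : Nat := Bool.rec (eL4579 i) (eT4570 i) (Nat.ble 4689920 i)
noncomputable def eT4572 (i : Nat) : Nat := Bool.rec (eT4569 i) (eT4571 i) (Nat.ble 4688896 i)
noncomputable def eT4573 (i : Nat) : Nat := Bool.rec (eT4567 i) (eT4572 i) (Nat.ble 4685824 i)
noncomputable def eT4574 (i : Nat) : Nat := Bool.rec (eT4563 i) (eT4573 i) (Nat.ble 4680704 i)
noncomputable def eT4575 (i : Nat) : Nat := Bool.rec (eL4582 i) (eL4583 i) (Nat.ble 4692992 i)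
noncomputable def eT4576 (i : Nat) : Nat := Bool.rec (eL4585 i) (eL4586 i) (Nat.ble 4696064 i)
noncomputable def eT4577 (i : Nat) : Nat := Bool.rec (eL4584 i) (eT4576 i) (Nat.ble 4695040 i)
noncomputable def eT4578 (i : Nat) : Nat := Bool.rec (eT4575 i) (eT4577 i) (Nat.ble 4694016 i)
noncomputable def eT4579 (i : Nat) : Nat := Bool.rec (eL4587 i) (eL4588 i) (Nat.ble 4698112 i)
noncomputable def eT4580 (i : Nat) : Nat := Bool.rec (eL4590 i) (eL4591 i) (Nat.ble 4701184 i)
noncomputable def eT4581 (i : Nat) : Nat := Bool.rec (eL4589 i) (eT4580 i) (Nat.ble 4700160 i)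
noncomputable def eT4582 (i : Nat) : Nat := Bool.rec (eT4579 i) (eT4581 i) (Nat.ble 4699136 i)
noncomputable def eT4583 (i : Nat) : Nat := Bool.rec (eT4578 i) (eT4582 i) (Nat.ble 4697088 i)
noncomputable def eT4584 (i : Nat) : Nat := Bool.rec (eL4592 i) (eL4593 i) (Nat.ble 4703232 i)
noncomputable def eT4585 (i : Nat) : Nat := Bool.rec (eL4595 i) (eL4596 i) (Nat.ble 4706304 i)
noncomputable def eT4586 (i : Nat) : Nat := Bool.rec (eL4594 i) (eT4585 i) (Nat.ble 4705280 i)
noncomputable def eT4587 (i : Nat) : Nat := Bool.rec (eT4584 i) (eT4586 i) (Nat.ble 4704256 i)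
noncomputable def eT4588 (i : Nat) : Nat := Bool.rec (eL4598 i) (eL4599 i) (Nat.ble 4709376 i)
noncomputable def eT4589 (i : Nat) : Nat := Bool.rec (eL4597 i) (eT4588 i) (Nat.ble 4708352 i)
noncomputable def eT4590 (i : Nat) : Nat := Bool.rec (eL4601 i) (eL4602 i) (Nat.ble 4712448 i)
noncomputable def eT4591 (i : Nat) : Nat := Bool.rec (eL4600 i) (eT4590 i) (Nat.ble 4711424 i)
noncomputable def eT4592 (i : Nat) : Nat := Bool.rec (eT4589 i) (eT4591 i) (Nat.ble 4710400 i)
noncomputable def eT4593 (i : Nat) : Nat := Bool.rec (eT4587 i) (eT4592 i) (Nat.ble 4707328 i)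
noncomputable def eT4594 (i : Nat) : Nat := Bool.rec (eT4583 i) (eT4593 i) (Nat.ble 4702208 i)
noncomputable def eT4595 (i : Nat) : Nat := Bool.rec (eT4574 i) (eT4594 i) (Nat.ble 4691968 i)
noncomputable def eT4596 (i : Nat) : Nat := Bool.rec (eT4554 i) (eT4595 i) (Nat.ble 4670464 i)
noncomputable def eT4597 (i : Nat) : Nat := Bool.rec (eT4514 i) (eT4596 i) (Nat.ble 4628480 i)
noncomputable def eT4598 (i : Nat) : Nat := Bool.rec (eT4433 i) (eT4597 i) (Nat.ble 4544512 i)
noncomputable def eT4599 (i : Nat) : Nat := Bool.rec (eT4270 i) (eT4598 i) (Nat.ble 4376576 i)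
noncomputable def eT4600 (i : Nat) : Nat := Bool.rec (eL4603 i) (eL4604 i) (Nat.ble 4714496 i)
noncomputable def eT4601 (i : Nat) : Nat := Bool.rec (eL4606 i) (eL4607 i) (Nat.ble 4717568 i)
noncomputable def eT4602 (i : Nat) : Nat := Bool.rec (eL4605 i) (eT4601 i) (Nat.ble 4716544 i)
noncomputable def eT4603 (i : Nat) : Nat := Bool.rec (eT4600 i) (eT4602 i) (Nat.ble 4715520 i)
noncomputable def eT4604 (i : Nat) : Nat := Bool.rec (eL4608 i) (eL4609 i) (Nat.ble 4719616 i)
noncomputable def eT4605 (i : Nat) : Nat := Bool.rec (eL4611 i) (eL4612 i) (Nat.ble 4722688 i)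
noncomputable def eT4606 (i : Nat) : Nat := Bool.rec (eL4610 i) (eT4605 i) (Nat.ble 4721664 i)
noncomputable def eT4607 (i : Nat) : Nat := Bool.rec (eT4604 i) (eT4606 i) (Nat.ble 4720640 i)
noncomputable def eT4608 (i : Nat) : Nat := Bool.rec (eT4603 i) (eT4607 i) (Nat.ble 4718592 i)
noncomputable def eT4609 (i : Nat) : Nat := Bool.rec (eL4613 i) (eL4614 i) (Nat.ble 4724736 i)
noncomputable def eT4610 (i : Nat) : Nat := Bool.rec (eL4616 i) (eL4617 i) (Nat.ble 4727808 i)
noncomputable def eT4611 (i : Nat) : Nat := Bool.rec (eL4615 i) (eT4610 i) (Nat.ble 4726784 i)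
noncomputable def eT4612 (i : Nat) : Nat := Bool.rec (eT4609 i) (eT4611 i) (Nat.ble 4725760 i)
noncomputable def eT4613 (i : Nat) : Nat := Bool.rec (eL4618 i) (eL4619 i) (Nat.ble 4729856 i)
noncomputable def eT4614 (i : Nat) : Nat := Bool.rec (eL4621 i) (eL4622 i) (Nat.ble 4732928 i)
noncomputable def eT4615 (i : Nat) : Nat := Bool.rec (eL4620 i) (eT4614 i) (Nat.ble 4731904 i)
noncomputable def eT4616 (i : Nat) : Nat := Bool.rec (eT4613 i) (eT4615 i) (Nat.ble 4730880 i)
noncomputable def eT4617 (i : Nat) : Nat := Bool.rec (eT4612 i) (eT4616 i) (Nat.ble 4728832 i)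
noncomputable def eT4618 (i : Nat) : Nat := Bool.rec (eT4608 i) (eT4617 i) (Nat.ble 4723712 i)
noncomputable def eT4619 (i : Nat) : Nat := Bool.rec (eL4623 i) (eL4624 i) (Nat.ble 4734976 i)
noncomputable def eT4620 (i : Nat) : Nat := Bool.rec (eL4626 i) (eL4627 i) (Nat.ble 4738048 i)
noncomputable def eT4621 (i : Nat) : Nat := Bool.rec (eL4625 i) (eT4620 i) (Nat.ble 4737024 i)
noncomputable def eT4622 (i : Nat) : Nat := Bool.rec (eT4619 i) (eT4621 i) (Nat.ble 4736000 i)
noncomputable def eT4623 (i : Nat) : Nat := Bool.rec (eL4628 i) (eL4629 i) (Nat.ble 4740096 i)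
noncomputable def eT4624 (i : Nat) : Nat := Bool.rec (eL4631 i) (eL4632 i) (Nat.ble 4743168 i)
noncomputable def eT4625 (i : Nat) : Nat := Bool.rec (eL4630 i) (eT4624 i) (Nat.ble 4742144 i)
noncomputable def eT4626 (i : Nat) : Nat := Bool.rec (eT4623 i) (eT4625 i) (Nat.ble 4741120 i)
noncomputable def eT4627 (i : Nat) : Nat := Bool.rec (eT4622 i) (eT4626 i) (Nat.ble 4739072 i)
noncomputable def eT4628 (i : Nat) : Nat := Bool.rec (eL4633 i) (eL4634 i) (Nat.ble 4745216 i)
noncomputable def eT4629 (i : Nat) : Nat := Bool.rec (eL4636 i) (eL4637 i) (Nat.ble 4748288 i)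
noncomputable def eT4630 (i : Nat) : Nat := Bool.rec (eL4635 i) (eT4629 i) (Nat.ble 4747264 i)
noncomputable def eT4631 (i : Nat) : Nat := Bool.rec (eT4628 i) (eT4630 i) (Nat.ble 4746240 i)
noncomputable def eT4632 (i : Nat) : Nat := Bool.rec (eL4639 i) (eL4640 i) (Nat.ble 4751360 i)
noncomputable def eT4633 (i : Nat) : Nat := Bool.rec (eL4638 i) (eT4632 i) (Nat.ble 4750336 i)
noncomputable def eT4634 (i : Nat) : Nat := Bool.rec (eL4642 i) (eL4643 i) (Nat.ble 4754432 i)
noncomputable def eT4635 (i : Nat) : Nat := Bool.rec (eL4641 i) (eT4634 i) (Nat.ble 4753408 i)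
noncomputable def eT4636 (i : Nat) : Nat := Bool.rec (eT4633 i) (eT4635 i) (Nat.ble 4752384 i)
noncomputable def eT4637 (i : Nat) : Nat := Bool.rec (eT4631 i) (eT4636 i) (Nat.ble 4749312 i)
noncomputable def eT4638 (i : Nat) : Nat := Bool.rec (eT4627 i) (eT4637 i) (Nat.ble 4744192 i)
noncomputable def eT4639 (i : Nat) : Nat := Bool.rec (eT4618 i) (eT4638 i) (Nat.ble 4733952 i)
noncomputable def eT4640 (i : Nat) : Nat := Bool.rec (eL4644 i) (eL4645 i) (Nat.ble 4756480 i)
noncomputable def eT4641 (i : Nat) : Nat := Bool.rec (eL4647 i) (eL4648 i) (Nat.ble 4759552 i)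
noncomputable def eT4642 (i : Nat) : Nat := Bool.rec (eL4646 i) (eT4641 i) (Nat.ble 4758528 i)
noncomputable def eT4643 (i : Nat) : Nat := Bool.rec (eT4640 i) (eT4642 i) (Nat.ble 4757504 i)
noncomputable def eT4644 (i : Nat) : Nat := Bool.rec (eL4649 i) (eL4650 i) (Nat.ble 4761600 i)
noncomputable def eT4645 (i : Nat) : Nat := Bool.rec (eL4652 i) (eL4653 i) (Nat.ble 4764672 i)
noncomputable def eT4646 (i : Nat) : Nat := Bool.rec (eL4651 i) (eT4645 i) (Nat.ble 4763648 i)
noncomputable def eT4647 (i : Nat) : Nat := Bool.rec (eT4644 i) (eT4646 i) (Nat.ble 4762624 i)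
noncomputable def eT4648 (i : Nat) : Nat := Bool.rec (eT4643 i) (eT4647 i) (Nat.ble 4760576 i)
noncomputable def eT4649 (i : Nat) : Nat := Bool.rec (eL4654 i) (eL4655 i) (Nat.ble 4766720 i)
noncomputable def eT4650 (i : Nat) : Nat := Bool.rec (eL4657 i) (eL4658 i) (Nat.ble 4769792 i)
noncomputable def eT4651 (i : Nat) : Nat := Bool.rec (eL4656 i) (eT4650 i) (Nat.ble 4768768 i)
noncomputable def eT4652 (i : Nat) : Nat := Bool.rec (eT4649 i) (eT4651 i) (Nat.ble 4767744 i)
noncomputable def eT4653 (i : Nat) : Nat := Bool.rec (eL4659 i) (eL4660 i) (Nat.ble 4771840 i)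
noncomputable def eT4654 (i : Nat) : Nat := Bool.rec (eL4662 i) (eL4663 i) (Nat.ble 4774912 i)
noncomputable def eT4655 (i : Nat) : Nat := Bool.rec (eL4661 i) (eT4654 i) (Nat.ble 4773888 i)
noncomputable def eT4656 (i : Nat) : Nat := Bool.rec (eT4653 i) (eT4655 i) (Nat.ble 4772864 i)
noncomputable def eT4657 (i : Nat) : Nat := Bool.rec (eT4652 i) (eT4656 i) (Nat.ble 4770816 i)
noncomputable def eT4658 (i : Nat) : Nat := Bool.rec (eT4648 i) (eT4657 i) (Nat.ble 4765696 i)
noncomputable def eT4659 (i : Nat) : Nat := Bool.rec (eL4664 i) (eL4665 i) (Nat.ble 4776960 i)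
noncomputable def eT4660 (i : Nat) : Nat := Bool.rec (eL4667 i) (eL4668 i) (Nat.ble 4780032 i)
noncomputable def eT4661 (i : Nat) : Nat := Bool.rec (eL4666 i) (eT4660 i) (Nat.ble 4779008 i)
noncomputable def eT4662 (i : Nat) : Nat := Bool.rec (eT4659 i) (eT4661 i) (Nat.ble 4777984 i)
noncomputable def eT4663 (i : Nat) : Nat := Bool.rec (eL4669 i) (eL4670 i) (Nat.ble 4782080 i)
noncomputable def eT4664 (i : Nat) : Nat := Bool.rec (eL4672 i) (eL4673 i) (Nat.ble 4785152 i)
noncomputable def eT4665 (i : Nat) : Nat := Bool.rec (eL4671 i) (eT4664 i) (Nat.ble 4784128 i)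
noncomputable def eT4666 (i : Nat) : Nat := Bool.rec (eT4663 i) (eT4665 i) (Nat.ble 4783104 i)
noncomputable def eT4667 (i : Nat) : Nat := Bool.rec (eT4662 i) (eT4666 i) (Nat.ble 4781056 i)
noncomputable def eT4668 (i : Nat) : Nat := Bool.rec (eL4674 i) (eL4675 i) (Nat.ble 4787200 i)
noncomputable def eT4669 (i : Nat) : Nat := Bool.rec (eL4677 i) (eL4678 i) (Nat.ble 4790272 i)
noncomputable def eT4670 (i : Nat) : Nat := Bool.rec (eL4676 i) (eT4669 i) (Nat.ble 4789248 i)
noncomputable def eT4671 (i : Nat) : Nat := Bool.rec (eT4668 i) (eT4670 i) (Nat.ble 4788224 i)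
noncomputable def eT4672 (i : Nat) : Nat := Bool.rec (eL4680 i) (eL4681 i) (Nat.ble 4793344 i)
noncomputable def eT4673 (i : Nat) : Nat := Bool.rec (eL4679 i) (eT4672 i) (Nat.ble 4792320 i)
noncomputable def eT4674 (i : Nat) : Nat := Bool.rec (eL4683 i) (eL4684 i) (Nat.ble 4796416 i)
noncomputable def eT4675 (i : Nat) : Nat := Bool.rec (eL4682 i) (eT4674 i) (Nat.ble 4795392 i)
noncomputable def eT4676 (i : Nat) : Nat := Bool.rec (eT4673 i) (eT4675 i) (Nat.ble 4794368 i)
noncomputable def eT4677 (i : Nat) : Nat := Bool.rec (eT4671 i) (eT4676 i) (Nat.ble 4791296 i)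
noncomputable def eT4678 (i : Nat) : Nat := Bool.rec (eT4667 i) (eT4677 i) (Nat.ble 4786176 i)
noncomputable def eT4679 (i : Nat) : Nat := Bool.rec (eT4658 i) (eT4678 i) (Nat.ble 4775936 i)
noncomputable def eT4680 (i : Nat) : Nat := Bool.rec (eT4639 i) (eT4679 i) (Nat.ble 4755456 i)
noncomputable def eT4681 (i : Nat) : Nat := Bool.rec (eL4685 i) (eL4686 i) (Nat.ble 4798464 i)
noncomputable def eT4682 (i : Nat) : Nat := Bool.rec (eL4688 i) (eL4689 i) (Nat.ble 4801536 i)
noncomputable def eT4683 (i : Nat) : Nat := Bool.rec (eL4687 i) (eT4682 i) (Nat.ble 4800512 i)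
noncomputable def eT4684 (i : Nat) : Nat := Bool.rec (eT4681 i) (eT4683 i) (Nat.ble 4799488 i)
noncomputable def eT4685 (i : Nat) : Nat := Bool.rec (eL4690 i) (eL4691 i) (Nat.ble 4803584 i)
noncomputable def eT4686 (i : Nat) : Nat := Bool.rec (eL4693 i) (eL4694 i) (Nat.ble 4806656 i)
noncomputable def eT4687 (i : Nat) : Nat := Bool.rec (eL4692 i) (eT4686 i) (Nat.ble 4805632 i)
noncomputable def eT4688 (i : Nat) : Nat := Bool.rec (eT4685 i) (eT4687 i) (Nat.ble 4804608 i)
noncomputable def eT4689 (i : Nat) : Nat := Bool.rec (eT4684 i) (eT4688 i) (Nat.ble 4802560 i)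
noncomputable def eT4690 (i : Nat) : Nat := Bool.rec (eL4695 i) (eL4696 i) (Nat.ble 4808704 i)
noncomputable def eT4691 (i : Nat) : Nat := Bool.rec (eL4698 i) (eL4699 i) (Nat.ble 4811776 i)
noncomputable def eT4692 (i : Nat) : Nat := Bool.rec (eL4697 i) (eT4691 i) (Nat.ble 4810752 i)
noncomputable def eT4693 (i : Nat) : Nat := Bool.rec (eT4690 i) (eT4692 i) (Nat.ble 4809728 i)
noncomputable def eT4694 (i : Nat) : Nat := Bool.rec (eL4700 i) (eL4701 i) (Nat.ble 4813824 i)
noncomputable def eT4695 (i : Nat) : Nat := Bool.rec (eL4703 i) (eL4704 i) (Nat.ble 4816896 i)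
noncomputable def eT4696 (i : Nat) : Nat := Bool.rec (eL4702 i) (eT4695 i) (Nat.ble 4815872 i)
noncomputable def eT4697 (i : Nat) : Nat := Bool.rec (eT4694 i) (eT4696 i) (Nat.ble 4814848 i)
noncomputable def eT4698 (i : Nat) : Nat := Bool.rec (eT4693 i) (eT4697 i) (Nat.ble 4812800 i)
noncomputable def eT4699 (i : Nat) : Nat := Bool.rec (eT4689 i) (eT4698 i) (Nat.ble 4807680 i)
noncomputable def eT4700 (i : Nat) : Nat := Bool.rec (eL4705 i) (eL4706 i) (Nat.ble 4818944 i)
noncomputable def eT4701 (i : Nat) : Nat := Bool.rec (eL4708 i) (eL4709 i) (Nat.ble 4822016 i)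
noncomputable def eT4702 (i : Nat) : Nat := Bool.rec (eL4707 i) (eT4701 i) (Nat.ble 4820992 i)
noncomputable def eT4703 (i : Nat) : Nat := Bool.rec (eT4700 i) (eT4702 i) (Nat.ble 4819968 i)
noncomputable def eT4704 (i : Nat) : Nat := Bool.rec (eL4710 i) (eL4711 i) (Nat.ble 4824064 i)
noncomputable def eT4705 (i : Nat) : Nat := Bool.rec (eL4713 i) (eL4714 i) (Nat.ble 4827136 i)
noncomputable def eT4706 (i : Nat) : Nat := Bool.rec (eL4712 i) (eT4705 i) (Nat.ble 4826112 i)
noncomputable def eT4707 (i : Nat) : Nat := Bool.rec (eT4704 i) (eT4706 i) (Nat.ble 4825088 i)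
noncomputable def eT4708 (i : Nat) : Nat := Bool.rec (eT4703 i) (eT4707 i) (Nat.ble 4823040 i)
noncomputable def eT4709 (i : Nat) : Nat := Bool.rec (eL4715 i) (eL4716 i) (Nat.ble 4829184 i)
noncomputable def eT4710 (i : Nat) : Nat := Bool.rec (eL4718 i) (eL4719 i) (Nat.ble 4832256 i)
noncomputable def eT4711 (i : Nat) : Nat := Bool.rec (eL4717 i) (eT4710 i) (Nat.ble 4831232 i)
noncomputable def eT4712 (i : Nat) : Nat := Bool.rec (eT4709 i) (eT4711 i) (Nat.ble 4830208 i)
noncomputable def eT4713 (i : Nat) : Nat := Bool.rec (eL4721 i) (eL4722 i) (Nat.ble 4835328 i)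
noncomputable def eT4714 (i : Nat) : Nat := Bool.rec (eL4720 i) (eT4713 i) (Nat.ble 4834304 i)
noncomputable def eT4715 (i : Nat) : Nat := Bool.rec (eL4724 i) (eL4725 i) (Nat.ble 4838400 i)
noncomputable def eT4716 (i : Nat) : Nat := Bool.rec (eL4723 i) (eT4715 i) (Nat.ble 4837376 i)
noncomputable def eT4717 (i : Nat) : Nat := Bool.rec (eT4714 i) (eT4716 i) (Nat.ble 4836352 i)
noncomputable def eT4718 (i : Nat) : Nat := Bool.rec (eT4712 i) (eT4717 i) (Nat.ble 4833280 i)
noncomputable def eT4719 (i : Nat) : Nat := Bool.rec (eT4708 i) (eT4718 i) (Nat.ble 4828160 i)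
noncomputable def eT4720 (i : Nat) : Nat := Bool.rec (eT4699 i) (eT4719 i) (Nat.ble 4817920 i)
noncomputable def eT4721 (i : Nat) : Nat := Bool.rec (eL4726 i) (eL4727 i) (Nat.ble 4840448 i)
noncomputable def eT4722 (i : Nat) : Nat := Bool.rec (eL4729 i) (eL4730 i) (Nat.ble 4843520 i)
noncomputable def eT4723 (i : Nat) : Nat := Bool.rec (eL4728 i) (eT4722 i) (Nat.ble 4842496 i)
noncomputable def eT4724 (i : Nat) : Nat := Bool.rec (eT4721 i) (eT4723 i) (Nat.ble 4841472 i)
noncomputable def eT4725 (i : Nat) : Nat := Bool.rec (eL4731 i) (eL4732 i) (Nat.ble 4845568 i)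
noncomputable def eT4726 (i : Nat) : Nat := Bool.rec (eL4734 i) (eL4735 i) (Nat.ble 4848640 i)
noncomputable def eT4727 (i : Nat) : Nat := Bool.rec (eL4733 i) (eT4726 i) (Nat.ble 4847616 i)
noncomputable def eT4728 (i : Nat) : Nat := Bool.rec (eT4725 i) (eT4727 i) (Nat.ble 4846592 i)
noncomputable def eT4729 (i : Nat) : Nat := Bool.rec (eT4724 i) (eT4728 i) (Nat.ble 4844544 i)
noncomputable def eT4730 (i : Nat) : Nat := Bool.rec (eL4736 i) (eL4737 i) (Nat.ble 4850688 i)
noncomputable def eT4731 (i : Nat) : Nat := Bool.rec (eL4739 i) (eL4740 i) (Nat.ble 4853760 i)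
noncomputable def eT4732 (i : Nat) : Nat := Bool.rec (eL4738 i) (eT4731 i) (Nat.ble 4852736 i)
noncomputable def eT4733 (i : Nat) : Nat := Bool.rec (eT4730 i) (eT4732 i) (Nat.ble 4851712 i)
noncomputable def eT4734 (i : Nat) : Nat := Bool.rec (eL4741 i) (eL4742 i) (Nat.ble 4855808 i)
noncomputable def eT4735 (i : Nat) : Nat := Bool.rec (eL4744 i) (eL4745 i) (Nat.ble 4858880 i)
noncomputable def eT4736 (i : Nat) : Nat := Bool.rec (eL4743 i) (eT4735 i) (Nat.ble 4857856 i)
noncomputable def eT4737 (i : Nat) : Nat := Bool.rec (eT4734 i) (eT4736 i) (Nat.ble 4856832 i)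
noncomputable def eT4738 (i : Nat) : Nat := Bool.rec (eT4733 i) (eT4737 i) (Nat.ble 4854784 i)
noncomputable def eT4739 (i : Nat) : Nat := Bool.rec (eT4729 i) (eT4738 i) (Nat.ble 4849664 i)
noncomputable def eT4740 (i : Nat) : Nat := Bool.rec (eL4746 i) (eL4747 i) (Nat.ble 4860928 i)
noncomputable def eT4741 (i : Nat) : Nat := Bool.rec (eL4749 i) (eL4750 i) (Nat.ble 4864000 i)
noncomputable def eT4742 (i : Nat) : Nat := Bool.rec (eL4748 i) (eT4741 i) (Nat.ble 4862976 i)
noncomputable def eT4743 (i : Nat) : Nat := Bool.rec (eT4740 i) (eT4742 i) (Nat.ble 4861952 i)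
noncomputable def eT4744 (i : Nat) : Nat := Bool.rec (eL4751 i) (eL4752 i) (Nat.ble 4866048 i)
noncomputable def eT4745 (i : Nat) : Nat := Bool.rec (eL4754 i) (eL4755 i) (Nat.ble 4869120 i)
noncomputable def eT4746 (i : Nat) : Nat := Bool.rec (eL4753 i) (eT4745 i) (Nat.ble 4868096 i)
noncomputable def eT4747 (i : Nat) : Nat := Bool.rec (eT4744 i) (eT4746 i) (Nat.ble 4867072 i)
noncomputable def eT4748 (i : Nat) : Nat := Bool.rec (eT4743 i) (eT4747 i) (Nat.ble 4865024 i)
noncomputable def eT4749 (i : Nat) : Nat := Bool.rec (eL4756 i) (eL4757 i) (Nat.ble 4871168 i)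
noncomputable def eT4750 (i : Nat) : Nat := Bool.rec (eL4759 i) (eL4760 i) (Nat.ble 4874240 i)
noncomputable def eT4751 (i : Nat) : Nat := Bool.rec (eL4758 i) (eT4750 i) (Nat.ble 4873216 i)
noncomputable def eT4752 (i : Nat) : Nat := Bool.rec (eT4749 i) (eT4751 i) (Nat.ble 4872192 i)
noncomputable def eT4753 (i : Nat) : Nat := Bool.rec (eL4762 i) (eL4763 i) (Nat.ble 4877312 i)
noncomputable def eT4754 (i : Nat) : Nat := Bool.rec (eL4761 i) (eT4753 i) (Nat.ble 4876288 i)
noncomputable def eT4755 (i : Nat) : Nat := Bool.rec (eL4765 i) (eL4766 i) (Nat.ble 4880384 i)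
noncomputable def eT4756 (i : Nat) : Nat := Bool.rec (eL4764 i) (eT4755 i) (Nat.ble 4879360 i)
noncomputable def eT4757 (i : Nat) : Nat := Bool.rec (eT4754 i) (eT4756 i) (Nat.ble 4878336 i)
noncomputable def eT4758 (i : Nat) : Nat := Bool.rec (eT4752 i) (eT4757 i) (Nat.ble 4875264 i)
noncomputable def eT4759 (i : Nat) : Nat := Bool.rec (eT4748 i) (eT4758 i) (Nat.ble 4870144 i)
noncomputable def eT4760 (i : Nat) : Nat := Bool.rec (eT4739 i) (eT4759 i) (Nat.ble 4859904 i)
noncomputable def eT4761 (i : Nat) : Nat := Bool.rec (eT4720 i) (eT4760 i) (Nat.ble 4839424 i)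
noncomputable def eT4762 (i : Nat) : Nat := Bool.rec (eT4680 i) (eT4761 i) (Nat.ble 4797440 i)
noncomputable def eT4763 (i : Nat) : Nat := Bool.rec (eL4767 i) (eL4768 i) (Nat.ble 4882432 i)
noncomputable def eT4764 (i : Nat) : Nat := Bool.rec (eL4770 i) (eL4771 i) (Nat.ble 4885504 i)
noncomputable def eT4765 (i : Nat) : Nat := Bool.rec (eL4769 i) (eT4764 i) (Nat.ble 4884480 i)
noncomputable def eT4766 (i : Nat) : Nat := Bool.rec (eT4763 i) (eT4765 i) (Nat.ble 4883456 i)
noncomputable def eT4767 (i : Nat) : Nat := Bool.rec (eL4772 i) (eL4773 i) (Nat.ble 4887552 i)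
noncomputable def eT4768 (i : Nat) : Nat := Bool.rec (eL4775 i) (eL4776 i) (Nat.ble 4890624 i)
noncomputable def eT4769 (i : Nat) : Nat := Bool.rec (eL4774 i) (eT4768 i) (Nat.ble 4889600 i)
noncomputable def eT4770 (i : Nat) : Nat := Bool.rec (eT4767 i) (eT4769 i) (Nat.ble 4888576 i)
noncomputable def eT4771 (i : Nat) : Nat := Bool.rec (eT4766 i) (eT4770 i) (Nat.ble 4886528 i)
noncomputable def eT4772 (i : Nat) : Nat := Bool.rec (eL4777 i) (eL4778 i) (Nat.ble 4892672 i)
noncomputable def eT4773 (i : Nat) : Nat := Bool.rec (eL4780 i) (eL4781 i) (Nat.ble 4895744 i)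
noncomputable def eT4774 (i : Nat) : Nat := Bool.rec (eL4779 i) (eT4773 i) (Nat.ble 4894720 i)
noncomputable def eT4775 (i : Nat) : Nat := Bool.rec (eT4772 i) (eT4774 i) (Nat.ble 4893696 i)
noncomputable def eT4776 (i : Nat) : Nat := Bool.rec (eL4782 i) (eL4783 i) (Nat.ble 4897792 i)
noncomputable def eT4777 (i : Nat) : Nat := Bool.rec (eL4785 i) (eL4786 i) (Nat.ble 4900864 i)
noncomputable def eT4778 (i : Nat) : Nat := Bool.rec (eL4784 i) (eT4777 i) (Nat.ble 4899840 i)
noncomputable def eT4779 (i : Nat) : Nat := Bool.rec (eT4776 i) (eT4778 i) (Nat.ble 4898816 i)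
noncomputable def eT4780 (i : Nat) : Nat := Bool.rec (eT4775 i) (eT4779 i) (Nat.ble 4896768 i)
noncomputable def eT4781 (i : Nat) : Nat := Bool.rec (eT4771 i) (eT4780 i) (Nat.ble 4891648 i)
noncomputable def eT4782 (i : Nat) : Nat := Bool.rec (eL4787 i) (eL4788 i) (Nat.ble 4902912 i)
noncomputable def eT4783 (i : Nat) : Nat := Bool.rec (eL4790 i) (eL4791 i) (Nat.ble 4905984 i)
noncomputable def eT4784 (i : Nat) : Nat := Bool.rec (eL4789 i) (eT4783 i) (Nat.ble 4904960 i)
noncomputable def eT4785 (i : Nat) : Nat := Bool.rec (eT4782 i) (eT4784 i) (Nat.ble 4903936 i)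
noncomputable def eT4786 (i : Nat) : Nat := Bool.rec (eL4792 i) (eL4793 i) (Nat.ble 4908032 i)
noncomputable def eT4787 (i : Nat) : Nat := Bool.rec (eL4795 i) (eL4796 i) (Nat.ble 4911104 i)
noncomputable def eT4788 (i : Nat) : Nat := Bool.rec (eL4794 i) (eT4787 i) (Nat.ble 4910080 i)
noncomputable def eT4789 (i : Nat) : Nat := Bool.rec (eT4786 i) (eT4788 i) (Nat.ble 4909056 i)
noncomputable def eT4790 (i : Nat) : Nat := Bool.rec (eT4785 i) (eT4789 i) (Nat.ble 4907008 i)
noncomputable def eT4791 (i : Nat) : Nat := Bool.rec (eL4797 i) (eL4798 i) (Nat.ble 4913152 i)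
noncomputable def eT4792 (i : Nat) : Nat := Bool.rec (eL4800 i) (eL4801 i) (Nat.ble 4916224 i)
noncomputable def eT4793 (i : Nat) : Nat := Bool.rec (eL4799 i) (eT4792 i) (Nat.ble 4915200 i)
noncomputable def eT4794 (i : Nat) : Nat := Bool.rec (eT4791 i) (eT4793 i) (Nat.ble 4914176 i)
noncomputable def eT4795 (i : Nat) : Nat := Bool.rec (eL4803 i) (eL4804 i) (Nat.ble 4919296 i)
noncomputable def eT4796 (i : Nat) : Nat := Bool.rec (eL4802 i) (eT4795 i) (Nat.ble 4918272 i)
noncomputable def eT4797 (i : Nat) : Nat := Bool.rec (eL4806 i) (eL4807 i) (Nat.ble 4922368 i)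
noncomputable def eT4798 (i : Nat) : Nat := Bool.rec (eL4805 i) (eT4797 i) (Nat.ble 4921344 i)
noncomputable def eT4799 (i : Nat) : Nat := Bool.rec (eT4796 i) (eT4798 i) (Nat.ble 4920320 i)
noncomputable def eT4800 (i : Nat) : Nat := Bool.rec (eT4794 i) (eT4799 i) (Nat.ble 4917248 i)
noncomputable def eT4801 (i : Nat) : Nat := Bool.rec (eT4790 i) (eT4800 i) (Nat.ble 4912128 i)
noncomputable def eT4802 (i : Nat) : Nat := Bool.rec (eT4781 i) (eT4801 i) (Nat.ble 4901888 i)
noncomputable def eT4803 (i : Nat) : Nat := Bool.rec (eL4808 i) (eL4809 i) (Nat.ble 4924416 i)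
noncomputable def eT4804 (i : Nat) : Nat := Bool.rec (eL4811 i) (eL4812 i) (Nat.ble 4927488 i)
noncomputable def eT4805 (i : Nat) : Nat := Bool.rec (eL4810 i) (eT4804 i) (Nat.ble 4926464 i)
noncomputable def eT4806 (i : Nat) : Nat := Bool.rec (eT4803 i) (eT4805 i) (Nat.ble 4925440 i)
noncomputable def eT4807 (i : Nat) : Nat := Bool.rec (eL4813 i) (eL4814 i) (Nat.ble 4929536 i)
noncomputable def eT4808 (i : Nat) : Nat := Bool.rec (eL4816 i) (eL4817 i) (Nat.ble 4932608 i)
noncomputable def eT4809 (i : Nat) : Nat := Bool.rec (eL4815 i) (eT4808 i) (Nat.ble 4931584 i)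
noncomputable def eT4810 (i : Nat) : Nat := Bool.rec (eT4807 i) (eT4809 i) (Nat.ble 4930560 i)
noncomputable def eT4811 (i : Nat) : Nat := Bool.rec (eT4806 i) (eT4810 i) (Nat.ble 4928512 i)
noncomputable def eT4812 (i : Nat) : Nat := Bool.rec (eL4818 i) (eL4819 i) (Nat.ble 4934656 i)
noncomputable def eT4813 (i : Nat) : Nat := Bool.rec (eL4821 i) (eL4822 i) (Nat.ble 4937728 i)
noncomputable def eT4814 (i : Nat) : Nat := Bool.rec (eL4820 i) (eT4813 i) (Nat.ble 4936704 i)
noncomputable def eT4815 (i : Nat) : Nat := Bool.rec (eT4812 i) (eT4814 i) (Nat.ble 4935680 i)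
noncomputable def eT4816 (i : Nat) : Nat := Bool.rec (eL4823 i) (eL4824 i) (Nat.ble 4939776 i)
noncomputable def eT4817 (i : Nat) : Nat := Bool.rec (eL4826 i) (eL4827 i) (Nat.ble 4942848 i)
noncomputable def eT4818 (i : Nat) : Nat := Bool.rec (eL4825 i) (eT4817 i) (Nat.ble 4941824 i)
noncomputable def eT4819 (i : Nat) : Nat := Bool.rec (eT4816 i) (eT4818 i) (Nat.ble 4940800 i)
noncomputable def eT4820 (i : Nat) : Nat := Bool.rec (eT4815 i) (eT4819 i) (Nat.ble 4938752 i)
noncomputable def eT4821 (i : Nat) : Nat := Bool.rec (eT4811 i) (eT4820 i) (Nat.ble 4933632 i)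
noncomputable def eT4822 (i : Nat) : Nat := Bool.rec (eL4828 i) (eL4829 i) (Nat.ble 4944896 i)
noncomputable def eT4823 (i : Nat) : Nat := Bool.rec (eL4831 i) (eL4832 i) (Nat.ble 4947968 i)
noncomputable def eT4824 (i : Nat) : Nat := Bool.rec (eL4830 i) (eT4823 i) (Nat.ble 4946944 i)
noncomputable def eT4825 (i : Nat) : Nat := Bool.rec (eT4822 i) (eT4824 i) (Nat.ble 4945920 i)
noncomputable def eT4826 (i : Nat) : Nat := Bool.rec (eL4833 i) (eL4834 i) (Nat.ble 4950016 i)
noncomputable def eT4827 (i : Nat) : Nat := Bool.rec (eL4836 i) (eL4837 i) (Nat.ble 4953088 i)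
noncomputable def eT4828 (i : Nat) : Nat := Bool.rec (eL4835 i) (eT4827 i) (Nat.ble 4952064 i)
noncomputable def eT4829 (i : Nat) : Nat := Bool.rec (eT4826 i) (eT4828 i) (Nat.ble 4951040 i)
noncomputable def eT4830 (i : Nat) : Nat := Bool.rec (eT4825 i) (eT4829 i) (Nat.ble 4948992 i)
noncomputable def eT4831 (i : Nat) : Nat := Bool.rec (eL4838 i) (eL4839 i) (Nat.ble 4955136 i)
noncomputable def eT4832 (i : Nat) : Nat := Bool.rec (eL4841 i) (eL4842 i) (Nat.ble 4958208 i)
noncomputable def eT4833 (i : Nat) : Nat := Bool.rec (eL4840 i) (eT4832 i) (Nat.ble 4957184 i)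
noncomputable def eT4834 (i : Nat) : Nat := Bool.rec (eT4831 i) (eT4833 i) (Nat.ble 4956160 i)
noncomputable def eT4835 (i : Nat) : Nat := Bool.rec (eL4844 i) (eL4845 i) (Nat.ble 4961280 i)
noncomputable def eT4836 (i : Nat) : Nat := Bool.rec (eL4843 i) (eT4835 i) (Nat.ble 4960256 i)
noncomputable def eT4837 (i : Nat) : Nat := Bool.rec (eL4847 i) (eL4848 i) (Nat.ble 4964352 i)
noncomputable def eT4838 (i : Nat) : Nat := Bool.rec (eL4846 i) (eT4837 i) (Nat.ble 4963328 i)
noncomputable def eT4839 (i : Nat) : Nat := Bool.rec (eT4836 i) (eT4838 i) (Nat.ble 4962304 i)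
noncomputable def eT4840 (i : Nat) : Nat := Bool.rec (eT4834 i) (eT4839 i) (Nat.ble 4959232 i)
noncomputable def eT4841 (i : Nat) : Nat := Bool.rec (eT4830 i) (eT4840 i) (Nat.ble 4954112 i)
noncomputable def eT4842 (i : Nat) : Nat := Bool.rec (eT4821 i) (eT4841 i) (Nat.ble 4943872 i)
noncomputable def eT4843 (i : Nat) : Nat := Bool.rec (eT4802 i) (eT4842 i) (Nat.ble 4923392 i)
noncomputable def eT4844 (i : Nat) : Nat := Bool.rec (eL4849 i) (eL4850 i) (Nat.ble 4966400 i)
noncomputable def eT4845 (i : Nat) : Nat := Bool.rec (eL4852 i) (eL4853 i) (Nat.ble 4969472 i)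
noncomputable def eT4846 (i : Nat) : Nat := Bool.rec (eL4851 i) (eT4845 i) (Nat.ble 4968448 i)
noncomputable def eT4847 (i : Nat) : Nat := Bool.rec (eT4844 i) (eT4846 i) (Nat.ble 4967424 i)
noncomputable def eT4848 (i : Nat) : Nat := Bool.rec (eL4854 i) (eL4855 i) (Nat.ble 4971520 i)
noncomputable def eT4849 (i : Nat) : Nat := Bool.rec (eL4857 i) (eL4858 i) (Nat.ble 4974592 i)
noncomputable def eT4850 (i : Nat) : Nat := Bool.rec (eL4856 i) (eT4849 i) (Nat.ble 4973568 i)
noncomputable def eT4851 (i : Nat) : Nat := Bool.rec (eT4848 i) (eT4850 i) (Nat.ble 4972544 i)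
noncomputable def eT4852 (i : Nat) : Nat := Bool.rec (eT4847 i) (eT4851 i) (Nat.ble 4970496 i)
noncomputable def eT4853 (i : Nat) : Nat := Bool.rec (eL4859 i) (eL4860 i) (Nat.ble 4976640 i)
noncomputable def eT4854 (i : Nat) : Nat := Bool.rec (eL4862 i) (eL4863 i) (Nat.ble 4979712 i)
noncomputable def eT4855 (i : Nat) : Nat := Bool.rec (eL4861 i) (eT4854 i) (Nat.ble 4978688 i)
noncomputable def eT4856 (i : Nat) : Nat := Bool.rec (eT4853 i) (eT4855 i) (Nat.ble 4977664 i)
noncomputable def eT4857 (i : Nat) : Nat := Bool.rec (eL4864 i) (eL4865 i) (Nat.ble 4981760 i)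
noncomputable def eT4858 (i : Nat) : Nat := Bool.rec (eL4867 i) (eL4868 i) (Nat.ble 4984832 i)
noncomputable def eT4859 (i : Nat) : Nat := Bool.rec (eL4866 i) (eT4858 i) (Nat.ble 4983808 i)
noncomputable def eT4860 (i : Nat) : Nat := Bool.rec (eT4857 i) (eT4859 i) (Nat.ble 4982784 i)
noncomputable def eT4861 (i : Nat) : Nat := Bool.rec (eT4856 i) (eT4860 i) (Nat.ble 4980736 i)
noncomputable def eT4862 (i : Nat) : Nat := Bool.rec (eT4852 i) (eT4861 i) (Nat.ble 4975616 i)
noncomputable def eT4863 (i : Nat) : Nat := Bool.rec (eL4869 i) (eL4870 i) (Nat.ble 4986880 i)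
noncomputable def eT4864 (i : Nat) : Nat := Bool.rec (eL4872 i) (eL4873 i) (Nat.ble 4989952 i)
noncomputable def eT4865 (i : Nat) : Nat := Bool.rec (eL4871 i) (eT4864 i) (Nat.ble 4988928 i)
noncomputable def eT4866 (i : Nat) : Nat := Bool.rec (eT4863 i) (eT4865 i) (Nat.ble 4987904 i)
noncomputable def eT4867 (i : Nat) : Nat := Bool.rec (eL4874 i) (eL4875 i) (Nat.ble 4992000 i)
noncomputable def eT4868 (i : Nat) : Nat := Bool.rec (eL4877 i) (eL4878 i) (Nat.ble 4995072 i)
noncomputable def eT4869 (i : Nat) : Nat := Bool.rec (eL4876 i) (eT4868 i) (Nat.ble 4994048 i)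
noncomputable def eT4870 (i : Nat) : Nat := Bool.rec (eT4867 i) (eT4869 i) (Nat.ble 4993024 i)
noncomputable def eT4871 (i : Nat) : Nat := Bool.rec (eT4866 i) (eT4870 i) (Nat.ble 4990976 i)
noncomputable def eT4872 (i : Nat) : Nat := Bool.rec (eL4879 i) (eL4880 i) (Nat.ble 4997120 i)
noncomputable def eT4873 (i : Nat) : Nat := Bool.rec (eL4882 i) (eL4883 i) (Nat.ble 5000192 i)
noncomputable def eT4874 (i : Nat) : Nat := Bool.rec (eL4881 i) (eT4873 i) (Nat.ble 4999168 i)
noncomputable def eT4875 (i : Nat) : Nat := Bool.rec (eT4872 i) (eT4874 i) (Nat.ble 4998144 i)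
noncomputable def eT4876 (i : Nat) : Nat := Bool.rec (eL4885 i) (eL4886 i) (Nat.ble 5003264 i)
noncomputable def eT4877 (i : Nat) : Nat := Bool.rec (eL4884 i) (eT4876 i) (Nat.ble 5002240 i)
noncomputable def eT4878 (i : Nat) : Nat := Bool.rec (eL4888 i) (eL4889 i) (Nat.ble 5006336 i)
noncomputable def eT4879 (i : Nat) : Nat := Bool.rec (eL4887 i) (eT4878 i) (Nat.ble 5005312 i)
noncomputable def eT4880 (i : Nat) : Nat := Bool.rec (eT4877 i) (eT4879 i) (Nat.ble 5004288 i)
noncomputable def eT4881 (i : Nat) : Nat := Bool.rec (eT4875 i) (eT4880 i) (Nat.ble 5001216 i)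
noncomputable def eT4882 (i : Nat) : Nat := Bool.rec (eT4871 i) (eT4881 i) (Nat.ble 4996096 i)
noncomputable def eT4883 (i : Nat) : Nat := Bool.rec (eT4862 i) (eT4882 i) (Nat.ble 4985856 i)
noncomputable def eT4884 (i : Nat) : Nat := Bool.rec (eL4890 i) (eL4891 i) (Nat.ble 5008384 i)
noncomputable def eT4885 (i : Nat) : Nat := Bool.rec (eL4893 i) (eL4894 i) (Nat.ble 5011456 i)
noncomputable def eT4886 (i : Nat) : Nat := Bool.rec (eL4892 i) (eT4885 i) (Nat.ble 5010432 i)
noncomputable def eT4887 (i : Nat) : Nat := Bool.rec (eT4884 i) (eT4886 i) (Nat.ble 5009408 i)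
noncomputable def eT4888 (i : Nat) : Nat := Bool.rec (eL4895 i) (eL4896 i) (Nat.ble 5013504 i)
noncomputable def eT4889 (i : Nat) : Nat := Bool.rec (eL4898 i) (eL4899 i) (Nat.ble 5016576 i)
noncomputable def eT4890 (i : Nat) : Nat := Bool.rec (eL4897 i) (eT4889 i) (Nat.ble 5015552 i)
noncomputable def eT4891 (i : Nat) : Nat := Bool.rec (eT4888 i) (eT4890 i) (Nat.ble 5014528 i)
noncomputable def eT4892 (i : Nat) : Nat := Bool.rec (eT4887 i) (eT4891 i) (Nat.ble 5012480 i)
noncomputable def eT4893 (i : Nat) : Nat := Bool.rec (eL4900 i) (eL4901 i) (Nat.ble 5018624 i)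
noncomputable def eT4894 (i : Nat) : Nat := Bool.rec (eL4903 i) (eL4904 i) (Nat.ble 5021696 i)
noncomputable def eT4895 (i : Nat) : Nat := Bool.rec (eL4902 i) (eT4894 i) (Nat.ble 5020672 i)
noncomputable def eT4896 (i : Nat) : Nat := Bool.rec (eT4893 i) (eT4895 i) (Nat.ble 5019648 i)
noncomputable def eT4897 (i : Nat) : Nat := Bool.rec (eL4906 i) (eL4907 i) (Nat.ble 5024768 i)
noncomputable def eT4898 (i : Nat) : Nat := Bool.rec (eL4905 i) (eT4897 i) (Nat.ble 5023744 i)
noncomputable def eT4899 (i : Nat) : Nat := Bool.rec (eL4909 i) (eL4910 i) (Nat.ble 5027840 i)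
noncomputable def eT4900 (i : Nat) : Nat := Bool.rec (eL4908 i) (eT4899 i) (Nat.ble 5026816 i)
noncomputable def eT4901 (i : Nat) : Nat := Bool.rec (eT4898 i) (eT4900 i) (Nat.ble 5025792 i)
noncomputable def eT4902 (i : Nat) : Nat := Bool.rec (eT4896 i) (eT4901 i) (Nat.ble 5022720 i)
noncomputable def eT4903 (i : Nat) : Nat := Bool.rec (eT4892 i) (eT4902 i) (Nat.ble 5017600 i)
noncomputable def eT4904 (i : Nat) : Nat := Bool.rec (eL4911 i) (eL4912 i) (Nat.ble 5029888 i)
noncomputable def eT4905 (i : Nat) : Nat := Bool.rec (eL4914 i) (eL4915 i) (Nat.ble 5032960 i)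
noncomputable def eT4906 (i : Nat) : Nat := Bool.rec (eL4913 i) (eT4905 i) (Nat.ble 5031936 i)
noncomputable def eT4907 (i : Nat) : Nat := Bool.rec (eT4904 i) (eT4906 i) (Nat.ble 5030912 i)
noncomputable def eT4908 (i : Nat) : Nat := Bool.rec (eL4916 i) (eL4917 i) (Nat.ble 5035008 i)
noncomputable def eT4909 (i : Nat) : Nat := Bool.rec (eL4919 i) (eL4920 i) (Nat.ble 5038080 i)
noncomputable def eT4910 (i : Nat) : Nat := Bool.rec (eL4918 i) (eT4909 i) (Nat.ble 5037056 i)
noncomputable def eT4911 (i : Nat) : Nat := Bool.rec (eT4908 i) (eT4910 i) (Nat.ble 5036032 i)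
noncomputable def eT4912 (i : Nat) : Nat := Bool.rec (eT4907 i) (eT4911 i) (Nat.ble 5033984 i)
noncomputable def eT4913 (i : Nat) : Nat := Bool.rec (eL4921 i) (eL4922 i) (Nat.ble 5040128 i)
noncomputable def eT4914 (i : Nat) : Nat := Bool.rec (eL4924 i) (eL4925 i) (Nat.ble 5043200 i)
noncomputable def eT4915 (i : Nat) : Nat := Bool.rec (eL4923 i) (eT4914 i) (Nat.ble 5042176 i)
noncomputable def eT4916 (i : Nat) : Nat := Bool.rec (eT4913 i) (eT4915 i) (Nat.ble 5041152 i)
noncomputable def eT4917 (i : Nat) : Nat := Bool.rec (eL4927 i) (eL4928 i) (Nat.ble 5046272 i)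
noncomputable def eT4918 (i : Nat) : Nat := Bool.rec (eL4926 i) (eT4917 i) (Nat.ble 5045248 i)
noncomputable def eT4919 (i : Nat) : Nat := Bool.rec (eL4930 i) (eL4931 i) (Nat.ble 5049344 i)
noncomputable def eT4920 (i : Nat) : Nat := Bool.rec (eL4929 i) (eT4919 i) (Nat.ble 5048320 i)
noncomputable def eT4921 (i : Nat) : Nat := Bool.rec (eT4918 i) (eT4920 i) (Nat.ble 5047296 i)
noncomputable def eT4922 (i : Nat) : Nat := Bool.rec (eT4916 i) (eT4921 i) (Nat.ble 5044224 i)
noncomputable def eT4923 (i : Nat) : Nat := Bool.rec (eT4912 i) (eT4922 i) (Nat.ble 5039104 i)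
noncomputable def eT4924 (i : Nat) : Nat := Bool.rec (eT4903 i) (eT4923 i) (Nat.ble 5028864 i)
noncomputable def eT4925 (i : Nat) : Nat := Bool.rec (eT4883 i) (eT4924 i) (Nat.ble 5007360 i)
noncomputable def eT4926 (i : Nat) : Nat := Bool.rec (eT4843 i) (eT4925 i) (Nat.ble 4965376 i)
noncomputable def eT4927 (i : Nat) : Nat := Bool.rec (eT4762 i) (eT4926 i) (Nat.ble 4881408 i)
noncomputable def eT4928 (i : Nat) : Nat := Bool.rec (eL4932 i) (eL4933 i) (Nat.ble 5051392 i)
noncomputable def eT4929 (i : Nat) : Nat := Bool.rec (eL4935 i) (eL4936 i) (Nat.ble 5054464 i)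
noncomputable def eT4930 (i : Nat) : Nat := Bool.rec (eL4934 i) (eT4929 i) (Nat.ble 5053440 i)
noncomputable def eT4931 (i : Nat) : Nat := Bool.rec (eT4928 i) (eT4930 i) (Nat.ble 5052416 i)
noncomputable def eT4932 (i : Nat) : Nat := Bool.rec (eL4937 i) (eL4938 i) (Nat.ble 5056512 i)
noncomputable def eT4933 (i : Nat) : Nat := Bool.rec (eL4940 i) (eL4941 i) (Nat.ble 5059584 i)
noncomputable def eT4934 (i : Nat) : Nat := Bool.rec (eL4939 i) (eT4933 i) (Nat.ble 5058560 i)
noncomputable def eT4935 (i : Nat) : Nat := Bool.rec (eT4932 i) (eT4934 i) (Nat.ble 5057536 i)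
noncomputable def eT4936 (i : Nat) : Nat := Bool.rec (eT4931 i) (eT4935 i) (Nat.ble 5055488 i)
noncomputable def eT4937 (i : Nat) : Nat := Bool.rec (eL4942 i) (eL4943 i) (Nat.ble 5061632 i)
noncomputable def eT4938 (i : Nat) : Nat := Bool.rec (eL4945 i) (eL4946 i) (Nat.ble 5064704 i)
noncomputable def eT4939 (i : Nat) : Nat := Bool.rec (eL4944 i) (eT4938 i) (Nat.ble 5063680 i)
noncomputable def eT4940 (i : Nat) : Nat := Bool.rec (eT4937 i) (eT4939 i) (Nat.ble 5062656 i)
noncomputable def eT4941 (i : Nat) : Nat := Bool.rec (eL4947 i) (eL4948 i) (Nat.ble 5066752 i)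
noncomputable def eT4942 (i : Nat) : Nat := Bool.rec (eL4950 i) (eL4951 i) (Nat.ble 5069824 i)
noncomputable def eT4943 (i : Nat) : Nat := Bool.rec (eL4949 i) (eT4942 i) (Nat.ble 5068800 i)
noncomputable def eT4944 (i : Nat) : Nat := Bool.rec (eT4941 i) (eT4943 i) (Nat.ble 5067776 i)
noncomputable def eT4945 (i : Nat) : Nat := Bool.rec (eT4940 i) (eT4944 i) (Nat.ble 5065728 i)
noncomputable def eT4946 (i : Nat) : Nat := Bool.rec (eT4936 i) (eT4945 i) (Nat.ble 5060608 i)
noncomputable def eT4947 (i : Nat) : Nat := Bool.rec (eL4952 i) (eL4953 i) (Nat.ble 5071872 i)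
noncomputable def eT4948 (i : Nat) : Nat := Bool.rec (eL4955 i) (eL4956 i) (Nat.ble 5074944 i)
noncomputable def eT4949 (i : Nat) : Nat := Bool.rec (eL4954 i) (eT4948 i) (Nat.ble 5073920 i)
noncomputable def eT4950 (i : Nat) : Nat := Bool.rec (eT4947 i) (eT4949 i) (Nat.ble 5072896 i)
noncomputable def eT4951 (i : Nat) : Nat := Bool.rec (eL4957 i) (eL4958 i) (Nat.ble 5076992 i)
noncomputable def eT4952 (i : Nat) : Nat := Bool.rec (eL4960 i) (eL4961 i) (Nat.ble 5080064 i)
noncomputable def eT4953 (i : Nat) : Nat := Bool.rec (eL4959 i) (eT4952 i) (Nat.ble 5079040 i)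
noncomputable def eT4954 (i : Nat) : Nat := Bool.rec (eT4951 i) (eT4953 i) (Nat.ble 5078016 i)
noncomputable def eT4955 (i : Nat) : Nat := Bool.rec (eT4950 i) (eT4954 i) (Nat.ble 5075968 i)
noncomputable def eT4956 (i : Nat) : Nat := Bool.rec (eL4962 i) (eL4963 i) (Nat.ble 5082112 i)
noncomputable def eT4957 (i : Nat) : Nat := Bool.rec (eL4965 i) (eL4966 i) (Nat.ble 5085184 i)
noncomputable def eT4958 (i : Nat) : Nat := Bool.rec (eL4964 i) (eT4957 i) (Nat.ble 5084160 i)
noncomputable def eT4959 (i : Nat) : Nat := Bool.rec (eT4956 i) (eT4958 i) (Nat.ble 5083136 i)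
noncomputable def eT4960 (i : Nat) : Nat := Bool.rec (eL4968 i) (eL4969 i) (Nat.ble 5088256 i)
noncomputable def eT4961 (i : Nat) : Nat := Bool.rec (eL4967 i) (eT4960 i) (Nat.ble 5087232 i)
noncomputable def eT4962 (i : Nat) : Nat := Bool.rec (eL4971 i) (eL4972 i) (Nat.ble 5091328 i)
noncomputable def eT4963 (i : Nat) : Nat := Bool.rec (eL4970 i) (eT4962 i) (Nat.ble 5090304 i)
noncomputable def eT4964 (i : Nat) : Nat := Bool.rec (eT4961 i) (eT4963 i) (Nat.ble 5089280 i)
noncomputable def eT4965 (i : Nat) : Nat := Bool.rec (eT4959 i) (eT4964 i) (Nat.ble 5086208 i)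
noncomputable def eT4966 (i : Nat) : Nat := Bool.rec (eT4955 i) (eT4965 i) (Nat.ble 5081088 i)
noncomputable def eT4967 (i : Nat) : Nat := Bool.rec (eT4946 i) (eT4966 i) (Nat.ble 5070848 i)
noncomputable def eT4968 (i : Nat) : Nat := Bool.rec (eL4973 i) (eL4974 i) (Nat.ble 5093376 i)
noncomputable def eT4969 (i : Nat) : Nat := Bool.rec (eL4976 i) (eL4977 i) (Nat.ble 5096448 i)
noncomputable def eT4970 (i : Nat) : Nat := Bool.rec (eL4975 i) (eT4969 i) (Nat.ble 5095424 i)
noncomputable def eT4971 (i : Nat) : Nat := Bool.rec (eT4968 i) (eT4970 i) (Nat.ble 5094400 i)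
noncomputable def eT4972 (i : Nat) : Nat := Bool.rec (eL4978 i) (eL4979 i) (Nat.ble 5098496 i)
noncomputable def eT4973 (i : Nat) : Nat := Bool.rec (eL4981 i) (eL4982 i) (Nat.ble 5101568 i)
noncomputable def eT4974 (i : Nat) : Nat := Bool.rec (eL4980 i) (eT4973 i) (Nat.ble 5100544 i)
noncomputable def eT4975 (i : Nat) : Nat := Bool.rec (eT4972 i) (eT4974 i) (Nat.ble 5099520 i)
noncomputable def eT4976 (i : Nat) : Nat := Bool.rec (eT4971 i) (eT4975 i) (Nat.ble 5097472 i)
noncomputable def eT4977 (i : Nat) : Nat := Bool.rec (eL4983 i) (eL4984 i) (Nat.ble 5103616 i)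
noncomputable def eT4978 (i : Nat) : Nat := Bool.rec (eL4986 i) (eL4987 i) (Nat.ble 5106688 i)
noncomputable def eT4979 (i : Nat) : Nat := Bool.rec (eL4985 i) (eT4978 i) (Nat.ble 5105664 i)
noncomputable def eT4980 (i : Nat) : Nat := Bool.rec (eT4977 i) (eT4979 i) (Nat.ble 5104640 i)
noncomputable def eT4981 (i : Nat) : Nat := Bool.rec (eL4988 i) (eL4989 i) (Nat.ble 5108736 i)
noncomputable def eT4982 (i : Nat) : Nat := Bool.rec (eL4991 i) (eL4992 i) (Nat.ble 5111808 i)
noncomputable def eT4983 (i : Nat) : Nat := Bool.rec (eL4990 i) (eT4982 i) (Nat.ble 5110784 i)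
noncomputable def eT4984 (i : Nat) : Nat := Bool.rec (eT4981 i) (eT4983 i) (Nat.ble 5109760 i)
noncomputable def eT4985 (i : Nat) : Nat := Bool.rec (eT4980 i) (eT4984 i) (Nat.ble 5107712 i)
noncomputable def eT4986 (i : Nat) : Nat := Bool.rec (eT4976 i) (eT4985 i) (Nat.ble 5102592 i)
noncomputable def eT4987 (i : Nat) : Nat := Bool.rec (eL4993 i) (eL4994 i) (Nat.ble 5113856 i)
noncomputable def eT4988 (i : Nat) : Nat := Bool.rec (eL4996 i) (eL4997 i) (Nat.ble 5116928 i)
noncomputable def eT4989 (i : Nat) : Nat := Bool.rec (eL4995 i) (eT4988 i) (Nat.ble 5115904 i)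
noncomputable def eT4990 (i : Nat) : Nat := Bool.rec (eT4987 i) (eT4989 i) (Nat.ble 5114880 i)
noncomputable def eT4991 (i : Nat) : Nat := Bool.rec (eL4998 i) (eL4999 i) (Nat.ble 5118976 i)
noncomputable def eT4992 (i : Nat) : Nat := Bool.rec (eL5001 i) (eL5002 i) (Nat.ble 5122048 i)
noncomputable def eT4993 (i : Nat) : Nat := Bool.rec (eL5000 i) (eT4992 i) (Nat.ble 5121024 i)
noncomputable def eT4994 (i : Nat) : Nat := Bool.rec (eT4991 i) (eT4993 i) (Nat.ble 5120000 i)
noncomputable def eT4995 (i : Nat) : Nat := Bool.rec (eT4990 i) (eT4994 i) (Nat.ble 5117952 i)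
noncomputable def eT4996 (i : Nat) : Nat := Bool.rec (eL5003 i) (eL5004 i) (Nat.ble 5124096 i)
noncomputable def eT4997 (i : Nat) : Nat := Bool.rec (eL5006 i) (eL5007 i) (Nat.ble 5127168 i)
noncomputable def eT4998 (i : Nat) : Nat := Bool.rec (eL5005 i) (eT4997 i) (Nat.ble 5126144 i)
noncomputable def eT4999 (i : Nat) : Nat := Bool.rec (eT4996 i) (eT4998 i) (Nat.ble 5125120 i)
noncomputable def eT5000 (i : Nat) : Nat := Bool.rec (eL5009 i) (eL5010 i) (Nat.ble 5130240 i)
noncomputable def eT5001 (i : Nat) : Nat := Bool.rec (eL5008 i) (eT5000 i) (Nat.ble 5129216 i)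
noncomputable def eT5002 (i : Nat) : Nat := Bool.rec (eL5012 i) (eL5013 i) (Nat.ble 5133312 i)
noncomputable def eT5003 (i : Nat) : Nat := Bool.rec (eL5011 i) (eT5002 i) (Nat.ble 5132288 i)
noncomputable def eT5004 (i : Nat) : Nat := Bool.rec (eT5001 i) (eT5003 i) (Nat.ble 5131264 i)
noncomputable def eT5005 (i : Nat) : Nat := Bool.rec (eT4999 i) (eT5004 i) (Nat.ble 5128192 i)
noncomputable def eT5006 (i : Nat) : Nat := Bool.rec (eT4995 i) (eT5005 i) (Nat.ble 5123072 i)
noncomputable def eT5007 (i : Nat) : Nat := Bool.rec (eT4986 i) (eT5006 i) (Nat.ble 5112832 i)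
noncomputable def eT5008 (i : Nat) : Nat := Bool.rec (eT4967 i) (eT5007 i) (Nat.ble 5092352 i)
noncomputable def eT5009 (i : Nat) : Nat := Bool.rec (eL5014 i) (eL5015 i) (Nat.ble 5135360 i)
noncomputable def eT5010 (i : Nat) : Nat := Bool.rec (eL5017 i) (eL5018 i) (Nat.ble 5138432 i)
noncomputable def eT5011 (i : Nat) : Nat := Bool.rec (eL5016 i) (eT5010 i) (Nat.ble 5137408 i)
noncomputable def eT5012 (i : Nat) : Nat := Bool.rec (eT5009 i) (eT5011 i) (Nat.ble 5136384 i)
noncomputable def eT5013 (i : Nat) : Nat := Bool.rec (eL5019 i) (eL5020 i) (Nat.ble 5140480 i)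
noncomputable def eT5014 (i : Nat) : Nat := Bool.rec (eL5022 i) (eL5023 i) (Nat.ble 5143552 i)
noncomputable def eT5015 (i : Nat) : Nat := Bool.rec (eL5021 i) (eT5014 i) (Nat.ble 5142528 i)
noncomputable def eT5016 (i : Nat) : Nat := Bool.rec (eT5013 i) (eT5015 i) (Nat.ble 5141504 i)
noncomputable def eT5017 (i : Nat) : Nat := Bool.rec (eT5012 i) (eT5016 i) (Nat.ble 5139456 i)
noncomputable def eT5018 (i : Nat) : Nat := Bool.rec (eL5024 i) (eL5025 i) (Nat.ble 5145600 i)
noncomputable def eT5019 (i : Nat) : Nat := Bool.rec (eL5027 i) (eL5028 i) (Nat.ble 5148672 i)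
noncomputable def eT5020 (i : Nat) : Nat := Bool.rec (eL5026 i) (eT5019 i) (Nat.ble 5147648 i)
noncomputable def eT5021 (i : Nat) : Nat := Bool.rec (eT5018 i) (eT5020 i) (Nat.ble 5146624 i)
noncomputable def eT5022 (i : Nat) : Nat := Bool.rec (eL5029 i) (eL5030 i) (Nat.ble 5150720 i)
noncomputable def eT5023 (i : Nat) : Nat := Bool.rec (eL5032 i) (eL5033 i) (Nat.ble 5153792 i)
noncomputable def eT5024 (i : Nat) : Nat := Bool.rec (eL5031 i) (eT5023 i) (Nat.ble 5152768 i)
noncomputable def eT5025 (i : Nat) : Nat := Bool.rec (eT5022 i) (eT5024 i) (Nat.ble 5151744 i)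
noncomputable def eT5026 (i : Nat) : Nat := Bool.rec (eT5021 i) (eT5025 i) (Nat.ble 5149696 i)
noncomputable def eT5027 (i : Nat) : Nat := Bool.rec (eT5017 i) (eT5026 i) (Nat.ble 5144576 i)
noncomputable def eT5028 (i : Nat) : Nat := Bool.rec (eL5034 i) (eL5035 i) (Nat.ble 5155840 i)
noncomputable def eT5029 (i : Nat) : Nat := Bool.rec (eL5037 i) (eL5038 i) (Nat.ble 5158912 i)
noncomputable def eT5030 (i : Nat) : Nat := Bool.rec (eL5036 i) (eT5029 i) (Nat.ble 5157888 i)
noncomputable def eT5031 (i : Nat) : Nat := Bool.rec (eT5028 i) (eT5030 i) (Nat.ble 5156864 i)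
noncomputable def eT5032 (i : Nat) : Nat := Bool.rec (eL5039 i) (eL5040 i) (Nat.ble 5160960 i)
noncomputable def eT5033 (i : Nat) : Nat := Bool.rec (eL5042 i) (eL5043 i) (Nat.ble 5164032 i)
noncomputable def eT5034 (i : Nat) : Nat := Bool.rec (eL5041 i) (eT5033 i) (Nat.ble 5163008 i)
noncomputable def eT5035 (i : Nat) : Nat := Bool.rec (eT5032 i) (eT5034 i) (Nat.ble 5161984 i)
noncomputable def eT5036 (i : Nat) : Nat := Bool.rec (eT5031 i) (eT5035 i) (Nat.ble 5159936 i)
noncomputable def eT5037 (i : Nat) : Nat := Bool.rec (eL5044 i) (eL5045 i) (Nat.ble 5166080 i)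
noncomputable def eT5038 (i : Nat) : Nat := Bool.rec (eL5047 i) (eL5048 i) (Nat.ble 5169152 i)
noncomputable def eT5039 (i : Nat) : Nat := Bool.rec (eL5046 i) (eT5038 i) (Nat.ble 5168128 i)
noncomputable def eT5040 (i : Nat) : Nat := Bool.rec (eT5037 i) (eT5039 i) (Nat.ble 5167104 i)
noncomputable def eT5041 (i : Nat) : Nat := Bool.rec (eL5050 i) (eL5051 i) (Nat.ble 5172224 i)
noncomputable def eT5042 (i : Nat) : Nat := Bool.rec (eL5049 i) (eT5041 i) (Nat.ble 5171200 i)
noncomputable def eT5043 (i : Nat) : Nat := Bool.rec (eL5053 i) (eL5054 i) (Nat.ble 5175296 i)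
noncomputable def eT5044 (i : Nat) : Nat := Bool.rec (eL5052 i) (eT5043 i) (Nat.ble 5174272 i)
noncomputable def eT5045 (i : Nat) : Nat := Bool.rec (eT5042 i) (eT5044 i) (Nat.ble 5173248 i)
noncomputable def eT5046 (i : Nat) : Nat := Bool.rec (eT5040 i) (eT5045 i) (Nat.ble 5170176 i)
noncomputable def eT5047 (i : Nat) : Nat := Bool.rec (eT5036 i) (eT5046 i) (Nat.ble 5165056 i)
noncomputable def eT5048 (i : Nat) : Nat := Bool.rec (eT5027 i) (eT5047 i) (Nat.ble 5154816 i)
noncomputable def eT5049 (i : Nat) : Nat := Bool.rec (eL5055 i) (eL5056 i) (Nat.ble 5177344 i)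
noncomputable def eT5050 (i : Nat) : Nat := Bool.rec (eL5058 i) (eL5059 i) (Nat.ble 5180416 i)
noncomputable def eT5051 (i : Nat) : Nat := Bool.rec (eL5057 i) (eT5050 i) (Nat.ble 5179392 i)
noncomputable def eT5052 (i : Nat) : Nat := Bool.rec (eT5049 i) (eT5051 i) (Nat.ble 5178368 i)
noncomputable def eT5053 (i : Nat) : Nat := Bool.rec (eL5060 i) (eL5061 i) (Nat.ble 5182464 i)
noncomputable def eT5054 (i : Nat) : Nat := Bool.rec (eL5063 i) (eL5064 i) (Nat.ble 5185536 i)
noncomputable def eT5055 (i : Nat) : Nat := Bool.rec (eL5062 i) (eT5054 i) (Nat.ble 5184512 i)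
noncomputable def eT5056 (i : Nat) : Nat := Bool.rec (eT5053 i) (eT5055 i) (Nat.ble 5183488 i)
noncomputable def eT5057 (i : Nat) : Nat := Bool.rec (eT5052 i) (eT5056 i) (Nat.ble 5181440 i)
noncomputable def eT5058 (i : Nat) : Nat := Bool.rec (eL5065 i) (eL5066 i) (Nat.ble 5187584 i)
noncomputable def eT5059 (i : Nat) : Nat := Bool.rec (eL5068 i) (eL5069 i) (Nat.ble 5190656 i)
noncomputable def eT5060 (i : Nat) : Nat := Bool.rec (eL5067 i) (eT5059 i) (Nat.ble 5189632 i)
noncomputable def eT5061 (i : Nat) : Nat := Bool.rec (eT5058 i) (eT5060 i) (Nat.ble 5188608 i)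
noncomputable def eT5062 (i : Nat) : Nat := Bool.rec (eL5070 i) (eL5071 i) (Nat.ble 5192704 i)
noncomputable def eT5063 (i : Nat) : Nat := Bool.rec (eL5073 i) (eL5074 i) (Nat.ble 5195776 i)
noncomputable def eT5064 (i : Nat) : Nat := Bool.rec (eL5072 i) (eT5063 i) (Nat.ble 5194752 i)
noncomputable def eT5065 (i : Nat) : Nat := Bool.rec (eT5062 i) (eT5064 i) (Nat.ble 5193728 i)
noncomputable def eT5066 (i : Nat) : Nat := Bool.rec (eT5061 i) (eT5065 i) (Nat.ble 5191680 i)
noncomputable def eT5067 (i : Nat) : Nat := Bool.rec (eT5057 i) (eT5066 i) (Nat.ble 5186560 i)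
noncomputable def eT5068 (i : Nat) : Nat := Bool.rec (eL5075 i) (eL5076 i) (Nat.ble 5197824 i)
noncomputable def eT5069 (i : Nat) : Nat := Bool.rec (eL5078 i) (eL5079 i) (Nat.ble 5200896 i)
noncomputable def eT5070 (i : Nat) : Nat := Bool.rec (eL5077 i) (eT5069 i) (Nat.ble 5199872 i)
noncomputable def eT5071 (i : Nat) : Nat := Bool.rec (eT5068 i) (eT5070 i) (Nat.ble 5198848 i)
noncomputable def eT5072 (i : Nat) : Nat := Bool.rec (eL5080 i) (eL5081 i) (Nat.ble 5202944 i)
noncomputable def eT5073 (i : Nat) : Nat := Bool.rec (eL5083 i) (eL5084 i) (Nat.ble 5206016 i)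
noncomputable def eT5074 (i : Nat) : Nat := Bool.rec (eL5082 i) (eT5073 i) (Nat.ble 5204992 i)
noncomputable def eT5075 (i : Nat) : Nat := Bool.rec (eT5072 i) (eT5074 i) (Nat.ble 5203968 i)
noncomputable def eT5076 (i : Nat) : Nat := Bool.rec (eT5071 i) (eT5075 i) (Nat.ble 5201920 i)
noncomputable def eT5077 (i : Nat) : Nat := Bool.rec (eL5085 i) (eL5086 i) (Nat.ble 5208064 i)
noncomputable def eT5078 (i : Nat) : Nat := Bool.rec (eL5088 i) (eL5089 i) (Nat.ble 5211136 i)
noncomputable def eT5079 (i : Nat) : Nat := Bool.rec (eL5087 i) (eT5078 i) (Nat.ble 5210112 i)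
noncomputable def eT5080 (i : Nat) : Nat := Bool.rec (eT5077 i) (eT5079 i) (Nat.ble 5209088 i)
noncomputable def eT5081 (i : Nat) : Nat := Bool.rec (eL5091 i) (eL5092 i) (Nat.ble 5214208 i)
noncomputable def eT5082 (i : Nat) : Nat := Bool.rec (eL5090 i) (eT5081 i) (Nat.ble 5213184 i)
noncomputable def eT5083 (i : Nat) : Nat := Bool.rec (eL5094 i) (eL5095 i) (Nat.ble 5217280 i)
noncomputable def eT5084 (i : Nat) : Nat := Bool.rec (eL5093 i) (eT5083 i) (Nat.ble 5216256 i)
noncomputable def eT5085 (i : Nat) : Nat := Bool.rec (eT5082 i) (eT5084 i) (Nat.ble 5215232 i)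
noncomputable def eT5086 (i : Nat) : Nat := Bool.rec (eT5080 i) (eT5085 i) (Nat.ble 5212160 i)
noncomputable def eT5087 (i : Nat) : Nat := Bool.rec (eT5076 i) (eT5086 i) (Nat.ble 5207040 i)
noncomputable def eT5088 (i : Nat) : Nat := Bool.rec (eT5067 i) (eT5087 i) (Nat.ble 5196800 i)
noncomputable def eT5089 (i : Nat) : Nat := Bool.rec (eT5048 i) (eT5088 i) (Nat.ble 5176320 i)
noncomputable def eT5090 (i : Nat) : Nat := Bool.rec (eT5008 i) (eT5089 i) (Nat.ble 5134336 i)
noncomputable def eT5091 (i : Nat) : Nat := Bool.rec (eL5096 i) (eL5097 i) (Nat.ble 5219328 i)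
noncomputable def eT5092 (i : Nat) : Nat := Bool.rec (eL5099 i) (eL5100 i) (Nat.ble 5222400 i)
noncomputable def eT5093 (i : Nat) : Nat := Bool.rec (eL5098 i) (eT5092 i) (Nat.ble 5221376 i)
noncomputable def eT5094 (i : Nat) : Nat := Bool.rec (eT5091 i) (eT5093 i) (Nat.ble 5220352 i)
noncomputable def eT5095 (i : Nat) : Nat := Bool.rec (eL5101 i) (eL5102 i) (Nat.ble 5224448 i)
noncomputable def eT5096 (i : Nat) : Nat := Bool.rec (eL5104 i) (eL5105 i) (Nat.ble 5227520 i)
noncomputable def eT5097 (i : Nat) : Nat := Bool.rec (eL5103 i) (eT5096 i) (Nat.ble 5226496 i)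
noncomputable def eT5098 (i : Nat) : Nat := Bool.rec (eT5095 i) (eT5097 i) (Nat.ble 5225472 i)
noncomputable def eT5099 (i : Nat) : Nat := Bool.rec (eT5094 i) (eT5098 i) (Nat.ble 5223424 i)
noncomputable def eT5100 (i : Nat) : Nat := Bool.rec (eL5106 i) (eL5107 i) (Nat.ble 5229568 i)
noncomputable def eT5101 (i : Nat) : Nat := Bool.rec (eL5109 i) (eL5110 i) (Nat.ble 5232640 i)
noncomputable def eT5102 (i : Nat) : Nat := Bool.rec (eL5108 i) (eT5101 i) (Nat.ble 5231616 i)
noncomputable def eT5103 (i : Nat) : Nat := Bool.rec (eT5100 i) (eT5102 i) (Nat.ble 5230592 i)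
noncomputable def eT5104 (i : Nat) : Nat := Bool.rec (eL5111 i) (eL5112 i) (Nat.ble 5234688 i)
noncomputable def eT5105 (i : Nat) : Nat := Bool.rec (eL5114 i) (eL5115 i) (Nat.ble 5237760 i)
noncomputable def eT5106 (i : Nat) : Nat := Bool.rec (eL5113 i) (eT5105 i) (Nat.ble 5236736 i)
noncomputable def eT5107 (i : Nat) : Nat := Bool.rec (eT5104 i) (eT5106 i) (Nat.ble 5235712 i)
noncomputable def eT5108 (i : Nat) : Nat := Bool.rec (eT5103 i) (eT5107 i) (Nat.ble 5233664 i)
noncomputable def eT5109 (i : Nat) : Nat := Bool.rec (eT5099 i) (eT5108 i) (Nat.ble 5228544 i)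
noncomputable def eT5110 (i : Nat) : Nat := Bool.rec (eL5116 i) (eL5117 i) (Nat.ble 5239808 i)
noncomputable def eT5111 (i : Nat) : Nat := Bool.rec (eL5119 i) (eL5120 i) (Nat.ble 5242880 i)
noncomputable def eT5112 (i : Nat) : Nat := Bool.rec (eL5118 i) (eT5111 i) (Nat.ble 5241856 i)
noncomputable def eT5113 (i : Nat) : Nat := Bool.rec (eT5110 i) (eT5112 i) (Nat.ble 5240832 i)
noncomputable def eT5114 (i : Nat) : Nat := Bool.rec (eL5121 i) (eL5122 i) (Nat.ble 5244928 i)
noncomputable def eT5115 (i : Nat) : Nat := Bool.rec (eL5124 i) (eL5125 i) (Nat.ble 5248000 i)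
noncomputable def eT5116 (i : Nat) : Nat := Bool.rec (eL5123 i) (eT5115 i) (Nat.ble 5246976 i)
noncomputable def eT5117 (i : Nat) : Nat := Bool.rec (eT5114 i) (eT5116 i) (Nat.ble 5245952 i)
noncomputable def eT5118 (i : Nat) : Nat := Bool.rec (eT5113 i) (eT5117 i) (Nat.ble 5243904 i)
noncomputable def eT5119 (i : Nat) : Nat := Bool.rec (eL5126 i) (eL5127 i) (Nat.ble 5250048 i)
noncomputable def eT5120 (i : Nat) : Nat := Bool.rec (eL5129 i) (eL5130 i) (Nat.ble 5253120 i)
noncomputable def eT5121 (i : Nat) : Nat := Bool.rec (eL5128 i) (eT5120 i) (Nat.ble 5252096 i)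
noncomputable def eT5122 (i : Nat) : Nat := Bool.rec (eT5119 i) (eT5121 i) (Nat.ble 5251072 i)
noncomputable def eT5123 (i : Nat) : Nat := Bool.rec (eL5132 i) (eL5133 i) (Nat.ble 5256192 i)
noncomputable def eT5124 (i : Nat) : Nat := Bool.rec (eL5131 i) (eT5123 i) (Nat.ble 5255168 i)
noncomputable def eT5125 (i : Nat) : Nat := Bool.rec (eL5135 i) (eL5136 i) (Nat.ble 5259264 i)
noncomputable def eT5126 (i : Nat) : Nat := Bool.rec (eL5134 i) (eT5125 i) (Nat.ble 5258240 i)
noncomputable def eT5127 (i : Nat) : Nat := Bool.rec (eT5124 i) (eT5126 i) (Nat.ble 5257216 i)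
noncomputable def eT5128 (i : Nat) : Nat := Bool.rec (eT5122 i) (eT5127 i) (Nat.ble 5254144 i)
noncomputable def eT5129 (i : Nat) : Nat := Bool.rec (eT5118 i) (eT5128 i) (Nat.ble 5249024 i)
noncomputable def eT5130 (i : Nat) : Nat := Bool.rec (eT5109 i) (eT5129 i) (Nat.ble 5238784 i)
noncomputable def eT5131 (i : Nat) : Nat := Bool.rec (eL5137 i) (eL5138 i) (Nat.ble 5261312 i)
noncomputable def eT5132 (i : Nat) : Nat := Bool.rec (eL5140 i) (eL5141 i) (Nat.ble 5264384 i)
noncomputable def eT5133 (i : Nat) : Nat := Bool.rec (eL5139 i) (eT5132 i) (Nat.ble 5263360 i)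
noncomputable def eT5134 (i : Nat) : Nat := Bool.rec (eT5131 i) (eT5133 i) (Nat.ble 5262336 i)
noncomputable def eT5135 (i : Nat) : Nat := Bool.rec (eL5142 i) (eL5143 i) (Nat.ble 5266432 i)
noncomputable def eT5136 (i : Nat) : Nat := Bool.rec (eL5145 i) (eL5146 i) (Nat.ble 5269504 i)
noncomputable def eT5137 (i : Nat) : Nat := Bool.rec (eL5144 i) (eT5136 i) (Nat.ble 5268480 i)
noncomputable def eT5138 (i : Nat) : Nat := Bool.rec (eT5135 i) (eT5137 i) (Nat.ble 5267456 i)
noncomputable def eT5139 (i : Nat) : Nat := Bool.rec (eT5134 i) (eT5138 i) (Nat.ble 5265408 i)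
noncomputable def eT5140 (i : Nat) : Nat := Bool.rec (eL5147 i) (eL5148 i) (Nat.ble 5271552 i)
noncomputable def eT5141 (i : Nat) : Nat := Bool.rec (eL5150 i) (eL5151 i) (Nat.ble 5274624 i)
noncomputable def eT5142 (i : Nat) : Nat := Bool.rec (eL5149 i) (eT5141 i) (Nat.ble 5273600 i)
noncomputable def eT5143 (i : Nat) : Nat := Bool.rec (eT5140 i) (eT5142 i) (Nat.ble 5272576 i)
noncomputable def eT5144 (i : Nat) : Nat := Bool.rec (eL5152 i) (eL5153 i) (Nat.ble 5276672 i)
noncomputable def eT5145 (i : Nat) : Nat := Bool.rec (eL5155 i) (eL5156 i) (Nat.ble 5279744 i)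
noncomputable def eT5146 (i : Nat) : Nat := Bool.rec (eL5154 i) (eT5145 i) (Nat.ble 5278720 i)
noncomputable def eT5147 (i : Nat) : Nat := Bool.rec (eT5144 i) (eT5146 i) (Nat.ble 5277696 i)
noncomputable def eT5148 (i : Nat) : Nat := Bool.rec (eT5143 i) (eT5147 i) (Nat.ble 5275648 i)
noncomputable def eT5149 (i : Nat) : Nat := Bool.rec (eT5139 i) (eT5148 i) (Nat.ble 5270528 i)
noncomputable def eT5150 (i : Nat) : Nat := Bool.rec (eL5157 i) (eL5158 i) (Nat.ble 5281792 i)
noncomputable def eT5151 (i : Nat) : Nat := Bool.rec (eL5160 i) (eL5161 i) (Nat.ble 5284864 i)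
noncomputable def eT5152 (i : Nat) : Nat := Bool.rec (eL5159 i) (eT5151 i) (Nat.ble 5283840 i)
noncomputable def eT5153 (i : Nat) : Nat := Bool.rec (eT5150 i) (eT5152 i) (Nat.ble 5282816 i)
noncomputable def eT5154 (i : Nat) : Nat := Bool.rec (eL5162 i) (eL5163 i) (Nat.ble 5286912 i)
noncomputable def eT5155 (i : Nat) : Nat := Bool.rec (eL5165 i) (eL5166 i) (Nat.ble 5289984 i)
noncomputable def eT5156 (i : Nat) : Nat := Bool.rec (eL5164 i) (eT5155 i) (Nat.ble 5288960 i)
noncomputable def eT5157 (i : Nat) : Nat := Bool.rec (eT5154 i) (eT5156 i) (Nat.ble 5287936 i)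
noncomputable def eT5158 (i : Nat) : Nat := Bool.rec (eT5153 i) (eT5157 i) (Nat.ble 5285888 i)
noncomputable def eT5159 (i : Nat) : Nat := Bool.rec (eL5167 i) (eL5168 i) (Nat.ble 5292032 i)
noncomputable def eT5160 (i : Nat) : Nat := Bool.rec (eL5170 i) (eL5171 i) (Nat.ble 5295104 i)
noncomputable def eT5161 (i : Nat) : Nat := Bool.rec (eL5169 i) (eT5160 i) (Nat.ble 5294080 i)
noncomputable def eT5162 (i : Nat) : Nat := Bool.rec (eT5159 i) (eT5161 i) (Nat.ble 5293056 i)
noncomputable def eT5163 (i : Nat) : Nat := Bool.rec (eL5173 i) (eL5174 i) (Nat.ble 5298176 i)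
noncomputable def eT5164 (i : Nat) : Nat := Bool.rec (eL5172 i) (eT5163 i) (Nat.ble 5297152 i)
noncomputable def eT5165 (i : Nat) : Nat := Bool.rec (eL5176 i) (eL5177 i) (Nat.ble 5301248 i)
noncomputable def eT5166 (i : Nat) : Nat := Bool.rec (eL5175 i) (eT5165 i) (Nat.ble 5300224 i)
noncomputable def eT5167 (i : Nat) : Nat := Bool.rec (eT5164 i) (eT5166 i) (Nat.ble 5299200 i)
noncomputable def eT5168 (i : Nat) : Nat := Bool.rec (eT5162 i) (eT5167 i) (Nat.ble 5296128 i)
noncomputable def eT5169 (i : Nat) : Nat := Bool.rec (eT5158 i) (eT5168 i) (Nat.ble 5291008 i)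
noncomputable def eT5170 (i : Nat) : Nat := Bool.rec (eT5149 i) (eT5169 i) (Nat.ble 5280768 i)
noncomputable def eT5171 (i : Nat) : Nat := Bool.rec (eT5130 i) (eT5170 i) (Nat.ble 5260288 i)
noncomputable def eT5172 (i : Nat) : Nat := Bool.rec (eL5178 i) (eL5179 i) (Nat.ble 5303296 i)
noncomputable def eT5173 (i : Nat) : Nat := Bool.rec (eL5181 i) (eL5182 i) (Nat.ble 5306368 i)
noncomputable def eT5174 (i : Nat) : Nat := Bool.rec (eL5180 i) (eT5173 i) (Nat.ble 5305344 i)
noncomputable def eT5175 (i : Nat) : Nat := Bool.rec (eT5172 i) (eT5174 i) (Nat.ble 5304320 i)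
noncomputable def eT5176 (i : Nat) : Nat := Bool.rec (eL5183 i) (eL5184 i) (Nat.ble 5308416 i)
noncomputable def eT5177 (i : Nat) : Nat := Bool.rec (eL5186 i) (eL5187 i) (Nat.ble 5311488 i)
noncomputable def eT5178 (i : Nat) : Nat := Bool.rec (eL5185 i) (eT5177 i) (Nat.ble 5310464 i)
noncomputable def eT5179 (i : Nat) : Nat := Bool.rec (eT5176 i) (eT5178 i) (Nat.ble 5309440 i)
noncomputable def eT5180 (i : Nat) : Nat := Bool.rec (eT5175 i) (eT5179 i) (Nat.ble 5307392 i)
noncomputable def eT5181 (i : Nat) : Nat := Bool.rec (eL5188 i) (eL5189 i) (Nat.ble 5313536 i)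
noncomputable def eT5182 (i : Nat) : Nat := Bool.rec (eL5191 i) (eL5192 i) (Nat.ble 5316608 i)
noncomputable def eT5183 (i : Nat) : Nat := Bool.rec (eL5190 i) (eT5182 i) (Nat.ble 5315584 i)
noncomputable def eT5184 (i : Nat) : Nat := Bool.rec (eT5181 i) (eT5183 i) (Nat.ble 5314560 i)
noncomputable def eT5185 (i : Nat) : Nat := Bool.rec (eL5193 i) (eL5194 i) (Nat.ble 5318656 i)
noncomputable def eT5186 (i : Nat) : Nat := Bool.rec (eL5196 i) (eL5197 i) (Nat.ble 5321728 i)
noncomputable def eT5187 (i : Nat) : Nat := Bool.rec (eL5195 i) (eT5186 i) (Nat.ble 5320704 i)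
noncomputable def eT5188 (i : Nat) : Nat := Bool.rec (eT5185 i) (eT5187 i) (Nat.ble 5319680 i)
noncomputable def eT5189 (i : Nat) : Nat := Bool.rec (eT5184 i) (eT5188 i) (Nat.ble 5317632 i)
noncomputable def eT5190 (i : Nat) : Nat := Bool.rec (eT5180 i) (eT5189 i) (Nat.ble 5312512 i)
noncomputable def eT5191 (i : Nat) : Nat := Bool.rec (eL5198 i) (eL5199 i) (Nat.ble 5323776 i)
noncomputable def eT5192 (i : Nat) : Nat := Bool.rec (eL5201 i) (eL5202 i) (Nat.ble 5326848 i)
noncomputable def eT5193 (i : Nat) : Nat := Bool.rec (eL5200 i) (eT5192 i) (Nat.ble 5325824 i)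
noncomputable def eT5194 (i : Nat) : Nat := Bool.rec (eT5191 i) (eT5193 i) (Nat.ble 5324800 i)
noncomputable def eT5195 (i : Nat) : Nat := Bool.rec (eL5203 i) (eL5204 i) (Nat.ble 5328896 i)
noncomputable def eT5196 (i : Nat) : Nat := Bool.rec (eL5206 i) (eL5207 i) (Nat.ble 5331968 i)
noncomputable def eT5197 (i : Nat) : Nat := Bool.rec (eL5205 i) (eT5196 i) (Nat.ble 5330944 i)
noncomputable def eT5198 (i : Nat) : Nat := Bool.rec (eT5195 i) (eT5197 i) (Nat.ble 5329920 i)
noncomputable def eT5199 (i : Nat) : Nat := Bool.rec (eT5194 i) (eT5198 i) (Nat.ble 5327872 i)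
noncomputable def eT5200 (i : Nat) : Nat := Bool.rec (eL5208 i) (eL5209 i) (Nat.ble 5334016 i)
noncomputable def eT5201 (i : Nat) : Nat := Bool.rec (eL5211 i) (eL5212 i) (Nat.ble 5337088 i)
noncomputable def eT5202 (i : Nat) : Nat := Bool.rec (eL5210 i) (eT5201 i) (Nat.ble 5336064 i)
noncomputable def eT5203 (i : Nat) : Nat := Bool.rec (eT5200 i) (eT5202 i) (Nat.ble 5335040 i)
noncomputable def eT5204 (i : Nat) : Nat := Bool.rec (eL5214 i) (eL5215 i) (Nat.ble 5340160 i)
noncomputable def eT5205 (i : Nat) : Nat := Bool.rec (eL5213 i) (eT5204 i) (Nat.ble 5339136 i)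
noncomputable def eT5206 (i : Nat) : Nat := Bool.rec (eL5217 i) (eL5218 i) (Nat.ble 5343232 i)
noncomputable def eT5207 (i : Nat) : Nat := Bool.rec (eL5216 i) (eT5206 i) (Nat.ble 5342208 i)
noncomputable def eT5208 (i : Nat) : Nat := Bool.rec (eT5205 i) (eT5207 i) (Nat.ble 5341184 i)
noncomputable def eT5209 (i : Nat) : Nat := Bool.rec (eT5203 i) (eT5208 i) (Nat.ble 5338112 i)
noncomputable def eT5210 (i : Nat) : Nat := Bool.rec (eT5199 i) (eT5209 i) (Nat.ble 5332992 i)
noncomputable def eT5211 (i : Nat) : Nat := Bool.rec (eT5190 i) (eT5210 i) (Nat.ble 5322752 i)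
noncomputable def eT5212 (i : Nat) : Nat := Bool.rec (eL5219 i) (eL5220 i) (Nat.ble 5345280 i)
noncomputable def eT5213 (i : Nat) : Nat := Bool.rec (eL5222 i) (eL5223 i) (Nat.ble 5348352 i)
noncomputable def eT5214 (i : Nat) : Nat := Bool.rec (eL5221 i) (eT5213 i) (Nat.ble 5347328 i)
noncomputable def eT5215 (i : Nat) : Nat := Bool.rec (eT5212 i) (eT5214 i) (Nat.ble 5346304 i)
noncomputable def eT5216 (i : Nat) : Nat := Bool.rec (eL5224 i) (eL5225 i) (Nat.ble 5350400 i)
noncomputable def eT5217 (i : Nat) : Nat := Bool.rec (eL5227 i) (eL5228 i) (Nat.ble 5353472 i)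
noncomputable def eT5218 (i : Nat) : Nat := Bool.rec (eL5226 i) (eT5217 i) (Nat.ble 5352448 i)
noncomputable def eT5219 (i : Nat) : Nat := Bool.rec (eT5216 i) (eT5218 i) (Nat.ble 5351424 i)
noncomputable def eT5220 (i : Nat) : Nat := Bool.rec (eT5215 i) (eT5219 i) (Nat.ble 5349376 i)
noncomputable def eT5221 (i : Nat) : Nat := Bool.rec (eL5229 i) (eL5230 i) (Nat.ble 5355520 i)
noncomputable def eT5222 (i : Nat) : Nat := Bool.rec (eL5232 i) (eL5233 i) (Nat.ble 5358592 i)
noncomputable def eT5223 (i : Nat) : Nat := Bool.rec (eL5231 i) (eT5222 i) (Nat.ble 5357568 i)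
noncomputable def eT5224 (i : Nat) : Nat := Bool.rec (eT5221 i) (eT5223 i) (Nat.ble 5356544 i)
noncomputable def eT5225 (i : Nat) : Nat := Bool.rec (eL5235 i) (eL5236 i) (Nat.ble 5361664 i)
noncomputable def eT5226 (i : Nat) : Nat := Bool.rec (eL5234 i) (eT5225 i) (Nat.ble 5360640 i)
noncomputable def eT5227 (i : Nat) : Nat := Bool.rec (eL5238 i) (eL5239 i) (Nat.ble 5364736 i)
noncomputable def eT5228 (i : Nat) : Nat := Bool.rec (eL5237 i) (eT5227 i) (Nat.ble 5363712 i)
noncomputable def eT5229 (i : Nat) : Nat := Bool.rec (eT5226 i) (eT5228 i) (Nat.ble 5362688 i)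
noncomputable def eT5230 (i : Nat) : Nat := Bool.rec (eT5224 i) (eT5229 i) (Nat.ble 5359616 i)
noncomputable def eT5231 (i : Nat) : Nat := Bool.rec (eT5220 i) (eT5230 i) (Nat.ble 5354496 i)
noncomputable def eT5232 (i : Nat) : Nat := Bool.rec (eL5240 i) (eL5241 i) (Nat.ble 5366784 i)
noncomputable def eT5233 (i : Nat) : Nat := Bool.rec (eL5243 i) (eL5244 i) (Nat.ble 5369856 i)
noncomputable def eT5234 (i : Nat) : Nat := Bool.rec (eL5242 i) (eT5233 i) (Nat.ble 5368832 i)
noncomputable def eT5235 (i : Nat) : Nat := Bool.rec (eT5232 i) (eT5234 i) (Nat.ble 5367808 i)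
noncomputable def eT5236 (i : Nat) : Nat := Bool.rec (eL5245 i) (eL5246 i) (Nat.ble 5371904 i)
noncomputable def eT5237 (i : Nat) : Nat := Bool.rec (eL5248 i) (eL5249 i) (Nat.ble 5374976 i)
noncomputable def eT5238 (i : Nat) : Nat := Bool.rec (eL5247 i) (eT5237 i) (Nat.ble 5373952 i)
noncomputable def eT5239 (i : Nat) : Nat := Bool.rec (eT5236 i) (eT5238 i) (Nat.ble 5372928 i)
noncomputable def eT5240 (i : Nat) : Nat := Bool.rec (eT5235 i) (eT5239 i) (Nat.ble 5370880 i)
noncomputable def eT5241 (i : Nat) : Nat := Bool.rec (eL5250 i) (eL5251 i) (Nat.ble 5377024 i)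
noncomputable def eT5242 (i : Nat) : Nat := Bool.rec (eL5253 i) (eL5254 i) (Nat.ble 5380096 i)
noncomputable def eT5243 (i : Nat) : Nat := Bool.rec (eL5252 i) (eT5242 i) (Nat.ble 5379072 i)
noncomputable def eT5244 (i : Nat) : Nat := Bool.rec (eT5241 i) (eT5243 i) (Nat.ble 5378048 i)
noncomputable def eT5245 (i : Nat) : Nat := Bool.rec (eL5256 i) (eL5257 i) (Nat.ble 5383168 i)
noncomputable def eT5246 (i : Nat) : Nat := Bool.rec (eL5255 i) (eT5245 i) (Nat.ble 5382144 i)
noncomputable def eT5247 (i : Nat) : Nat := Bool.rec (eL5259 i) (eL5260 i) (Nat.ble 5386240 i)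
noncomputable def eT5248 (i : Nat) : Nat := Bool.rec (eL5258 i) (eT5247 i) (Nat.ble 5385216 i)
noncomputable def eT5249 (i : Nat) : Nat := Bool.rec (eT5246 i) (eT5248 i) (Nat.ble 5384192 i)
noncomputable def eT5250 (i : Nat) : Nat := Bool.rec (eT5244 i) (eT5249 i) (Nat.ble 5381120 i)
noncomputable def eT5251 (i : Nat) : Nat := Bool.rec (eT5240 i) (eT5250 i) (Nat.ble 5376000 i)
noncomputable def eT5252 (i : Nat) : Nat := Bool.rec (eT5231 i) (eT5251 i) (Nat.ble 5365760 i)
noncomputable def eT5253 (i : Nat) : Nat := Bool.rec (eT5211 i) (eT5252 i) (Nat.ble 5344256 i)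
noncomputable def eT5254 (i : Nat) : Nat := Bool.rec (eT5171 i) (eT5253 i) (Nat.ble 5302272 i)
noncomputable def eT5255 (i : Nat) : Nat := Bool.rec (eT5090 i) (eT5254 i) (Nat.ble 5218304 i)
noncomputable def eT5256 (i : Nat) : Nat := Bool.rec (eT4927 i) (eT5255 i) (Nat.ble 5050368 i)
noncomputable def eT5257 (i : Nat) : Nat := Bool.rec (eT4599 i) (eT5256 i) (Nat.ble 4713472 i)
noncomputable def eT5258 (i : Nat) : Nat := Bool.rec (eT3942 i) (eT5257 i) (Nat.ble 4039680 i)
noncomputable def eT5259 (i : Nat) : Nat := Bool.rec (eT2628 i) (eT5258 i) (Nat.ble 2693120 i)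
noncomputable def eT5260 (i : Nat) : Nat := Bool.rec (eL5261 i) (eL5262 i) (Nat.ble 5388288 i)
noncomputable def eT5261 (i : Nat) : Nat := Bool.rec (eL5264 i) (eL5265 i) (Nat.ble 5391360 i)
noncomputable def eT5262 (i : Nat) : Nat := Bool.rec (eL5263 i) (eT5261 i) (Nat.ble 5390336 i)
noncomputable def eT5263 (i : Nat) : Nat := Bool.rec (eT5260 i) (eT5262 i) (Nat.ble 5389312 i)
noncomputable def eT5264 (i : Nat) : Nat := Bool.rec (eL5266 i) (eL5267 i) (Nat.ble 5393408 i)
noncomputable def eT5265 (i : Nat) : Nat := Bool.rec (eL5269 i) (eL5270 i) (Nat.ble 5396480 i)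
noncomputable def eT5266 (i : Nat) : Nat := Bool.rec (eL5268 i) (eT5265 i) (Nat.ble 5395456 i)
noncomputable def eT5267 (i : Nat) : Nat := Bool.rec (eT5264 i) (eT5266 i) (Nat.ble 5394432 i)
noncomputable def eT5268 (i : Nat) : Nat := Bool.rec (eT5263 i) (eT5267 i) (Nat.ble 5392384 i)
noncomputable def eT5269 (i : Nat) : Nat := Bool.rec (eL5271 i) (eL5272 i) (Nat.ble 5398528 i)
noncomputable def eT5270 (i : Nat) : Nat := Bool.rec (eL5274 i) (eL5275 i) (Nat.ble 5401600 i)
noncomputable def eT5271 (i : Nat) : Nat := Bool.rec (eL5273 i) (eT5270 i) (Nat.ble 5400576 i)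
noncomputable def eT5272 (i : Nat) : Nat := Bool.rec (eT5269 i) (eT5271 i) (Nat.ble 5399552 i)
noncomputable def eT5273 (i : Nat) : Nat := Bool.rec (eL5276 i) (eL5277 i) (Nat.ble 5403648 i)
noncomputable def eT5274 (i : Nat) : Nat := Bool.rec (eL5279 i) (eL5280 i) (Nat.ble 5406720 i)
noncomputable def eT5275 (i : Nat) : Nat := Bool.rec (eL5278 i) (eT5274 i) (Nat.ble 5405696 i)
noncomputable def eT5276 (i : Nat) : Nat := Bool.rec (eT5273 i) (eT5275 i) (Nat.ble 5404672 i)
noncomputable def eT5277 (i : Nat) : Nat := Bool.rec (eT5272 i) (eT5276 i) (Nat.ble 5402624 i)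
noncomputable def eT5278 (i : Nat) : Nat := Bool.rec (eT5268 i) (eT5277 i) (Nat.ble 5397504 i)
noncomputable def eT5279 (i : Nat) : Nat := Bool.rec (eL5281 i) (eL5282 i) (Nat.ble 5408768 i)
noncomputable def eT5280 (i : Nat) : Nat := Bool.rec (eL5284 i) (eL5285 i) (Nat.ble 5411840 i)
noncomputable def eT5281 (i : Nat) : Nat := Bool.rec (eL5283 i) (eT5280 i) (Nat.ble 5410816 i)
noncomputable def eT5282 (i : Nat) : Nat := Bool.rec (eT5279 i) (eT5281 i) (Nat.ble 5409792 i)
noncomputable def eT5283 (i : Nat) : Nat := Bool.rec (eL5286 i) (eL5287 i) (Nat.ble 5413888 i)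
noncomputable def eT5284 (i : Nat) : Nat := Bool.rec (eL5289 i) (eL5290 i) (Nat.ble 5416960 i)
noncomputable def eT5285 (i : Nat) : Nat := Bool.rec (eL5288 i) (eT5284 i) (Nat.ble 5415936 i)
noncomputable def eT5286 (i : Nat) : Nat := Bool.rec (eT5283 i) (eT5285 i) (Nat.ble 5414912 i)
noncomputable def eT5287 (i : Nat) : Nat := Bool.rec (eT5282 i) (eT5286 i) (Nat.ble 5412864 i)
noncomputable def eT5288 (i : Nat) : Nat := Bool.rec (eL5291 i) (eL5292 i) (Nat.ble 5419008 i)
noncomputable def eT5289 (i : Nat) : Nat := Bool.rec (eL5294 i) (eL5295 i) (Nat.ble 5422080 i)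
noncomputable def eT5290 (i : Nat) : Nat := Bool.rec (eL5293 i) (eT5289 i) (Nat.ble 5421056 i)
noncomputable def eT5291 (i : Nat) : Nat := Bool.rec (eT5288 i) (eT5290 i) (Nat.ble 5420032 i)
noncomputable def eT5292 (i : Nat) : Nat := Bool.rec (eL5297 i) (eL5298 i) (Nat.ble 5425152 i)
noncomputable def eT5293 (i : Nat) : Nat := Bool.rec (eL5296 i) (eT5292 i) (Nat.ble 5424128 i)
noncomputable def eT5294 (i : Nat) : Nat := Bool.rec (eL5300 i) (eL5301 i) (Nat.ble 5428224 i)
noncomputable def eT5295 (i : Nat) : Nat := Bool.rec (eL5299 i) (eT5294 i) (Nat.ble 5427200 i)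
noncomputable def eT5296 (i : Nat) : Nat := Bool.rec (eT5293 i) (eT5295 i) (Nat.ble 5426176 i)
noncomputable def eT5297 (i : Nat) : Nat := Bool.rec (eT5291 i) (eT5296 i) (Nat.ble 5423104 i)
noncomputable def eT5298 (i : Nat) : Nat := Bool.rec (eT5287 i) (eT5297 i) (Nat.ble 5417984 i)
noncomputable def eT5299 (i : Nat) : Nat := Bool.rec (eT5278 i) (eT5298 i) (Nat.ble 5407744 i)
noncomputable def eT5300 (i : Nat) : Nat := Bool.rec (eL5302 i) (eL5303 i) (Nat.ble 5430272 i)
noncomputable def eT5301 (i : Nat) : Nat := Bool.rec (eL5305 i) (eL5306 i) (Nat.ble 5433344 i)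
noncomputable def eT5302 (i : Nat) : Nat := Bool.rec (eL5304 i) (eT5301 i) (Nat.ble 5432320 i)
noncomputable def eT5303 (i : Nat) : Nat := Bool.rec (eT5300 i) (eT5302 i) (Nat.ble 5431296 i)
noncomputable def eT5304 (i : Nat) : Nat := Bool.rec (eL5307 i) (eL5308 i) (Nat.ble 5435392 i)
noncomputable def eT5305 (i : Nat) : Nat := Bool.rec (eL5310 i) (eL5311 i) (Nat.ble 5438464 i)
noncomputable def eT5306 (i : Nat) : Nat := Bool.rec (eL5309 i) (eT5305 i) (Nat.ble 5437440 i)
noncomputable def eT5307 (i : Nat) : Nat := Bool.rec (eT5304 i) (eT5306 i) (Nat.ble 5436416 i)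
noncomputable def eT5308 (i : Nat) : Nat := Bool.rec (eT5303 i) (eT5307 i) (Nat.ble 5434368 i)
noncomputable def eT5309 (i : Nat) : Nat := Bool.rec (eL5312 i) (eL5313 i) (Nat.ble 5440512 i)
noncomputable def eT5310 (i : Nat) : Nat := Bool.rec (eL5315 i) (eL5316 i) (Nat.ble 5443584 i)
noncomputable def eT5311 (i : Nat) : Nat := Bool.rec (eL5314 i) (eT5310 i) (Nat.ble 5442560 i)
noncomputable def eT5312 (i : Nat) : Nat := Bool.rec (eT5309 i) (eT5311 i) (Nat.ble 5441536 i)
noncomputable def eT5313 (i : Nat) : Nat := Bool.rec (eL5317 i) (eL5318 i) (Nat.ble 5445632 i)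
noncomputable def eT5314 (i : Nat) : Nat := Bool.rec (eL5320 i) (eL5321 i) (Nat.ble 5448704 i)
noncomputable def eT5315 (i : Nat) : Nat := Bool.rec (eL5319 i) (eT5314 i) (Nat.ble 5447680 i)
noncomputable def eT5316 (i : Nat) : Nat := Bool.rec (eT5313 i) (eT5315 i) (Nat.ble 5446656 i)
noncomputable def eT5317 (i : Nat) : Nat := Bool.rec (eT5312 i) (eT5316 i) (Nat.ble 5444608 i)
noncomputable def eT5318 (i : Nat) : Nat := Bool.rec (eT5308 i) (eT5317 i) (Nat.ble 5439488 i)
noncomputable def eT5319 (i : Nat) : Nat := Bool.rec (eL5322 i) (eL5323 i) (Nat.ble 5450752 i)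
noncomputable def eT5320 (i : Nat) : Nat := Bool.rec (eL5325 i) (eL5326 i) (Nat.ble 5453824 i)
noncomputable def eT5321 (i : Nat) : Nat := Bool.rec (eL5324 i) (eT5320 i) (Nat.ble 5452800 i)
noncomputable def eT5322 (i : Nat) : Nat := Bool.rec (eT5319 i) (eT5321 i) (Nat.ble 5451776 i)
noncomputable def eT5323 (i : Nat) : Nat := Bool.rec (eL5327 i) (eL5328 i) (Nat.ble 5455872 i)
noncomputable def eT5324 (i : Nat) : Nat := Bool.rec (eL5330 i) (eL5331 i) (Nat.ble 5458944 i)
noncomputable def eT5325 (i : Nat) : Nat := Bool.rec (eL5329 i) (eT5324 i) (Nat.ble 5457920 i)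
noncomputable def eT5326 (i : Nat) : Nat := Bool.rec (eT5323 i) (eT5325 i) (Nat.ble 5456896 i)
noncomputable def eT5327 (i : Nat) : Nat := Bool.rec (eT5322 i) (eT5326 i) (Nat.ble 5454848 i)
noncomputable def eT5328 (i : Nat) : Nat := Bool.rec (eL5332 i) (eL5333 i) (Nat.ble 5460992 i)
noncomputable def eT5329 (i : Nat) : Nat := Bool.rec (eL5335 i) (eL5336 i) (Nat.ble 5464064 i)
noncomputable def eT5330 (i : Nat) : Nat := Bool.rec (eL5334 i) (eT5329 i) (Nat.ble 5463040 i)
noncomputable def eT5331 (i : Nat) : Nat := Bool.rec (eT5328 i) (eT5330 i) (Nat.ble 5462016 i)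
noncomputable def eT5332 (i : Nat) : Nat := Bool.rec (eL5338 i) (eL5339 i) (Nat.ble 5467136 i)
noncomputable def eT5333 (i : Nat) : Nat := Bool.rec (eL5337 i) (eT5332 i) (Nat.ble 5466112 i)
noncomputable def eT5334 (i : Nat) : Nat := Bool.rec (eL5341 i) (eL5342 i) (Nat.ble 5470208 i)
noncomputable def eT5335 (i : Nat) : Nat := Bool.rec (eL5340 i) (eT5334 i) (Nat.ble 5469184 i)
noncomputable def eT5336 (i : Nat) : Nat := Bool.rec (eT5333 i) (eT5335 i) (Nat.ble 5468160 i)
noncomputable def eT5337 (i : Nat) : Nat := Bool.rec (eT5331 i) (eT5336 i) (Nat.ble 5465088 i)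
noncomputable def eT5338 (i : Nat) : Nat := Bool.rec (eT5327 i) (eT5337 i) (Nat.ble 5459968 i)
noncomputable def eT5339 (i : Nat) : Nat := Bool.rec (eT5318 i) (eT5338 i) (Nat.ble 5449728 i)
noncomputable def eT5340 (i : Nat) : Nat := Bool.rec (eT5299 i) (eT5339 i) (Nat.ble 5429248 i)
noncomputable def eT5341 (i : Nat) : Nat := Bool.rec (eL5343 i) (eL5344 i) (Nat.ble 5472256 i)
noncomputable def eT5342 (i : Nat) : Nat := Bool.rec (eL5346 i) (eL5347 i) (Nat.ble 5475328 i)
noncomputable def eT5343 (i : Nat) : Nat := Bool.rec (eL5345 i) (eT5342 i) (Nat.ble 5474304 i)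
noncomputable def eT5344 (i : Nat) : Nat := Bool.rec (eT5341 i) (eT5343 i) (Nat.ble 5473280 i)
noncomputable def eT5345 (i : Nat) : Nat := Bool.rec (eL5348 i) (eL5349 i) (Nat.ble 5477376 i)
noncomputable def eT5346 (i : Nat) : Nat := Bool.rec (eL5351 i) (eL5352 i) (Nat.ble 5480448 i)
noncomputable def eT5347 (i : Nat) : Nat := Bool.rec (eL5350 i) (eT5346 i) (Nat.ble 5479424 i)
noncomputable def eT5348 (i : Nat) : Nat := Bool.rec (eT5345 i) (eT5347 i) (Nat.ble 5478400 i)
noncomputable def eT5349 (i : Nat) : Nat := Bool.rec (eT5344 i) (eT5348 i) (Nat.ble 5476352 i)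
noncomputable def eT5350 (i : Nat) : Nat := Bool.rec (eL5353 i) (eL5354 i) (Nat.ble 5482496 i)
noncomputable def eT5351 (i : Nat) : Nat := Bool.rec (eL5356 i) (eL5357 i) (Nat.ble 5485568 i)
noncomputable def eT5352 (i : Nat) : Nat := Bool.rec (eL5355 i) (eT5351 i) (Nat.ble 5484544 i)
noncomputable def eT5353 (i : Nat) : Nat := Bool.rec (eT5350 i) (eT5352 i) (Nat.ble 5483520 i)
noncomputable def eT5354 (i : Nat) : Nat := Bool.rec (eL5358 i) (eL5359 i) (Nat.ble 5487616 i)
noncomputable def eT5355 (i : Nat) : Nat := Bool.rec (eL5361 i) (eL5362 i) (Nat.ble 5490688 i)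
noncomputable def eT5356 (i : Nat) : Nat := Bool.rec (eL5360 i) (eT5355 i) (Nat.ble 5489664 i)
noncomputable def eT5357 (i : Nat) : Nat := Bool.rec (eT5354 i) (eT5356 i) (Nat.ble 5488640 i)
noncomputable def eT5358 (i : Nat) : Nat := Bool.rec (eT5353 i) (eT5357 i) (Nat.ble 5486592 i)
noncomputable def eT5359 (i : Nat) : Nat := Bool.rec (eT5349 i) (eT5358 i) (Nat.ble 5481472 i)
noncomputable def eT5360 (i : Nat) : Nat := Bool.rec (eL5363 i) (eL5364 i) (Nat.ble 5492736 i)
noncomputable def eT5361 (i : Nat) : Nat := Bool.rec (eL5366 i) (eL5367 i) (Nat.ble 5495808 i)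
noncomputable def eT5362 (i : Nat) : Nat := Bool.rec (eL5365 i) (eT5361 i) (Nat.ble 5494784 i)
noncomputable def eT5363 (i : Nat) : Nat := Bool.rec (eT5360 i) (eT5362 i) (Nat.ble 5493760 i)
noncomputable def eT5364 (i : Nat) : Nat := Bool.rec (eL5368 i) (eL5369 i) (Nat.ble 5497856 i)
noncomputable def eT5365 (i : Nat) : Nat := Bool.rec (eL5371 i) (eL5372 i) (Nat.ble 5500928 i)
noncomputable def eT5366 (i : Nat) : Nat := Bool.rec (eL5370 i) (eT5365 i) (Nat.ble 5499904 i)
noncomputable def eT5367 (i : Nat) : Nat := Bool.rec (eT5364 i) (eT5366 i) (Nat.ble 5498880 i)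
noncomputable def eT5368 (i : Nat) : Nat := Bool.rec (eT5363 i) (eT5367 i) (Nat.ble 5496832 i)
noncomputable def eT5369 (i : Nat) : Nat := Bool.rec (eL5373 i) (eL5374 i) (Nat.ble 5502976 i)
noncomputable def eT5370 (i : Nat) : Nat := Bool.rec (eL5376 i) (eL5377 i) (Nat.ble 5506048 i)
noncomputable def eT5371 (i : Nat) : Nat := Bool.rec (eL5375 i) (eT5370 i) (Nat.ble 5505024 i)
noncomputable def eT5372 (i : Nat) : Nat := Bool.rec (eT5369 i) (eT5371 i) (Nat.ble 5504000 i)
noncomputable def eT5373 (i : Nat) : Nat := Bool.rec (eL5379 i) (eL5380 i) (Nat.ble 5509120 i)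
noncomputable def eT5374 (i : Nat) : Nat := Bool.rec (eL5378 i) (eT5373 i) (Nat.ble 5508096 i)
noncomputable def eT5375 (i : Nat) : Nat := Bool.rec (eL5382 i) (eL5383 i) (Nat.ble 5512192 i)
noncomputable def eT5376 (i : Nat) : Nat := Bool.rec (eL5381 i) (eT5375 i) (Nat.ble 5511168 i)
noncomputable def eT5377 (i : Nat) : Nat := Bool.rec (eT5374 i) (eT5376 i) (Nat.ble 5510144 i)
noncomputable def eT5378 (i : Nat) : Nat := Bool.rec (eT5372 i) (eT5377 i) (Nat.ble 5507072 i)
noncomputable def eT5379 (i : Nat) : Nat := Bool.rec (eT5368 i) (eT5378 i) (Nat.ble 5501952 i)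
noncomputable def eT5380 (i : Nat) : Nat := Bool.rec (eT5359 i) (eT5379 i) (Nat.ble 5491712 i)
noncomputable def eT5381 (i : Nat) : Nat := Bool.rec (eL5384 i) (eL5385 i) (Nat.ble 5514240 i)
noncomputable def eT5382 (i : Nat) : Nat := Bool.rec (eL5387 i) (eL5388 i) (Nat.ble 5517312 i)
noncomputable def eT5383 (i : Nat) : Nat := Bool.rec (eL5386 i) (eT5382 i) (Nat.ble 5516288 i)
noncomputable def eT5384 (i : Nat) : Nat := Bool.rec (eT5381 i) (eT5383 i) (Nat.ble 5515264 i)
noncomputable def eT5385 (i : Nat) : Nat := Bool.rec (eL5389 i) (eL5390 i) (Nat.ble 5519360 i)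
noncomputable def eT5386 (i : Nat) : Nat := Bool.rec (eL5392 i) (eL5393 i) (Nat.ble 5522432 i)
noncomputable def eT5387 (i : Nat) : Nat := Bool.rec (eL5391 i) (eT5386 i) (Nat.ble 5521408 i)
noncomputable def eT5388 (i : Nat) : Nat := Bool.rec (eT5385 i) (eT5387 i) (Nat.ble 5520384 i)
noncomputable def eT5389 (i : Nat) : Nat := Bool.rec (eT5384 i) (eT5388 i) (Nat.ble 5518336 i)
noncomputable def eT5390 (i : Nat) : Nat := Bool.rec (eL5394 i) (eL5395 i) (Nat.ble 5524480 i)
noncomputable def eT5391 (i : Nat) : Nat := Bool.rec (eL5397 i) (eL5398 i) (Nat.ble 5527552 i)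
noncomputable def eT5392 (i : Nat) : Nat := Bool.rec (eL5396 i) (eT5391 i) (Nat.ble 5526528 i)
noncomputable def eT5393 (i : Nat) : Nat := Bool.rec (eT5390 i) (eT5392 i) (Nat.ble 5525504 i)
noncomputable def eT5394 (i : Nat) : Nat := Bool.rec (eL5399 i) (eL5400 i) (Nat.ble 5529600 i)
noncomputable def eT5395 (i : Nat) : Nat := Bool.rec (eL5402 i) (eL5403 i) (Nat.ble 5532672 i)
noncomputable def eT5396 (i : Nat) : Nat := Bool.rec (eL5401 i) (eT5395 i) (Nat.ble 5531648 i)
noncomputable def eT5397 (i : Nat) : Nat := Bool.rec (eT5394 i) (eT5396 i) (Nat.ble 5530624 i)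
noncomputable def eT5398 (i : Nat) : Nat := Bool.rec (eT5393 i) (eT5397 i) (Nat.ble 5528576 i)
noncomputable def eT5399 (i : Nat) : Nat := Bool.rec (eT5389 i) (eT5398 i) (Nat.ble 5523456 i)
noncomputable def eT5400 (i : Nat) : Nat := Bool.rec (eL5404 i) (eL5405 i) (Nat.ble 5534720 i)
noncomputable def eT5401 (i : Nat) : Nat := Bool.rec (eL5407 i) (eL5408 i) (Nat.ble 5537792 i)
noncomputable def eT5402 (i : Nat) : Nat := Bool.rec (eL5406 i) (eT5401 i) (Nat.ble 5536768 i)
noncomputable def eT5403 (i : Nat) : Nat := Bool.rec (eT5400 i) (eT5402 i) (Nat.ble 5535744 i)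
noncomputable def eT5404 (i : Nat) : Nat := Bool.rec (eL5409 i) (eL5410 i) (Nat.ble 5539840 i)
noncomputable def eT5405 (i : Nat) : Nat := Bool.rec (eL5412 i) (eL5413 i) (Nat.ble 5542912 i)
noncomputable def eT5406 (i : Nat) : Nat := Bool.rec (eL5411 i) (eT5405 i) (Nat.ble 5541888 i)
noncomputable def eT5407 (i : Nat) : Nat := Bool.rec (eT5404 i) (eT5406 i) (Nat.ble 5540864 i)
noncomputable def eT5408 (i : Nat) : Nat := Bool.rec (eT5403 i) (eT5407 i) (Nat.ble 5538816 i)
noncomputable def eT5409 (i : Nat) : Nat := Bool.rec (eL5414 i) (eL5415 i) (Nat.ble 5544960 i)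
noncomputable def eT5410 (i : Nat) : Nat := Bool.rec (eL5417 i) (eL5418 i) (Nat.ble 5548032 i)
noncomputable def eT5411 (i : Nat) : Nat := Bool.rec (eL5416 i) (eT5410 i) (Nat.ble 5547008 i)
noncomputable def eT5412 (i : Nat) : Nat := Bool.rec (eT5409 i) (eT5411 i) (Nat.ble 5545984 i)
noncomputable def eT5413 (i : Nat) : Nat := Bool.rec (eL5420 i) (eL5421 i) (Nat.ble 5551104 i)
noncomputable def eT5414 (i : Nat) : Nat := Bool.rec (eL5419 i) (eT5413 i) (Nat.ble 5550080 i)
noncomputable def eT5415 (i : Nat) : Nat := Bool.rec (eL5423 i) (eL5424 i) (Nat.ble 5554176 i)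
noncomputable def eT5416 (i : Nat) : Nat := Bool.rec (eL5422 i) (eT5415 i) (Nat.ble 5553152 i)
noncomputable def eT5417 (i : Nat) : Nat := Bool.rec (eT5414 i) (eT5416 i) (Nat.ble 5552128 i)
noncomputable def eT5418 (i : Nat) : Nat := Bool.rec (eT5412 i) (eT5417 i) (Nat.ble 5549056 i)
noncomputable def eT5419 (i : Nat) : Nat := Bool.rec (eT5408 i) (eT5418 i) (Nat.ble 5543936 i)
noncomputable def eT5420 (i : Nat) : Nat := Bool.rec (eT5399 i) (eT5419 i) (Nat.ble 5533696 i)
noncomputable def eT5421 (i : Nat) : Nat := Bool.rec (eT5380 i) (eT5420 i) (Nat.ble 5513216 i)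
noncomputable def eT5422 (i : Nat) : Nat := Bool.rec (eT5340 i) (eT5421 i) (Nat.ble 5471232 i)
noncomputable def eT5423 (i : Nat) : Nat := Bool.rec (eL5425 i) (eL5426 i) (Nat.ble 5556224 i)
noncomputable def eT5424 (i : Nat) : Nat := Bool.rec (eL5428 i) (eL5429 i) (Nat.ble 5559296 i)
noncomputable def eT5425 (i : Nat) : Nat := Bool.rec (eL5427 i) (eT5424 i) (Nat.ble 5558272 i)
noncomputable def eT5426 (i : Nat) : Nat := Bool.rec (eT5423 i) (eT5425 i) (Nat.ble 5557248 i)
noncomputable def eT5427 (i : Nat) : Nat := Bool.rec (eL5430 i) (eL5431 i) (Nat.ble 5561344 i)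
noncomputable def eT5428 (i : Nat) : Nat := Bool.rec (eL5433 i) (eL5434 i) (Nat.ble 5564416 i)
noncomputable def eT5429 (i : Nat) : Nat := Bool.rec (eL5432 i) (eT5428 i) (Nat.ble 5563392 i)
noncomputable def eT5430 (i : Nat) : Nat := Bool.rec (eT5427 i) (eT5429 i) (Nat.ble 5562368 i)
noncomputable def eT5431 (i : Nat) : Nat := Bool.rec (eT5426 i) (eT5430 i) (Nat.ble 5560320 i)
noncomputable def eT5432 (i : Nat) : Nat := Bool.rec (eL5435 i) (eL5436 i) (Nat.ble 5566464 i)
noncomputable def eT5433 (i : Nat) : Nat := Bool.rec (eL5438 i) (eL5439 i) (Nat.ble 5569536 i)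
noncomputable def eT5434 (i : Nat) : Nat := Bool.rec (eL5437 i) (eT5433 i) (Nat.ble 5568512 i)
noncomputable def eT5435 (i : Nat) : Nat := Bool.rec (eT5432 i) (eT5434 i) (Nat.ble 5567488 i)
noncomputable def eT5436 (i : Nat) : Nat := Bool.rec (eL5440 i) (eL5441 i) (Nat.ble 5571584 i)
noncomputable def eT5437 (i : Nat) : Nat := Bool.rec (eL5443 i) (eL5444 i) (Nat.ble 5574656 i)
noncomputable def eT5438 (i : Nat) : Nat := Bool.rec (eL5442 i) (eT5437 i) (Nat.ble 5573632 i)
noncomputable def eT5439 (i : Nat) : Nat := Bool.rec (eT5436 i) (eT5438 i) (Nat.ble 5572608 i)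
noncomputable def eT5440 (i : Nat) : Nat := Bool.rec (eT5435 i) (eT5439 i) (Nat.ble 5570560 i)
noncomputable def eT5441 (i : Nat) : Nat := Bool.rec (eT5431 i) (eT5440 i) (Nat.ble 5565440 i)
noncomputable def eT5442 (i : Nat) : Nat := Bool.rec (eL5445 i) (eL5446 i) (Nat.ble 5576704 i)
noncomputable def eT5443 (i : Nat) : Nat := Bool.rec (eL5448 i) (eL5449 i) (Nat.ble 5579776 i)
noncomputable def eT5444 (i : Nat) : Nat := Bool.rec (eL5447 i) (eT5443 i) (Nat.ble 5578752 i)
noncomputable def eT5445 (i : Nat) : Nat := Bool.rec (eT5442 i) (eT5444 i) (Nat.ble 5577728 i)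
noncomputable def eT5446 (i : Nat) : Nat := Bool.rec (eL5450 i) (eL5451 i) (Nat.ble 5581824 i)
noncomputable def eT5447 (i : Nat) : Nat := Bool.rec (eL5453 i) (eL5454 i) (Nat.ble 5584896 i)
noncomputable def eT5448 (i : Nat) : Nat := Bool.rec (eL5452 i) (eT5447 i) (Nat.ble 5583872 i)
noncomputable def eT5449 (i : Nat) : Nat := Bool.rec (eT5446 i) (eT5448 i) (Nat.ble 5582848 i)
noncomputable def eT5450 (i : Nat) : Nat := Bool.rec (eT5445 i) (eT5449 i) (Nat.ble 5580800 i)
noncomputable def eT5451 (i : Nat) : Nat := Bool.rec (eL5455 i) (eL5456 i) (Nat.ble 5586944 i)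
noncomputable def eT5452 (i : Nat) : Nat := Bool.rec (eL5458 i) (eL5459 i) (Nat.ble 5590016 i)
noncomputable def eT5453 (i : Nat) : Nat := Bool.rec (eL5457 i) (eT5452 i) (Nat.ble 5588992 i)
noncomputable def eT5454 (i : Nat) : Nat := Bool.rec (eT5451 i) (eT5453 i) (Nat.ble 5587968 i)
noncomputable def eT5455 (i : Nat) : Nat := Bool.rec (eL5461 i) (eL5462 i) (Nat.ble 5593088 i)
noncomputable def eT5456 (i : Nat) : Nat := Bool.rec (eL5460 i) (eT5455 i) (Nat.ble 5592064 i)
noncomputable def eT5457 (i : Nat) : Nat := Bool.rec (eL5464 i) (eL5465 i) (Nat.ble 5596160 i)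
noncomputable def eT5458 (i : Nat) : Nat := Bool.rec (eL5463 i) (eT5457 i) (Nat.ble 5595136 i)
noncomputable def eT5459 (i : Nat) : Nat := Bool.rec (eT5456 i) (eT5458 i) (Nat.ble 5594112 i)
noncomputable def eT5460 (i : Nat) : Nat := Bool.rec (eT5454 i) (eT5459 i) (Nat.ble 5591040 i)
noncomputable def eT5461 (i : Nat) : Nat := Bool.rec (eT5450 i) (eT5460 i) (Nat.ble 5585920 i)
noncomputable def eT5462 (i : Nat) : Nat := Bool.rec (eT5441 i) (eT5461 i) (Nat.ble 5575680 i)
noncomputable def eT5463 (i : Nat) : Nat := Bool.rec (eL5466 i) (eL5467 i) (Nat.ble 5598208 i)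
noncomputable def eT5464 (i : Nat) : Nat := Bool.rec (eL5469 i) (eL5470 i) (Nat.ble 5601280 i)
noncomputable def eT5465 (i : Nat) : Nat := Bool.rec (eL5468 i) (eT5464 i) (Nat.ble 5600256 i)
noncomputable def eT5466 (i : Nat) : Nat := Bool.rec (eT5463 i) (eT5465 i) (Nat.ble 5599232 i)
noncomputable def eT5467 (i : Nat) : Nat := Bool.rec (eL5471 i) (eL5472 i) (Nat.ble 5603328 i)
noncomputable def eT5468 (i : Nat) : Nat := Bool.rec (eL5474 i) (eL5475 i) (Nat.ble 5606400 i)
noncomputable def eT5469 (i : Nat) : Nat := Bool.rec (eL5473 i) (eT5468 i) (Nat.ble 5605376 i)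
noncomputable def eT5470 (i : Nat) : Nat := Bool.rec (eT5467 i) (eT5469 i) (Nat.ble 5604352 i)
noncomputable def eT5471 (i : Nat) : Nat := Bool.rec (eT5466 i) (eT5470 i) (Nat.ble 5602304 i)
noncomputable def eT5472 (i : Nat) : Nat := Bool.rec (eL5476 i) (eL5477 i) (Nat.ble 5608448 i)
noncomputable def eT5473 (i : Nat) : Nat := Bool.rec (eL5479 i) (eL5480 i) (Nat.ble 5611520 i)
noncomputable def eT5474 (i : Nat) : Nat := Bool.rec (eL5478 i) (eT5473 i) (Nat.ble 5610496 i)
noncomputable def eT5475 (i : Nat) : Nat := Bool.rec (eT5472 i) (eT5474 i) (Nat.ble 5609472 i)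
noncomputable def eT5476 (i : Nat) : Nat := Bool.rec (eL5481 i) (eL5482 i) (Nat.ble 5613568 i)
noncomputable def eT5477 (i : Nat) : Nat := Bool.rec (eL5484 i) (eL5485 i) (Nat.ble 5616640 i)
noncomputable def eT5478 (i : Nat) : Nat := Bool.rec (eL5483 i) (eT5477 i) (Nat.ble 5615616 i)
noncomputable def eT5479 (i : Nat) : Nat := Bool.rec (eT5476 i) (eT5478 i) (Nat.ble 5614592 i)
noncomputable def eT5480 (i : Nat) : Nat := Bool.rec (eT5475 i) (eT5479 i) (Nat.ble 5612544 i)
noncomputable def eT5481 (i : Nat) : Nat := Bool.rec (eT5471 i) (eT5480 i) (Nat.ble 5607424 i)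
noncomputable def eT5482 (i : Nat) : Nat := Bool.rec (eL5486 i) (eL5487 i) (Nat.ble 5618688 i)
noncomputable def eT5483 (i : Nat) : Nat := Bool.rec (eL5489 i) (eL5490 i) (Nat.ble 5621760 i)
noncomputable def eT5484 (i : Nat) : Nat := Bool.rec (eL5488 i) (eT5483 i) (Nat.ble 5620736 i)
noncomputable def eT5485 (i : Nat) : Nat := Bool.rec (eT5482 i) (eT5484 i) (Nat.ble 5619712 i)
noncomputable def eT5486 (i : Nat) : Nat := Bool.rec (eL5491 i) (eL5492 i) (Nat.ble 5623808 i)
noncomputable def eT5487 (i : Nat) : Nat := Bool.rec (eL5494 i) (eL5495 i) (Nat.ble 5626880 i)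
noncomputable def eT5488 (i : Nat) : Nat := Bool.rec (eL5493 i) (eT5487 i) (Nat.ble 5625856 i)
noncomputable def eT5489 (i : Nat) : Nat := Bool.rec (eT5486 i) (eT5488 i) (Nat.ble 5624832 i)
noncomputable def eT5490 (i : Nat) : Nat := Bool.rec (eT5485 i) (eT5489 i) (Nat.ble 5622784 i)
noncomputable def eT5491 (i : Nat) : Nat := Bool.rec (eL5496 i) (eL5497 i) (Nat.ble 5628928 i)
noncomputable def eT5492 (i : Nat) : Nat := Bool.rec (eL5499 i) (eL5500 i) (Nat.ble 5632000 i)
noncomputable def eT5493 (i : Nat) : Nat := Bool.rec (eL5498 i) (eT5492 i) (Nat.ble 5630976 i)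
noncomputable def eT5494 (i : Nat) : Nat := Bool.rec (eT5491 i) (eT5493 i) (Nat.ble 5629952 i)
noncomputable def eT5495 (i : Nat) : Nat := Bool.rec (eL5502 i) (eL5503 i) (Nat.ble 5635072 i)
noncomputable def eT5496 (i : Nat) : Nat := Bool.rec (eL5501 i) (eT5495 i) (Nat.ble 5634048 i)
noncomputable def eT5497 (i : Nat) : Nat := Bool.rec (eL5505 i) (eL5506 i) (Nat.ble 5638144 i)
noncomputable def eT5498 (i : Nat) : Nat := Bool.rec (eL5504 i) (eT5497 i) (Nat.ble 5637120 i)
noncomputable def eT5499 (i : Nat) : Nat := Bool.rec (eT5496 i) (eT5498 i) (Nat.ble 5636096 i)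
noncomputable def eT5500 (i : Nat) : Nat := Bool.rec (eT5494 i) (eT5499 i) (Nat.ble 5633024 i)
noncomputable def eT5501 (i : Nat) : Nat := Bool.rec (eT5490 i) (eT5500 i) (Nat.ble 5627904 i)
noncomputable def eT5502 (i : Nat) : Nat := Bool.rec (eT5481 i) (eT5501 i) (Nat.ble 5617664 i)
noncomputable def eT5503 (i : Nat) : Nat := Bool.rec (eT5462 i) (eT5502 i) (Nat.ble 5597184 i)
noncomputable def eT5504 (i : Nat) : Nat := Bool.rec (eL5507 i) (eL5508 i) (Nat.ble 5640192 i)
noncomputable def eT5505 (i : Nat) : Nat := Bool.rec (eL5510 i) (eL5511 i) (Nat.ble 5643264 i)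
noncomputable def eT5506 (i : Nat) : Nat := Bool.rec (eL5509 i) (eT5505 i) (Nat.ble 5642240 i)
noncomputable def eT5507 (i : Nat) : Nat := Bool.rec (eT5504 i) (eT5506 i) (Nat.ble 5641216 i)
noncomputable def eT5508 (i : Nat) : Nat := Bool.rec (eL5512 i) (eL5513 i) (Nat.ble 5645312 i)
noncomputable def eT5509 (i : Nat) : Nat := Bool.rec (eL5515 i) (eL5516 i) (Nat.ble 5648384 i)
noncomputable def eT5510 (i : Nat) : Nat := Bool.rec (eL5514 i) (eT5509 i) (Nat.ble 5647360 i)
noncomputable def eT5511 (i : Nat) : Nat := Bool.rec (eT5508 i) (eT5510 i) (Nat.ble 5646336 i)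
noncomputable def eT5512 (i : Nat) : Nat := Bool.rec (eT5507 i) (eT5511 i) (Nat.ble 5644288 i)
noncomputable def eT5513 (i : Nat) : Nat := Bool.rec (eL5517 i) (eL5518 i) (Nat.ble 5650432 i)
noncomputable def eT5514 (i : Nat) : Nat := Bool.rec (eL5520 i) (eL5521 i) (Nat.ble 5653504 i)
noncomputable def eT5515 (i : Nat) : Nat := Bool.rec (eL5519 i) (eT5514 i) (Nat.ble 5652480 i)
noncomputable def eT5516 (i : Nat) : Nat := Bool.rec (eT5513 i) (eT5515 i) (Nat.ble 5651456 i)
noncomputable def eT5517 (i : Nat) : Nat := Bool.rec (eL5522 i) (eL5523 i) (Nat.ble 5655552 i)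
noncomputable def eT5518 (i : Nat) : Nat := Bool.rec (eL5525 i) (eL5526 i) (Nat.ble 5658624 i)
noncomputable def eT5519 (i : Nat) : Nat := Bool.rec (eL5524 i) (eT5518 i) (Nat.ble 5657600 i)
noncomputable def eT5520 (i : Nat) : Nat := Bool.rec (eT5517 i) (eT5519 i) (Nat.ble 5656576 i)
noncomputable def eT5521 (i : Nat) : Nat := Bool.rec (eT5516 i) (eT5520 i) (Nat.ble 5654528 i)
noncomputable def eT5522 (i : Nat) : Nat := Bool.rec (eT5512 i) (eT5521 i) (Nat.ble 5649408 i)
noncomputable def eT5523 (i : Nat) : Nat := Bool.rec (eL5527 i) (eL5528 i) (Nat.ble 5660672 i)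
noncomputable def eT5524 (i : Nat) : Nat := Bool.rec (eL5530 i) (eL5531 i) (Nat.ble 5663744 i)
noncomputable def eT5525 (i : Nat) : Nat := Bool.rec (eL5529 i) (eT5524 i) (Nat.ble 5662720 i)
noncomputable def eT5526 (i : Nat) : Nat := Bool.rec (eT5523 i) (eT5525 i) (Nat.ble 5661696 i)
noncomputable def eT5527 (i : Nat) : Nat := Bool.rec (eL5532 i) (eL5533 i) (Nat.ble 5665792 i)
noncomputable def eT5528 (i : Nat) : Nat := Bool.rec (eL5535 i) (eL5536 i) (Nat.ble 5668864 i)
noncomputable def eT5529 (i : Nat) : Nat := Bool.rec (eL5534 i) (eT5528 i) (Nat.ble 5667840 i)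
noncomputable def eT5530 (i : Nat) : Nat := Bool.rec (eT5527 i) (eT5529 i) (Nat.ble 5666816 i)
noncomputable def eT5531 (i : Nat) : Nat := Bool.rec (eT5526 i) (eT5530 i) (Nat.ble 5664768 i)
noncomputable def eT5532 (i : Nat) : Nat := Bool.rec (eL5537 i) (eL5538 i) (Nat.ble 5670912 i)
noncomputable def eT5533 (i : Nat) : Nat := Bool.rec (eL5540 i) (eL5541 i) (Nat.ble 5673984 i)
noncomputable def eT5534 (i : Nat) : Nat := Bool.rec (eL5539 i) (eT5533 i) (Nat.ble 5672960 i)
noncomputable def eT5535 (i : Nat) : Nat := Bool.rec (eT5532 i) (eT5534 i) (Nat.ble 5671936 i)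
noncomputable def eT5536 (i : Nat) : Nat := Bool.rec (eL5543 i) (eL5544 i) (Nat.ble 5677056 i)
noncomputable def eT5537 (i : Nat) : Nat := Bool.rec (eL5542 i) (eT5536 i) (Nat.ble 5676032 i)
noncomputable def eT5538 (i : Nat) : Nat := Bool.rec (eL5546 i) (eL5547 i) (Nat.ble 5680128 i)
noncomputable def eT5539 (i : Nat) : Nat := Bool.rec (eL5545 i) (eT5538 i) (Nat.ble 5679104 i)
noncomputable def eT5540 (i : Nat) : Nat := Bool.rec (eT5537 i) (eT5539 i) (Nat.ble 5678080 i)
noncomputable def eT5541 (i : Nat) : Nat := Bool.rec (eT5535 i) (eT5540 i) (Nat.ble 5675008 i)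
noncomputable def eT5542 (i : Nat) : Nat := Bool.rec (eT5531 i) (eT5541 i) (Nat.ble 5669888 i)
noncomputable def eT5543 (i : Nat) : Nat := Bool.rec (eT5522 i) (eT5542 i) (Nat.ble 5659648 i)
noncomputable def eT5544 (i : Nat) : Nat := Bool.rec (eL5548 i) (eL5549 i) (Nat.ble 5682176 i)
noncomputable def eT5545 (i : Nat) : Nat := Bool.rec (eL5551 i) (eL5552 i) (Nat.ble 5685248 i)
noncomputable def eT5546 (i : Nat) : Nat := Bool.rec (eL5550 i) (eT5545 i) (Nat.ble 5684224 i)
noncomputable def eT5547 (i : Nat) : Nat := Bool.rec (eT5544 i) (eT5546 i) (Nat.ble 5683200 i)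
noncomputable def eT5548 (i : Nat) : Nat := Bool.rec (eL5553 i) (eL5554 i) (Nat.ble 5687296 i)
noncomputable def eT5549 (i : Nat) : Nat := Bool.rec (eL5556 i) (eL5557 i) (Nat.ble 5690368 i)
noncomputable def eT5550 (i : Nat) : Nat := Bool.rec (eL5555 i) (eT5549 i) (Nat.ble 5689344 i)
noncomputable def eT5551 (i : Nat) : Nat := Bool.rec (eT5548 i) (eT5550 i) (Nat.ble 5688320 i)
noncomputable def eT5552 (i : Nat) : Nat := Bool.rec (eT5547 i) (eT5551 i) (Nat.ble 5686272 i)
noncomputable def eT5553 (i : Nat) : Nat := Bool.rec (eL5558 i) (eL5559 i) (Nat.ble 5692416 i)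
noncomputable def eT5554 (i : Nat) : Nat := Bool.rec (eL5561 i) (eL5562 i) (Nat.ble 5695488 i)
noncomputable def eT5555 (i : Nat) : Nat := Bool.rec (eL5560 i) (eT5554 i) (Nat.ble 5694464 i)
noncomputable def eT5556 (i : Nat) : Nat := Bool.rec (eT5553 i) (eT5555 i) (Nat.ble 5693440 i)
noncomputable def eT5557 (i : Nat) : Nat := Bool.rec (eL5563 i) (eL5564 i) (Nat.ble 5697536 i)
noncomputable def eT5558 (i : Nat) : Nat := Bool.rec (eL5566 i) (eL5567 i) (Nat.ble 5700608 i)
noncomputable def eT5559 (i : Nat) : Nat := Bool.rec (eL5565 i) (eT5558 i) (Nat.ble 5699584 i)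
noncomputable def eT5560 (i : Nat) : Nat := Bool.rec (eT5557 i) (eT5559 i) (Nat.ble 5698560 i)
noncomputable def eT5561 (i : Nat) : Nat := Bool.rec (eT5556 i) (eT5560 i) (Nat.ble 5696512 i)
noncomputable def eT5562 (i : Nat) : Nat := Bool.rec (eT5552 i) (eT5561 i) (Nat.ble 5691392 i)
noncomputable def eT5563 (i : Nat) : Nat := Bool.rec (eL5568 i) (eL5569 i) (Nat.ble 5702656 i)
noncomputable def eT5564 (i : Nat) : Nat := Bool.rec (eL5571 i) (eL5572 i) (Nat.ble 5705728 i)
noncomputable def eT5565 (i : Nat) : Nat := Bool.rec (eL5570 i) (eT5564 i) (Nat.ble 5704704 i)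
noncomputable def eT5566 (i : Nat) : Nat := Bool.rec (eT5563 i) (eT5565 i) (Nat.ble 5703680 i)
noncomputable def eT5567 (i : Nat) : Nat := Bool.rec (eL5573 i) (eL5574 i) (Nat.ble 5707776 i)
noncomputable def eT5568 (i : Nat) : Nat := Bool.rec (eL5576 i) (eL5577 i) (Nat.ble 5710848 i)
noncomputable def eT5569 (i : Nat) : Nat := Bool.rec (eL5575 i) (eT5568 i) (Nat.ble 5709824 i)
noncomputable def eT5570 (i : Nat) : Nat := Bool.rec (eT5567 i) (eT5569 i) (Nat.ble 5708800 i)
noncomputable def eT5571 (i : Nat) : Nat := Bool.rec (eT5566 i) (eT5570 i) (Nat.ble 5706752 i)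
noncomputable def eT5572 (i : Nat) : Nat := Bool.rec (eL5578 i) (eL5579 i) (Nat.ble 5712896 i)
noncomputable def eT5573 (i : Nat) : Nat := Bool.rec (eL5581 i) (eL5582 i) (Nat.ble 5715968 i)
noncomputable def eT5574 (i : Nat) : Nat := Bool.rec (eL5580 i) (eT5573 i) (Nat.ble 5714944 i)
noncomputable def eT5575 (i : Nat) : Nat := Bool.rec (eT5572 i) (eT5574 i) (Nat.ble 5713920 i)
noncomputable def eT5576 (i : Nat) : Nat := Bool.rec (eL5584 i) (eL5585 i) (Nat.ble 5719040 i)
noncomputable def eT5577 (i : Nat) : Nat := Bool.rec (eL5583 i) (eT5576 i) (Nat.ble 5718016 i)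
noncomputable def eT5578 (i : Nat) : Nat := Bool.rec (eL5587 i) (eL5588 i) (Nat.ble 5722112 i)
noncomputable def eT5579 (i : Nat) : Nat := Bool.rec (eL5586 i) (eT5578 i) (Nat.ble 5721088 i)
noncomputable def eT5580 (i : Nat) : Nat := Bool.rec (eT5577 i) (eT5579 i) (Nat.ble 5720064 i)
noncomputable def eT5581 (i : Nat) : Nat := Bool.rec (eT5575 i) (eT5580 i) (Nat.ble 5716992 i)
noncomputable def eT5582 (i : Nat) : Nat := Bool.rec (eT5571 i) (eT5581 i) (Nat.ble 5711872 i)
noncomputable def eT5583 (i : Nat) : Nat := Bool.rec (eT5562 i) (eT5582 i) (Nat.ble 5701632 i)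
noncomputable def eT5584 (i : Nat) : Nat := Bool.rec (eT5543 i) (eT5583 i) (Nat.ble 5681152 i)
noncomputable def eT5585 (i : Nat) : Nat := Bool.rec (eT5503 i) (eT5584 i) (Nat.ble 5639168 i)
noncomputable def eT5586 (i : Nat) : Nat := Bool.rec (eT5422 i) (eT5585 i) (Nat.ble 5555200 i)
noncomputable def eT5587 (i : Nat) : Nat := Bool.rec (eL5589 i) (eL5590 i) (Nat.ble 5724160 i)
noncomputable def eT5588 (i : Nat) : Nat := Bool.rec (eL5592 i) (eL5593 i) (Nat.ble 5727232 i)
noncomputable def eT5589 (i : Nat) : Nat := Bool.rec (eL5591 i) (eT5588 i) (Nat.ble 5726208 i)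
noncomputable def eT5590 (i : Nat) : Nat := Bool.rec (eT5587 i) (eT5589 i) (Nat.ble 5725184 i)
noncomputable def eT5591 (i : Nat) : Nat := Bool.rec (eL5594 i) (eL5595 i) (Nat.ble 5729280 i)
noncomputable def eT5592 (i : Nat) : Nat := Bool.rec (eL5597 i) (eL5598 i) (Nat.ble 5732352 i)
noncomputable def eT5593 (i : Nat) : Nat := Bool.rec (eL5596 i) (eT5592 i) (Nat.ble 5731328 i)
noncomputable def eT5594 (i : Nat) : Nat := Bool.rec (eT5591 i) (eT5593 i) (Nat.ble 5730304 i)
noncomputable def eT5595 (i : Nat) : Nat := Bool.rec (eT5590 i) (eT5594 i) (Nat.ble 5728256 i)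
noncomputable def eT5596 (i : Nat) : Nat := Bool.rec (eL5599 i) (eL5600 i) (Nat.ble 5734400 i)
noncomputable def eT5597 (i : Nat) : Nat := Bool.rec (eL5602 i) (eL5603 i) (Nat.ble 5737472 i)
noncomputable def eT5598 (i : Nat) : Nat := Bool.rec (eL5601 i) (eT5597 i) (Nat.ble 5736448 i)
noncomputable def eT5599 (i : Nat) : Nat := Bool.rec (eT5596 i) (eT5598 i) (Nat.ble 5735424 i)
noncomputable def eT5600 (i : Nat) : Nat := Bool.rec (eL5604 i) (eL5605 i) (Nat.ble 5739520 i)
noncomputable def eT5601 (i : Nat) : Nat := Bool.rec (eL5607 i) (eL5608 i) (Nat.ble 5742592 i)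
noncomputable def eT5602 (i : Nat) : Nat := Bool.rec (eL5606 i) (eT5601 i) (Nat.ble 5741568 i)
noncomputable def eT5603 (i : Nat) : Nat := Bool.rec (eT5600 i) (eT5602 i) (Nat.ble 5740544 i)
noncomputable def eT5604 (i : Nat) : Nat := Bool.rec (eT5599 i) (eT5603 i) (Nat.ble 5738496 i)
noncomputable def eT5605 (i : Nat) : Nat := Bool.rec (eT5595 i) (eT5604 i) (Nat.ble 5733376 i)
noncomputable def eT5606 (i : Nat) : Nat := Bool.rec (eL5609 i) (eL5610 i) (Nat.ble 5744640 i)
noncomputable def eT5607 (i : Nat) : Nat := Bool.rec (eL5612 i) (eL5613 i) (Nat.ble 5747712 i)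
noncomputable def eT5608 (i : Nat) : Nat := Bool.rec (eL5611 i) (eT5607 i) (Nat.ble 5746688 i)
noncomputable def eT5609 (i : Nat) : Nat := Bool.rec (eT5606 i) (eT5608 i) (Nat.ble 5745664 i)
noncomputable def eT5610 (i : Nat) : Nat := Bool.rec (eL5614 i) (eL5615 i) (Nat.ble 5749760 i)
noncomputable def eT5611 (i : Nat) : Nat := Bool.rec (eL5617 i) (eL5618 i) (Nat.ble 5752832 i)
noncomputable def eT5612 (i : Nat) : Nat := Bool.rec (eL5616 i) (eT5611 i) (Nat.ble 5751808 i)
noncomputable def eT5613 (i : Nat) : Nat := Bool.rec (eT5610 i) (eT5612 i) (Nat.ble 5750784 i)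
noncomputable def eT5614 (i : Nat) : Nat := Bool.rec (eT5609 i) (eT5613 i) (Nat.ble 5748736 i)
noncomputable def eT5615 (i : Nat) : Nat := Bool.rec (eL5619 i) (eL5620 i) (Nat.ble 5754880 i)
noncomputable def eT5616 (i : Nat) : Nat := Bool.rec (eL5622 i) (eL5623 i) (Nat.ble 5757952 i)
noncomputable def eT5617 (i : Nat) : Nat := Bool.rec (eL5621 i) (eT5616 i) (Nat.ble 5756928 i)
noncomputable def eT5618 (i : Nat) : Nat := Bool.rec (eT5615 i) (eT5617 i) (Nat.ble 5755904 i)
noncomputable def eT5619 (i : Nat) : Nat := Bool.rec (eL5625 i) (eL5626 i) (Nat.ble 5761024 i)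
noncomputable def eT5620 (i : Nat) : Nat := Bool.rec (eL5624 i) (eT5619 i) (Nat.ble 5760000 i)
noncomputable def eT5621 (i : Nat) : Nat := Bool.rec (eL5628 i) (eL5629 i) (Nat.ble 5764096 i)
noncomputable def eT5622 (i : Nat) : Nat := Bool.rec (eL5627 i) (eT5621 i) (Nat.ble 5763072 i)
noncomputable def eT5623 (i : Nat) : Nat := Bool.rec (eT5620 i) (eT5622 i) (Nat.ble 5762048 i)
noncomputable def eT5624 (i : Nat) : Nat := Bool.rec (eT5618 i) (eT5623 i) (Nat.ble 5758976 i)
noncomputable def eT5625 (i : Nat) : Nat := Bool.rec (eT5614 i) (eT5624 i) (Nat.ble 5753856 i)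
noncomputable def eT5626 (i : Nat) : Nat := Bool.rec (eT5605 i) (eT5625 i) (Nat.ble 5743616 i)
noncomputable def eT5627 (i : Nat) : Nat := Bool.rec (eL5630 i) (eL5631 i) (Nat.ble 5766144 i)
noncomputable def eT5628 (i : Nat) : Nat := Bool.rec (eL5633 i) (eL5634 i) (Nat.ble 5769216 i)
noncomputable def eT5629 (i : Nat) : Nat := Bool.rec (eL5632 i) (eT5628 i) (Nat.ble 5768192 i)
noncomputable def eT5630 (i : Nat) : Nat := Bool.rec (eT5627 i) (eT5629 i) (Nat.ble 5767168 i)
noncomputable def eT5631 (i : Nat) : Nat := Bool.rec (eL5635 i) (eL5636 i) (Nat.ble 5771264 i)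
noncomputable def eT5632 (i : Nat) : Nat := Bool.rec (eL5638 i) (eL5639 i) (Nat.ble 5774336 i)
noncomputable def eT5633 (i : Nat) : Nat := Bool.rec (eL5637 i) (eT5632 i) (Nat.ble 5773312 i)
noncomputable def eT5634 (i : Nat) : Nat := Bool.rec (eT5631 i) (eT5633 i) (Nat.ble 5772288 i)
noncomputable def eT5635 (i : Nat) : Nat := Bool.rec (eT5630 i) (eT5634 i) (Nat.ble 5770240 i)
noncomputable def eT5636 (i : Nat) : Nat := Bool.rec (eL5640 i) (eL5641 i) (Nat.ble 5776384 i)
noncomputable def eT5637 (i : Nat) : Nat := Bool.rec (eL5643 i) (eL5644 i) (Nat.ble 5779456 i)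
noncomputable def eT5638 (i : Nat) : Nat := Bool.rec (eL5642 i) (eT5637 i) (Nat.ble 5778432 i)
noncomputable def eT5639 (i : Nat) : Nat := Bool.rec (eT5636 i) (eT5638 i) (Nat.ble 5777408 i)
noncomputable def eT5640 (i : Nat) : Nat := Bool.rec (eL5645 i) (eL5646 i) (Nat.ble 5781504 i)
noncomputable def eT5641 (i : Nat) : Nat := Bool.rec (eL5648 i) (eL5649 i) (Nat.ble 5784576 i)
noncomputable def eT5642 (i : Nat) : Nat := Bool.rec (eL5647 i) (eT5641 i) (Nat.ble 5783552 i)
noncomputable def eT5643 (i : Nat) : Nat := Bool.rec (eT5640 i) (eT5642 i) (Nat.ble 5782528 i)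
noncomputable def eT5644 (i : Nat) : Nat := Bool.rec (eT5639 i) (eT5643 i) (Nat.ble 5780480 i)
noncomputable def eT5645 (i : Nat) : Nat := Bool.rec (eT5635 i) (eT5644 i) (Nat.ble 5775360 i)
noncomputable def eT5646 (i : Nat) : Nat := Bool.rec (eL5650 i) (eL5651 i) (Nat.ble 5786624 i)
noncomputable def eT5647 (i : Nat) : Nat := Bool.rec (eL5653 i) (eL5654 i) (Nat.ble 5789696 i)
noncomputable def eT5648 (i : Nat) : Nat := Bool.rec (eL5652 i) (eT5647 i) (Nat.ble 5788672 i)
noncomputable def eT5649 (i : Nat) : Nat := Bool.rec (eT5646 i) (eT5648 i) (Nat.ble 5787648 i)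
noncomputable def eT5650 (i : Nat) : Nat := Bool.rec (eL5655 i) (eL5656 i) (Nat.ble 5791744 i)
noncomputable def eT5651 (i : Nat) : Nat := Bool.rec (eL5658 i) (eL5659 i) (Nat.ble 5794816 i)
noncomputable def eT5652 (i : Nat) : Nat := Bool.rec (eL5657 i) (eT5651 i) (Nat.ble 5793792 i)
noncomputable def eT5653 (i : Nat) : Nat := Bool.rec (eT5650 i) (eT5652 i) (Nat.ble 5792768 i)
noncomputable def eT5654 (i : Nat) : Nat := Bool.rec (eT5649 i) (eT5653 i) (Nat.ble 5790720 i)
noncomputable def eT5655 (i : Nat) : Nat := Bool.rec (eL5660 i) (eL5661 i) (Nat.ble 5796864 i)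
noncomputable def eT5656 (i : Nat) : Nat := Bool.rec (eL5663 i) (eL5664 i) (Nat.ble 5799936 i)
noncomputable def eT5657 (i : Nat) : Nat := Bool.rec (eL5662 i) (eT5656 i) (Nat.ble 5798912 i)
noncomputable def eT5658 (i : Nat) : Nat := Bool.rec (eT5655 i) (eT5657 i) (Nat.ble 5797888 i)
noncomputable def eT5659 (i : Nat) : Nat := Bool.rec (eL5666 i) (eL5667 i) (Nat.ble 5803008 i)
noncomputable def eT5660 (i : Nat) : Nat := Bool.rec (eL5665 i) (eT5659 i) (Nat.ble 5801984 i)
noncomputable def eT5661 (i : Nat) : Nat := Bool.rec (eL5669 i) (eL5670 i) (Nat.ble 5806080 i)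
noncomputable def eT5662 (i : Nat) : Nat := Bool.rec (eL5668 i) (eT5661 i) (Nat.ble 5805056 i)
noncomputable def eT5663 (i : Nat) : Nat := Bool.rec (eT5660 i) (eT5662 i) (Nat.ble 5804032 i)
noncomputable def eT5664 (i : Nat) : Nat := Bool.rec (eT5658 i) (eT5663 i) (Nat.ble 5800960 i)
noncomputable def eT5665 (i : Nat) : Nat := Bool.rec (eT5654 i) (eT5664 i) (Nat.ble 5795840 i)
noncomputable def eT5666 (i : Nat) : Nat := Bool.rec (eT5645 i) (eT5665 i) (Nat.ble 5785600 i)
noncomputable def eT5667 (i : Nat) : Nat := Bool.rec (eT5626 i) (eT5666 i) (Nat.ble 5765120 i)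
noncomputable def eT5668 (i : Nat) : Nat := Bool.rec (eL5671 i) (eL5672 i) (Nat.ble 5808128 i)
noncomputable def eT5669 (i : Nat) : Nat := Bool.rec (eL5674 i) (eL5675 i) (Nat.ble 5811200 i)
noncomputable def eT5670 (i : Nat) : Nat := Bool.rec (eL5673 i) (eT5669 i) (Nat.ble 5810176 i)
noncomputable def eT5671 (i : Nat) : Nat := Bool.rec (eT5668 i) (eT5670 i) (Nat.ble 5809152 i)
noncomputable def eT5672 (i : Nat) : Nat := Bool.rec (eL5676 i) (eL5677 i) (Nat.ble 5813248 i)
noncomputable def eT5673 (i : Nat) : Nat := Bool.rec (eL5679 i) (eL5680 i) (Nat.ble 5816320 i)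
noncomputable def eT5674 (i : Nat) : Nat := Bool.rec (eL5678 i) (eT5673 i) (Nat.ble 5815296 i)
noncomputable def eT5675 (i : Nat) : Nat := Bool.rec (eT5672 i) (eT5674 i) (Nat.ble 5814272 i)
noncomputable def eT5676 (i : Nat) : Nat := Bool.rec (eT5671 i) (eT5675 i) (Nat.ble 5812224 i)
noncomputable def eT5677 (i : Nat) : Nat := Bool.rec (eL5681 i) (eL5682 i) (Nat.ble 5818368 i)
noncomputable def eT5678 (i : Nat) : Nat := Bool.rec (eL5684 i) (eL5685 i) (Nat.ble 5821440 i)
noncomputable def eT5679 (i : Nat) : Nat := Bool.rec (eL5683 i) (eT5678 i) (Nat.ble 5820416 i)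
noncomputable def eT5680 (i : Nat) : Nat := Bool.rec (eT5677 i) (eT5679 i) (Nat.ble 5819392 i)
noncomputable def eT5681 (i : Nat) : Nat := Bool.rec (eL5686 i) (eL5687 i) (Nat.ble 5823488 i)
noncomputable def eT5682 (i : Nat) : Nat := Bool.rec (eL5689 i) (eL5690 i) (Nat.ble 5826560 i)
noncomputable def eT5683 (i : Nat) : Nat := Bool.rec (eL5688 i) (eT5682 i) (Nat.ble 5825536 i)
noncomputable def eT5684 (i : Nat) : Nat := Bool.rec (eT5681 i) (eT5683 i) (Nat.ble 5824512 i)
noncomputable def eT5685 (i : Nat) : Nat := Bool.rec (eT5680 i) (eT5684 i) (Nat.ble 5822464 i)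
noncomputable def eT5686 (i : Nat) : Nat := Bool.rec (eT5676 i) (eT5685 i) (Nat.ble 5817344 i)
noncomputable def eT5687 (i : Nat) : Nat := Bool.rec (eL5691 i) (eL5692 i) (Nat.ble 5828608 i)
noncomputable def eT5688 (i : Nat) : Nat := Bool.rec (eL5694 i) (eL5695 i) (Nat.ble 5831680 i)
noncomputable def eT5689 (i : Nat) : Nat := Bool.rec (eL5693 i) (eT5688 i) (Nat.ble 5830656 i)
noncomputable def eT5690 (i : Nat) : Nat := Bool.rec (eT5687 i) (eT5689 i) (Nat.ble 5829632 i)
noncomputable def eT5691 (i : Nat) : Nat := Bool.rec (eL5696 i) (eL5697 i) (Nat.ble 5833728 i)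
noncomputable def eT5692 (i : Nat) : Nat := Bool.rec (eL5699 i) (eL5700 i) (Nat.ble 5836800 i)
noncomputable def eT5693 (i : Nat) : Nat := Bool.rec (eL5698 i) (eT5692 i) (Nat.ble 5835776 i)
noncomputable def eT5694 (i : Nat) : Nat := Bool.rec (eT5691 i) (eT5693 i) (Nat.ble 5834752 i)
noncomputable def eT5695 (i : Nat) : Nat := Bool.rec (eT5690 i) (eT5694 i) (Nat.ble 5832704 i)
noncomputable def eT5696 (i : Nat) : Nat := Bool.rec (eL5701 i) (eL5702 i) (Nat.ble 5838848 i)
noncomputable def eT5697 (i : Nat) : Nat := Bool.rec (eL5704 i) (eL5705 i) (Nat.ble 5841920 i)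
noncomputable def eT5698 (i : Nat) : Nat := Bool.rec (eL5703 i) (eT5697 i) (Nat.ble 5840896 i)
noncomputable def eT5699 (i : Nat) : Nat := Bool.rec (eT5696 i) (eT5698 i) (Nat.ble 5839872 i)
noncomputable def eT5700 (i : Nat) : Nat := Bool.rec (eL5707 i) (eL5708 i) (Nat.ble 5844992 i)
noncomputable def eT5701 (i : Nat) : Nat := Bool.rec (eL5706 i) (eT5700 i) (Nat.ble 5843968 i)
noncomputable def eT5702 (i : Nat) : Nat := Bool.rec (eL5710 i) (eL5711 i) (Nat.ble 5848064 i)
noncomputable def eT5703 (i : Nat) : Nat := Bool.rec (eL5709 i) (eT5702 i) (Nat.ble 5847040 i)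
noncomputable def eT5704 (i : Nat) : Nat := Bool.rec (eT5701 i) (eT5703 i) (Nat.ble 5846016 i)
noncomputable def eT5705 (i : Nat) : Nat := Bool.rec (eT5699 i) (eT5704 i) (Nat.ble 5842944 i)
noncomputable def eT5706 (i : Nat) : Nat := Bool.rec (eT5695 i) (eT5705 i) (Nat.ble 5837824 i)
noncomputable def eT5707 (i : Nat) : Nat := Bool.rec (eT5686 i) (eT5706 i) (Nat.ble 5827584 i)
noncomputable def eT5708 (i : Nat) : Nat := Bool.rec (eL5712 i) (eL5713 i) (Nat.ble 5850112 i)
noncomputable def eT5709 (i : Nat) : Nat := Bool.rec (eL5715 i) (eL5716 i) (Nat.ble 5853184 i)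
noncomputable def eT5710 (i : Nat) : Nat := Bool.rec (eL5714 i) (eT5709 i) (Nat.ble 5852160 i)
noncomputable def eT5711 (i : Nat) : Nat := Bool.rec (eT5708 i) (eT5710 i) (Nat.ble 5851136 i)
noncomputable def eT5712 (i : Nat) : Nat := Bool.rec (eL5717 i) (eL5718 i) (Nat.ble 5855232 i)
noncomputable def eT5713 (i : Nat) : Nat := Bool.rec (eL5720 i) (eL5721 i) (Nat.ble 5858304 i)
noncomputable def eT5714 (i : Nat) : Nat := Bool.rec (eL5719 i) (eT5713 i) (Nat.ble 5857280 i)
noncomputable def eT5715 (i : Nat) : Nat := Bool.rec (eT5712 i) (eT5714 i) (Nat.ble 5856256 i)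
noncomputable def eT5716 (i : Nat) : Nat := Bool.rec (eT5711 i) (eT5715 i) (Nat.ble 5854208 i)
noncomputable def eT5717 (i : Nat) : Nat := Bool.rec (eL5722 i) (eL5723 i) (Nat.ble 5860352 i)
noncomputable def eT5718 (i : Nat) : Nat := Bool.rec (eL5725 i) (eL5726 i) (Nat.ble 5863424 i)
noncomputable def eT5719 (i : Nat) : Nat := Bool.rec (eL5724 i) (eT5718 i) (Nat.ble 5862400 i)
noncomputable def eT5720 (i : Nat) : Nat := Bool.rec (eT5717 i) (eT5719 i) (Nat.ble 5861376 i)
noncomputable def eT5721 (i : Nat) : Nat := Bool.rec (eL5727 i) (eL5728 i) (Nat.ble 5865472 i)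
noncomputable def eT5722 (i : Nat) : Nat := Bool.rec (eL5730 i) (eL5731 i) (Nat.ble 5868544 i)
noncomputable def eT5723 (i : Nat) : Nat := Bool.rec (eL5729 i) (eT5722 i) (Nat.ble 5867520 i)
noncomputable def eT5724 (i : Nat) : Nat := Bool.rec (eT5721 i) (eT5723 i) (Nat.ble 5866496 i)
noncomputable def eT5725 (i : Nat) : Nat := Bool.rec (eT5720 i) (eT5724 i) (Nat.ble 5864448 i)
noncomputable def eT5726 (i : Nat) : Nat := Bool.rec (eT5716 i) (eT5725 i) (Nat.ble 5859328 i)
noncomputable def eT5727 (i : Nat) : Nat := Bool.rec (eL5732 i) (eL5733 i) (Nat.ble 5870592 i)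
noncomputable def eT5728 (i : Nat) : Nat := Bool.rec (eL5735 i) (eL5736 i) (Nat.ble 5873664 i)
noncomputable def eT5729 (i : Nat) : Nat := Bool.rec (eL5734 i) (eT5728 i) (Nat.ble 5872640 i)
noncomputable def eT5730 (i : Nat) : Nat := Bool.rec (eT5727 i) (eT5729 i) (Nat.ble 5871616 i)
noncomputable def eT5731 (i : Nat) : Nat := Bool.rec (eL5737 i) (eL5738 i) (Nat.ble 5875712 i)
noncomputable def eT5732 (i : Nat) : Nat := Bool.rec (eL5740 i) (eL5741 i) (Nat.ble 5878784 i)
noncomputable def eT5733 (i : Nat) : Nat := Bool.rec (eL5739 i) (eT5732 i) (Nat.ble 5877760 i)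
noncomputable def eT5734 (i : Nat) : Nat := Bool.rec (eT5731 i) (eT5733 i) (Nat.ble 5876736 i)
noncomputable def eT5735 (i : Nat) : Nat := Bool.rec (eT5730 i) (eT5734 i) (Nat.ble 5874688 i)
noncomputable def eT5736 (i : Nat) : Nat := Bool.rec (eL5742 i) (eL5743 i) (Nat.ble 5880832 i)
noncomputable def eT5737 (i : Nat) : Nat := Bool.rec (eL5745 i) (eL5746 i) (Nat.ble 5883904 i)
noncomputable def eT5738 (i : Nat) : Nat := Bool.rec (eL5744 i) (eT5737 i) (Nat.ble 5882880 i)
noncomputable def eT5739 (i : Nat) : Nat := Bool.rec (eT5736 i) (eT5738 i) (Nat.ble 5881856 i)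
noncomputable def eT5740 (i : Nat) : Nat := Bool.rec (eL5748 i) (eL5749 i) (Nat.ble 5886976 i)
noncomputable def eT5741 (i : Nat) : Nat := Bool.rec (eL5747 i) (eT5740 i) (Nat.ble 5885952 i)
noncomputable def eT5742 (i : Nat) : Nat := Bool.rec (eL5751 i) (eL5752 i) (Nat.ble 5890048 i)
noncomputable def eT5743 (i : Nat) : Nat := Bool.rec (eL5750 i) (eT5742 i) (Nat.ble 5889024 i)
noncomputable def eT5744 (i : Nat) : Nat := Bool.rec (eT5741 i) (eT5743 i) (Nat.ble 5888000 i)
noncomputable def eT5745 (i : Nat) : Nat := Bool.rec (eT5739 i) (eT5744 i) (Nat.ble 5884928 i)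
noncomputable def eT5746 (i : Nat) : Nat := Bool.rec (eT5735 i) (eT5745 i) (Nat.ble 5879808 i)
noncomputable def eT5747 (i : Nat) : Nat := Bool.rec (eT5726 i) (eT5746 i) (Nat.ble 5869568 i)
noncomputable def eT5748 (i : Nat) : Nat := Bool.rec (eT5707 i) (eT5747 i) (Nat.ble 5849088 i)
noncomputable def eT5749 (i : Nat) : Nat := Bool.rec (eT5667 i) (eT5748 i) (Nat.ble 5807104 i)
noncomputable def eT5750 (i : Nat) : Nat := Bool.rec (eL5753 i) (eL5754 i) (Nat.ble 5892096 i)
noncomputable def eT5751 (i : Nat) : Nat := Bool.rec (eL5756 i) (eL5757 i) (Nat.ble 5895168 i)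
noncomputable def eT5752 (i : Nat) : Nat := Bool.rec (eL5755 i) (eT5751 i) (Nat.ble 5894144 i)
noncomputable def eT5753 (i : Nat) : Nat := Bool.rec (eT5750 i) (eT5752 i) (Nat.ble 5893120 i)
noncomputable def eT5754 (i : Nat) : Nat := Bool.rec (eL5758 i) (eL5759 i) (Nat.ble 5897216 i)
noncomputable def eT5755 (i : Nat) : Nat := Bool.rec (eL5761 i) (eL5762 i) (Nat.ble 5900288 i)
noncomputable def eT5756 (i : Nat) : Nat := Bool.rec (eL5760 i) (eT5755 i) (Nat.ble 5899264 i)
noncomputable def eT5757 (i : Nat) : Nat := Bool.rec (eT5754 i) (eT5756 i) (Nat.ble 5898240 i)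
noncomputable def eT5758 (i : Nat) : Nat := Bool.rec (eT5753 i) (eT5757 i) (Nat.ble 5896192 i)
noncomputable def eT5759 (i : Nat) : Nat := Bool.rec (eL5763 i) (eL5764 i) (Nat.ble 5902336 i)
noncomputable def eT5760 (i : Nat) : Nat := Bool.rec (eL5766 i) (eL5767 i) (Nat.ble 5905408 i)
noncomputable def eT5761 (i : Nat) : Nat := Bool.rec (eL5765 i) (eT5760 i) (Nat.ble 5904384 i)
noncomputable def eT5762 (i : Nat) : Nat := Bool.rec (eT5759 i) (eT5761 i) (Nat.ble 5903360 i)
noncomputable def eT5763 (i : Nat) : Nat := Bool.rec (eL5768 i) (eL5769 i) (Nat.ble 5907456 i)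
noncomputable def eT5764 (i : Nat) : Nat := Bool.rec (eL5771 i) (eL5772 i) (Nat.ble 5910528 i)
noncomputable def eT5765 (i : Nat) : Nat := Bool.rec (eL5770 i) (eT5764 i) (Nat.ble 5909504 i)
noncomputable def eT5766 (i : Nat) : Nat := Bool.rec (eT5763 i) (eT5765 i) (Nat.ble 5908480 i)
noncomputable def eT5767 (i : Nat) : Nat := Bool.rec (eT5762 i) (eT5766 i) (Nat.ble 5906432 i)
noncomputable def eT5768 (i : Nat) : Nat := Bool.rec (eT5758 i) (eT5767 i) (Nat.ble 5901312 i)
noncomputable def eT5769 (i : Nat) : Nat := Bool.rec (eL5773 i) (eL5774 i) (Nat.ble 5912576 i)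
noncomputable def eT5770 (i : Nat) : Nat := Bool.rec (eL5776 i) (eL5777 i) (Nat.ble 5915648 i)
noncomputable def eT5771 (i : Nat) : Nat := Bool.rec (eL5775 i) (eT5770 i) (Nat.ble 5914624 i)
noncomputable def eT5772 (i : Nat) : Nat := Bool.rec (eT5769 i) (eT5771 i) (Nat.ble 5913600 i)
noncomputable def eT5773 (i : Nat) : Nat := Bool.rec (eL5778 i) (eL5779 i) (Nat.ble 5917696 i)
noncomputable def eT5774 (i : Nat) : Nat := Bool.rec (eL5781 i) (eL5782 i) (Nat.ble 5920768 i)
noncomputable def eT5775 (i : Nat) : Nat := Bool.rec (eL5780 i) (eT5774 i) (Nat.ble 5919744 i)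
noncomputable def eT5776 (i : Nat) : Nat := Bool.rec (eT5773 i) (eT5775 i) (Nat.ble 5918720 i)
noncomputable def eT5777 (i : Nat) : Nat := Bool.rec (eT5772 i) (eT5776 i) (Nat.ble 5916672 i)
noncomputable def eT5778 (i : Nat) : Nat := Bool.rec (eL5783 i) (eL5784 i) (Nat.ble 5922816 i)
noncomputable def eT5779 (i : Nat) : Nat := Bool.rec (eL5786 i) (eL5787 i) (Nat.ble 5925888 i)
noncomputable def eT5780 (i : Nat) : Nat := Bool.rec (eL5785 i) (eT5779 i) (Nat.ble 5924864 i)
noncomputable def eT5781 (i : Nat) : Nat := Bool.rec (eT5778 i) (eT5780 i) (Nat.ble 5923840 i)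
noncomputable def eT5782 (i : Nat) : Nat := Bool.rec (eL5789 i) (eL5790 i) (Nat.ble 5928960 i)
noncomputable def eT5783 (i : Nat) : Nat := Bool.rec (eL5788 i) (eT5782 i) (Nat.ble 5927936 i)
noncomputable def eT5784 (i : Nat) : Nat := Bool.rec (eL5792 i) (eL5793 i) (Nat.ble 5932032 i)
noncomputable def eT5785 (i : Nat) : Nat := Bool.rec (eL5791 i) (eT5784 i) (Nat.ble 5931008 i)
noncomputable def eT5786 (i : Nat) : Nat := Bool.rec (eT5783 i) (eT5785 i) (Nat.ble 5929984 i)
noncomputable def eT5787 (i : Nat) : Nat := Bool.rec (eT5781 i) (eT5786 i) (Nat.ble 5926912 i)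
noncomputable def eT5788 (i : Nat) : Nat := Bool.rec (eT5777 i) (eT5787 i) (Nat.ble 5921792 i)
noncomputable def eT5789 (i : Nat) : Nat := Bool.rec (eT5768 i) (eT5788 i) (Nat.ble 5911552 i)
noncomputable def eT5790 (i : Nat) : Nat := Bool.rec (eL5794 i) (eL5795 i) (Nat.ble 5934080 i)
noncomputable def eT5791 (i : Nat) : Nat := Bool.rec (eL5797 i) (eL5798 i) (Nat.ble 5937152 i)
noncomputable def eT5792 (i : Nat) : Nat := Bool.rec (eL5796 i) (eT5791 i) (Nat.ble 5936128 i)
noncomputable def eT5793 (i : Nat) : Nat := Bool.rec (eT5790 i) (eT5792 i) (Nat.ble 5935104 i)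
noncomputable def eT5794 (i : Nat) : Nat := Bool.rec (eL5799 i) (eL5800 i) (Nat.ble 5939200 i)
noncomputable def eT5795 (i : Nat) : Nat := Bool.rec (eL5802 i) (eL5803 i) (Nat.ble 5942272 i)
noncomputable def eT5796 (i : Nat) : Nat := Bool.rec (eL5801 i) (eT5795 i) (Nat.ble 5941248 i)
noncomputable def eT5797 (i : Nat) : Nat := Bool.rec (eT5794 i) (eT5796 i) (Nat.ble 5940224 i)
noncomputable def eT5798 (i : Nat) : Nat := Bool.rec (eT5793 i) (eT5797 i) (Nat.ble 5938176 i)
noncomputable def eT5799 (i : Nat) : Nat := Bool.rec (eL5804 i) (eL5805 i) (Nat.ble 5944320 i)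
noncomputable def eT5800 (i : Nat) : Nat := Bool.rec (eL5807 i) (eL5808 i) (Nat.ble 5947392 i)
noncomputable def eT5801 (i : Nat) : Nat := Bool.rec (eL5806 i) (eT5800 i) (Nat.ble 5946368 i)
noncomputable def eT5802 (i : Nat) : Nat := Bool.rec (eT5799 i) (eT5801 i) (Nat.ble 5945344 i)
noncomputable def eT5803 (i : Nat) : Nat := Bool.rec (eL5809 i) (eL5810 i) (Nat.ble 5949440 i)
noncomputable def eT5804 (i : Nat) : Nat := Bool.rec (eL5812 i) (eL5813 i) (Nat.ble 5952512 i)
noncomputable def eT5805 (i : Nat) : Nat := Bool.rec (eL5811 i) (eT5804 i) (Nat.ble 5951488 i)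
noncomputable def eT5806 (i : Nat) : Nat := Bool.rec (eT5803 i) (eT5805 i) (Nat.ble 5950464 i)
noncomputable def eT5807 (i : Nat) : Nat := Bool.rec (eT5802 i) (eT5806 i) (Nat.ble 5948416 i)
noncomputable def eT5808 (i : Nat) : Nat := Bool.rec (eT5798 i) (eT5807 i) (Nat.ble 5943296 i)
noncomputable def eT5809 (i : Nat) : Nat := Bool.rec (eL5814 i) (eL5815 i) (Nat.ble 5954560 i)
noncomputable def eT5810 (i : Nat) : Nat := Bool.rec (eL5817 i) (eL5818 i) (Nat.ble 5957632 i)
noncomputable def eT5811 (i : Nat) : Nat := Bool.rec (eL5816 i) (eT5810 i) (Nat.ble 5956608 i)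
noncomputable def eT5812 (i : Nat) : Nat := Bool.rec (eT5809 i) (eT5811 i) (Nat.ble 5955584 i)
noncomputable def eT5813 (i : Nat) : Nat := Bool.rec (eL5819 i) (eL5820 i) (Nat.ble 5959680 i)
noncomputable def eT5814 (i : Nat) : Nat := Bool.rec (eL5822 i) (eL5823 i) (Nat.ble 5962752 i)
noncomputable def eT5815 (i : Nat) : Nat := Bool.rec (eL5821 i) (eT5814 i) (Nat.ble 5961728 i)
noncomputable def eT5816 (i : Nat) : Nat := Bool.rec (eT5813 i) (eT5815 i) (Nat.ble 5960704 i)
noncomputable def eT5817 (i : Nat) : Nat := Bool.rec (eT5812 i) (eT5816 i) (Nat.ble 5958656 i)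
noncomputable def eT5818 (i : Nat) : Nat := Bool.rec (eL5824 i) (eL5825 i) (Nat.ble 5964800 i)
noncomputable def eT5819 (i : Nat) : Nat := Bool.rec (eL5827 i) (eL5828 i) (Nat.ble 5967872 i)
noncomputable def eT5820 (i : Nat) : Nat := Bool.rec (eL5826 i) (eT5819 i) (Nat.ble 5966848 i)
noncomputable def eT5821 (i : Nat) : Nat := Bool.rec (eT5818 i) (eT5820 i) (Nat.ble 5965824 i)
noncomputable def eT5822 (i : Nat) : Nat := Bool.rec (eL5830 i) (eL5831 i) (Nat.ble 5970944 i)
noncomputable def eT5823 (i : Nat) : Nat := Bool.rec (eL5829 i) (eT5822 i) (Nat.ble 5969920 i)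
noncomputable def eT5824 (i : Nat) : Nat := Bool.rec (eL5833 i) (eL5834 i) (Nat.ble 5974016 i)
noncomputable def eT5825 (i : Nat) : Nat := Bool.rec (eL5832 i) (eT5824 i) (Nat.ble 5972992 i)
noncomputable def eT5826 (i : Nat) : Nat := Bool.rec (eT5823 i) (eT5825 i) (Nat.ble 5971968 i)
noncomputable def eT5827 (i : Nat) : Nat := Bool.rec (eT5821 i) (eT5826 i) (Nat.ble 5968896 i)
noncomputable def eT5828 (i : Nat) : Nat := Bool.rec (eT5817 i) (eT5827 i) (Nat.ble 5963776 i)
noncomputable def eT5829 (i : Nat) : Nat := Bool.rec (eT5808 i) (eT5828 i) (Nat.ble 5953536 i)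
noncomputable def eT5830 (i : Nat) : Nat := Bool.rec (eT5789 i) (eT5829 i) (Nat.ble 5933056 i)
noncomputable def eT5831 (i : Nat) : Nat := Bool.rec (eL5835 i) (eL5836 i) (Nat.ble 5976064 i)
noncomputable def eT5832 (i : Nat) : Nat := Bool.rec (eL5838 i) (eL5839 i) (Nat.ble 5979136 i)
noncomputable def eT5833 (i : Nat) : Nat := Bool.rec (eL5837 i) (eT5832 i) (Nat.ble 5978112 i)
noncomputable def eT5834 (i : Nat) : Nat := Bool.rec (eT5831 i) (eT5833 i) (Nat.ble 5977088 i)
noncomputable def eT5835 (i : Nat) : Nat := Bool.rec (eL5840 i) (eL5841 i) (Nat.ble 5981184 i)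
noncomputable def eT5836 (i : Nat) : Nat := Bool.rec (eL5843 i) (eL5844 i) (Nat.ble 5984256 i)
noncomputable def eT5837 (i : Nat) : Nat := Bool.rec (eL5842 i) (eT5836 i) (Nat.ble 5983232 i)
noncomputable def eT5838 (i : Nat) : Nat := Bool.rec (eT5835 i) (eT5837 i) (Nat.ble 5982208 i)
noncomputable def eT5839 (i : Nat) : Nat := Bool.rec (eT5834 i) (eT5838 i) (Nat.ble 5980160 i)
noncomputable def eT5840 (i : Nat) : Nat := Bool.rec (eL5845 i) (eL5846 i) (Nat.ble 5986304 i)
noncomputable def eT5841 (i : Nat) : Nat := Bool.rec (eL5848 i) (eL5849 i) (Nat.ble 5989376 i)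
noncomputable def eT5842 (i : Nat) : Nat := Bool.rec (eL5847 i) (eT5841 i) (Nat.ble 5988352 i)
noncomputable def eT5843 (i : Nat) : Nat := Bool.rec (eT5840 i) (eT5842 i) (Nat.ble 5987328 i)
noncomputable def eT5844 (i : Nat) : Nat := Bool.rec (eL5850 i) (eL5851 i) (Nat.ble 5991424 i)
noncomputable def eT5845 (i : Nat) : Nat := Bool.rec (eL5853 i) (eL5854 i) (Nat.ble 5994496 i)
noncomputable def eT5846 (i : Nat) : Nat := Bool.rec (eL5852 i) (eT5845 i) (Nat.ble 5993472 i)
noncomputable def eT5847 (i : Nat) : Nat := Bool.rec (eT5844 i) (eT5846 i) (Nat.ble 5992448 i)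
noncomputable def eT5848 (i : Nat) : Nat := Bool.rec (eT5843 i) (eT5847 i) (Nat.ble 5990400 i)
noncomputable def eT5849 (i : Nat) : Nat := Bool.rec (eT5839 i) (eT5848 i) (Nat.ble 5985280 i)
noncomputable def eT5850 (i : Nat) : Nat := Bool.rec (eL5855 i) (eL5856 i) (Nat.ble 5996544 i)
noncomputable def eT5851 (i : Nat) : Nat := Bool.rec (eL5858 i) (eL5859 i) (Nat.ble 5999616 i)
noncomputable def eT5852 (i : Nat) : Nat := Bool.rec (eL5857 i) (eT5851 i) (Nat.ble 5998592 i)
noncomputable def eT5853 (i : Nat) : Nat := Bool.rec (eT5850 i) (eT5852 i) (Nat.ble 5997568 i)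
noncomputable def eT5854 (i : Nat) : Nat := Bool.rec (eL5860 i) (eL5861 i) (Nat.ble 6001664 i)
noncomputable def eT5855 (i : Nat) : Nat := Bool.rec (eL5863 i) (eL5864 i) (Nat.ble 6004736 i)
noncomputable def eT5856 (i : Nat) : Nat := Bool.rec (eL5862 i) (eT5855 i) (Nat.ble 6003712 i)
noncomputable def eT5857 (i : Nat) : Nat := Bool.rec (eT5854 i) (eT5856 i) (Nat.ble 6002688 i)
noncomputable def eT5858 (i : Nat) : Nat := Bool.rec (eT5853 i) (eT5857 i) (Nat.ble 6000640 i)
noncomputable def eT5859 (i : Nat) : Nat := Bool.rec (eL5865 i) (eL5866 i) (Nat.ble 6006784 i)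
noncomputable def eT5860 (i : Nat) : Nat := Bool.rec (eL5868 i) (eL5869 i) (Nat.ble 6009856 i)
noncomputable def eT5861 (i : Nat) : Nat := Bool.rec (eL5867 i) (eT5860 i) (Nat.ble 6008832 i)
noncomputable def eT5862 (i : Nat) : Nat := Bool.rec (eT5859 i) (eT5861 i) (Nat.ble 6007808 i)
noncomputable def eT5863 (i : Nat) : Nat := Bool.rec (eL5871 i) (eL5872 i) (Nat.ble 6012928 i)
noncomputable def eT5864 (i : Nat) : Nat := Bool.rec (eL5870 i) (eT5863 i) (Nat.ble 6011904 i)
noncomputable def eT5865 (i : Nat) : Nat := Bool.rec (eL5874 i) (eL5875 i) (Nat.ble 6016000 i)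
noncomputable def eT5866 (i : Nat) : Nat := Bool.rec (eL5873 i) (eT5865 i) (Nat.ble 6014976 i)
noncomputable def eT5867 (i : Nat) : Nat := Bool.rec (eT5864 i) (eT5866 i) (Nat.ble 6013952 i)
noncomputable def eT5868 (i : Nat) : Nat := Bool.rec (eT5862 i) (eT5867 i) (Nat.ble 6010880 i)
noncomputable def eT5869 (i : Nat) : Nat := Bool.rec (eT5858 i) (eT5868 i) (Nat.ble 6005760 i)
noncomputable def eT5870 (i : Nat) : Nat := Bool.rec (eT5849 i) (eT5869 i) (Nat.ble 5995520 i)
noncomputable def eT5871 (i : Nat) : Nat := Bool.rec (eL5876 i) (eL5877 i) (Nat.ble 6018048 i)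
noncomputable def eT5872 (i : Nat) : Nat := Bool.rec (eL5879 i) (eL5880 i) (Nat.ble 6021120 i)
noncomputable def eT5873 (i : Nat) : Nat := Bool.rec (eL5878 i) (eT5872 i) (Nat.ble 6020096 i)
noncomputable def eT5874 (i : Nat) : Nat := Bool.rec (eT5871 i) (eT5873 i) (Nat.ble 6019072 i)
noncomputable def eT5875 (i : Nat) : Nat := Bool.rec (eL5881 i) (eL5882 i) (Nat.ble 6023168 i)
noncomputable def eT5876 (i : Nat) : Nat := Bool.rec (eL5884 i) (eL5885 i) (Nat.ble 6026240 i)
noncomputable def eT5877 (i : Nat) : Nat := Bool.rec (eL5883 i) (eT5876 i) (Nat.ble 6025216 i)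
noncomputable def eT5878 (i : Nat) : Nat := Bool.rec (eT5875 i) (eT5877 i) (Nat.ble 6024192 i)
noncomputable def eT5879 (i : Nat) : Nat := Bool.rec (eT5874 i) (eT5878 i) (Nat.ble 6022144 i)
noncomputable def eT5880 (i : Nat) : Nat := Bool.rec (eL5886 i) (eL5887 i) (Nat.ble 6028288 i)
noncomputable def eT5881 (i : Nat) : Nat := Bool.rec (eL5889 i) (eL5890 i) (Nat.ble 6031360 i)
noncomputable def eT5882 (i : Nat) : Nat := Bool.rec (eL5888 i) (eT5881 i) (Nat.ble 6030336 i)
noncomputable def eT5883 (i : Nat) : Nat := Bool.rec (eT5880 i) (eT5882 i) (Nat.ble 6029312 i)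
noncomputable def eT5884 (i : Nat) : Nat := Bool.rec (eL5892 i) (eL5893 i) (Nat.ble 6034432 i)
noncomputable def eT5885 (i : Nat) : Nat := Bool.rec (eL5891 i) (eT5884 i) (Nat.ble 6033408 i)
noncomputable def eT5886 (i : Nat) : Nat := Bool.rec (eL5895 i) (eL5896 i) (Nat.ble 6037504 i)
noncomputable def eT5887 (i : Nat) : Nat := Bool.rec (eL5894 i) (eT5886 i) (Nat.ble 6036480 i)
noncomputable def eT5888 (i : Nat) : Nat := Bool.rec (eT5885 i) (eT5887 i) (Nat.ble 6035456 i)
noncomputable def eT5889 (i : Nat) : Nat := Bool.rec (eT5883 i) (eT5888 i) (Nat.ble 6032384 i)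
noncomputable def eT5890 (i : Nat) : Nat := Bool.rec (eT5879 i) (eT5889 i) (Nat.ble 6027264 i)
noncomputable def eT5891 (i : Nat) : Nat := Bool.rec (eL5897 i) (eL5898 i) (Nat.ble 6039552 i)
noncomputable def eT5892 (i : Nat) : Nat := Bool.rec (eL5900 i) (eL5901 i) (Nat.ble 6042624 i)
noncomputable def eT5893 (i : Nat) : Nat := Bool.rec (eL5899 i) (eT5892 i) (Nat.ble 6041600 i)
noncomputable def eT5894 (i : Nat) : Nat := Bool.rec (eT5891 i) (eT5893 i) (Nat.ble 6040576 i)
noncomputable def eT5895 (i : Nat) : Nat := Bool.rec (eL5902 i) (eL5903 i) (Nat.ble 6044672 i)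
noncomputable def eT5896 (i : Nat) : Nat := Bool.rec (eL5905 i) (eL5906 i) (Nat.ble 6047744 i)
noncomputable def eT5897 (i : Nat) : Nat := Bool.rec (eL5904 i) (eT5896 i) (Nat.ble 6046720 i)
noncomputable def eT5898 (i : Nat) : Nat := Bool.rec (eT5895 i) (eT5897 i) (Nat.ble 6045696 i)
noncomputable def eT5899 (i : Nat) : Nat := Bool.rec (eT5894 i) (eT5898 i) (Nat.ble 6043648 i)
noncomputable def eT5900 (i : Nat) : Nat := Bool.rec (eL5907 i) (eL5908 i) (Nat.ble 6049792 i)
noncomputable def eT5901 (i : Nat) : Nat := Bool.rec (eL5910 i) (eL5911 i) (Nat.ble 6052864 i)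
noncomputable def eT5902 (i : Nat) : Nat := Bool.rec (eL5909 i) (eT5901 i) (Nat.ble 6051840 i)
noncomputable def eT5903 (i : Nat) : Nat := Bool.rec (eT5900 i) (eT5902 i) (Nat.ble 6050816 i)
noncomputable def eT5904 (i : Nat) : Nat := Bool.rec (eL5913 i) (eL5914 i) (Nat.ble 6055936 i)
noncomputable def eT5905 (i : Nat) : Nat := Bool.rec (eL5912 i) (eT5904 i) (Nat.ble 6054912 i)
noncomputable def eT5906 (i : Nat) : Nat := Bool.rec (eL5916 i) (eL5917 i) (Nat.ble 6059008 i)
noncomputable def eT5907 (i : Nat) : Nat := Bool.rec (eL5915 i) (eT5906 i) (Nat.ble 6057984 i)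
noncomputable def eT5908 (i : Nat) : Nat := Bool.rec (eT5905 i) (eT5907 i) (Nat.ble 6056960 i)
noncomputable def eT5909 (i : Nat) : Nat := Bool.rec (eT5903 i) (eT5908 i) (Nat.ble 6053888 i)
noncomputable def eT5910 (i : Nat) : Nat := Bool.rec (eT5899 i) (eT5909 i) (Nat.ble 6048768 i)
noncomputable def eT5911 (i : Nat) : Nat := Bool.rec (eT5890 i) (eT5910 i) (Nat.ble 6038528 i)
noncomputable def eT5912 (i : Nat) : Nat := Bool.rec (eT5870 i) (eT5911 i) (Nat.ble 6017024 i)
noncomputable def eT5913 (i : Nat) : Nat := Bool.rec (eT5830 i) (eT5912 i) (Nat.ble 5975040 i)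
noncomputable def eT5914 (i : Nat) : Nat := Bool.rec (eT5749 i) (eT5913 i) (Nat.ble 5891072 i)
noncomputable def eT5915 (i : Nat) : Nat := Bool.rec (eT5586 i) (eT5914 i) (Nat.ble 5723136 i)
noncomputable def eT5916 (i : Nat) : Nat := Bool.rec (eL5918 i) (eL5919 i) (Nat.ble 6061056 i)
noncomputable def eT5917 (i : Nat) : Nat := Bool.rec (eL5921 i) (eL5922 i) (Nat.ble 6064128 i)
noncomputable def eT5918 (i : Nat) : Nat := Bool.rec (eL5920 i) (eT5917 i) (Nat.ble 6063104 i)
noncomputable def eT5919 (i : Nat) : Nat := Bool.rec (eT5916 i) (eT5918 i) (Nat.ble 6062080 i)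
noncomputable def eT5920 (i : Nat) : Nat := Bool.rec (eL5923 i) (eL5924 i) (Nat.ble 6066176 i)
noncomputable def eT5921 (i : Nat) : Nat := Bool.rec (eL5926 i) (eL5927 i) (Nat.ble 6069248 i)
noncomputable def eT5922 (i : Nat) : Nat := Bool.rec (eL5925 i) (eT5921 i) (Nat.ble 6068224 i)
noncomputable def eT5923 (i : Nat) : Nat := Bool.rec (eT5920 i) (eT5922 i) (Nat.ble 6067200 i)
noncomputable def eT5924 (i : Nat) : Nat := Bool.rec (eT5919 i) (eT5923 i) (Nat.ble 6065152 i)
noncomputable def eT5925 (i : Nat) : Nat := Bool.rec (eL5928 i) (eL5929 i) (Nat.ble 6071296 i)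
noncomputable def eT5926 (i : Nat) : Nat := Bool.rec (eL5931 i) (eL5932 i) (Nat.ble 6074368 i)
noncomputable def eT5927 (i : Nat) : Nat := Bool.rec (eL5930 i) (eT5926 i) (Nat.ble 6073344 i)
noncomputable def eT5928 (i : Nat) : Nat := Bool.rec (eT5925 i) (eT5927 i) (Nat.ble 6072320 i)
noncomputable def eT5929 (i : Nat) : Nat := Bool.rec (eL5933 i) (eL5934 i) (Nat.ble 6076416 i)
noncomputable def eT5930 (i : Nat) : Nat := Bool.rec (eL5936 i) (eL5937 i) (Nat.ble 6079488 i)
noncomputable def eT5931 (i : Nat) : Nat := Bool.rec (eL5935 i) (eT5930 i) (Nat.ble 6078464 i)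
noncomputable def eT5932 (i : Nat) : Nat := Bool.rec (eT5929 i) (eT5931 i) (Nat.ble 6077440 i)
noncomputable def eT5933 (i : Nat) : Nat := Bool.rec (eT5928 i) (eT5932 i) (Nat.ble 6075392 i)
noncomputable def eT5934 (i : Nat) : Nat := Bool.rec (eT5924 i) (eT5933 i) (Nat.ble 6070272 i)
noncomputable def eT5935 (i : Nat) : Nat := Bool.rec (eL5938 i) (eL5939 i) (Nat.ble 6081536 i)
noncomputable def eT5936 (i : Nat) : Nat := Bool.rec (eL5941 i) (eL5942 i) (Nat.ble 6084608 i)
noncomputable def eT5937 (i : Nat) : Nat := Bool.rec (eL5940 i) (eT5936 i) (Nat.ble 6083584 i)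
noncomputable def eT5938 (i : Nat) : Nat := Bool.rec (eT5935 i) (eT5937 i) (Nat.ble 6082560 i)
noncomputable def eT5939 (i : Nat) : Nat := Bool.rec (eL5943 i) (eL5944 i) (Nat.ble 6086656 i)
noncomputable def eT5940 (i : Nat) : Nat := Bool.rec (eL5946 i) (eL5947 i) (Nat.ble 6089728 i)
noncomputable def eT5941 (i : Nat) : Nat := Bool.rec (eL5945 i) (eT5940 i) (Nat.ble 6088704 i)
noncomputable def eT5942 (i : Nat) : Nat := Bool.rec (eT5939 i) (eT5941 i) (Nat.ble 6087680 i)
noncomputable def eT5943 (i : Nat) : Nat := Bool.rec (eT5938 i) (eT5942 i) (Nat.ble 6085632 i)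
noncomputable def eT5944 (i : Nat) : Nat := Bool.rec (eL5948 i) (eL5949 i) (Nat.ble 6091776 i)
noncomputable def eT5945 (i : Nat) : Nat := Bool.rec (eL5951 i) (eL5952 i) (Nat.ble 6094848 i)
noncomputable def eT5946 (i : Nat) : Nat := Bool.rec (eL5950 i) (eT5945 i) (Nat.ble 6093824 i)
noncomputable def eT5947 (i : Nat) : Nat := Bool.rec (eT5944 i) (eT5946 i) (Nat.ble 6092800 i)
noncomputable def eT5948 (i : Nat) : Nat := Bool.rec (eL5954 i) (eL5955 i) (Nat.ble 6097920 i)
noncomputable def eT5949 (i : Nat) : Nat := Bool.rec (eL5953 i) (eT5948 i) (Nat.ble 6096896 i)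
noncomputable def eT5950 (i : Nat) : Nat := Bool.rec (eL5957 i) (eL5958 i) (Nat.ble 6100992 i)
noncomputable def eT5951 (i : Nat) : Nat := Bool.rec (eL5956 i) (eT5950 i) (Nat.ble 6099968 i)
noncomputable def eT5952 (i : Nat) : Nat := Bool.rec (eT5949 i) (eT5951 i) (Nat.ble 6098944 i)
noncomputable def eT5953 (i : Nat) : Nat := Bool.rec (eT5947 i) (eT5952 i) (Nat.ble 6095872 i)
noncomputable def eT5954 (i : Nat) : Nat := Bool.rec (eT5943 i) (eT5953 i) (Nat.ble 6090752 i)
noncomputable def eT5955 (i : Nat) : Nat := Bool.rec (eT5934 i) (eT5954 i) (Nat.ble 6080512 i)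
noncomputable def eT5956 (i : Nat) : Nat := Bool.rec (eL5959 i) (eL5960 i) (Nat.ble 6103040 i)
noncomputable def eT5957 (i : Nat) : Nat := Bool.rec (eL5962 i) (eL5963 i) (Nat.ble 6106112 i)
noncomputable def eT5958 (i : Nat) : Nat := Bool.rec (eL5961 i) (eT5957 i) (Nat.ble 6105088 i)
noncomputable def eT5959 (i : Nat) : Nat := Bool.rec (eT5956 i) (eT5958 i) (Nat.ble 6104064 i)
noncomputable def eT5960 (i : Nat) : Nat := Bool.rec (eL5964 i) (eL5965 i) (Nat.ble 6108160 i)
noncomputable def eT5961 (i : Nat) : Nat := Bool.rec (eL5967 i) (eL5968 i) (Nat.ble 6111232 i)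
noncomputable def eT5962 (i : Nat) : Nat := Bool.rec (eL5966 i) (eT5961 i) (Nat.ble 6110208 i)
noncomputable def eT5963 (i : Nat) : Nat := Bool.rec (eT5960 i) (eT5962 i) (Nat.ble 6109184 i)
noncomputable def eT5964 (i : Nat) : Nat := Bool.rec (eT5959 i) (eT5963 i) (Nat.ble 6107136 i)
noncomputable def eT5965 (i : Nat) : Nat := Bool.rec (eL5969 i) (eL5970 i) (Nat.ble 6113280 i)
noncomputable def eT5966 (i : Nat) : Nat := Bool.rec (eL5972 i) (eL5973 i) (Nat.ble 6116352 i)
noncomputable def eT5967 (i : Nat) : Nat := Bool.rec (eL5971 i) (eT5966 i) (Nat.ble 6115328 i)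
noncomputable def eT5968 (i : Nat) : Nat := Bool.rec (eT5965 i) (eT5967 i) (Nat.ble 6114304 i)
noncomputable def eT5969 (i : Nat) : Nat := Bool.rec (eL5974 i) (eL5975 i) (Nat.ble 6118400 i)
noncomputable def eT5970 (i : Nat) : Nat := Bool.rec (eL5977 i) (eL5978 i) (Nat.ble 6121472 i)
noncomputable def eT5971 (i : Nat) : Nat := Bool.rec (eL5976 i) (eT5970 i) (Nat.ble 6120448 i)
noncomputable def eT5972 (i : Nat) : Nat := Bool.rec (eT5969 i) (eT5971 i) (Nat.ble 6119424 i)
noncomputable def eT5973 (i : Nat) : Nat := Bool.rec (eT5968 i) (eT5972 i) (Nat.ble 6117376 i)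
noncomputable def eT5974 (i : Nat) : Nat := Bool.rec (eT5964 i) (eT5973 i) (Nat.ble 6112256 i)
noncomputable def eT5975 (i : Nat) : Nat := Bool.rec (eL5979 i) (eL5980 i) (Nat.ble 6123520 i)
noncomputable def eT5976 (i : Nat) : Nat := Bool.rec (eL5982 i) (eL5983 i) (Nat.ble 6126592 i)
noncomputable def eT5977 (i : Nat) : Nat := Bool.rec (eL5981 i) (eT5976 i) (Nat.ble 6125568 i)
noncomputable def eT5978 (i : Nat) : Nat := Bool.rec (eT5975 i) (eT5977 i) (Nat.ble 6124544 i)
noncomputable def eT5979 (i : Nat) : Nat := Bool.rec (eL5984 i) (eL5985 i) (Nat.ble 6128640 i)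
noncomputable def eT5980 (i : Nat) : Nat := Bool.rec (eL5987 i) (eL5988 i) (Nat.ble 6131712 i)
noncomputable def eT5981 (i : Nat) : Nat := Bool.rec (eL5986 i) (eT5980 i) (Nat.ble 6130688 i)
noncomputable def eT5982 (i : Nat) : Nat := Bool.rec (eT5979 i) (eT5981 i) (Nat.ble 6129664 i)
noncomputable def eT5983 (i : Nat) : Nat := Bool.rec (eT5978 i) (eT5982 i) (Nat.ble 6127616 i)
noncomputable def eT5984 (i : Nat) : Nat := Bool.rec (eL5989 i) (eL5990 i) (Nat.ble 6133760 i)
noncomputable def eT5985 (i : Nat) : Nat := Bool.rec (eL5992 i) (eL5993 i) (Nat.ble 6136832 i)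
noncomputable def eT5986 (i : Nat) : Nat := Bool.rec (eL5991 i) (eT5985 i) (Nat.ble 6135808 i)
noncomputable def eT5987 (i : Nat) : Nat := Bool.rec (eT5984 i) (eT5986 i) (Nat.ble 6134784 i)
noncomputable def eT5988 (i : Nat) : Nat := Bool.rec (eL5995 i) (eL5996 i) (Nat.ble 6139904 i)
noncomputable def eT5989 (i : Nat) : Nat := Bool.rec (eL5994 i) (eT5988 i) (Nat.ble 6138880 i)
noncomputable def eT5990 (i : Nat) : Nat := Bool.rec (eL5998 i) (eL5999 i) (Nat.ble 6142976 i)
noncomputable def eT5991 (i : Nat) : Nat := Bool.rec (eL5997 i) (eT5990 i) (Nat.ble 6141952 i)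
noncomputable def eT5992 (i : Nat) : Nat := Bool.rec (eT5989 i) (eT5991 i) (Nat.ble 6140928 i)
noncomputable def eT5993 (i : Nat) : Nat := Bool.rec (eT5987 i) (eT5992 i) (Nat.ble 6137856 i)
noncomputable def eT5994 (i : Nat) : Nat := Bool.rec (eT5983 i) (eT5993 i) (Nat.ble 6132736 i)
noncomputable def eT5995 (i : Nat) : Nat := Bool.rec (eT5974 i) (eT5994 i) (Nat.ble 6122496 i)
noncomputable def eT5996 (i : Nat) : Nat := Bool.rec (eT5955 i) (eT5995 i) (Nat.ble 6102016 i)
noncomputable def eT5997 (i : Nat) : Nat := Bool.rec (eL6000 i) (eL6001 i) (Nat.ble 6145024 i)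
noncomputable def eT5998 (i : Nat) : Nat := Bool.rec (eL6003 i) (eL6004 i) (Nat.ble 6148096 i)
noncomputable def eT5999 (i : Nat) : Nat := Bool.rec (eL6002 i) (eT5998 i) (Nat.ble 6147072 i)
noncomputable def eT6000 (i : Nat) : Nat := Bool.rec (eT5997 i) (eT5999 i) (Nat.ble 6146048 i)
noncomputable def eT6001 (i : Nat) : Nat := Bool.rec (eL6005 i) (eL6006 i) (Nat.ble 6150144 i)
noncomputable def eT6002 (i : Nat) : Nat := Bool.rec (eL6008 i) (eL6009 i) (Nat.ble 6153216 i)
noncomputable def eT6003 (i : Nat) : Nat := Bool.rec (eL6007 i) (eT6002 i) (Nat.ble 6152192 i)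
noncomputable def eT6004 (i : Nat) : Nat := Bool.rec (eT6001 i) (eT6003 i) (Nat.ble 6151168 i)
noncomputable def eT6005 (i : Nat) : Nat := Bool.rec (eT6000 i) (eT6004 i) (Nat.ble 6149120 i)
noncomputable def eT6006 (i : Nat) : Nat := Bool.rec (eL6010 i) (eL6011 i) (Nat.ble 6155264 i)
noncomputable def eT6007 (i : Nat) : Nat := Bool.rec (eL6013 i) (eL6014 i) (Nat.ble 6158336 i)
noncomputable def eT6008 (i : Nat) : Nat := Bool.rec (eL6012 i) (eT6007 i) (Nat.ble 6157312 i)
noncomputable def eT6009 (i : Nat) : Nat := Bool.rec (eT6006 i) (eT6008 i) (Nat.ble 6156288 i)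
noncomputable def eT6010 (i : Nat) : Nat := Bool.rec (eL6015 i) (eL6016 i) (Nat.ble 6160384 i)
noncomputable def eT6011 (i : Nat) : Nat := Bool.rec (eL6018 i) (eL6019 i) (Nat.ble 6163456 i)
noncomputable def eT6012 (i : Nat) : Nat := Bool.rec (eL6017 i) (eT6011 i) (Nat.ble 6162432 i)
noncomputable def eT6013 (i : Nat) : Nat := Bool.rec (eT6010 i) (eT6012 i) (Nat.ble 6161408 i)
noncomputable def eT6014 (i : Nat) : Nat := Bool.rec (eT6009 i) (eT6013 i) (Nat.ble 6159360 i)
noncomputable def eT6015 (i : Nat) : Nat := Bool.rec (eT6005 i) (eT6014 i) (Nat.ble 6154240 i)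
noncomputable def eT6016 (i : Nat) : Nat := Bool.rec (eL6020 i) (eL6021 i) (Nat.ble 6165504 i)
noncomputable def eT6017 (i : Nat) : Nat := Bool.rec (eL6023 i) (eL6024 i) (Nat.ble 6168576 i)
noncomputable def eT6018 (i : Nat) : Nat := Bool.rec (eL6022 i) (eT6017 i) (Nat.ble 6167552 i)
noncomputable def eT6019 (i : Nat) : Nat := Bool.rec (eT6016 i) (eT6018 i) (Nat.ble 6166528 i)
noncomputable def eT6020 (i : Nat) : Nat := Bool.rec (eL6025 i) (eL6026 i) (Nat.ble 6170624 i)
noncomputable def eT6021 (i : Nat) : Nat := Bool.rec (eL6028 i) (eL6029 i) (Nat.ble 6173696 i)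
noncomputable def eT6022 (i : Nat) : Nat := Bool.rec (eL6027 i) (eT6021 i) (Nat.ble 6172672 i)
noncomputable def eT6023 (i : Nat) : Nat := Bool.rec (eT6020 i) (eT6022 i) (Nat.ble 6171648 i)
noncomputable def eT6024 (i : Nat) : Nat := Bool.rec (eT6019 i) (eT6023 i) (Nat.ble 6169600 i)
noncomputable def eT6025 (i : Nat) : Nat := Bool.rec (eL6030 i) (eL6031 i) (Nat.ble 6175744 i)
noncomputable def eT6026 (i : Nat) : Nat := Bool.rec (eL6033 i) (eL6034 i) (Nat.ble 6178816 i)
noncomputable def eT6027 (i : Nat) : Nat := Bool.rec (eL6032 i) (eT6026 i) (Nat.ble 6177792 i)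
noncomputable def eT6028 (i : Nat) : Nat := Bool.rec (eT6025 i) (eT6027 i) (Nat.ble 6176768 i)
noncomputable def eT6029 (i : Nat) : Nat := Bool.rec (eL6036 i) (eL6037 i) (Nat.ble 6181888 i)
noncomputable def eT6030 (i : Nat) : Nat := Bool.rec (eL6035 i) (eT6029 i) (Nat.ble 6180864 i)
noncomputable def eT6031 (i : Nat) : Nat := Bool.rec (eL6039 i) (eL6040 i) (Nat.ble 6184960 i)
noncomputable def eT6032 (i : Nat) : Nat := Bool.rec (eL6038 i) (eT6031 i) (Nat.ble 6183936 i)
noncomputable def eT6033 (i : Nat) : Nat := Bool.rec (eT6030 i) (eT6032 i) (Nat.ble 6182912 i)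
noncomputable def eT6034 (i : Nat) : Nat := Bool.rec (eT6028 i) (eT6033 i) (Nat.ble 6179840 i)
noncomputable def eT6035 (i : Nat) : Nat := Bool.rec (eT6024 i) (eT6034 i) (Nat.ble 6174720 i)
noncomputable def eT6036 (i : Nat) : Nat := Bool.rec (eT6015 i) (eT6035 i) (Nat.ble 6164480 i)
noncomputable def eT6037 (i : Nat) : Nat := Bool.rec (eL6041 i) (eL6042 i) (Nat.ble 6187008 i)
noncomputable def eT6038 (i : Nat) : Nat := Bool.rec (eL6044 i) (eL6045 i) (Nat.ble 6190080 i)
noncomputable def eT6039 (i : Nat) : Nat := Bool.rec (eL6043 i) (eT6038 i) (Nat.ble 6189056 i)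
noncomputable def eT6040 (i : Nat) : Nat := Bool.rec (eT6037 i) (eT6039 i) (Nat.ble 6188032 i)
noncomputable def eT6041 (i : Nat) : Nat := Bool.rec (eL6046 i) (eL6047 i) (Nat.ble 6192128 i)
noncomputable def eT6042 (i : Nat) : Nat := Bool.rec (eL6049 i) (eL6050 i) (Nat.ble 6195200 i)
noncomputable def eT6043 (i : Nat) : Nat := Bool.rec (eL6048 i) (eT6042 i) (Nat.ble 6194176 i)
noncomputable def eT6044 (i : Nat) : Nat := Bool.rec (eT6041 i) (eT6043 i) (Nat.ble 6193152 i)
noncomputable def eT6045 (i : Nat) : Nat := Bool.rec (eT6040 i) (eT6044 i) (Nat.ble 6191104 i)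
noncomputable def eT6046 (i : Nat) : Nat := Bool.rec (eL6051 i) (eL6052 i) (Nat.ble 6197248 i)
noncomputable def eT6047 (i : Nat) : Nat := Bool.rec (eL6054 i) (eL6055 i) (Nat.ble 6200320 i)
noncomputable def eT6048 (i : Nat) : Nat := Bool.rec (eL6053 i) (eT6047 i) (Nat.ble 6199296 i)
noncomputable def eT6049 (i : Nat) : Nat := Bool.rec (eT6046 i) (eT6048 i) (Nat.ble 6198272 i)
noncomputable def eT6050 (i : Nat) : Nat := Bool.rec (eL6056 i) (eL6057 i) (Nat.ble 6202368 i)
noncomputable def eT6051 (i : Nat) : Nat := Bool.rec (eL6059 i) (eL6060 i) (Nat.ble 6205440 i)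
noncomputable def eT6052 (i : Nat) : Nat := Bool.rec (eL6058 i) (eT6051 i) (Nat.ble 6204416 i)
noncomputable def eT6053 (i : Nat) : Nat := Bool.rec (eT6050 i) (eT6052 i) (Nat.ble 6203392 i)
noncomputable def eT6054 (i : Nat) : Nat := Bool.rec (eT6049 i) (eT6053 i) (Nat.ble 6201344 i)
noncomputable def eT6055 (i : Nat) : Nat := Bool.rec (eT6045 i) (eT6054 i) (Nat.ble 6196224 i)
noncomputable def eT6056 (i : Nat) : Nat := Bool.rec (eL6061 i) (eL6062 i) (Nat.ble 6207488 i)
noncomputable def eT6057 (i : Nat) : Nat := Bool.rec (eL6064 i) (eL6065 i) (Nat.ble 6210560 i)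
noncomputable def eT6058 (i : Nat) : Nat := Bool.rec (eL6063 i) (eT6057 i) (Nat.ble 6209536 i)
noncomputable def eT6059 (i : Nat) : Nat := Bool.rec (eT6056 i) (eT6058 i) (Nat.ble 6208512 i)
noncomputable def eT6060 (i : Nat) : Nat := Bool.rec (eL6066 i) (eL6067 i) (Nat.ble 6212608 i)
noncomputable def eT6061 (i : Nat) : Nat := Bool.rec (eL6069 i) (eL6070 i) (Nat.ble 6215680 i)
noncomputable def eT6062 (i : Nat) : Nat := Bool.rec (eL6068 i) (eT6061 i) (Nat.ble 6214656 i)
noncomputable def eT6063 (i : Nat) : Nat := Bool.rec (eT6060 i) (eT6062 i) (Nat.ble 6213632 i)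
noncomputable def eT6064 (i : Nat) : Nat := Bool.rec (eT6059 i) (eT6063 i) (Nat.ble 6211584 i)
noncomputable def eT6065 (i : Nat) : Nat := Bool.rec (eL6071 i) (eL6072 i) (Nat.ble 6217728 i)
noncomputable def eT6066 (i : Nat) : Nat := Bool.rec (eL6074 i) (eL6075 i) (Nat.ble 6220800 i)
noncomputable def eT6067 (i : Nat) : Nat := Bool.rec (eL6073 i) (eT6066 i) (Nat.ble 6219776 i)
noncomputable def eT6068 (i : Nat) : Nat := Bool.rec (eT6065 i) (eT6067 i) (Nat.ble 6218752 i)
noncomputable def eT6069 (i : Nat) : Nat := Bool.rec (eL6077 i) (eL6078 i) (Nat.ble 6223872 i)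
noncomputable def eT6070 (i : Nat) : Nat := Bool.rec (eL6076 i) (eT6069 i) (Nat.ble 6222848 i)
noncomputable def eT6071 (i : Nat) : Nat := Bool.rec (eL6080 i) (eL6081 i) (Nat.ble 6226944 i)
noncomputable def eT6072 (i : Nat) : Nat := Bool.rec (eL6079 i) (eT6071 i) (Nat.ble 6225920 i)
noncomputable def eT6073 (i : Nat) : Nat := Bool.rec (eT6070 i) (eT6072 i) (Nat.ble 6224896 i)
noncomputable def eT6074 (i : Nat) : Nat := Bool.rec (eT6068 i) (eT6073 i) (Nat.ble 6221824 i)
noncomputable def eT6075 (i : Nat) : Nat := Bool.rec (eT6064 i) (eT6074 i) (Nat.ble 6216704 i)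
noncomputable def eT6076 (i : Nat) : Nat := Bool.rec (eT6055 i) (eT6075 i) (Nat.ble 6206464 i)
noncomputable def eT6077 (i : Nat) : Nat := Bool.rec (eT6036 i) (eT6076 i) (Nat.ble 6185984 i)
noncomputable def eT6078 (i : Nat) : Nat := Bool.rec (eT5996 i) (eT6077 i) (Nat.ble 6144000 i)
noncomputable def eT6079 (i : Nat) : Nat := Bool.rec (eL6082 i) (eL6083 i) (Nat.ble 6228992 i)
noncomputable def eT6080 (i : Nat) : Nat := Bool.rec (eL6085 i) (eL6086 i) (Nat.ble 6232064 i)
noncomputable def eT6081 (i : Nat) : Nat := Bool.rec (eL6084 i) (eT6080 i) (Nat.ble 6231040 i)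
noncomputable def eT6082 (i : Nat) : Nat := Bool.rec (eT6079 i) (eT6081 i) (Nat.ble 6230016 i)
noncomputable def eT6083 (i : Nat) : Nat := Bool.rec (eL6087 i) (eL6088 i) (Nat.ble 6234112 i)
noncomputable def eT6084 (i : Nat) : Nat := Bool.rec (eL6090 i) (eL6091 i) (Nat.ble 6237184 i)
noncomputable def eT6085 (i : Nat) : Nat := Bool.rec (eL6089 i) (eT6084 i) (Nat.ble 6236160 i)
noncomputable def eT6086 (i : Nat) : Nat := Bool.rec (eT6083 i) (eT6085 i) (Nat.ble 6235136 i)
noncomputable def eT6087 (i : Nat) : Nat := Bool.rec (eT6082 i) (eT6086 i) (Nat.ble 6233088 i)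
noncomputable def eT6088 (i : Nat) : Nat := Bool.rec (eL6092 i) (eL6093 i) (Nat.ble 6239232 i)
noncomputable def eT6089 (i : Nat) : Nat := Bool.rec (eL6095 i) (eL6096 i) (Nat.ble 6242304 i)
noncomputable def eT6090 (i : Nat) : Nat := Bool.rec (eL6094 i) (eT6089 i) (Nat.ble 6241280 i)
noncomputable def eT6091 (i : Nat) : Nat := Bool.rec (eT6088 i) (eT6090 i) (Nat.ble 6240256 i)
noncomputable def eT6092 (i : Nat) : Nat := Bool.rec (eL6097 i) (eL6098 i) (Nat.ble 6244352 i)
noncomputable def eT6093 (i : Nat) : Nat := Bool.rec (eL6100 i) (eL6101 i) (Nat.ble 6247424 i)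
noncomputable def eT6094 (i : Nat) : Nat := Bool.rec (eL6099 i) (eT6093 i) (Nat.ble 6246400 i)
noncomputable def eT6095 (i : Nat) : Nat := Bool.rec (eT6092 i) (eT6094 i) (Nat.ble 6245376 i)
noncomputable def eT6096 (i : Nat) : Nat := Bool.rec (eT6091 i) (eT6095 i) (Nat.ble 6243328 i)
noncomputable def eT6097 (i : Nat) : Nat := Bool.rec (eT6087 i) (eT6096 i) (Nat.ble 6238208 i)
noncomputable def eT6098 (i : Nat) : Nat := Bool.rec (eL6102 i) (eL6103 i) (Nat.ble 6249472 i)
noncomputable def eT6099 (i : Nat) : Nat := Bool.rec (eL6105 i) (eL6106 i) (Nat.ble 6252544 i)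
noncomputable def eT6100 (i : Nat) : Nat := Bool.rec (eL6104 i) (eT6099 i) (Nat.ble 6251520 i)
noncomputable def eT6101 (i : Nat) : Nat := Bool.rec (eT6098 i) (eT6100 i) (Nat.ble 6250496 i)
noncomputable def eT6102 (i : Nat) : Nat := Bool.rec (eL6107 i) (eL6108 i) (Nat.ble 6254592 i)
noncomputable def eT6103 (i : Nat) : Nat := Bool.rec (eL6110 i) (eL6111 i) (Nat.ble 6257664 i)
noncomputable def eT6104 (i : Nat) : Nat := Bool.rec (eL6109 i) (eT6103 i) (Nat.ble 6256640 i)
noncomputable def eT6105 (i : Nat) : Nat := Bool.rec (eT6102 i) (eT6104 i) (Nat.ble 6255616 i)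
noncomputable def eT6106 (i : Nat) : Nat := Bool.rec (eT6101 i) (eT6105 i) (Nat.ble 6253568 i)
noncomputable def eT6107 (i : Nat) : Nat := Bool.rec (eL6112 i) (eL6113 i) (Nat.ble 6259712 i)
noncomputable def eT6108 (i : Nat) : Nat := Bool.rec (eL6115 i) (eL6116 i) (Nat.ble 6262784 i)
noncomputable def eT6109 (i : Nat) : Nat := Bool.rec (eL6114 i) (eT6108 i) (Nat.ble 6261760 i)
noncomputable def eT6110 (i : Nat) : Nat := Bool.rec (eT6107 i) (eT6109 i) (Nat.ble 6260736 i)
noncomputable def eT6111 (i : Nat) : Nat := Bool.rec (eL6118 i) (eL6119 i) (Nat.ble 6265856 i)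
noncomputable def eT6112 (i : Nat) : Nat := Bool.rec (eL6117 i) (eT6111 i) (Nat.ble 6264832 i)
noncomputable def eT6113 (i : Nat) : Nat := Bool.rec (eL6121 i) (eL6122 i) (Nat.ble 6268928 i)
noncomputable def eT6114 (i : Nat) : Nat := Bool.rec (eL6120 i) (eT6113 i) (Nat.ble 6267904 i)
noncomputable def eT6115 (i : Nat) : Nat := Bool.rec (eT6112 i) (eT6114 i) (Nat.ble 6266880 i)
noncomputable def eT6116 (i : Nat) : Nat := Bool.rec (eT6110 i) (eT6115 i) (Nat.ble 6263808 i)
noncomputable def eT6117 (i : Nat) : Nat := Bool.rec (eT6106 i) (eT6116 i) (Nat.ble 6258688 i)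
noncomputable def eT6118 (i : Nat) : Nat := Bool.rec (eT6097 i) (eT6117 i) (Nat.ble 6248448 i)
noncomputable def eT6119 (i : Nat) : Nat := Bool.rec (eL6123 i) (eL6124 i) (Nat.ble 6270976 i)
noncomputable def eT6120 (i : Nat) : Nat := Bool.rec (eL6126 i) (eL6127 i) (Nat.ble 6274048 i)
noncomputable def eT6121 (i : Nat) : Nat := Bool.rec (eL6125 i) (eT6120 i) (Nat.ble 6273024 i)
noncomputable def eT6122 (i : Nat) : Nat := Bool.rec (eT6119 i) (eT6121 i) (Nat.ble 6272000 i)
noncomputable def eT6123 (i : Nat) : Nat := Bool.rec (eL6128 i) (eL6129 i) (Nat.ble 6276096 i)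
noncomputable def eT6124 (i : Nat) : Nat := Bool.rec (eL6131 i) (eL6132 i) (Nat.ble 6279168 i)
noncomputable def eT6125 (i : Nat) : Nat := Bool.rec (eL6130 i) (eT6124 i) (Nat.ble 6278144 i)
noncomputable def eT6126 (i : Nat) : Nat := Bool.rec (eT6123 i) (eT6125 i) (Nat.ble 6277120 i)
noncomputable def eT6127 (i : Nat) : Nat := Bool.rec (eT6122 i) (eT6126 i) (Nat.ble 6275072 i)
noncomputable def eT6128 (i : Nat) : Nat := Bool.rec (eL6133 i) (eL6134 i) (Nat.ble 6281216 i)
noncomputable def eT6129 (i : Nat) : Nat := Bool.rec (eL6136 i) (eL6137 i) (Nat.ble 6284288 i)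
noncomputable def eT6130 (i : Nat) : Nat := Bool.rec (eL6135 i) (eT6129 i) (Nat.ble 6283264 i)
noncomputable def eT6131 (i : Nat) : Nat := Bool.rec (eT6128 i) (eT6130 i) (Nat.ble 6282240 i)
noncomputable def eT6132 (i : Nat) : Nat := Bool.rec (eL6138 i) (eL6139 i) (Nat.ble 6286336 i)
noncomputable def eT6133 (i : Nat) : Nat := Bool.rec (eL6141 i) (eL6142 i) (Nat.ble 6289408 i)
noncomputable def eT6134 (i : Nat) : Nat := Bool.rec (eL6140 i) (eT6133 i) (Nat.ble 6288384 i)
noncomputable def eT6135 (i : Nat) : Nat := Bool.rec (eT6132 i) (eT6134 i) (Nat.ble 6287360 i)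
noncomputable def eT6136 (i : Nat) : Nat := Bool.rec (eT6131 i) (eT6135 i) (Nat.ble 6285312 i)
noncomputable def eT6137 (i : Nat) : Nat := Bool.rec (eT6127 i) (eT6136 i) (Nat.ble 6280192 i)
noncomputable def eT6138 (i : Nat) : Nat := Bool.rec (eL6143 i) (eL6144 i) (Nat.ble 6291456 i)
noncomputable def eT6139 (i : Nat) : Nat := Bool.rec (eL6146 i) (eL6147 i) (Nat.ble 6294528 i)
noncomputable def eT6140 (i : Nat) : Nat := Bool.rec (eL6145 i) (eT6139 i) (Nat.ble 6293504 i)
noncomputable def eT6141 (i : Nat) : Nat := Bool.rec (eT6138 i) (eT6140 i) (Nat.ble 6292480 i)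
noncomputable def eT6142 (i : Nat) : Nat := Bool.rec (eL6148 i) (eL6149 i) (Nat.ble 6296576 i)
noncomputable def eT6143 (i : Nat) : Nat := Bool.rec (eL6151 i) (eL6152 i) (Nat.ble 6299648 i)
noncomputable def eT6144 (i : Nat) : Nat := Bool.rec (eL6150 i) (eT6143 i) (Nat.ble 6298624 i)
noncomputable def eT6145 (i : Nat) : Nat := Bool.rec (eT6142 i) (eT6144 i) (Nat.ble 6297600 i)
noncomputable def eT6146 (i : Nat) : Nat := Bool.rec (eT6141 i) (eT6145 i) (Nat.ble 6295552 i)
noncomputable def eT6147 (i : Nat) : Nat := Bool.rec (eL6153 i) (eL6154 i) (Nat.ble 6301696 i)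
noncomputable def eT6148 (i : Nat) : Nat := Bool.rec (eL6156 i) (eL6157 i) (Nat.ble 6304768 i)
noncomputable def eT6149 (i : Nat) : Nat := Bool.rec (eL6155 i) (eT6148 i) (Nat.ble 6303744 i)
noncomputable def eT6150 (i : Nat) : Nat := Bool.rec (eT6147 i) (eT6149 i) (Nat.ble 6302720 i)
noncomputable def eT6151 (i : Nat) : Nat := Bool.rec (eL6159 i) (eL6160 i) (Nat.ble 6307840 i)
noncomputable def eT6152 (i : Nat) : Nat := Bool.rec (eL6158 i) (eT6151 i) (Nat.ble 6306816 i)
noncomputable def eT6153 (i : Nat) : Nat := Bool.rec (eL6162 i) (eL6163 i) (Nat.ble 6310912 i)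
noncomputable def eT6154 (i : Nat) : Nat := Bool.rec (eL6161 i) (eT6153 i) (Nat.ble 6309888 i)
noncomputable def eT6155 (i : Nat) : Nat := Bool.rec (eT6152 i) (eT6154 i) (Nat.ble 6308864 i)
noncomputable def eT6156 (i : Nat) : Nat := Bool.rec (eT6150 i) (eT6155 i) (Nat.ble 6305792 i)
noncomputable def eT6157 (i : Nat) : Nat := Bool.rec (eT6146 i) (eT6156 i) (Nat.ble 6300672 i)
noncomputable def eT6158 (i : Nat) : Nat := Bool.rec (eT6137 i) (eT6157 i) (Nat.ble 6290432 i)
noncomputable def eT6159 (i : Nat) : Nat := Bool.rec (eT6118 i) (eT6158 i) (Nat.ble 6269952 i)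
noncomputable def eT6160 (i : Nat) : Nat := Bool.rec (eL6164 i) (eL6165 i) (Nat.ble 6312960 i)
noncomputable def eT6161 (i : Nat) : Nat := Bool.rec (eL6167 i) (eL6168 i) (Nat.ble 6316032 i)
noncomputable def eT6162 (i : Nat) : Nat := Bool.rec (eL6166 i) (eT6161 i) (Nat.ble 6315008 i)
noncomputable def eT6163 (i : Nat) : Nat := Bool.rec (eT6160 i) (eT6162 i) (Nat.ble 6313984 i)
noncomputable def eT6164 (i : Nat) : Nat := Bool.rec (eL6169 i) (eL6170 i) (Nat.ble 6318080 i)
noncomputable def eT6165 (i : Nat) : Nat := Bool.rec (eL6172 i) (eL6173 i) (Nat.ble 6321152 i)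
noncomputable def eT6166 (i : Nat) : Nat := Bool.rec (eL6171 i) (eT6165 i) (Nat.ble 6320128 i)
noncomputable def eT6167 (i : Nat) : Nat := Bool.rec (eT6164 i) (eT6166 i) (Nat.ble 6319104 i)
noncomputable def eT6168 (i : Nat) : Nat := Bool.rec (eT6163 i) (eT6167 i) (Nat.ble 6317056 i)
noncomputable def eT6169 (i : Nat) : Nat := Bool.rec (eL6174 i) (eL6175 i) (Nat.ble 6323200 i)
noncomputable def eT6170 (i : Nat) : Nat := Bool.rec (eL6177 i) (eL6178 i) (Nat.ble 6326272 i)
noncomputable def eT6171 (i : Nat) : Nat := Bool.rec (eL6176 i) (eT6170 i) (Nat.ble 6325248 i)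
noncomputable def eT6172 (i : Nat) : Nat := Bool.rec (eT6169 i) (eT6171 i) (Nat.ble 6324224 i)
noncomputable def eT6173 (i : Nat) : Nat := Bool.rec (eL6179 i) (eL6180 i) (Nat.ble 6328320 i)
noncomputable def eT6174 (i : Nat) : Nat := Bool.rec (eL6182 i) (eL6183 i) (Nat.ble 6331392 i)
noncomputable def eT6175 (i : Nat) : Nat := Bool.rec (eL6181 i) (eT6174 i) (Nat.ble 6330368 i)
noncomputable def eT6176 (i : Nat) : Nat := Bool.rec (eT6173 i) (eT6175 i) (Nat.ble 6329344 i)
noncomputable def eT6177 (i : Nat) : Nat := Bool.rec (eT6172 i) (eT6176 i) (Nat.ble 6327296 i)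
noncomputable def eT6178 (i : Nat) : Nat := Bool.rec (eT6168 i) (eT6177 i) (Nat.ble 6322176 i)
noncomputable def eT6179 (i : Nat) : Nat := Bool.rec (eL6184 i) (eL6185 i) (Nat.ble 6333440 i)
noncomputable def eT6180 (i : Nat) : Nat := Bool.rec (eL6187 i) (eL6188 i) (Nat.ble 6336512 i)
noncomputable def eT6181 (i : Nat) : Nat := Bool.rec (eL6186 i) (eT6180 i) (Nat.ble 6335488 i)
noncomputable def eT6182 (i : Nat) : Nat := Bool.rec (eT6179 i) (eT6181 i) (Nat.ble 6334464 i)
noncomputable def eT6183 (i : Nat) : Nat := Bool.rec (eL6189 i) (eL6190 i) (Nat.ble 6338560 i)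
noncomputable def eT6184 (i : Nat) : Nat := Bool.rec (eL6192 i) (eL6193 i) (Nat.ble 6341632 i)
noncomputable def eT6185 (i : Nat) : Nat := Bool.rec (eL6191 i) (eT6184 i) (Nat.ble 6340608 i)
noncomputable def eT6186 (i : Nat) : Nat := Bool.rec (eT6183 i) (eT6185 i) (Nat.ble 6339584 i)
noncomputable def eT6187 (i : Nat) : Nat := Bool.rec (eT6182 i) (eT6186 i) (Nat.ble 6337536 i)
noncomputable def eT6188 (i : Nat) : Nat := Bool.rec (eL6194 i) (eL6195 i) (Nat.ble 6343680 i)
noncomputable def eT6189 (i : Nat) : Nat := Bool.rec (eL6197 i) (eL6198 i) (Nat.ble 6346752 i)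
noncomputable def eT6190 (i : Nat) : Nat := Bool.rec (eL6196 i) (eT6189 i) (Nat.ble 6345728 i)
noncomputable def eT6191 (i : Nat) : Nat := Bool.rec (eT6188 i) (eT6190 i) (Nat.ble 6344704 i)
noncomputable def eT6192 (i : Nat) : Nat := Bool.rec (eL6200 i) (eL6201 i) (Nat.ble 6349824 i)
noncomputable def eT6193 (i : Nat) : Nat := Bool.rec (eL6199 i) (eT6192 i) (Nat.ble 6348800 i)
noncomputable def eT6194 (i : Nat) : Nat := Bool.rec (eL6203 i) (eL6204 i) (Nat.ble 6352896 i)
noncomputable def eT6195 (i : Nat) : Nat := Bool.rec (eL6202 i) (eT6194 i) (Nat.ble 6351872 i)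
noncomputable def eT6196 (i : Nat) : Nat := Bool.rec (eT6193 i) (eT6195 i) (Nat.ble 6350848 i)
noncomputable def eT6197 (i : Nat) : Nat := Bool.rec (eT6191 i) (eT6196 i) (Nat.ble 6347776 i)
noncomputable def eT6198 (i : Nat) : Nat := Bool.rec (eT6187 i) (eT6197 i) (Nat.ble 6342656 i)
noncomputable def eT6199 (i : Nat) : Nat := Bool.rec (eT6178 i) (eT6198 i) (Nat.ble 6332416 i)
noncomputable def eT6200 (i : Nat) : Nat := Bool.rec (eL6205 i) (eL6206 i) (Nat.ble 6354944 i)
noncomputable def eT6201 (i : Nat) : Nat := Bool.rec (eL6208 i) (eL6209 i) (Nat.ble 6358016 i)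
noncomputable def eT6202 (i : Nat) : Nat := Bool.rec (eL6207 i) (eT6201 i) (Nat.ble 6356992 i)
noncomputable def eT6203 (i : Nat) : Nat := Bool.rec (eT6200 i) (eT6202 i) (Nat.ble 6355968 i)
noncomputable def eT6204 (i : Nat) : Nat := Bool.rec (eL6210 i) (eL6211 i) (Nat.ble 6360064 i)
noncomputable def eT6205 (i : Nat) : Nat := Bool.rec (eL6213 i) (eL6214 i) (Nat.ble 6363136 i)
noncomputable def eT6206 (i : Nat) : Nat := Bool.rec (eL6212 i) (eT6205 i) (Nat.ble 6362112 i)
noncomputable def eT6207 (i : Nat) : Nat := Bool.rec (eT6204 i) (eT6206 i) (Nat.ble 6361088 i)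
noncomputable def eT6208 (i : Nat) : Nat := Bool.rec (eT6203 i) (eT6207 i) (Nat.ble 6359040 i)
noncomputable def eT6209 (i : Nat) : Nat := Bool.rec (eL6215 i) (eL6216 i) (Nat.ble 6365184 i)
noncomputable def eT6210 (i : Nat) : Nat := Bool.rec (eL6218 i) (eL6219 i) (Nat.ble 6368256 i)
noncomputable def eT6211 (i : Nat) : Nat := Bool.rec (eL6217 i) (eT6210 i) (Nat.ble 6367232 i)
noncomputable def eT6212 (i : Nat) : Nat := Bool.rec (eT6209 i) (eT6211 i) (Nat.ble 6366208 i)
noncomputable def eT6213 (i : Nat) : Nat := Bool.rec (eL6221 i) (eL6222 i) (Nat.ble 6371328 i)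
noncomputable def eT6214 (i : Nat) : Nat := Bool.rec (eL6220 i) (eT6213 i) (Nat.ble 6370304 i)
noncomputable def eT6215 (i : Nat) : Nat := Bool.rec (eL6224 i) (eL6225 i) (Nat.ble 6374400 i)
noncomputable def eT6216 (i : Nat) : Nat := Bool.rec (eL6223 i) (eT6215 i) (Nat.ble 6373376 i)
noncomputable def eT6217 (i : Nat) : Nat := Bool.rec (eT6214 i) (eT6216 i) (Nat.ble 6372352 i)
noncomputable def eT6218 (i : Nat) : Nat := Bool.rec (eT6212 i) (eT6217 i) (Nat.ble 6369280 i)
noncomputable def eT6219 (i : Nat) : Nat := Bool.rec (eT6208 i) (eT6218 i) (Nat.ble 6364160 i)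
noncomputable def eT6220 (i : Nat) : Nat := Bool.rec (eL6226 i) (eL6227 i) (Nat.ble 6376448 i)
noncomputable def eT6221 (i : Nat) : Nat := Bool.rec (eL6229 i) (eL6230 i) (Nat.ble 6379520 i)
noncomputable def eT6222 (i : Nat) : Nat := Bool.rec (eL6228 i) (eT6221 i) (Nat.ble 6378496 i)
noncomputable def eT6223 (i : Nat) : Nat := Bool.rec (eT6220 i) (eT6222 i) (Nat.ble 6377472 i)
noncomputable def eT6224 (i : Nat) : Nat := Bool.rec (eL6231 i) (eL6232 i) (Nat.ble 6381568 i)
noncomputable def eT6225 (i : Nat) : Nat := Bool.rec (eL6234 i) (eL6235 i) (Nat.ble 6384640 i)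
noncomputable def eT6226 (i : Nat) : Nat := Bool.rec (eL6233 i) (eT6225 i) (Nat.ble 6383616 i)
noncomputable def eT6227 (i : Nat) : Nat := Bool.rec (eT6224 i) (eT6226 i) (Nat.ble 6382592 i)
noncomputable def eT6228 (i : Nat) : Nat := Bool.rec (eT6223 i) (eT6227 i) (Nat.ble 6380544 i)
noncomputable def eT6229 (i : Nat) : Nat := Bool.rec (eL6236 i) (eL6237 i) (Nat.ble 6386688 i)
noncomputable def eT6230 (i : Nat) : Nat := Bool.rec (eL6239 i) (eL6240 i) (Nat.ble 6389760 i)
noncomputable def eT6231 (i : Nat) : Nat := Bool.rec (eL6238 i) (eT6230 i) (Nat.ble 6388736 i)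
noncomputable def eT6232 (i : Nat) : Nat := Bool.rec (eT6229 i) (eT6231 i) (Nat.ble 6387712 i)
noncomputable def eT6233 (i : Nat) : Nat := Bool.rec (eL6242 i) (eL6243 i) (Nat.ble 6392832 i)
noncomputable def eT6234 (i : Nat) : Nat := Bool.rec (eL6241 i) (eT6233 i) (Nat.ble 6391808 i)
noncomputable def eT6235 (i : Nat) : Nat := Bool.rec (eL6245 i) (eL6246 i) (Nat.ble 6395904 i)
noncomputable def eT6236 (i : Nat) : Nat := Bool.rec (eL6244 i) (eT6235 i) (Nat.ble 6394880 i)
noncomputable def eT6237 (i : Nat) : Nat := Bool.rec (eT6234 i) (eT6236 i) (Nat.ble 6393856 i)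
noncomputable def eT6238 (i : Nat) : Nat := Bool.rec (eT6232 i) (eT6237 i) (Nat.ble 6390784 i)
noncomputable def eT6239 (i : Nat) : Nat := Bool.rec (eT6228 i) (eT6238 i) (Nat.ble 6385664 i)
noncomputable def eT6240 (i : Nat) : Nat := Bool.rec (eT6219 i) (eT6239 i) (Nat.ble 6375424 i)
noncomputable def eT6241 (i : Nat) : Nat := Bool.rec (eT6199 i) (eT6240 i) (Nat.ble 6353920 i)
noncomputable def eT6242 (i : Nat) : Nat := Bool.rec (eT6159 i) (eT6241 i) (Nat.ble 6311936 i)
noncomputable def eT6243 (i : Nat) : Nat := Bool.rec (eT6078 i) (eT6242 i) (Nat.ble 6227968 i)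
noncomputable def eT6244 (i : Nat) : Nat := Bool.rec (eL6247 i) (eL6248 i) (Nat.ble 6397952 i)
noncomputable def eT6245 (i : Nat) : Nat := Bool.rec (eL6250 i) (eL6251 i) (Nat.ble 6401024 i)
noncomputable def eT6246 (i : Nat) : Nat := Bool.rec (eL6249 i) (eT6245 i) (Nat.ble 6400000 i)
noncomputable def eT6247 (i : Nat) : Nat := Bool.rec (eT6244 i) (eT6246 i) (Nat.ble 6398976 i)
noncomputable def eT6248 (i : Nat) : Nat := Bool.rec (eL6252 i) (eL6253 i) (Nat.ble 6403072 i)
noncomputable def eT6249 (i : Nat) : Nat := Bool.rec (eL6255 i) (eL6256 i) (Nat.ble 6406144 i)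
noncomputable def eT6250 (i : Nat) : Nat := Bool.rec (eL6254 i) (eT6249 i) (Nat.ble 6405120 i)
noncomputable def eT6251 (i : Nat) : Nat := Bool.rec (eT6248 i) (eT6250 i) (Nat.ble 6404096 i)
noncomputable def eT6252 (i : Nat) : Nat := Bool.rec (eT6247 i) (eT6251 i) (Nat.ble 6402048 i)
noncomputable def eT6253 (i : Nat) : Nat := Bool.rec (eL6257 i) (eL6258 i) (Nat.ble 6408192 i)
noncomputable def eT6254 (i : Nat) : Nat := Bool.rec (eL6260 i) (eL6261 i) (Nat.ble 6411264 i)
noncomputable def eT6255 (i : Nat) : Nat := Bool.rec (eL6259 i) (eT6254 i) (Nat.ble 6410240 i)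
noncomputable def eT6256 (i : Nat) : Nat := Bool.rec (eT6253 i) (eT6255 i) (Nat.ble 6409216 i)
noncomputable def eT6257 (i : Nat) : Nat := Bool.rec (eL6262 i) (eL6263 i) (Nat.ble 6413312 i)
noncomputable def eT6258 (i : Nat) : Nat := Bool.rec (eL6265 i) (eL6266 i) (Nat.ble 6416384 i)
noncomputable def eT6259 (i : Nat) : Nat := Bool.rec (eL6264 i) (eT6258 i) (Nat.ble 6415360 i)
noncomputable def eT6260 (i : Nat) : Nat := Bool.rec (eT6257 i) (eT6259 i) (Nat.ble 6414336 i)
noncomputable def eT6261 (i : Nat) : Nat := Bool.rec (eT6256 i) (eT6260 i) (Nat.ble 6412288 i)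
noncomputable def eT6262 (i : Nat) : Nat := Bool.rec (eT6252 i) (eT6261 i) (Nat.ble 6407168 i)
noncomputable def eT6263 (i : Nat) : Nat := Bool.rec (eL6267 i) (eL6268 i) (Nat.ble 6418432 i)
noncomputable def eT6264 (i : Nat) : Nat := Bool.rec (eL6270 i) (eL6271 i) (Nat.ble 6421504 i)
noncomputable def eT6265 (i : Nat) : Nat := Bool.rec (eL6269 i) (eT6264 i) (Nat.ble 6420480 i)
noncomputable def eT6266 (i : Nat) : Nat := Bool.rec (eT6263 i) (eT6265 i) (Nat.ble 6419456 i)
noncomputable def eT6267 (i : Nat) : Nat := Bool.rec (eL6272 i) (eL6273 i) (Nat.ble 6423552 i)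
noncomputable def eT6268 (i : Nat) : Nat := Bool.rec (eL6275 i) (eL6276 i) (Nat.ble 6426624 i)
noncomputable def eT6269 (i : Nat) : Nat := Bool.rec (eL6274 i) (eT6268 i) (Nat.ble 6425600 i)
noncomputable def eT6270 (i : Nat) : Nat := Bool.rec (eT6267 i) (eT6269 i) (Nat.ble 6424576 i)
noncomputable def eT6271 (i : Nat) : Nat := Bool.rec (eT6266 i) (eT6270 i) (Nat.ble 6422528 i)
noncomputable def eT6272 (i : Nat) : Nat := Bool.rec (eL6277 i) (eL6278 i) (Nat.ble 6428672 i)
noncomputable def eT6273 (i : Nat) : Nat := Bool.rec (eL6280 i) (eL6281 i) (Nat.ble 6431744 i)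
noncomputable def eT6274 (i : Nat) : Nat := Bool.rec (eL6279 i) (eT6273 i) (Nat.ble 6430720 i)
noncomputable def eT6275 (i : Nat) : Nat := Bool.rec (eT6272 i) (eT6274 i) (Nat.ble 6429696 i)
noncomputable def eT6276 (i : Nat) : Nat := Bool.rec (eL6283 i) (eL6284 i) (Nat.ble 6434816 i)
noncomputable def eT6277 (i : Nat) : Nat := Bool.rec (eL6282 i) (eT6276 i) (Nat.ble 6433792 i)
noncomputable def eT6278 (i : Nat) : Nat := Bool.rec (eL6286 i) (eL6287 i) (Nat.ble 6437888 i)
noncomputable def eT6279 (i : Nat) : Nat := Bool.rec (eL6285 i) (eT6278 i) (Nat.ble 6436864 i)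
noncomputable def eT6280 (i : Nat) : Nat := Bool.rec (eT6277 i) (eT6279 i) (Nat.ble 6435840 i)
noncomputable def eT6281 (i : Nat) : Nat := Bool.rec (eT6275 i) (eT6280 i) (Nat.ble 6432768 i)
noncomputable def eT6282 (i : Nat) : Nat := Bool.rec (eT6271 i) (eT6281 i) (Nat.ble 6427648 i)
noncomputable def eT6283 (i : Nat) : Nat := Bool.rec (eT6262 i) (eT6282 i) (Nat.ble 6417408 i)
noncomputable def eT6284 (i : Nat) : Nat := Bool.rec (eL6288 i) (eL6289 i) (Nat.ble 6439936 i)
noncomputable def eT6285 (i : Nat) : Nat := Bool.rec (eL6291 i) (eL6292 i) (Nat.ble 6443008 i)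
noncomputable def eT6286 (i : Nat) : Nat := Bool.rec (eL6290 i) (eT6285 i) (Nat.ble 6441984 i)
noncomputable def eT6287 (i : Nat) : Nat := Bool.rec (eT6284 i) (eT6286 i) (Nat.ble 6440960 i)
noncomputable def eT6288 (i : Nat) : Nat := Bool.rec (eL6293 i) (eL6294 i) (Nat.ble 6445056 i)
noncomputable def eT6289 (i : Nat) : Nat := Bool.rec (eL6296 i) (eL6297 i) (Nat.ble 6448128 i)
noncomputable def eT6290 (i : Nat) : Nat := Bool.rec (eL6295 i) (eT6289 i) (Nat.ble 6447104 i)
noncomputable def eT6291 (i : Nat) : Nat := Bool.rec (eT6288 i) (eT6290 i) (Nat.ble 6446080 i)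
noncomputable def eT6292 (i : Nat) : Nat := Bool.rec (eT6287 i) (eT6291 i) (Nat.ble 6444032 i)
noncomputable def eT6293 (i : Nat) : Nat := Bool.rec (eL6298 i) (eL6299 i) (Nat.ble 6450176 i)
noncomputable def eT6294 (i : Nat) : Nat := Bool.rec (eL6301 i) (eL6302 i) (Nat.ble 6453248 i)
noncomputable def eT6295 (i : Nat) : Nat := Bool.rec (eL6300 i) (eT6294 i) (Nat.ble 6452224 i)
noncomputable def eT6296 (i : Nat) : Nat := Bool.rec (eT6293 i) (eT6295 i) (Nat.ble 6451200 i)
noncomputable def eT6297 (i : Nat) : Nat := Bool.rec (eL6303 i) (eL6304 i) (Nat.ble 6455296 i)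
noncomputable def eT6298 (i : Nat) : Nat := Bool.rec (eL6306 i) (eL6307 i) (Nat.ble 6458368 i)
noncomputable def eT6299 (i : Nat) : Nat := Bool.rec (eL6305 i) (eT6298 i) (Nat.ble 6457344 i)
noncomputable def eT6300 (i : Nat) : Nat := Bool.rec (eT6297 i) (eT6299 i) (Nat.ble 6456320 i)
noncomputable def eT6301 (i : Nat) : Nat := Bool.rec (eT6296 i) (eT6300 i) (Nat.ble 6454272 i)
noncomputable def eT6302 (i : Nat) : Nat := Bool.rec (eT6292 i) (eT6301 i) (Nat.ble 6449152 i)
noncomputable def eT6303 (i : Nat) : Nat := Bool.rec (eL6308 i) (eL6309 i) (Nat.ble 6460416 i)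
noncomputable def eT6304 (i : Nat) : Nat := Bool.rec (eL6311 i) (eL6312 i) (Nat.ble 6463488 i)
noncomputable def eT6305 (i : Nat) : Nat := Bool.rec (eL6310 i) (eT6304 i) (Nat.ble 6462464 i)
noncomputable def eT6306 (i : Nat) : Nat := Bool.rec (eT6303 i) (eT6305 i) (Nat.ble 6461440 i)
noncomputable def eT6307 (i : Nat) : Nat := Bool.rec (eL6313 i) (eL6314 i) (Nat.ble 6465536 i)
noncomputable def eT6308 (i : Nat) : Nat := Bool.rec (eL6316 i) (eL6317 i) (Nat.ble 6468608 i)
noncomputable def eT6309 (i : Nat) : Nat := Bool.rec (eL6315 i) (eT6308 i) (Nat.ble 6467584 i)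
noncomputable def eT6310 (i : Nat) : Nat := Bool.rec (eT6307 i) (eT6309 i) (Nat.ble 6466560 i)
noncomputable def eT6311 (i : Nat) : Nat := Bool.rec (eT6306 i) (eT6310 i) (Nat.ble 6464512 i)
noncomputable def eT6312 (i : Nat) : Nat := Bool.rec (eL6318 i) (eL6319 i) (Nat.ble 6470656 i)
noncomputable def eT6313 (i : Nat) : Nat := Bool.rec (eL6321 i) (eL6322 i) (Nat.ble 6473728 i)
noncomputable def eT6314 (i : Nat) : Nat := Bool.rec (eL6320 i) (eT6313 i) (Nat.ble 6472704 i)
noncomputable def eT6315 (i : Nat) : Nat := Bool.rec (eT6312 i) (eT6314 i) (Nat.ble 6471680 i)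
noncomputable def eT6316 (i : Nat) : Nat := Bool.rec (eL6324 i) (eL6325 i) (Nat.ble 6476800 i)
noncomputable def eT6317 (i : Nat) : Nat := Bool.rec (eL6323 i) (eT6316 i) (Nat.ble 6475776 i)
noncomputable def eT6318 (i : Nat) : Nat := Bool.rec (eL6327 i) (eL6328 i) (Nat.ble 6479872 i)
noncomputable def eT6319 (i : Nat) : Nat := Bool.rec (eL6326 i) (eT6318 i) (Nat.ble 6478848 i)
noncomputable def eT6320 (i : Nat) : Nat := Bool.rec (eT6317 i) (eT6319 i) (Nat.ble 6477824 i)
noncomputable def eT6321 (i : Nat) : Nat := Bool.rec (eT6315 i) (eT6320 i) (Nat.ble 6474752 i)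
noncomputable def eT6322 (i : Nat) : Nat := Bool.rec (eT6311 i) (eT6321 i) (Nat.ble 6469632 i)
noncomputable def eT6323 (i : Nat) : Nat := Bool.rec (eT6302 i) (eT6322 i) (Nat.ble 6459392 i)
noncomputable def eT6324 (i : Nat) : Nat := Bool.rec (eT6283 i) (eT6323 i) (Nat.ble 6438912 i)
noncomputable def eT6325 (i : Nat) : Nat := Bool.rec (eL6329 i) (eL6330 i) (Nat.ble 6481920 i)
noncomputable def eT6326 (i : Nat) : Nat := Bool.rec (eL6332 i) (eL6333 i) (Nat.ble 6484992 i)
noncomputable def eT6327 (i : Nat) : Nat := Bool.rec (eL6331 i) (eT6326 i) (Nat.ble 6483968 i)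
noncomputable def eT6328 (i : Nat) : Nat := Bool.rec (eT6325 i) (eT6327 i) (Nat.ble 6482944 i)
noncomputable def eT6329 (i : Nat) : Nat := Bool.rec (eL6334 i) (eL6335 i) (Nat.ble 6487040 i)
noncomputable def eT6330 (i : Nat) : Nat := Bool.rec (eL6337 i) (eL6338 i) (Nat.ble 6490112 i)
noncomputable def eT6331 (i : Nat) : Nat := Bool.rec (eL6336 i) (eT6330 i) (Nat.ble 6489088 i)
noncomputable def eT6332 (i : Nat) : Nat := Bool.rec (eT6329 i) (eT6331 i) (Nat.ble 6488064 i)
noncomputable def eT6333 (i : Nat) : Nat := Bool.rec (eT6328 i) (eT6332 i) (Nat.ble 6486016 i)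
noncomputable def eT6334 (i : Nat) : Nat := Bool.rec (eL6339 i) (eL6340 i) (Nat.ble 6492160 i)
noncomputable def eT6335 (i : Nat) : Nat := Bool.rec (eL6342 i) (eL6343 i) (Nat.ble 6495232 i)
noncomputable def eT6336 (i : Nat) : Nat := Bool.rec (eL6341 i) (eT6335 i) (Nat.ble 6494208 i)
noncomputable def eT6337 (i : Nat) : Nat := Bool.rec (eT6334 i) (eT6336 i) (Nat.ble 6493184 i)
noncomputable def eT6338 (i : Nat) : Nat := Bool.rec (eL6344 i) (eL6345 i) (Nat.ble 6497280 i)
noncomputable def eT6339 (i : Nat) : Nat := Bool.rec (eL6347 i) (eL6348 i) (Nat.ble 6500352 i)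
noncomputable def eT6340 (i : Nat) : Nat := Bool.rec (eL6346 i) (eT6339 i) (Nat.ble 6499328 i)
noncomputable def eT6341 (i : Nat) : Nat := Bool.rec (eT6338 i) (eT6340 i) (Nat.ble 6498304 i)
noncomputable def eT6342 (i : Nat) : Nat := Bool.rec (eT6337 i) (eT6341 i) (Nat.ble 6496256 i)
noncomputable def eT6343 (i : Nat) : Nat := Bool.rec (eT6333 i) (eT6342 i) (Nat.ble 6491136 i)
noncomputable def eT6344 (i : Nat) : Nat := Bool.rec (eL6349 i) (eL6350 i) (Nat.ble 6502400 i)
noncomputable def eT6345 (i : Nat) : Nat := Bool.rec (eL6352 i) (eL6353 i) (Nat.ble 6505472 i)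
noncomputable def eT6346 (i : Nat) : Nat := Bool.rec (eL6351 i) (eT6345 i) (Nat.ble 6504448 i)
noncomputable def eT6347 (i : Nat) : Nat := Bool.rec (eT6344 i) (eT6346 i) (Nat.ble 6503424 i)
noncomputable def eT6348 (i : Nat) : Nat := Bool.rec (eL6354 i) (eL6355 i) (Nat.ble 6507520 i)
noncomputable def eT6349 (i : Nat) : Nat := Bool.rec (eL6357 i) (eL6358 i) (Nat.ble 6510592 i)
noncomputable def eT6350 (i : Nat) : Nat := Bool.rec (eL6356 i) (eT6349 i) (Nat.ble 6509568 i)
noncomputable def eT6351 (i : Nat) : Nat := Bool.rec (eT6348 i) (eT6350 i) (Nat.ble 6508544 i)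
noncomputable def eT6352 (i : Nat) : Nat := Bool.rec (eT6347 i) (eT6351 i) (Nat.ble 6506496 i)
noncomputable def eT6353 (i : Nat) : Nat := Bool.rec (eL6359 i) (eL6360 i) (Nat.ble 6512640 i)
noncomputable def eT6354 (i : Nat) : Nat := Bool.rec (eL6362 i) (eL6363 i) (Nat.ble 6515712 i)
noncomputable def eT6355 (i : Nat) : Nat := Bool.rec (eL6361 i) (eT6354 i) (Nat.ble 6514688 i)
noncomputable def eT6356 (i : Nat) : Nat := Bool.rec (eT6353 i) (eT6355 i) (Nat.ble 6513664 i)
noncomputable def eT6357 (i : Nat) : Nat := Bool.rec (eL6365 i) (eL6366 i) (Nat.ble 6518784 i)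
noncomputable def eT6358 (i : Nat) : Nat := Bool.rec (eL6364 i) (eT6357 i) (Nat.ble 6517760 i)
noncomputable def eT6359 (i : Nat) : Nat := Bool.rec (eL6368 i) (eL6369 i) (Nat.ble 6521856 i)
noncomputable def eT6360 (i : Nat) : Nat := Bool.rec (eL6367 i) (eT6359 i) (Nat.ble 6520832 i)
noncomputable def eT6361 (i : Nat) : Nat := Bool.rec (eT6358 i) (eT6360 i) (Nat.ble 6519808 i)
noncomputable def eT6362 (i : Nat) : Nat := Bool.rec (eT6356 i) (eT6361 i) (Nat.ble 6516736 i)
noncomputable def eT6363 (i : Nat) : Nat := Bool.rec (eT6352 i) (eT6362 i) (Nat.ble 6511616 i)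
noncomputable def eT6364 (i : Nat) : Nat := Bool.rec (eT6343 i) (eT6363 i) (Nat.ble 6501376 i)
noncomputable def eT6365 (i : Nat) : Nat := Bool.rec (eL6370 i) (eL6371 i) (Nat.ble 6523904 i)
noncomputable def eT6366 (i : Nat) : Nat := Bool.rec (eL6373 i) (eL6374 i) (Nat.ble 6526976 i)
noncomputable def eT6367 (i : Nat) : Nat := Bool.rec (eL6372 i) (eT6366 i) (Nat.ble 6525952 i)
noncomputable def eT6368 (i : Nat) : Nat := Bool.rec (eT6365 i) (eT6367 i) (Nat.ble 6524928 i)
noncomputable def eT6369 (i : Nat) : Nat := Bool.rec (eL6375 i) (eL6376 i) (Nat.ble 6529024 i)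
noncomputable def eT6370 (i : Nat) : Nat := Bool.rec (eL6378 i) (eL6379 i) (Nat.ble 6532096 i)
noncomputable def eT6371 (i : Nat) : Nat := Bool.rec (eL6377 i) (eT6370 i) (Nat.ble 6531072 i)
noncomputable def eT6372 (i : Nat) : Nat := Bool.rec (eT6369 i) (eT6371 i) (Nat.ble 6530048 i)
noncomputable def eT6373 (i : Nat) : Nat := Bool.rec (eT6368 i) (eT6372 i) (Nat.ble 6528000 i)
noncomputable def eT6374 (i : Nat) : Nat := Bool.rec (eL6380 i) (eL6381 i) (Nat.ble 6534144 i)
noncomputable def eT6375 (i : Nat) : Nat := Bool.rec (eL6383 i) (eL6384 i) (Nat.ble 6537216 i)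
noncomputable def eT6376 (i : Nat) : Nat := Bool.rec (eL6382 i) (eT6375 i) (Nat.ble 6536192 i)
noncomputable def eT6377 (i : Nat) : Nat := Bool.rec (eT6374 i) (eT6376 i) (Nat.ble 6535168 i)
noncomputable def eT6378 (i : Nat) : Nat := Bool.rec (eL6385 i) (eL6386 i) (Nat.ble 6539264 i)
noncomputable def eT6379 (i : Nat) : Nat := Bool.rec (eL6388 i) (eL6389 i) (Nat.ble 6542336 i)
noncomputable def eT6380 (i : Nat) : Nat := Bool.rec (eL6387 i) (eT6379 i) (Nat.ble 6541312 i)
noncomputable def eT6381 (i : Nat) : Nat := Bool.rec (eT6378 i) (eT6380 i) (Nat.ble 6540288 i)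
noncomputable def eT6382 (i : Nat) : Nat := Bool.rec (eT6377 i) (eT6381 i) (Nat.ble 6538240 i)
noncomputable def eT6383 (i : Nat) : Nat := Bool.rec (eT6373 i) (eT6382 i) (Nat.ble 6533120 i)
noncomputable def eT6384 (i : Nat) : Nat := Bool.rec (eL6390 i) (eL6391 i) (Nat.ble 6544384 i)
noncomputable def eT6385 (i : Nat) : Nat := Bool.rec (eL6393 i) (eL6394 i) (Nat.ble 6547456 i)
noncomputable def eT6386 (i : Nat) : Nat := Bool.rec (eL6392 i) (eT6385 i) (Nat.ble 6546432 i)
noncomputable def eT6387 (i : Nat) : Nat := Bool.rec (eT6384 i) (eT6386 i) (Nat.ble 6545408 i)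
noncomputable def eT6388 (i : Nat) : Nat := Bool.rec (eL6395 i) (eL6396 i) (Nat.ble 6549504 i)
noncomputable def eT6389 (i : Nat) : Nat := Bool.rec (eL6398 i) (eL6399 i) (Nat.ble 6552576 i)
noncomputable def eT6390 (i : Nat) : Nat := Bool.rec (eL6397 i) (eT6389 i) (Nat.ble 6551552 i)
noncomputable def eT6391 (i : Nat) : Nat := Bool.rec (eT6388 i) (eT6390 i) (Nat.ble 6550528 i)
noncomputable def eT6392 (i : Nat) : Nat := Bool.rec (eT6387 i) (eT6391 i) (Nat.ble 6548480 i)
noncomputable def eT6393 (i : Nat) : Nat := Bool.rec (eL6400 i) (eL6401 i) (Nat.ble 6554624 i)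
noncomputable def eT6394 (i : Nat) : Nat := Bool.rec (eL6403 i) (eL6404 i) (Nat.ble 6557696 i)
noncomputable def eT6395 (i : Nat) : Nat := Bool.rec (eL6402 i) (eT6394 i) (Nat.ble 6556672 i)
noncomputable def eT6396 (i : Nat) : Nat := Bool.rec (eT6393 i) (eT6395 i) (Nat.ble 6555648 i)
noncomputable def eT6397 (i : Nat) : Nat := Bool.rec (eL6406 i) (eL6407 i) (Nat.ble 6560768 i)
noncomputable def eT6398 (i : Nat) : Nat := Bool.rec (eL6405 i) (eT6397 i) (Nat.ble 6559744 i)
noncomputable def eT6399 (i : Nat) : Nat := Bool.rec (eL6409 i) (eL6410 i) (Nat.ble 6563840 i)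
noncomputable def eT6400 (i : Nat) : Nat := Bool.rec (eL6408 i) (eT6399 i) (Nat.ble 6562816 i)
noncomputable def eT6401 (i : Nat) : Nat := Bool.rec (eT6398 i) (eT6400 i) (Nat.ble 6561792 i)
noncomputable def eT6402 (i : Nat) : Nat := Bool.rec (eT6396 i) (eT6401 i) (Nat.ble 6558720 i)
noncomputable def eT6403 (i : Nat) : Nat := Bool.rec (eT6392 i) (eT6402 i) (Nat.ble 6553600 i)
noncomputable def eT6404 (i : Nat) : Nat := Bool.rec (eT6383 i) (eT6403 i) (Nat.ble 6543360 i)
noncomputable def eT6405 (i : Nat) : Nat := Bool.rec (eT6364 i) (eT6404 i) (Nat.ble 6522880 i)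
noncomputable def eT6406 (i : Nat) : Nat := Bool.rec (eT6324 i) (eT6405 i) (Nat.ble 6480896 i)
noncomputable def eT6407 (i : Nat) : Nat := Bool.rec (eL6411 i) (eL6412 i) (Nat.ble 6565888 i)
noncomputable def eT6408 (i : Nat) : Nat := Bool.rec (eL6414 i) (eL6415 i) (Nat.ble 6568960 i)
noncomputable def eT6409 (i : Nat) : Nat := Bool.rec (eL6413 i) (eT6408 i) (Nat.ble 6567936 i)
noncomputable def eT6410 (i : Nat) : Nat := Bool.rec (eT6407 i) (eT6409 i) (Nat.ble 6566912 i)
noncomputable def eT6411 (i : Nat) : Nat := Bool.rec (eL6416 i) (eL6417 i) (Nat.ble 6571008 i)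
noncomputable def eT6412 (i : Nat) : Nat := Bool.rec (eL6419 i) (eL6420 i) (Nat.ble 6574080 i)
noncomputable def eT6413 (i : Nat) : Nat := Bool.rec (eL6418 i) (eT6412 i) (Nat.ble 6573056 i)
noncomputable def eT6414 (i : Nat) : Nat := Bool.rec (eT6411 i) (eT6413 i) (Nat.ble 6572032 i)
noncomputable def eT6415 (i : Nat) : Nat := Bool.rec (eT6410 i) (eT6414 i) (Nat.ble 6569984 i)
noncomputable def eT6416 (i : Nat) : Nat := Bool.rec (eL6421 i) (eL6422 i) (Nat.ble 6576128 i)
noncomputable def eT6417 (i : Nat) : Nat := Bool.rec (eL6424 i) (eL6425 i) (Nat.ble 6579200 i)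
noncomputable def eT6418 (i : Nat) : Nat := Bool.rec (eL6423 i) (eT6417 i) (Nat.ble 6578176 i)
noncomputable def eT6419 (i : Nat) : Nat := Bool.rec (eT6416 i) (eT6418 i) (Nat.ble 6577152 i)
noncomputable def eT6420 (i : Nat) : Nat := Bool.rec (eL6426 i) (eL6427 i) (Nat.ble 6581248 i)
noncomputable def eT6421 (i : Nat) : Nat := Bool.rec (eL6429 i) (eL6430 i) (Nat.ble 6584320 i)
noncomputable def eT6422 (i : Nat) : Nat := Bool.rec (eL6428 i) (eT6421 i) (Nat.ble 6583296 i)
noncomputable def eT6423 (i : Nat) : Nat := Bool.rec (eT6420 i) (eT6422 i) (Nat.ble 6582272 i)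
noncomputable def eT6424 (i : Nat) : Nat := Bool.rec (eT6419 i) (eT6423 i) (Nat.ble 6580224 i)
noncomputable def eT6425 (i : Nat) : Nat := Bool.rec (eT6415 i) (eT6424 i) (Nat.ble 6575104 i)
noncomputable def eT6426 (i : Nat) : Nat := Bool.rec (eL6431 i) (eL6432 i) (Nat.ble 6586368 i)
noncomputable def eT6427 (i : Nat) : Nat := Bool.rec (eL6434 i) (eL6435 i) (Nat.ble 6589440 i)
noncomputable def eT6428 (i : Nat) : Nat := Bool.rec (eL6433 i) (eT6427 i) (Nat.ble 6588416 i)
noncomputable def eT6429 (i : Nat) : Nat := Bool.rec (eT6426 i) (eT6428 i) (Nat.ble 6587392 i)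
noncomputable def eT6430 (i : Nat) : Nat := Bool.rec (eL6436 i) (eL6437 i) (Nat.ble 6591488 i)
noncomputable def eT6431 (i : Nat) : Nat := Bool.rec (eL6439 i) (eL6440 i) (Nat.ble 6594560 i)
noncomputable def eT6432 (i : Nat) : Nat := Bool.rec (eL6438 i) (eT6431 i) (Nat.ble 6593536 i)
noncomputable def eT6433 (i : Nat) : Nat := Bool.rec (eT6430 i) (eT6432 i) (Nat.ble 6592512 i)
noncomputable def eT6434 (i : Nat) : Nat := Bool.rec (eT6429 i) (eT6433 i) (Nat.ble 6590464 i)
noncomputable def eT6435 (i : Nat) : Nat := Bool.rec (eL6441 i) (eL6442 i) (Nat.ble 6596608 i)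
noncomputable def eT6436 (i : Nat) : Nat := Bool.rec (eL6444 i) (eL6445 i) (Nat.ble 6599680 i)
noncomputable def eT6437 (i : Nat) : Nat := Bool.rec (eL6443 i) (eT6436 i) (Nat.ble 6598656 i)
noncomputable def eT6438 (i : Nat) : Nat := Bool.rec (eT6435 i) (eT6437 i) (Nat.ble 6597632 i)
noncomputable def eT6439 (i : Nat) : Nat := Bool.rec (eL6447 i) (eL6448 i) (Nat.ble 6602752 i)
noncomputable def eT6440 (i : Nat) : Nat := Bool.rec (eL6446 i) (eT6439 i) (Nat.ble 6601728 i)
noncomputable def eT6441 (i : Nat) : Nat := Bool.rec (eL6450 i) (eL6451 i) (Nat.ble 6605824 i)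
noncomputable def eT6442 (i : Nat) : Nat := Bool.rec (eL6449 i) (eT6441 i) (Nat.ble 6604800 i)
noncomputable def eT6443 (i : Nat) : Nat := Bool.rec (eT6440 i) (eT6442 i) (Nat.ble 6603776 i)
noncomputable def eT6444 (i : Nat) : Nat := Bool.rec (eT6438 i) (eT6443 i) (Nat.ble 6600704 i)
noncomputable def eT6445 (i : Nat) : Nat := Bool.rec (eT6434 i) (eT6444 i) (Nat.ble 6595584 i)
noncomputable def eT6446 (i : Nat) : Nat := Bool.rec (eT6425 i) (eT6445 i) (Nat.ble 6585344 i)
noncomputable def eT6447 (i : Nat) : Nat := Bool.rec (eL6452 i) (eL6453 i) (Nat.ble 6607872 i)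
noncomputable def eT6448 (i : Nat) : Nat := Bool.rec (eL6455 i) (eL6456 i) (Nat.ble 6610944 i)
noncomputable def eT6449 (i : Nat) : Nat := Bool.rec (eL6454 i) (eT6448 i) (Nat.ble 6609920 i)
noncomputable def eT6450 (i : Nat) : Nat := Bool.rec (eT6447 i) (eT6449 i) (Nat.ble 6608896 i)
noncomputable def eT6451 (i : Nat) : Nat := Bool.rec (eL6457 i) (eL6458 i) (Nat.ble 6612992 i)
noncomputable def eT6452 (i : Nat) : Nat := Bool.rec (eL6460 i) (eL6461 i) (Nat.ble 6616064 i)
noncomputable def eT6453 (i : Nat) : Nat := Bool.rec (eL6459 i) (eT6452 i) (Nat.ble 6615040 i)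
noncomputable def eT6454 (i : Nat) : Nat := Bool.rec (eT6451 i) (eT6453 i) (Nat.ble 6614016 i)
noncomputable def eT6455 (i : Nat) : Nat := Bool.rec (eT6450 i) (eT6454 i) (Nat.ble 6611968 i)
noncomputable def eT6456 (i : Nat) : Nat := Bool.rec (eL6462 i) (eL6463 i) (Nat.ble 6618112 i)
noncomputable def eT6457 (i : Nat) : Nat := Bool.rec (eL6465 i) (eL6466 i) (Nat.ble 6621184 i)
noncomputable def eT6458 (i : Nat) : Nat := Bool.rec (eL6464 i) (eT6457 i) (Nat.ble 6620160 i)
noncomputable def eT6459 (i : Nat) : Nat := Bool.rec (eT6456 i) (eT6458 i) (Nat.ble 6619136 i)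
noncomputable def eT6460 (i : Nat) : Nat := Bool.rec (eL6467 i) (eL6468 i) (Nat.ble 6623232 i)
noncomputable def eT6461 (i : Nat) : Nat := Bool.rec (eL6470 i) (eL6471 i) (Nat.ble 6626304 i)
noncomputable def eT6462 (i : Nat) : Nat := Bool.rec (eL6469 i) (eT6461 i) (Nat.ble 6625280 i)
noncomputable def eT6463 (i : Nat) : Nat := Bool.rec (eT6460 i) (eT6462 i) (Nat.ble 6624256 i)
noncomputable def eT6464 (i : Nat) : Nat := Bool.rec (eT6459 i) (eT6463 i) (Nat.ble 6622208 i)
noncomputable def eT6465 (i : Nat) : Nat := Bool.rec (eT6455 i) (eT6464 i) (Nat.ble 6617088 i)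
noncomputable def eT6466 (i : Nat) : Nat := Bool.rec (eL6472 i) (eL6473 i) (Nat.ble 6628352 i)
noncomputable def eT6467 (i : Nat) : Nat := Bool.rec (eL6475 i) (eL6476 i) (Nat.ble 6631424 i)
noncomputable def eT6468 (i : Nat) : Nat := Bool.rec (eL6474 i) (eT6467 i) (Nat.ble 6630400 i)
noncomputable def eT6469 (i : Nat) : Nat := Bool.rec (eT6466 i) (eT6468 i) (Nat.ble 6629376 i)
noncomputable def eT6470 (i : Nat) : Nat := Bool.rec (eL6477 i) (eL6478 i) (Nat.ble 6633472 i)
noncomputable def eT6471 (i : Nat) : Nat := Bool.rec (eL6480 i) (eL6481 i) (Nat.ble 6636544 i)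
noncomputable def eT6472 (i : Nat) : Nat := Bool.rec (eL6479 i) (eT6471 i) (Nat.ble 6635520 i)
noncomputable def eT6473 (i : Nat) : Nat := Bool.rec (eT6470 i) (eT6472 i) (Nat.ble 6634496 i)
noncomputable def eT6474 (i : Nat) : Nat := Bool.rec (eT6469 i) (eT6473 i) (Nat.ble 6632448 i)
noncomputable def eT6475 (i : Nat) : Nat := Bool.rec (eL6482 i) (eL6483 i) (Nat.ble 6638592 i)
noncomputable def eT6476 (i : Nat) : Nat := Bool.rec (eL6485 i) (eL6486 i) (Nat.ble 6641664 i)
noncomputable def eT6477 (i : Nat) : Nat := Bool.rec (eL6484 i) (eT6476 i) (Nat.ble 6640640 i)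
noncomputable def eT6478 (i : Nat) : Nat := Bool.rec (eT6475 i) (eT6477 i) (Nat.ble 6639616 i)
noncomputable def eT6479 (i : Nat) : Nat := Bool.rec (eL6488 i) (eL6489 i) (Nat.ble 6644736 i)
noncomputable def eT6480 (i : Nat) : Nat := Bool.rec (eL6487 i) (eT6479 i) (Nat.ble 6643712 i)
noncomputable def eT6481 (i : Nat) : Nat := Bool.rec (eL6491 i) (eL6492 i) (Nat.ble 6647808 i)
noncomputable def eT6482 (i : Nat) : Nat := Bool.rec (eL6490 i) (eT6481 i) (Nat.ble 6646784 i)
noncomputable def eT6483 (i : Nat) : Nat := Bool.rec (eT6480 i) (eT6482 i) (Nat.ble 6645760 i)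
noncomputable def eT6484 (i : Nat) : Nat := Bool.rec (eT6478 i) (eT6483 i) (Nat.ble 6642688 i)
noncomputable def eT6485 (i : Nat) : Nat := Bool.rec (eT6474 i) (eT6484 i) (Nat.ble 6637568 i)
noncomputable def eT6486 (i : Nat) : Nat := Bool.rec (eT6465 i) (eT6485 i) (Nat.ble 6627328 i)
noncomputable def eT6487 (i : Nat) : Nat := Bool.rec (eT6446 i) (eT6486 i) (Nat.ble 6606848 i)
noncomputable def eT6488 (i : Nat) : Nat := Bool.rec (eL6493 i) (eL6494 i) (Nat.ble 6649856 i)
noncomputable def eT6489 (i : Nat) : Nat := Bool.rec (eL6496 i) (eL6497 i) (Nat.ble 6652928 i)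
noncomputable def eT6490 (i : Nat) : Nat := Bool.rec (eL6495 i) (eT6489 i) (Nat.ble 6651904 i)
noncomputable def eT6491 (i : Nat) : Nat := Bool.rec (eT6488 i) (eT6490 i) (Nat.ble 6650880 i)
noncomputable def eT6492 (i : Nat) : Nat := Bool.rec (eL6498 i) (eL6499 i) (Nat.ble 6654976 i)
noncomputable def eT6493 (i : Nat) : Nat := Bool.rec (eL6501 i) (eL6502 i) (Nat.ble 6658048 i)
noncomputable def eT6494 (i : Nat) : Nat := Bool.rec (eL6500 i) (eT6493 i) (Nat.ble 6657024 i)
noncomputable def eT6495 (i : Nat) : Nat := Bool.rec (eT6492 i) (eT6494 i) (Nat.ble 6656000 i)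
noncomputable def eT6496 (i : Nat) : Nat := Bool.rec (eT6491 i) (eT6495 i) (Nat.ble 6653952 i)
noncomputable def eT6497 (i : Nat) : Nat := Bool.rec (eL6503 i) (eL6504 i) (Nat.ble 6660096 i)
noncomputable def eT6498 (i : Nat) : Nat := Bool.rec (eL6506 i) (eL6507 i) (Nat.ble 6663168 i)
noncomputable def eT6499 (i : Nat) : Nat := Bool.rec (eL6505 i) (eT6498 i) (Nat.ble 6662144 i)
noncomputable def eT6500 (i : Nat) : Nat := Bool.rec (eT6497 i) (eT6499 i) (Nat.ble 6661120 i)
noncomputable def eT6501 (i : Nat) : Nat := Bool.rec (eL6508 i) (eL6509 i) (Nat.ble 6665216 i)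
noncomputable def eT6502 (i : Nat) : Nat := Bool.rec (eL6511 i) (eL6512 i) (Nat.ble 6668288 i)
noncomputable def eT6503 (i : Nat) : Nat := Bool.rec (eL6510 i) (eT6502 i) (Nat.ble 6667264 i)
noncomputable def eT6504 (i : Nat) : Nat := Bool.rec (eT6501 i) (eT6503 i) (Nat.ble 6666240 i)
noncomputable def eT6505 (i : Nat) : Nat := Bool.rec (eT6500 i) (eT6504 i) (Nat.ble 6664192 i)
noncomputable def eT6506 (i : Nat) : Nat := Bool.rec (eT6496 i) (eT6505 i) (Nat.ble 6659072 i)
noncomputable def eT6507 (i : Nat) : Nat := Bool.rec (eL6513 i) (eL6514 i) (Nat.ble 6670336 i)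
noncomputable def eT6508 (i : Nat) : Nat := Bool.rec (eL6516 i) (eL6517 i) (Nat.ble 6673408 i)
noncomputable def eT6509 (i : Nat) : Nat := Bool.rec (eL6515 i) (eT6508 i) (Nat.ble 6672384 i)
noncomputable def eT6510 (i : Nat) : Nat := Bool.rec (eT6507 i) (eT6509 i) (Nat.ble 6671360 i)
noncomputable def eT6511 (i : Nat) : Nat := Bool.rec (eL6518 i) (eL6519 i) (Nat.ble 6675456 i)
noncomputable def eT6512 (i : Nat) : Nat := Bool.rec (eL6521 i) (eL6522 i) (Nat.ble 6678528 i)
noncomputable def eT6513 (i : Nat) : Nat := Bool.rec (eL6520 i) (eT6512 i) (Nat.ble 6677504 i)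
noncomputable def eT6514 (i : Nat) : Nat := Bool.rec (eT6511 i) (eT6513 i) (Nat.ble 6676480 i)
noncomputable def eT6515 (i : Nat) : Nat := Bool.rec (eT6510 i) (eT6514 i) (Nat.ble 6674432 i)
noncomputable def eT6516 (i : Nat) : Nat := Bool.rec (eL6523 i) (eL6524 i) (Nat.ble 6680576 i)
noncomputable def eT6517 (i : Nat) : Nat := Bool.rec (eL6526 i) (eL6527 i) (Nat.ble 6683648 i)
noncomputable def eT6518 (i : Nat) : Nat := Bool.rec (eL6525 i) (eT6517 i) (Nat.ble 6682624 i)
noncomputable def eT6519 (i : Nat) : Nat := Bool.rec (eT6516 i) (eT6518 i) (Nat.ble 6681600 i)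
noncomputable def eT6520 (i : Nat) : Nat := Bool.rec (eL6529 i) (eL6530 i) (Nat.ble 6686720 i)
noncomputable def eT6521 (i : Nat) : Nat := Bool.rec (eL6528 i) (eT6520 i) (Nat.ble 6685696 i)
noncomputable def eT6522 (i : Nat) : Nat := Bool.rec (eL6532 i) (eL6533 i) (Nat.ble 6689792 i)
noncomputable def eT6523 (i : Nat) : Nat := Bool.rec (eL6531 i) (eT6522 i) (Nat.ble 6688768 i)
noncomputable def eT6524 (i : Nat) : Nat := Bool.rec (eT6521 i) (eT6523 i) (Nat.ble 6687744 i)
noncomputable def eT6525 (i : Nat) : Nat := Bool.rec (eT6519 i) (eT6524 i) (Nat.ble 6684672 i)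
noncomputable def eT6526 (i : Nat) : Nat := Bool.rec (eT6515 i) (eT6525 i) (Nat.ble 6679552 i)
noncomputable def eT6527 (i : Nat) : Nat := Bool.rec (eT6506 i) (eT6526 i) (Nat.ble 6669312 i)
noncomputable def eT6528 (i : Nat) : Nat := Bool.rec (eL6534 i) (eL6535 i) (Nat.ble 6691840 i)
noncomputable def eT6529 (i : Nat) : Nat := Bool.rec (eL6537 i) (eL6538 i) (Nat.ble 6694912 i)
noncomputable def eT6530 (i : Nat) : Nat := Bool.rec (eL6536 i) (eT6529 i) (Nat.ble 6693888 i)
noncomputable def eT6531 (i : Nat) : Nat := Bool.rec (eT6528 i) (eT6530 i) (Nat.ble 6692864 i)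
noncomputable def eT6532 (i : Nat) : Nat := Bool.rec (eL6539 i) (eL6540 i) (Nat.ble 6696960 i)
noncomputable def eT6533 (i : Nat) : Nat := Bool.rec (eL6542 i) (eL6543 i) (Nat.ble 6700032 i)
noncomputable def eT6534 (i : Nat) : Nat := Bool.rec (eL6541 i) (eT6533 i) (Nat.ble 6699008 i)
noncomputable def eT6535 (i : Nat) : Nat := Bool.rec (eT6532 i) (eT6534 i) (Nat.ble 6697984 i)
noncomputable def eT6536 (i : Nat) : Nat := Bool.rec (eT6531 i) (eT6535 i) (Nat.ble 6695936 i)
noncomputable def eT6537 (i : Nat) : Nat := Bool.rec (eL6544 i) (eL6545 i) (Nat.ble 6702080 i)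
noncomputable def eT6538 (i : Nat) : Nat := Bool.rec (eL6547 i) (eL6548 i) (Nat.ble 6705152 i)
noncomputable def eT6539 (i : Nat) : Nat := Bool.rec (eL6546 i) (eT6538 i) (Nat.ble 6704128 i)
noncomputable def eT6540 (i : Nat) : Nat := Bool.rec (eT6537 i) (eT6539 i) (Nat.ble 6703104 i)
noncomputable def eT6541 (i : Nat) : Nat := Bool.rec (eL6550 i) (eL6551 i) (Nat.ble 6708224 i)
noncomputable def eT6542 (i : Nat) : Nat := Bool.rec (eL6549 i) (eT6541 i) (Nat.ble 6707200 i)
noncomputable def eT6543 (i : Nat) : Nat := Bool.rec (eL6553 i) (eL6554 i) (Nat.ble 6711296 i)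
noncomputable def eT6544 (i : Nat) : Nat := Bool.rec (eL6552 i) (eT6543 i) (Nat.ble 6710272 i)
noncomputable def eT6545 (i : Nat) : Nat := Bool.rec (eT6542 i) (eT6544 i) (Nat.ble 6709248 i)
noncomputable def eT6546 (i : Nat) : Nat := Bool.rec (eT6540 i) (eT6545 i) (Nat.ble 6706176 i)
noncomputable def eT6547 (i : Nat) : Nat := Bool.rec (eT6536 i) (eT6546 i) (Nat.ble 6701056 i)
noncomputable def eT6548 (i : Nat) : Nat := Bool.rec (eL6555 i) (eL6556 i) (Nat.ble 6713344 i)
noncomputable def eT6549 (i : Nat) : Nat := Bool.rec (eL6558 i) (eL6559 i) (Nat.ble 6716416 i)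
noncomputable def eT6550 (i : Nat) : Nat := Bool.rec (eL6557 i) (eT6549 i) (Nat.ble 6715392 i)
noncomputable def eT6551 (i : Nat) : Nat := Bool.rec (eT6548 i) (eT6550 i) (Nat.ble 6714368 i)
noncomputable def eT6552 (i : Nat) : Nat := Bool.rec (eL6560 i) (eL6561 i) (Nat.ble 6718464 i)
noncomputable def eT6553 (i : Nat) : Nat := Bool.rec (eL6563 i) (eL6564 i) (Nat.ble 6721536 i)
noncomputable def eT6554 (i : Nat) : Nat := Bool.rec (eL6562 i) (eT6553 i) (Nat.ble 6720512 i)
noncomputable def eT6555 (i : Nat) : Nat := Bool.rec (eT6552 i) (eT6554 i) (Nat.ble 6719488 i)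
noncomputable def eT6556 (i : Nat) : Nat := Bool.rec (eT6551 i) (eT6555 i) (Nat.ble 6717440 i)
noncomputable def eT6557 (i : Nat) : Nat := Bool.rec (eL6565 i) (eL6566 i) (Nat.ble 6723584 i)
noncomputable def eT6558 (i : Nat) : Nat := Bool.rec (eL6568 i) (eL6569 i) (Nat.ble 6726656 i)
noncomputable def eT6559 (i : Nat) : Nat := Bool.rec (eL6567 i) (eT6558 i) (Nat.ble 6725632 i)
noncomputable def eT6560 (i : Nat) : Nat := Bool.rec (eT6557 i) (eT6559 i) (Nat.ble 6724608 i)
noncomputable def eT6561 (i : Nat) : Nat := Bool.rec (eL6571 i) (eL6572 i) (Nat.ble 6729728 i)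
noncomputable def eT6562 (i : Nat) : Nat := Bool.rec (eL6570 i) (eT6561 i) (Nat.ble 6728704 i)
noncomputable def eT6563 (i : Nat) : Nat := Bool.rec (eL6574 i) (eL6575 i) (Nat.ble 6732800 i)
noncomputable def eT6564 (i : Nat) : Nat := Bool.rec (eL6573 i) (eT6563 i) (Nat.ble 6731776 i)
noncomputable def eT6565 (i : Nat) : Nat := Bool.rec (eT6562 i) (eT6564 i) (Nat.ble 6730752 i)
noncomputable def eT6566 (i : Nat) : Nat := Bool.rec (eT6560 i) (eT6565 i) (Nat.ble 6727680 i)
noncomputable def eT6567 (i : Nat) : Nat := Bool.rec (eT6556 i) (eT6566 i) (Nat.ble 6722560 i)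
noncomputable def eT6568 (i : Nat) : Nat := Bool.rec (eT6547 i) (eT6567 i) (Nat.ble 6712320 i)
noncomputable def eT6569 (i : Nat) : Nat := Bool.rec (eT6527 i) (eT6568 i) (Nat.ble 6690816 i)
noncomputable def eT6570 (i : Nat) : Nat := Bool.rec (eT6487 i) (eT6569 i) (Nat.ble 6648832 i)
noncomputable def eT6571 (i : Nat) : Nat := Bool.rec (eT6406 i) (eT6570 i) (Nat.ble 6564864 i)
noncomputable def eT6572 (i : Nat) : Nat := Bool.rec (eT6243 i) (eT6571 i) (Nat.ble 6396928 i)
noncomputable def eT6573 (i : Nat) : Nat := Bool.rec (eT5915 i) (eT6572 i) (Nat.ble 6060032 i)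
noncomputable def eT6574 (i : Nat) : Nat := Bool.rec (eL6576 i) (eL6577 i) (Nat.ble 6734848 i)
noncomputable def eT6575 (i : Nat) : Nat := Bool.rec (eL6579 i) (eL6580 i) (Nat.ble 6737920 i)
noncomputable def eT6576 (i : Nat) : Nat := Bool.rec (eL6578 i) (eT6575 i) (Nat.ble 6736896 i)
noncomputable def eT6577 (i : Nat) : Nat := Bool.rec (eT6574 i) (eT6576 i) (Nat.ble 6735872 i)
noncomputable def eT6578 (i : Nat) : Nat := Bool.rec (eL6581 i) (eL6582 i) (Nat.ble 6739968 i)
noncomputable def eT6579 (i : Nat) : Nat := Bool.rec (eL6584 i) (eL6585 i) (Nat.ble 6743040 i)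
noncomputable def eT6580 (i : Nat) : Nat := Bool.rec (eL6583 i) (eT6579 i) (Nat.ble 6742016 i)
noncomputable def eT6581 (i : Nat) : Nat := Bool.rec (eT6578 i) (eT6580 i) (Nat.ble 6740992 i)
noncomputable def eT6582 (i : Nat) : Nat := Bool.rec (eT6577 i) (eT6581 i) (Nat.ble 6738944 i)
noncomputable def eT6583 (i : Nat) : Nat := Bool.rec (eL6586 i) (eL6587 i) (Nat.ble 6745088 i)
noncomputable def eT6584 (i : Nat) : Nat := Bool.rec (eL6589 i) (eL6590 i) (Nat.ble 6748160 i)
noncomputable def eT6585 (i : Nat) : Nat := Bool.rec (eL6588 i) (eT6584 i) (Nat.ble 6747136 i)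
noncomputable def eT6586 (i : Nat) : Nat := Bool.rec (eT6583 i) (eT6585 i) (Nat.ble 6746112 i)
noncomputable def eT6587 (i : Nat) : Nat := Bool.rec (eL6591 i) (eL6592 i) (Nat.ble 6750208 i)
noncomputable def eT6588 (i : Nat) : Nat := Bool.rec (eL6594 i) (eL6595 i) (Nat.ble 6753280 i)
noncomputable def eT6589 (i : Nat) : Nat := Bool.rec (eL6593 i) (eT6588 i) (Nat.ble 6752256 i)
noncomputable def eT6590 (i : Nat) : Nat := Bool.rec (eT6587 i) (eT6589 i) (Nat.ble 6751232 i)
noncomputable def eT6591 (i : Nat) : Nat := Bool.rec (eT6586 i) (eT6590 i) (Nat.ble 6749184 i)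
noncomputable def eT6592 (i : Nat) : Nat := Bool.rec (eT6582 i) (eT6591 i) (Nat.ble 6744064 i)
noncomputable def eT6593 (i : Nat) : Nat := Bool.rec (eL6596 i) (eL6597 i) (Nat.ble 6755328 i)
noncomputable def eT6594 (i : Nat) : Nat := Bool.rec (eL6599 i) (eL6600 i) (Nat.ble 6758400 i)
noncomputable def eT6595 (i : Nat) : Nat := Bool.rec (eL6598 i) (eT6594 i) (Nat.ble 6757376 i)
noncomputable def eT6596 (i : Nat) : Nat := Bool.rec (eT6593 i) (eT6595 i) (Nat.ble 6756352 i)
noncomputable def eT6597 (i : Nat) : Nat := Bool.rec (eL6601 i) (eL6602 i) (Nat.ble 6760448 i)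
noncomputable def eT6598 (i : Nat) : Nat := Bool.rec (eL6604 i) (eL6605 i) (Nat.ble 6763520 i)
noncomputable def eT6599 (i : Nat) : Nat := Bool.rec (eL6603 i) (eT6598 i) (Nat.ble 6762496 i)
noncomputable def eT6600 (i : Nat) : Nat := Bool.rec (eT6597 i) (eT6599 i) (Nat.ble 6761472 i)
noncomputable def eT6601 (i : Nat) : Nat := Bool.rec (eT6596 i) (eT6600 i) (Nat.ble 6759424 i)
noncomputable def eT6602 (i : Nat) : Nat := Bool.rec (eL6606 i) (eL6607 i) (Nat.ble 6765568 i)
noncomputable def eT6603 (i : Nat) : Nat := Bool.rec (eL6609 i) (eL6610 i) (Nat.ble 6768640 i)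
noncomputable def eT6604 (i : Nat) : Nat := Bool.rec (eL6608 i) (eT6603 i) (Nat.ble 6767616 i)
noncomputable def eT6605 (i : Nat) : Nat := Bool.rec (eT6602 i) (eT6604 i) (Nat.ble 6766592 i)
noncomputable def eT6606 (i : Nat) : Nat := Bool.rec (eL6612 i) (eL6613 i) (Nat.ble 6771712 i)
noncomputable def eT6607 (i : Nat) : Nat := Bool.rec (eL6611 i) (eT6606 i) (Nat.ble 6770688 i)
noncomputable def eT6608 (i : Nat) : Nat := Bool.rec (eL6615 i) (eL6616 i) (Nat.ble 6774784 i)
noncomputable def eT6609 (i : Nat) : Nat := Bool.rec (eL6614 i) (eT6608 i) (Nat.ble 6773760 i)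
noncomputable def eT6610 (i : Nat) : Nat := Bool.rec (eT6607 i) (eT6609 i) (Nat.ble 6772736 i)
noncomputable def eT6611 (i : Nat) : Nat := Bool.rec (eT6605 i) (eT6610 i) (Nat.ble 6769664 i)
noncomputable def eT6612 (i : Nat) : Nat := Bool.rec (eT6601 i) (eT6611 i) (Nat.ble 6764544 i)
noncomputable def eT6613 (i : Nat) : Nat := Bool.rec (eT6592 i) (eT6612 i) (Nat.ble 6754304 i)
noncomputable def eT6614 (i : Nat) : Nat := Bool.rec (eL6617 i) (eL6618 i) (Nat.ble 6776832 i)
noncomputable def eT6615 (i : Nat) : Nat := Bool.rec (eL6620 i) (eL6621 i) (Nat.ble 6779904 i)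
noncomputable def eT6616 (i : Nat) : Nat := Bool.rec (eL6619 i) (eT6615 i) (Nat.ble 6778880 i)
noncomputable def eT6617 (i : Nat) : Nat := Bool.rec (eT6614 i) (eT6616 i) (Nat.ble 6777856 i)
noncomputable def eT6618 (i : Nat) : Nat := Bool.rec (eL6622 i) (eL6623 i) (Nat.ble 6781952 i)
noncomputable def eT6619 (i : Nat) : Nat := Bool.rec (eL6625 i) (eL6626 i) (Nat.ble 6785024 i)
noncomputable def eT6620 (i : Nat) : Nat := Bool.rec (eL6624 i) (eT6619 i) (Nat.ble 6784000 i)
noncomputable def eT6621 (i : Nat) : Nat := Bool.rec (eT6618 i) (eT6620 i) (Nat.ble 6782976 i)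
noncomputable def eT6622 (i : Nat) : Nat := Bool.rec (eT6617 i) (eT6621 i) (Nat.ble 6780928 i)
noncomputable def eT6623 (i : Nat) : Nat := Bool.rec (eL6627 i) (eL6628 i) (Nat.ble 6787072 i)
noncomputable def eT6624 (i : Nat) : Nat := Bool.rec (eL6630 i) (eL6631 i) (Nat.ble 6790144 i)
noncomputable def eT6625 (i : Nat) : Nat := Bool.rec (eL6629 i) (eT6624 i) (Nat.ble 6789120 i)
noncomputable def eT6626 (i : Nat) : Nat := Bool.rec (eT6623 i) (eT6625 i) (Nat.ble 6788096 i)
noncomputable def eT6627 (i : Nat) : Nat := Bool.rec (eL6632 i) (eL6633 i) (Nat.ble 6792192 i)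
noncomputable def eT6628 (i : Nat) : Nat := Bool.rec (eL6635 i) (eL6636 i) (Nat.ble 6795264 i)
noncomputable def eT6629 (i : Nat) : Nat := Bool.rec (eL6634 i) (eT6628 i) (Nat.ble 6794240 i)
noncomputable def eT6630 (i : Nat) : Nat := Bool.rec (eT6627 i) (eT6629 i) (Nat.ble 6793216 i)
noncomputable def eT6631 (i : Nat) : Nat := Bool.rec (eT6626 i) (eT6630 i) (Nat.ble 6791168 i)
noncomputable def eT6632 (i : Nat) : Nat := Bool.rec (eT6622 i) (eT6631 i) (Nat.ble 6786048 i)
noncomputable def eT6633 (i : Nat) : Nat := Bool.rec (eL6637 i) (eL6638 i) (Nat.ble 6797312 i)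
noncomputable def eT6634 (i : Nat) : Nat := Bool.rec (eL6640 i) (eL6641 i) (Nat.ble 6800384 i)
noncomputable def eT6635 (i : Nat) : Nat := Bool.rec (eL6639 i) (eT6634 i) (Nat.ble 6799360 i)
noncomputable def eT6636 (i : Nat) : Nat := Bool.rec (eT6633 i) (eT6635 i) (Nat.ble 6798336 i)
noncomputable def eT6637 (i : Nat) : Nat := Bool.rec (eL6642 i) (eL6643 i) (Nat.ble 6802432 i)
noncomputable def eT6638 (i : Nat) : Nat := Bool.rec (eL6645 i) (eL6646 i) (Nat.ble 6805504 i)
noncomputable def eT6639 (i : Nat) : Nat := Bool.rec (eL6644 i) (eT6638 i) (Nat.ble 6804480 i)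
noncomputable def eT6640 (i : Nat) : Nat := Bool.rec (eT6637 i) (eT6639 i) (Nat.ble 6803456 i)
noncomputable def eT6641 (i : Nat) : Nat := Bool.rec (eT6636 i) (eT6640 i) (Nat.ble 6801408 i)
noncomputable def eT6642 (i : Nat) : Nat := Bool.rec (eL6647 i) (eL6648 i) (Nat.ble 6807552 i)
noncomputable def eT6643 (i : Nat) : Nat := Bool.rec (eL6650 i) (eL6651 i) (Nat.ble 6810624 i)
noncomputable def eT6644 (i : Nat) : Nat := Bool.rec (eL6649 i) (eT6643 i) (Nat.ble 6809600 i)
noncomputable def eT6645 (i : Nat) : Nat := Bool.rec (eT6642 i) (eT6644 i) (Nat.ble 6808576 i)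
noncomputable def eT6646 (i : Nat) : Nat := Bool.rec (eL6653 i) (eL6654 i) (Nat.ble 6813696 i)
noncomputable def eT6647 (i : Nat) : Nat := Bool.rec (eL6652 i) (eT6646 i) (Nat.ble 6812672 i)
noncomputable def eT6648 (i : Nat) : Nat := Bool.rec (eL6656 i) (eL6657 i) (Nat.ble 6816768 i)
noncomputable def eT6649 (i : Nat) : Nat := Bool.rec (eL6655 i) (eT6648 i) (Nat.ble 6815744 i)
noncomputable def eT6650 (i : Nat) : Nat := Bool.rec (eT6647 i) (eT6649 i) (Nat.ble 6814720 i)
noncomputable def eT6651 (i : Nat) : Nat := Bool.rec (eT6645 i) (eT6650 i) (Nat.ble 6811648 i)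
noncomputable def eT6652 (i : Nat) : Nat := Bool.rec (eT6641 i) (eT6651 i) (Nat.ble 6806528 i)
noncomputable def eT6653 (i : Nat) : Nat := Bool.rec (eT6632 i) (eT6652 i) (Nat.ble 6796288 i)
noncomputable def eT6654 (i : Nat) : Nat := Bool.rec (eT6613 i) (eT6653 i) (Nat.ble 6775808 i)
noncomputable def eT6655 (i : Nat) : Nat := Bool.rec (eL6658 i) (eL6659 i) (Nat.ble 6818816 i)
noncomputable def eT6656 (i : Nat) : Nat := Bool.rec (eL6661 i) (eL6662 i) (Nat.ble 6821888 i)
noncomputable def eT6657 (i : Nat) : Nat := Bool.rec (eL6660 i) (eT6656 i) (Nat.ble 6820864 i)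
noncomputable def eT6658 (i : Nat) : Nat := Bool.rec (eT6655 i) (eT6657 i) (Nat.ble 6819840 i)
noncomputable def eT6659 (i : Nat) : Nat := Bool.rec (eL6663 i) (eL6664 i) (Nat.ble 6823936 i)
noncomputable def eT6660 (i : Nat) : Nat := Bool.rec (eL6666 i) (eL6667 i) (Nat.ble 6827008 i)
noncomputable def eT6661 (i : Nat) : Nat := Bool.rec (eL6665 i) (eT6660 i) (Nat.ble 6825984 i)
noncomputable def eT6662 (i : Nat) : Nat := Bool.rec (eT6659 i) (eT6661 i) (Nat.ble 6824960 i)
noncomputable def eT6663 (i : Nat) : Nat := Bool.rec (eT6658 i) (eT6662 i) (Nat.ble 6822912 i)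
noncomputable def eT6664 (i : Nat) : Nat := Bool.rec (eL6668 i) (eL6669 i) (Nat.ble 6829056 i)
noncomputable def eT6665 (i : Nat) : Nat := Bool.rec (eL6671 i) (eL6672 i) (Nat.ble 6832128 i)
noncomputable def eT6666 (i : Nat) : Nat := Bool.rec (eL6670 i) (eT6665 i) (Nat.ble 6831104 i)
noncomputable def eT6667 (i : Nat) : Nat := Bool.rec (eT6664 i) (eT6666 i) (Nat.ble 6830080 i)
noncomputable def eT6668 (i : Nat) : Nat := Bool.rec (eL6673 i) (eL6674 i) (Nat.ble 6834176 i)
noncomputable def eT6669 (i : Nat) : Nat := Bool.rec (eL6676 i) (eL6677 i) (Nat.ble 6837248 i)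
noncomputable def eT6670 (i : Nat) : Nat := Bool.rec (eL6675 i) (eT6669 i) (Nat.ble 6836224 i)
noncomputable def eT6671 (i : Nat) : Nat := Bool.rec (eT6668 i) (eT6670 i) (Nat.ble 6835200 i)
noncomputable def eT6672 (i : Nat) : Nat := Bool.rec (eT6667 i) (eT6671 i) (Nat.ble 6833152 i)
noncomputable def eT6673 (i : Nat) : Nat := Bool.rec (eT6663 i) (eT6672 i) (Nat.ble 6828032 i)
noncomputable def eT6674 (i : Nat) : Nat := Bool.rec (eL6678 i) (eL6679 i) (Nat.ble 6839296 i)
noncomputable def eT6675 (i : Nat) : Nat := Bool.rec (eL6681 i) (eL6682 i) (Nat.ble 6842368 i)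
noncomputable def eT6676 (i : Nat) : Nat := Bool.rec (eL6680 i) (eT6675 i) (Nat.ble 6841344 i)
noncomputable def eT6677 (i : Nat) : Nat := Bool.rec (eT6674 i) (eT6676 i) (Nat.ble 6840320 i)
noncomputable def eT6678 (i : Nat) : Nat := Bool.rec (eL6683 i) (eL6684 i) (Nat.ble 6844416 i)
noncomputable def eT6679 (i : Nat) : Nat := Bool.rec (eL6686 i) (eL6687 i) (Nat.ble 6847488 i)
noncomputable def eT6680 (i : Nat) : Nat := Bool.rec (eL6685 i) (eT6679 i) (Nat.ble 6846464 i)
noncomputable def eT6681 (i : Nat) : Nat := Bool.rec (eT6678 i) (eT6680 i) (Nat.ble 6845440 i)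
noncomputable def eT6682 (i : Nat) : Nat := Bool.rec (eT6677 i) (eT6681 i) (Nat.ble 6843392 i)
noncomputable def eT6683 (i : Nat) : Nat := Bool.rec (eL6688 i) (eL6689 i) (Nat.ble 6849536 i)
noncomputable def eT6684 (i : Nat) : Nat := Bool.rec (eL6691 i) (eL6692 i) (Nat.ble 6852608 i)
noncomputable def eT6685 (i : Nat) : Nat := Bool.rec (eL6690 i) (eT6684 i) (Nat.ble 6851584 i)
noncomputable def eT6686 (i : Nat) : Nat := Bool.rec (eT6683 i) (eT6685 i) (Nat.ble 6850560 i)
noncomputable def eT6687 (i : Nat) : Nat := Bool.rec (eL6694 i) (eL6695 i) (Nat.ble 6855680 i)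
noncomputable def eT6688 (i : Nat) : Nat := Bool.rec (eL6693 i) (eT6687 i) (Nat.ble 6854656 i)
noncomputable def eT6689 (i : Nat) : Nat := Bool.rec (eL6697 i) (eL6698 i) (Nat.ble 6858752 i)
noncomputable def eT6690 (i : Nat) : Nat := Bool.rec (eL6696 i) (eT6689 i) (Nat.ble 6857728 i)
noncomputable def eT6691 (i : Nat) : Nat := Bool.rec (eT6688 i) (eT6690 i) (Nat.ble 6856704 i)
noncomputable def eT6692 (i : Nat) : Nat := Bool.rec (eT6686 i) (eT6691 i) (Nat.ble 6853632 i)
noncomputable def eT6693 (i : Nat) : Nat := Bool.rec (eT6682 i) (eT6692 i) (Nat.ble 6848512 i)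
noncomputable def eT6694 (i : Nat) : Nat := Bool.rec (eT6673 i) (eT6693 i) (Nat.ble 6838272 i)
noncomputable def eT6695 (i : Nat) : Nat := Bool.rec (eL6699 i) (eL6700 i) (Nat.ble 6860800 i)
noncomputable def eT6696 (i : Nat) : Nat := Bool.rec (eL6702 i) (eL6703 i) (Nat.ble 6863872 i)
noncomputable def eT6697 (i : Nat) : Nat := Bool.rec (eL6701 i) (eT6696 i) (Nat.ble 6862848 i)
noncomputable def eT6698 (i : Nat) : Nat := Bool.rec (eT6695 i) (eT6697 i) (Nat.ble 6861824 i)
noncomputable def eT6699 (i : Nat) : Nat := Bool.rec (eL6704 i) (eL6705 i) (Nat.ble 6865920 i)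
noncomputable def eT6700 (i : Nat) : Nat := Bool.rec (eL6707 i) (eL6708 i) (Nat.ble 6868992 i)
noncomputable def eT6701 (i : Nat) : Nat := Bool.rec (eL6706 i) (eT6700 i) (Nat.ble 6867968 i)
noncomputable def eT6702 (i : Nat) : Nat := Bool.rec (eT6699 i) (eT6701 i) (Nat.ble 6866944 i)
noncomputable def eT6703 (i : Nat) : Nat := Bool.rec (eT6698 i) (eT6702 i) (Nat.ble 6864896 i)
noncomputable def eT6704 (i : Nat) : Nat := Bool.rec (eL6709 i) (eL6710 i) (Nat.ble 6871040 i)
noncomputable def eT6705 (i : Nat) : Nat := Bool.rec (eL6712 i) (eL6713 i) (Nat.ble 6874112 i)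
noncomputable def eT6706 (i : Nat) : Nat := Bool.rec (eL6711 i) (eT6705 i) (Nat.ble 6873088 i)
noncomputable def eT6707 (i : Nat) : Nat := Bool.rec (eT6704 i) (eT6706 i) (Nat.ble 6872064 i)
noncomputable def eT6708 (i : Nat) : Nat := Bool.rec (eL6714 i) (eL6715 i) (Nat.ble 6876160 i)
noncomputable def eT6709 (i : Nat) : Nat := Bool.rec (eL6717 i) (eL6718 i) (Nat.ble 6879232 i)
noncomputable def eT6710 (i : Nat) : Nat := Bool.rec (eL6716 i) (eT6709 i) (Nat.ble 6878208 i)
noncomputable def eT6711 (i : Nat) : Nat := Bool.rec (eT6708 i) (eT6710 i) (Nat.ble 6877184 i)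
noncomputable def eT6712 (i : Nat) : Nat := Bool.rec (eT6707 i) (eT6711 i) (Nat.ble 6875136 i)
noncomputable def eT6713 (i : Nat) : Nat := Bool.rec (eT6703 i) (eT6712 i) (Nat.ble 6870016 i)
noncomputable def eT6714 (i : Nat) : Nat := Bool.rec (eL6719 i) (eL6720 i) (Nat.ble 6881280 i)
noncomputable def eT6715 (i : Nat) : Nat := Bool.rec (eL6722 i) (eL6723 i) (Nat.ble 6884352 i)
noncomputable def eT6716 (i : Nat) : Nat := Bool.rec (eL6721 i) (eT6715 i) (Nat.ble 6883328 i)
noncomputable def eT6717 (i : Nat) : Nat := Bool.rec (eT6714 i) (eT6716 i) (Nat.ble 6882304 i)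
noncomputable def eT6718 (i : Nat) : Nat := Bool.rec (eL6724 i) (eL6725 i) (Nat.ble 6886400 i)
noncomputable def eT6719 (i : Nat) : Nat := Bool.rec (eL6727 i) (eL6728 i) (Nat.ble 6889472 i)
noncomputable def eT6720 (i : Nat) : Nat := Bool.rec (eL6726 i) (eT6719 i) (Nat.ble 6888448 i)
noncomputable def eT6721 (i : Nat) : Nat := Bool.rec (eT6718 i) (eT6720 i) (Nat.ble 6887424 i)
noncomputable def eT6722 (i : Nat) : Nat := Bool.rec (eT6717 i) (eT6721 i) (Nat.ble 6885376 i)
noncomputable def eT6723 (i : Nat) : Nat := Bool.rec (eL6729 i) (eL6730 i) (Nat.ble 6891520 i)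
noncomputable def eT6724 (i : Nat) : Nat := Bool.rec (eL6732 i) (eL6733 i) (Nat.ble 6894592 i)
noncomputable def eT6725 (i : Nat) : Nat := Bool.rec (eL6731 i) (eT6724 i) (Nat.ble 6893568 i)
noncomputable def eT6726 (i : Nat) : Nat := Bool.rec (eT6723 i) (eT6725 i) (Nat.ble 6892544 i)
noncomputable def eT6727 (i : Nat) : Nat := Bool.rec (eL6735 i) (eL6736 i) (Nat.ble 6897664 i)
noncomputable def eT6728 (i : Nat) : Nat := Bool.rec (eL6734 i) (eT6727 i) (Nat.ble 6896640 i)
noncomputable def eT6729 (i : Nat) : Nat := Bool.rec (eL6738 i) (eL6739 i) (Nat.ble 6900736 i)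
noncomputable def eT6730 (i : Nat) : Nat := Bool.rec (eL6737 i) (eT6729 i) (Nat.ble 6899712 i)
noncomputable def eT6731 (i : Nat) : Nat := Bool.rec (eT6728 i) (eT6730 i) (Nat.ble 6898688 i)
noncomputable def eT6732 (i : Nat) : Nat := Bool.rec (eT6726 i) (eT6731 i) (Nat.ble 6895616 i)
noncomputable def eT6733 (i : Nat) : Nat := Bool.rec (eT6722 i) (eT6732 i) (Nat.ble 6890496 i)
noncomputable def eT6734 (i : Nat) : Nat := Bool.rec (eT6713 i) (eT6733 i) (Nat.ble 6880256 i)
noncomputable def eT6735 (i : Nat) : Nat := Bool.rec (eT6694 i) (eT6734 i) (Nat.ble 6859776 i)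
noncomputable def eT6736 (i : Nat) : Nat := Bool.rec (eT6654 i) (eT6735 i) (Nat.ble 6817792 i)
noncomputable def eT6737 (i : Nat) : Nat := Bool.rec (eL6740 i) (eL6741 i) (Nat.ble 6902784 i)
noncomputable def eT6738 (i : Nat) : Nat := Bool.rec (eL6743 i) (eL6744 i) (Nat.ble 6905856 i)
noncomputable def eT6739 (i : Nat) : Nat := Bool.rec (eL6742 i) (eT6738 i) (Nat.ble 6904832 i)
noncomputable def eT6740 (i : Nat) : Nat := Bool.rec (eT6737 i) (eT6739 i) (Nat.ble 6903808 i)
noncomputable def eT6741 (i : Nat) : Nat := Bool.rec (eL6745 i) (eL6746 i) (Nat.ble 6907904 i)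
noncomputable def eT6742 (i : Nat) : Nat := Bool.rec (eL6748 i) (eL6749 i) (Nat.ble 6910976 i)
noncomputable def eT6743 (i : Nat) : Nat := Bool.rec (eL6747 i) (eT6742 i) (Nat.ble 6909952 i)
noncomputable def eT6744 (i : Nat) : Nat := Bool.rec (eT6741 i) (eT6743 i) (Nat.ble 6908928 i)
noncomputable def eT6745 (i : Nat) : Nat := Bool.rec (eT6740 i) (eT6744 i) (Nat.ble 6906880 i)
noncomputable def eT6746 (i : Nat) : Nat := Bool.rec (eL6750 i) (eL6751 i) (Nat.ble 6913024 i)
noncomputable def eT6747 (i : Nat) : Nat := Bool.rec (eL6753 i) (eL6754 i) (Nat.ble 6916096 i)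
noncomputable def eT6748 (i : Nat) : Nat := Bool.rec (eL6752 i) (eT6747 i) (Nat.ble 6915072 i)
noncomputable def eT6749 (i : Nat) : Nat := Bool.rec (eT6746 i) (eT6748 i) (Nat.ble 6914048 i)
noncomputable def eT6750 (i : Nat) : Nat := Bool.rec (eL6755 i) (eL6756 i) (Nat.ble 6918144 i)
noncomputable def eT6751 (i : Nat) : Nat := Bool.rec (eL6758 i) (eL6759 i) (Nat.ble 6921216 i)
noncomputable def eT6752 (i : Nat) : Nat := Bool.rec (eL6757 i) (eT6751 i) (Nat.ble 6920192 i)
noncomputable def eT6753 (i : Nat) : Nat := Bool.rec (eT6750 i) (eT6752 i) (Nat.ble 6919168 i)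
noncomputable def eT6754 (i : Nat) : Nat := Bool.rec (eT6749 i) (eT6753 i) (Nat.ble 6917120 i)
noncomputable def eT6755 (i : Nat) : Nat := Bool.rec (eT6745 i) (eT6754 i) (Nat.ble 6912000 i)
noncomputable def eT6756 (i : Nat) : Nat := Bool.rec (eL6760 i) (eL6761 i) (Nat.ble 6923264 i)
noncomputable def eT6757 (i : Nat) : Nat := Bool.rec (eL6763 i) (eL6764 i) (Nat.ble 6926336 i)
noncomputable def eT6758 (i : Nat) : Nat := Bool.rec (eL6762 i) (eT6757 i) (Nat.ble 6925312 i)
noncomputable def eT6759 (i : Nat) : Nat := Bool.rec (eT6756 i) (eT6758 i) (Nat.ble 6924288 i)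
noncomputable def eT6760 (i : Nat) : Nat := Bool.rec (eL6765 i) (eL6766 i) (Nat.ble 6928384 i)
noncomputable def eT6761 (i : Nat) : Nat := Bool.rec (eL6768 i) (eL6769 i) (Nat.ble 6931456 i)
noncomputable def eT6762 (i : Nat) : Nat := Bool.rec (eL6767 i) (eT6761 i) (Nat.ble 6930432 i)
noncomputable def eT6763 (i : Nat) : Nat := Bool.rec (eT6760 i) (eT6762 i) (Nat.ble 6929408 i)
noncomputable def eT6764 (i : Nat) : Nat := Bool.rec (eT6759 i) (eT6763 i) (Nat.ble 6927360 i)
noncomputable def eT6765 (i : Nat) : Nat := Bool.rec (eL6770 i) (eL6771 i) (Nat.ble 6933504 i)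
noncomputable def eT6766 (i : Nat) : Nat := Bool.rec (eL6773 i) (eL6774 i) (Nat.ble 6936576 i)
noncomputable def eT6767 (i : Nat) : Nat := Bool.rec (eL6772 i) (eT6766 i) (Nat.ble 6935552 i)
noncomputable def eT6768 (i : Nat) : Nat := Bool.rec (eT6765 i) (eT6767 i) (Nat.ble 6934528 i)
noncomputable def eT6769 (i : Nat) : Nat := Bool.rec (eL6776 i) (eL6777 i) (Nat.ble 6939648 i)
noncomputable def eT6770 (i : Nat) : Nat := Bool.rec (eL6775 i) (eT6769 i) (Nat.ble 6938624 i)
noncomputable def eT6771 (i : Nat) : Nat := Bool.rec (eL6779 i) (eL6780 i) (Nat.ble 6942720 i)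
noncomputable def eT6772 (i : Nat) : Nat := Bool.rec (eL6778 i) (eT6771 i) (Nat.ble 6941696 i)
noncomputable def eT6773 (i : Nat) : Nat := Bool.rec (eT6770 i) (eT6772 i) (Nat.ble 6940672 i)
noncomputable def eT6774 (i : Nat) : Nat := Bool.rec (eT6768 i) (eT6773 i) (Nat.ble 6937600 i)
noncomputable def eT6775 (i : Nat) : Nat := Bool.rec (eT6764 i) (eT6774 i) (Nat.ble 6932480 i)
noncomputable def eT6776 (i : Nat) : Nat := Bool.rec (eT6755 i) (eT6775 i) (Nat.ble 6922240 i)
noncomputable def eT6777 (i : Nat) : Nat := Bool.rec (eL6781 i) (eL6782 i) (Nat.ble 6944768 i)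
noncomputable def eT6778 (i : Nat) : Nat := Bool.rec (eL6784 i) (eL6785 i) (Nat.ble 6947840 i)
noncomputable def eT6779 (i : Nat) : Nat := Bool.rec (eL6783 i) (eT6778 i) (Nat.ble 6946816 i)
noncomputable def eT6780 (i : Nat) : Nat := Bool.rec (eT6777 i) (eT6779 i) (Nat.ble 6945792 i)
noncomputable def eT6781 (i : Nat) : Nat := Bool.rec (eL6786 i) (eL6787 i) (Nat.ble 6949888 i)
noncomputable def eT6782 (i : Nat) : Nat := Bool.rec (eL6789 i) (eL6790 i) (Nat.ble 6952960 i)
noncomputable def eT6783 (i : Nat) : Nat := Bool.rec (eL6788 i) (eT6782 i) (Nat.ble 6951936 i)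
noncomputable def eT6784 (i : Nat) : Nat := Bool.rec (eT6781 i) (eT6783 i) (Nat.ble 6950912 i)
noncomputable def eT6785 (i : Nat) : Nat := Bool.rec (eT6780 i) (eT6784 i) (Nat.ble 6948864 i)
noncomputable def eT6786 (i : Nat) : Nat := Bool.rec (eL6791 i) (eL6792 i) (Nat.ble 6955008 i)
noncomputable def eT6787 (i : Nat) : Nat := Bool.rec (eL6794 i) (eL6795 i) (Nat.ble 6958080 i)
noncomputable def eT6788 (i : Nat) : Nat := Bool.rec (eL6793 i) (eT6787 i) (Nat.ble 6957056 i)
noncomputable def eT6789 (i : Nat) : Nat := Bool.rec (eT6786 i) (eT6788 i) (Nat.ble 6956032 i)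
noncomputable def eT6790 (i : Nat) : Nat := Bool.rec (eL6796 i) (eL6797 i) (Nat.ble 6960128 i)
noncomputable def eT6791 (i : Nat) : Nat := Bool.rec (eL6799 i) (eL6800 i) (Nat.ble 6963200 i)
noncomputable def eT6792 (i : Nat) : Nat := Bool.rec (eL6798 i) (eT6791 i) (Nat.ble 6962176 i)
noncomputable def eT6793 (i : Nat) : Nat := Bool.rec (eT6790 i) (eT6792 i) (Nat.ble 6961152 i)
noncomputable def eT6794 (i : Nat) : Nat := Bool.rec (eT6789 i) (eT6793 i) (Nat.ble 6959104 i)
noncomputable def eT6795 (i : Nat) : Nat := Bool.rec (eT6785 i) (eT6794 i) (Nat.ble 6953984 i)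
noncomputable def eT6796 (i : Nat) : Nat := Bool.rec (eL6801 i) (eL6802 i) (Nat.ble 6965248 i)
noncomputable def eT6797 (i : Nat) : Nat := Bool.rec (eL6804 i) (eL6805 i) (Nat.ble 6968320 i)
noncomputable def eT6798 (i : Nat) : Nat := Bool.rec (eL6803 i) (eT6797 i) (Nat.ble 6967296 i)
noncomputable def eT6799 (i : Nat) : Nat := Bool.rec (eT6796 i) (eT6798 i) (Nat.ble 6966272 i)
noncomputable def eT6800 (i : Nat) : Nat := Bool.rec (eL6806 i) (eL6807 i) (Nat.ble 6970368 i)
noncomputable def eT6801 (i : Nat) : Nat := Bool.rec (eL6809 i) (eL6810 i) (Nat.ble 6973440 i)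
noncomputable def eT6802 (i : Nat) : Nat := Bool.rec (eL6808 i) (eT6801 i) (Nat.ble 6972416 i)
noncomputable def eT6803 (i : Nat) : Nat := Bool.rec (eT6800 i) (eT6802 i) (Nat.ble 6971392 i)
noncomputable def eT6804 (i : Nat) : Nat := Bool.rec (eT6799 i) (eT6803 i) (Nat.ble 6969344 i)
noncomputable def eT6805 (i : Nat) : Nat := Bool.rec (eL6811 i) (eL6812 i) (Nat.ble 6975488 i)
noncomputable def eT6806 (i : Nat) : Nat := Bool.rec (eL6814 i) (eL6815 i) (Nat.ble 6978560 i)
noncomputable def eT6807 (i : Nat) : Nat := Bool.rec (eL6813 i) (eT6806 i) (Nat.ble 6977536 i)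
noncomputable def eT6808 (i : Nat) : Nat := Bool.rec (eT6805 i) (eT6807 i) (Nat.ble 6976512 i)
noncomputable def eT6809 (i : Nat) : Nat := Bool.rec (eL6817 i) (eL6818 i) (Nat.ble 6981632 i)
noncomputable def eT6810 (i : Nat) : Nat := Bool.rec (eL6816 i) (eT6809 i) (Nat.ble 6980608 i)
noncomputable def eT6811 (i : Nat) : Nat := Bool.rec (eL6820 i) (eL6821 i) (Nat.ble 6984704 i)
noncomputable def eT6812 (i : Nat) : Nat := Bool.rec (eL6819 i) (eT6811 i) (Nat.ble 6983680 i)
noncomputable def eT6813 (i : Nat) : Nat := Bool.rec (eT6810 i) (eT6812 i) (Nat.ble 6982656 i)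
noncomputable def eT6814 (i : Nat) : Nat := Bool.rec (eT6808 i) (eT6813 i) (Nat.ble 6979584 i)
noncomputable def eT6815 (i : Nat) : Nat := Bool.rec (eT6804 i) (eT6814 i) (Nat.ble 6974464 i)
noncomputable def eT6816 (i : Nat) : Nat := Bool.rec (eT6795 i) (eT6815 i) (Nat.ble 6964224 i)
noncomputable def eT6817 (i : Nat) : Nat := Bool.rec (eT6776 i) (eT6816 i) (Nat.ble 6943744 i)
noncomputable def eT6818 (i : Nat) : Nat := Bool.rec (eL6822 i) (eL6823 i) (Nat.ble 6986752 i)
noncomputable def eT6819 (i : Nat) : Nat := Bool.rec (eL6825 i) (eL6826 i) (Nat.ble 6989824 i)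
noncomputable def eT6820 (i : Nat) : Nat := Bool.rec (eL6824 i) (eT6819 i) (Nat.ble 6988800 i)
noncomputable def eT6821 (i : Nat) : Nat := Bool.rec (eT6818 i) (eT6820 i) (Nat.ble 6987776 i)
noncomputable def eT6822 (i : Nat) : Nat := Bool.rec (eL6827 i) (eL6828 i) (Nat.ble 6991872 i)
noncomputable def eT6823 (i : Nat) : Nat := Bool.rec (eL6830 i) (eL6831 i) (Nat.ble 6994944 i)
noncomputable def eT6824 (i : Nat) : Nat := Bool.rec (eL6829 i) (eT6823 i) (Nat.ble 6993920 i)
noncomputable def eT6825 (i : Nat) : Nat := Bool.rec (eT6822 i) (eT6824 i) (Nat.ble 6992896 i)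
noncomputable def eT6826 (i : Nat) : Nat := Bool.rec (eT6821 i) (eT6825 i) (Nat.ble 6990848 i)
noncomputable def eT6827 (i : Nat) : Nat := Bool.rec (eL6832 i) (eL6833 i) (Nat.ble 6996992 i)
noncomputable def eT6828 (i : Nat) : Nat := Bool.rec (eL6835 i) (eL6836 i) (Nat.ble 7000064 i)
noncomputable def eT6829 (i : Nat) : Nat := Bool.rec (eL6834 i) (eT6828 i) (Nat.ble 6999040 i)
noncomputable def eT6830 (i : Nat) : Nat := Bool.rec (eT6827 i) (eT6829 i) (Nat.ble 6998016 i)
noncomputable def eT6831 (i : Nat) : Nat := Bool.rec (eL6837 i) (eL6838 i) (Nat.ble 7002112 i)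
noncomputable def eT6832 (i : Nat) : Nat := Bool.rec (eL6840 i) (eL6841 i) (Nat.ble 7005184 i)
noncomputable def eT6833 (i : Nat) : Nat := Bool.rec (eL6839 i) (eT6832 i) (Nat.ble 7004160 i)
noncomputable def eT6834 (i : Nat) : Nat := Bool.rec (eT6831 i) (eT6833 i) (Nat.ble 7003136 i)
noncomputable def eT6835 (i : Nat) : Nat := Bool.rec (eT6830 i) (eT6834 i) (Nat.ble 7001088 i)
noncomputable def eT6836 (i : Nat) : Nat := Bool.rec (eT6826 i) (eT6835 i) (Nat.ble 6995968 i)
noncomputable def eT6837 (i : Nat) : Nat := Bool.rec (eL6842 i) (eL6843 i) (Nat.ble 7007232 i)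
noncomputable def eT6838 (i : Nat) : Nat := Bool.rec (eL6845 i) (eL6846 i) (Nat.ble 7010304 i)
noncomputable def eT6839 (i : Nat) : Nat := Bool.rec (eL6844 i) (eT6838 i) (Nat.ble 7009280 i)
noncomputable def eT6840 (i : Nat) : Nat := Bool.rec (eT6837 i) (eT6839 i) (Nat.ble 7008256 i)
noncomputable def eT6841 (i : Nat) : Nat := Bool.rec (eL6847 i) (eL6848 i) (Nat.ble 7012352 i)
noncomputable def eT6842 (i : Nat) : Nat := Bool.rec (eL6850 i) (eL6851 i) (Nat.ble 7015424 i)
noncomputable def eT6843 (i : Nat) : Nat := Bool.rec (eL6849 i) (eT6842 i) (Nat.ble 7014400 i)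
noncomputable def eT6844 (i : Nat) : Nat := Bool.rec (eT6841 i) (eT6843 i) (Nat.ble 7013376 i)
noncomputable def eT6845 (i : Nat) : Nat := Bool.rec (eT6840 i) (eT6844 i) (Nat.ble 7011328 i)
noncomputable def eT6846 (i : Nat) : Nat := Bool.rec (eL6852 i) (eL6853 i) (Nat.ble 7017472 i)
noncomputable def eT6847 (i : Nat) : Nat := Bool.rec (eL6855 i) (eL6856 i) (Nat.ble 7020544 i)
noncomputable def eT6848 (i : Nat) : Nat := Bool.rec (eL6854 i) (eT6847 i) (Nat.ble 7019520 i)
noncomputable def eT6849 (i : Nat) : Nat := Bool.rec (eT6846 i) (eT6848 i) (Nat.ble 7018496 i)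
noncomputable def eT6850 (i : Nat) : Nat := Bool.rec (eL6858 i) (eL6859 i) (Nat.ble 7023616 i)
noncomputable def eT6851 (i : Nat) : Nat := Bool.rec (eL6857 i) (eT6850 i) (Nat.ble 7022592 i)
noncomputable def eT6852 (i : Nat) : Nat := Bool.rec (eL6861 i) (eL6862 i) (Nat.ble 7026688 i)
noncomputable def eT6853 (i : Nat) : Nat := Bool.rec (eL6860 i) (eT6852 i) (Nat.ble 7025664 i)
noncomputable def eT6854 (i : Nat) : Nat := Bool.rec (eT6851 i) (eT6853 i) (Nat.ble 7024640 i)
noncomputable def eT6855 (i : Nat) : Nat := Bool.rec (eT6849 i) (eT6854 i) (Nat.ble 7021568 i)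
noncomputable def eT6856 (i : Nat) : Nat := Bool.rec (eT6845 i) (eT6855 i) (Nat.ble 7016448 i)
noncomputable def eT6857 (i : Nat) : Nat := Bool.rec (eT6836 i) (eT6856 i) (Nat.ble 7006208 i)
noncomputable def eT6858 (i : Nat) : Nat := Bool.rec (eL6863 i) (eL6864 i) (Nat.ble 7028736 i)
noncomputable def eT6859 (i : Nat) : Nat := Bool.rec (eL6866 i) (eL6867 i) (Nat.ble 7031808 i)
noncomputable def eT6860 (i : Nat) : Nat := Bool.rec (eL6865 i) (eT6859 i) (Nat.ble 7030784 i)
noncomputable def eT6861 (i : Nat) : Nat := Bool.rec (eT6858 i) (eT6860 i) (Nat.ble 7029760 i)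
noncomputable def eT6862 (i : Nat) : Nat := Bool.rec (eL6868 i) (eL6869 i) (Nat.ble 7033856 i)
noncomputable def eT6863 (i : Nat) : Nat := Bool.rec (eL6871 i) (eL6872 i) (Nat.ble 7036928 i)
noncomputable def eT6864 (i : Nat) : Nat := Bool.rec (eL6870 i) (eT6863 i) (Nat.ble 7035904 i)
noncomputable def eT6865 (i : Nat) : Nat := Bool.rec (eT6862 i) (eT6864 i) (Nat.ble 7034880 i)
noncomputable def eT6866 (i : Nat) : Nat := Bool.rec (eT6861 i) (eT6865 i) (Nat.ble 7032832 i)
noncomputable def eT6867 (i : Nat) : Nat := Bool.rec (eL6873 i) (eL6874 i) (Nat.ble 7038976 i)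
noncomputable def eT6868 (i : Nat) : Nat := Bool.rec (eL6876 i) (eL6877 i) (Nat.ble 7042048 i)
noncomputable def eT6869 (i : Nat) : Nat := Bool.rec (eL6875 i) (eT6868 i) (Nat.ble 7041024 i)
noncomputable def eT6870 (i : Nat) : Nat := Bool.rec (eT6867 i) (eT6869 i) (Nat.ble 7040000 i)
noncomputable def eT6871 (i : Nat) : Nat := Bool.rec (eL6878 i) (eL6879 i) (Nat.ble 7044096 i)
noncomputable def eT6872 (i : Nat) : Nat := Bool.rec (eL6881 i) (eL6882 i) (Nat.ble 7047168 i)
noncomputable def eT6873 (i : Nat) : Nat := Bool.rec (eL6880 i) (eT6872 i) (Nat.ble 7046144 i)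
noncomputable def eT6874 (i : Nat) : Nat := Bool.rec (eT6871 i) (eT6873 i) (Nat.ble 7045120 i)
noncomputable def eT6875 (i : Nat) : Nat := Bool.rec (eT6870 i) (eT6874 i) (Nat.ble 7043072 i)
noncomputable def eT6876 (i : Nat) : Nat := Bool.rec (eT6866 i) (eT6875 i) (Nat.ble 7037952 i)
noncomputable def eT6877 (i : Nat) : Nat := Bool.rec (eL6883 i) (eL6884 i) (Nat.ble 7049216 i)
noncomputable def eT6878 (i : Nat) : Nat := Bool.rec (eL6886 i) (eL6887 i) (Nat.ble 7052288 i)
noncomputable def eT6879 (i : Nat) : Nat := Bool.rec (eL6885 i) (eT6878 i) (Nat.ble 7051264 i)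
noncomputable def eT6880 (i : Nat) : Nat := Bool.rec (eT6877 i) (eT6879 i) (Nat.ble 7050240 i)
noncomputable def eT6881 (i : Nat) : Nat := Bool.rec (eL6888 i) (eL6889 i) (Nat.ble 7054336 i)
noncomputable def eT6882 (i : Nat) : Nat := Bool.rec (eL6891 i) (eL6892 i) (Nat.ble 7057408 i)
noncomputable def eT6883 (i : Nat) : Nat := Bool.rec (eL6890 i) (eT6882 i) (Nat.ble 7056384 i)
noncomputable def eT6884 (i : Nat) : Nat := Bool.rec (eT6881 i) (eT6883 i) (Nat.ble 7055360 i)
noncomputable def eT6885 (i : Nat) : Nat := Bool.rec (eT6880 i) (eT6884 i) (Nat.ble 7053312 i)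
noncomputable def eT6886 (i : Nat) : Nat := Bool.rec (eL6893 i) (eL6894 i) (Nat.ble 7059456 i)
noncomputable def eT6887 (i : Nat) : Nat := Bool.rec (eL6896 i) (eL6897 i) (Nat.ble 7062528 i)
noncomputable def eT6888 (i : Nat) : Nat := Bool.rec (eL6895 i) (eT6887 i) (Nat.ble 7061504 i)
noncomputable def eT6889 (i : Nat) : Nat := Bool.rec (eT6886 i) (eT6888 i) (Nat.ble 7060480 i)
noncomputable def eT6890 (i : Nat) : Nat := Bool.rec (eL6899 i) (eL6900 i) (Nat.ble 7065600 i)
noncomputable def eT6891 (i : Nat) : Nat := Bool.rec (eL6898 i) (eT6890 i) (Nat.ble 7064576 i)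
noncomputable def eT6892 (i : Nat) : Nat := Bool.rec (eL6902 i) (eL6903 i) (Nat.ble 7068672 i)
noncomputable def eT6893 (i : Nat) : Nat := Bool.rec (eL6901 i) (eT6892 i) (Nat.ble 7067648 i)
noncomputable def eT6894 (i : Nat) : Nat := Bool.rec (eT6891 i) (eT6893 i) (Nat.ble 7066624 i)
noncomputable def eT6895 (i : Nat) : Nat := Bool.rec (eT6889 i) (eT6894 i) (Nat.ble 7063552 i)
noncomputable def eT6896 (i : Nat) : Nat := Bool.rec (eT6885 i) (eT6895 i) (Nat.ble 7058432 i)
noncomputable def eT6897 (i : Nat) : Nat := Bool.rec (eT6876 i) (eT6896 i) (Nat.ble 7048192 i)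
noncomputable def eT6898 (i : Nat) : Nat := Bool.rec (eT6857 i) (eT6897 i) (Nat.ble 7027712 i)
noncomputable def eT6899 (i : Nat) : Nat := Bool.rec (eT6817 i) (eT6898 i) (Nat.ble 6985728 i)
noncomputable def eT6900 (i : Nat) : Nat := Bool.rec (eT6736 i) (eT6899 i) (Nat.ble 6901760 i)
noncomputable def eT6901 (i : Nat) : Nat := Bool.rec (eL6904 i) (eL6905 i) (Nat.ble 7070720 i)
noncomputable def eT6902 (i : Nat) : Nat := Bool.rec (eL6907 i) (eL6908 i) (Nat.ble 7073792 i)
noncomputable def eT6903 (i : Nat) : Nat := Bool.rec (eL6906 i) (eT6902 i) (Nat.ble 7072768 i)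
noncomputable def eT6904 (i : Nat) : Nat := Bool.rec (eT6901 i) (eT6903 i) (Nat.ble 7071744 i)
noncomputable def eT6905 (i : Nat) : Nat := Bool.rec (eL6909 i) (eL6910 i) (Nat.ble 7075840 i)
noncomputable def eT6906 (i : Nat) : Nat := Bool.rec (eL6912 i) (eL6913 i) (Nat.ble 7078912 i)
noncomputable def eT6907 (i : Nat) : Nat := Bool.rec (eL6911 i) (eT6906 i) (Nat.ble 7077888 i)
noncomputable def eT6908 (i : Nat) : Nat := Bool.rec (eT6905 i) (eT6907 i) (Nat.ble 7076864 i)
noncomputable def eT6909 (i : Nat) : Nat := Bool.rec (eT6904 i) (eT6908 i) (Nat.ble 7074816 i)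
noncomputable def eT6910 (i : Nat) : Nat := Bool.rec (eL6914 i) (eL6915 i) (Nat.ble 7080960 i)
noncomputable def eT6911 (i : Nat) : Nat := Bool.rec (eL6917 i) (eL6918 i) (Nat.ble 7084032 i)
noncomputable def eT6912 (i : Nat) : Nat := Bool.rec (eL6916 i) (eT6911 i) (Nat.ble 7083008 i)
noncomputable def eT6913 (i : Nat) : Nat := Bool.rec (eT6910 i) (eT6912 i) (Nat.ble 7081984 i)
noncomputable def eT6914 (i : Nat) : Nat := Bool.rec (eL6919 i) (eL6920 i) (Nat.ble 7086080 i)
noncomputable def eT6915 (i : Nat) : Nat := Bool.rec (eL6922 i) (eL6923 i) (Nat.ble 7089152 i)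
noncomputable def eT6916 (i : Nat) : Nat := Bool.rec (eL6921 i) (eT6915 i) (Nat.ble 7088128 i)
noncomputable def eT6917 (i : Nat) : Nat := Bool.rec (eT6914 i) (eT6916 i) (Nat.ble 7087104 i)
noncomputable def eT6918 (i : Nat) : Nat := Bool.rec (eT6913 i) (eT6917 i) (Nat.ble 7085056 i)
noncomputable def eT6919 (i : Nat) : Nat := Bool.rec (eT6909 i) (eT6918 i) (Nat.ble 7079936 i)
noncomputable def eT6920 (i : Nat) : Nat := Bool.rec (eL6924 i) (eL6925 i) (Nat.ble 7091200 i)
noncomputable def eT6921 (i : Nat) : Nat := Bool.rec (eL6927 i) (eL6928 i) (Nat.ble 7094272 i)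
noncomputable def eT6922 (i : Nat) : Nat := Bool.rec (eL6926 i) (eT6921 i) (Nat.ble 7093248 i)
noncomputable def eT6923 (i : Nat) : Nat := Bool.rec (eT6920 i) (eT6922 i) (Nat.ble 7092224 i)
noncomputable def eT6924 (i : Nat) : Nat := Bool.rec (eL6929 i) (eL6930 i) (Nat.ble 7096320 i)
noncomputable def eT6925 (i : Nat) : Nat := Bool.rec (eL6932 i) (eL6933 i) (Nat.ble 7099392 i)
noncomputable def eT6926 (i : Nat) : Nat := Bool.rec (eL6931 i) (eT6925 i) (Nat.ble 7098368 i)
noncomputable def eT6927 (i : Nat) : Nat := Bool.rec (eT6924 i) (eT6926 i) (Nat.ble 7097344 i)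
noncomputable def eT6928 (i : Nat) : Nat := Bool.rec (eT6923 i) (eT6927 i) (Nat.ble 7095296 i)
noncomputable def eT6929 (i : Nat) : Nat := Bool.rec (eL6934 i) (eL6935 i) (Nat.ble 7101440 i)
noncomputable def eT6930 (i : Nat) : Nat := Bool.rec (eL6937 i) (eL6938 i) (Nat.ble 7104512 i)
noncomputable def eT6931 (i : Nat) : Nat := Bool.rec (eL6936 i) (eT6930 i) (Nat.ble 7103488 i)
noncomputable def eT6932 (i : Nat) : Nat := Bool.rec (eT6929 i) (eT6931 i) (Nat.ble 7102464 i)
noncomputable def eT6933 (i : Nat) : Nat := Bool.rec (eL6940 i) (eL6941 i) (Nat.ble 7107584 i)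
noncomputable def eT6934 (i : Nat) : Nat := Bool.rec (eL6939 i) (eT6933 i) (Nat.ble 7106560 i)
noncomputable def eT6935 (i : Nat) : Nat := Bool.rec (eL6943 i) (eL6944 i) (Nat.ble 7110656 i)
noncomputable def eT6936 (i : Nat) : Nat := Bool.rec (eL6942 i) (eT6935 i) (Nat.ble 7109632 i)
noncomputable def eT6937 (i : Nat) : Nat := Bool.rec (eT6934 i) (eT6936 i) (Nat.ble 7108608 i)
noncomputable def eT6938 (i : Nat) : Nat := Bool.rec (eT6932 i) (eT6937 i) (Nat.ble 7105536 i)
noncomputable def eT6939 (i : Nat) : Nat := Bool.rec (eT6928 i) (eT6938 i) (Nat.ble 7100416 i)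
noncomputable def eT6940 (i : Nat) : Nat := Bool.rec (eT6919 i) (eT6939 i) (Nat.ble 7090176 i)
noncomputable def eT6941 (i : Nat) : Nat := Bool.rec (eL6945 i) (eL6946 i) (Nat.ble 7112704 i)
noncomputable def eT6942 (i : Nat) : Nat := Bool.rec (eL6948 i) (eL6949 i) (Nat.ble 7115776 i)
noncomputable def eT6943 (i : Nat) : Nat := Bool.rec (eL6947 i) (eT6942 i) (Nat.ble 7114752 i)
noncomputable def eT6944 (i : Nat) : Nat := Bool.rec (eT6941 i) (eT6943 i) (Nat.ble 7113728 i)
noncomputable def eT6945 (i : Nat) : Nat := Bool.rec (eL6950 i) (eL6951 i) (Nat.ble 7117824 i)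
noncomputable def eT6946 (i : Nat) : Nat := Bool.rec (eL6953 i) (eL6954 i) (Nat.ble 7120896 i)
noncomputable def eT6947 (i : Nat) : Nat := Bool.rec (eL6952 i) (eT6946 i) (Nat.ble 7119872 i)
noncomputable def eT6948 (i : Nat) : Nat := Bool.rec (eT6945 i) (eT6947 i) (Nat.ble 7118848 i)
noncomputable def eT6949 (i : Nat) : Nat := Bool.rec (eT6944 i) (eT6948 i) (Nat.ble 7116800 i)
noncomputable def eT6950 (i : Nat) : Nat := Bool.rec (eL6955 i) (eL6956 i) (Nat.ble 7122944 i)
noncomputable def eT6951 (i : Nat) : Nat := Bool.rec (eL6958 i) (eL6959 i) (Nat.ble 7126016 i)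
noncomputable def eT6952 (i : Nat) : Nat := Bool.rec (eL6957 i) (eT6951 i) (Nat.ble 7124992 i)
noncomputable def eT6953 (i : Nat) : Nat := Bool.rec (eT6950 i) (eT6952 i) (Nat.ble 7123968 i)
noncomputable def eT6954 (i : Nat) : Nat := Bool.rec (eL6960 i) (eL6961 i) (Nat.ble 7128064 i)
noncomputable def eT6955 (i : Nat) : Nat := Bool.rec (eL6963 i) (eL6964 i) (Nat.ble 7131136 i)
noncomputable def eT6956 (i : Nat) : Nat := Bool.rec (eL6962 i) (eT6955 i) (Nat.ble 7130112 i)
noncomputable def eT6957 (i : Nat) : Nat := Bool.rec (eT6954 i) (eT6956 i) (Nat.ble 7129088 i)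
noncomputable def eT6958 (i : Nat) : Nat := Bool.rec (eT6953 i) (eT6957 i) (Nat.ble 7127040 i)
noncomputable def eT6959 (i : Nat) : Nat := Bool.rec (eT6949 i) (eT6958 i) (Nat.ble 7121920 i)
noncomputable def eT6960 (i : Nat) : Nat := Bool.rec (eL6965 i) (eL6966 i) (Nat.ble 7133184 i)
noncomputable def eT6961 (i : Nat) : Nat := Bool.rec (eL6968 i) (eL6969 i) (Nat.ble 7136256 i)
noncomputable def eT6962 (i : Nat) : Nat := Bool.rec (eL6967 i) (eT6961 i) (Nat.ble 7135232 i)
noncomputable def eT6963 (i : Nat) : Nat := Bool.rec (eT6960 i) (eT6962 i) (Nat.ble 7134208 i)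
noncomputable def eT6964 (i : Nat) : Nat := Bool.rec (eL6970 i) (eL6971 i) (Nat.ble 7138304 i)
noncomputable def eT6965 (i : Nat) : Nat := Bool.rec (eL6973 i) (eL6974 i) (Nat.ble 7141376 i)
noncomputable def eT6966 (i : Nat) : Nat := Bool.rec (eL6972 i) (eT6965 i) (Nat.ble 7140352 i)
noncomputable def eT6967 (i : Nat) : Nat := Bool.rec (eT6964 i) (eT6966 i) (Nat.ble 7139328 i)
noncomputable def eT6968 (i : Nat) : Nat := Bool.rec (eT6963 i) (eT6967 i) (Nat.ble 7137280 i)
noncomputable def eT6969 (i : Nat) : Nat := Bool.rec (eL6975 i) (eL6976 i) (Nat.ble 7143424 i)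
noncomputable def eT6970 (i : Nat) : Nat := Bool.rec (eL6978 i) (eL6979 i) (Nat.ble 7146496 i)
noncomputable def eT6971 (i : Nat) : Nat := Bool.rec (eL6977 i) (eT6970 i) (Nat.ble 7145472 i)
noncomputable def eT6972 (i : Nat) : Nat := Bool.rec (eT6969 i) (eT6971 i) (Nat.ble 7144448 i)
noncomputable def eT6973 (i : Nat) : Nat := Bool.rec (eL6981 i) (eL6982 i) (Nat.ble 7149568 i)
noncomputable def eT6974 (i : Nat) : Nat := Bool.rec (eL6980 i) (eT6973 i) (Nat.ble 7148544 i)
noncomputable def eT6975 (i : Nat) : Nat := Bool.rec (eL6984 i) (eL6985 i) (Nat.ble 7152640 i)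
noncomputable def eT6976 (i : Nat) : Nat := Bool.rec (eL6983 i) (eT6975 i) (Nat.ble 7151616 i)
noncomputable def eT6977 (i : Nat) : Nat := Bool.rec (eT6974 i) (eT6976 i) (Nat.ble 7150592 i)
noncomputable def eT6978 (i : Nat) : Nat := Bool.rec (eT6972 i) (eT6977 i) (Nat.ble 7147520 i)
noncomputable def eT6979 (i : Nat) : Nat := Bool.rec (eT6968 i) (eT6978 i) (Nat.ble 7142400 i)
noncomputable def eT6980 (i : Nat) : Nat := Bool.rec (eT6959 i) (eT6979 i) (Nat.ble 7132160 i)
noncomputable def eT6981 (i : Nat) : Nat := Bool.rec (eT6940 i) (eT6980 i) (Nat.ble 7111680 i)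
noncomputable def eT6982 (i : Nat) : Nat := Bool.rec (eL6986 i) (eL6987 i) (Nat.ble 7154688 i)
noncomputable def eT6983 (i : Nat) : Nat := Bool.rec (eL6989 i) (eL6990 i) (Nat.ble 7157760 i)
noncomputable def eT6984 (i : Nat) : Nat := Bool.rec (eL6988 i) (eT6983 i) (Nat.ble 7156736 i)
noncomputable def eT6985 (i : Nat) : Nat := Bool.rec (eT6982 i) (eT6984 i) (Nat.ble 7155712 i)
noncomputable def eT6986 (i : Nat) : Nat := Bool.rec (eL6991 i) (eL6992 i) (Nat.ble 7159808 i)
noncomputable def eT6987 (i : Nat) : Nat := Bool.rec (eL6994 i) (eL6995 i) (Nat.ble 7162880 i)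
noncomputable def eT6988 (i : Nat) : Nat := Bool.rec (eL6993 i) (eT6987 i) (Nat.ble 7161856 i)
noncomputable def eT6989 (i : Nat) : Nat := Bool.rec (eT6986 i) (eT6988 i) (Nat.ble 7160832 i)
noncomputable def eT6990 (i : Nat) : Nat := Bool.rec (eT6985 i) (eT6989 i) (Nat.ble 7158784 i)
noncomputable def eT6991 (i : Nat) : Nat := Bool.rec (eL6996 i) (eL6997 i) (Nat.ble 7164928 i)
noncomputable def eT6992 (i : Nat) : Nat := Bool.rec (eL6999 i) (eL7000 i) (Nat.ble 7168000 i)
noncomputable def eT6993 (i : Nat) : Nat := Bool.rec (eL6998 i) (eT6992 i) (Nat.ble 7166976 i)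
noncomputable def eT6994 (i : Nat) : Nat := Bool.rec (eT6991 i) (eT6993 i) (Nat.ble 7165952 i)
noncomputable def eT6995 (i : Nat) : Nat := Bool.rec (eL7001 i) (eL7002 i) (Nat.ble 7170048 i)
noncomputable def eT6996 (i : Nat) : Nat := Bool.rec (eL7004 i) (eL7005 i) (Nat.ble 7173120 i)
noncomputable def eT6997 (i : Nat) : Nat := Bool.rec (eL7003 i) (eT6996 i) (Nat.ble 7172096 i)
noncomputable def eT6998 (i : Nat) : Nat := Bool.rec (eT6995 i) (eT6997 i) (Nat.ble 7171072 i)
noncomputable def eT6999 (i : Nat) : Nat := Bool.rec (eT6994 i) (eT6998 i) (Nat.ble 7169024 i)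
noncomputable def eT7000 (i : Nat) : Nat := Bool.rec (eT6990 i) (eT6999 i) (Nat.ble 7163904 i)
noncomputable def eT7001 (i : Nat) : Nat := Bool.rec (eL7006 i) (eL7007 i) (Nat.ble 7175168 i)
noncomputable def eT7002 (i : Nat) : Nat := Bool.rec (eL7009 i) (eL7010 i) (Nat.ble 7178240 i)
noncomputable def eT7003 (i : Nat) : Nat := Bool.rec (eL7008 i) (eT7002 i) (Nat.ble 7177216 i)
noncomputable def eT7004 (i : Nat) : Nat := Bool.rec (eT7001 i) (eT7003 i) (Nat.ble 7176192 i)
noncomputable def eT7005 (i : Nat) : Nat := Bool.rec (eL7011 i) (eL7012 i) (Nat.ble 7180288 i)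
noncomputable def eT7006 (i : Nat) : Nat := Bool.rec (eL7014 i) (eL7015 i) (Nat.ble 7183360 i)
noncomputable def eT7007 (i : Nat) : Nat := Bool.rec (eL7013 i) (eT7006 i) (Nat.ble 7182336 i)
noncomputable def eT7008 (i : Nat) : Nat := Bool.rec (eT7005 i) (eT7007 i) (Nat.ble 7181312 i)
noncomputable def eT7009 (i : Nat) : Nat := Bool.rec (eT7004 i) (eT7008 i) (Nat.ble 7179264 i)
noncomputable def eT7010 (i : Nat) : Nat := Bool.rec (eL7016 i) (eL7017 i) (Nat.ble 7185408 i)
noncomputable def eT7011 (i : Nat) : Nat := Bool.rec (eL7019 i) (eL7020 i) (Nat.ble 7188480 i)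
noncomputable def eT7012 (i : Nat) : Nat := Bool.rec (eL7018 i) (eT7011 i) (Nat.ble 7187456 i)
noncomputable def eT7013 (i : Nat) : Nat := Bool.rec (eT7010 i) (eT7012 i) (Nat.ble 7186432 i)
noncomputable def eT7014 (i : Nat) : Nat := Bool.rec (eL7022 i) (eL7023 i) (Nat.ble 7191552 i)
noncomputable def eT7015 (i : Nat) : Nat := Bool.rec (eL7021 i) (eT7014 i) (Nat.ble 7190528 i)
noncomputable def eT7016 (i : Nat) : Nat := Bool.rec (eL7025 i) (eL7026 i) (Nat.ble 7194624 i)
noncomputable def eT7017 (i : Nat) : Nat := Bool.rec (eL7024 i) (eT7016 i) (Nat.ble 7193600 i)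
noncomputable def eT7018 (i : Nat) : Nat := Bool.rec (eT7015 i) (eT7017 i) (Nat.ble 7192576 i)
noncomputable def eT7019 (i : Nat) : Nat := Bool.rec (eT7013 i) (eT7018 i) (Nat.ble 7189504 i)
noncomputable def eT7020 (i : Nat) : Nat := Bool.rec (eT7009 i) (eT7019 i) (Nat.ble 7184384 i)
noncomputable def eT7021 (i : Nat) : Nat := Bool.rec (eT7000 i) (eT7020 i) (Nat.ble 7174144 i)
noncomputable def eT7022 (i : Nat) : Nat := Bool.rec (eL7027 i) (eL7028 i) (Nat.ble 7196672 i)
noncomputable def eT7023 (i : Nat) : Nat := Bool.rec (eL7030 i) (eL7031 i) (Nat.ble 7199744 i)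
noncomputable def eT7024 (i : Nat) : Nat := Bool.rec (eL7029 i) (eT7023 i) (Nat.ble 7198720 i)
noncomputable def eT7025 (i : Nat) : Nat := Bool.rec (eT7022 i) (eT7024 i) (Nat.ble 7197696 i)
noncomputable def eT7026 (i : Nat) : Nat := Bool.rec (eL7032 i) (eL7033 i) (Nat.ble 7201792 i)
noncomputable def eT7027 (i : Nat) : Nat := Bool.rec (eL7035 i) (eL7036 i) (Nat.ble 7204864 i)
noncomputable def eT7028 (i : Nat) : Nat := Bool.rec (eL7034 i) (eT7027 i) (Nat.ble 7203840 i)
noncomputable def eT7029 (i : Nat) : Nat := Bool.rec (eT7026 i) (eT7028 i) (Nat.ble 7202816 i)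
noncomputable def eT7030 (i : Nat) : Nat := Bool.rec (eT7025 i) (eT7029 i) (Nat.ble 7200768 i)
noncomputable def eT7031 (i : Nat) : Nat := Bool.rec (eL7037 i) (eL7038 i) (Nat.ble 7206912 i)
noncomputable def eT7032 (i : Nat) : Nat := Bool.rec (eL7040 i) (eL7041 i) (Nat.ble 7209984 i)
noncomputable def eT7033 (i : Nat) : Nat := Bool.rec (eL7039 i) (eT7032 i) (Nat.ble 7208960 i)
noncomputable def eT7034 (i : Nat) : Nat := Bool.rec (eT7031 i) (eT7033 i) (Nat.ble 7207936 i)
noncomputable def eT7035 (i : Nat) : Nat := Bool.rec (eL7042 i) (eL7043 i) (Nat.ble 7212032 i)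
noncomputable def eT7036 (i : Nat) : Nat := Bool.rec (eL7045 i) (eL7046 i) (Nat.ble 7215104 i)
noncomputable def eT7037 (i : Nat) : Nat := Bool.rec (eL7044 i) (eT7036 i) (Nat.ble 7214080 i)
noncomputable def eT7038 (i : Nat) : Nat := Bool.rec (eT7035 i) (eT7037 i) (Nat.ble 7213056 i)
noncomputable def eT7039 (i : Nat) : Nat := Bool.rec (eT7034 i) (eT7038 i) (Nat.ble 7211008 i)
noncomputable def eT7040 (i : Nat) : Nat := Bool.rec (eT7030 i) (eT7039 i) (Nat.ble 7205888 i)
noncomputable def eT7041 (i : Nat) : Nat := Bool.rec (eL7047 i) (eL7048 i) (Nat.ble 7217152 i)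
noncomputable def eT7042 (i : Nat) : Nat := Bool.rec (eL7050 i) (eL7051 i) (Nat.ble 7220224 i)
noncomputable def eT7043 (i : Nat) : Nat := Bool.rec (eL7049 i) (eT7042 i) (Nat.ble 7219200 i)
noncomputable def eT7044 (i : Nat) : Nat := Bool.rec (eT7041 i) (eT7043 i) (Nat.ble 7218176 i)
noncomputable def eT7045 (i : Nat) : Nat := Bool.rec (eL7052 i) (eL7053 i) (Nat.ble 7222272 i)
noncomputable def eT7046 (i : Nat) : Nat := Bool.rec (eL7055 i) (eL7056 i) (Nat.ble 7225344 i)
noncomputable def eT7047 (i : Nat) : Nat := Bool.rec (eL7054 i) (eT7046 i) (Nat.ble 7224320 i)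
noncomputable def eT7048 (i : Nat) : Nat := Bool.rec (eT7045 i) (eT7047 i) (Nat.ble 7223296 i)
noncomputable def eT7049 (i : Nat) : Nat := Bool.rec (eT7044 i) (eT7048 i) (Nat.ble 7221248 i)
noncomputable def eT7050 (i : Nat) : Nat := Bool.rec (eL7057 i) (eL7058 i) (Nat.ble 7227392 i)
noncomputable def eT7051 (i : Nat) : Nat := Bool.rec (eL7060 i) (eL7061 i) (Nat.ble 7230464 i)
noncomputable def eT7052 (i : Nat) : Nat := Bool.rec (eL7059 i) (eT7051 i) (Nat.ble 7229440 i)
noncomputable def eT7053 (i : Nat) : Nat := Bool.rec (eT7050 i) (eT7052 i) (Nat.ble 7228416 i)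
noncomputable def eT7054 (i : Nat) : Nat := Bool.rec (eL7063 i) (eL7064 i) (Nat.ble 7233536 i)
noncomputable def eT7055 (i : Nat) : Nat := Bool.rec (eL7062 i) (eT7054 i) (Nat.ble 7232512 i)
noncomputable def eT7056 (i : Nat) : Nat := Bool.rec (eL7066 i) (eL7067 i) (Nat.ble 7236608 i)
noncomputable def eT7057 (i : Nat) : Nat := Bool.rec (eL7065 i) (eT7056 i) (Nat.ble 7235584 i)
noncomputable def eT7058 (i : Nat) : Nat := Bool.rec (eT7055 i) (eT7057 i) (Nat.ble 7234560 i)
noncomputable def eT7059 (i : Nat) : Nat := Bool.rec (eT7053 i) (eT7058 i) (Nat.ble 7231488 i)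
noncomputable def eT7060 (i : Nat) : Nat := Bool.rec (eT7049 i) (eT7059 i) (Nat.ble 7226368 i)
noncomputable def eT7061 (i : Nat) : Nat := Bool.rec (eT7040 i) (eT7060 i) (Nat.ble 7216128 i)
noncomputable def eT7062 (i : Nat) : Nat := Bool.rec (eT7021 i) (eT7061 i) (Nat.ble 7195648 i)
noncomputable def eT7063 (i : Nat) : Nat := Bool.rec (eT6981 i) (eT7062 i) (Nat.ble 7153664 i)
noncomputable def eT7064 (i : Nat) : Nat := Bool.rec (eL7068 i) (eL7069 i) (Nat.ble 7238656 i)
noncomputable def eT7065 (i : Nat) : Nat := Bool.rec (eL7071 i) (eL7072 i) (Nat.ble 7241728 i)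
noncomputable def eT7066 (i : Nat) : Nat := Bool.rec (eL7070 i) (eT7065 i) (Nat.ble 7240704 i)
noncomputable def eT7067 (i : Nat) : Nat := Bool.rec (eT7064 i) (eT7066 i) (Nat.ble 7239680 i)
noncomputable def eT7068 (i : Nat) : Nat := Bool.rec (eL7073 i) (eL7074 i) (Nat.ble 7243776 i)
noncomputable def eT7069 (i : Nat) : Nat := Bool.rec (eL7076 i) (eL7077 i) (Nat.ble 7246848 i)
noncomputable def eT7070 (i : Nat) : Nat := Bool.rec (eL7075 i) (eT7069 i) (Nat.ble 7245824 i)
noncomputable def eT7071 (i : Nat) : Nat := Bool.rec (eT7068 i) (eT7070 i) (Nat.ble 7244800 i)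
noncomputable def eT7072 (i : Nat) : Nat := Bool.rec (eT7067 i) (eT7071 i) (Nat.ble 7242752 i)
noncomputable def eT7073 (i : Nat) : Nat := Bool.rec (eL7078 i) (eL7079 i) (Nat.ble 7248896 i)
noncomputable def eT7074 (i : Nat) : Nat := Bool.rec (eL7081 i) (eL7082 i) (Nat.ble 7251968 i)
noncomputable def eT7075 (i : Nat) : Nat := Bool.rec (eL7080 i) (eT7074 i) (Nat.ble 7250944 i)
noncomputable def eT7076 (i : Nat) : Nat := Bool.rec (eT7073 i) (eT7075 i) (Nat.ble 7249920 i)
noncomputable def eT7077 (i : Nat) : Nat := Bool.rec (eL7083 i) (eL7084 i) (Nat.ble 7254016 i)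
noncomputable def eT7078 (i : Nat) : Nat := Bool.rec (eL7086 i) (eL7087 i) (Nat.ble 7257088 i)
noncomputable def eT7079 (i : Nat) : Nat := Bool.rec (eL7085 i) (eT7078 i) (Nat.ble 7256064 i)
noncomputable def eT7080 (i : Nat) : Nat := Bool.rec (eT7077 i) (eT7079 i) (Nat.ble 7255040 i)
noncomputable def eT7081 (i : Nat) : Nat := Bool.rec (eT7076 i) (eT7080 i) (Nat.ble 7252992 i)
noncomputable def eT7082 (i : Nat) : Nat := Bool.rec (eT7072 i) (eT7081 i) (Nat.ble 7247872 i)
noncomputable def eT7083 (i : Nat) : Nat := Bool.rec (eL7088 i) (eL7089 i) (Nat.ble 7259136 i)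
noncomputable def eT7084 (i : Nat) : Nat := Bool.rec (eL7091 i) (eL7092 i) (Nat.ble 7262208 i)
noncomputable def eT7085 (i : Nat) : Nat := Bool.rec (eL7090 i) (eT7084 i) (Nat.ble 7261184 i)
noncomputable def eT7086 (i : Nat) : Nat := Bool.rec (eT7083 i) (eT7085 i) (Nat.ble 7260160 i)
noncomputable def eT7087 (i : Nat) : Nat := Bool.rec (eL7093 i) (eL7094 i) (Nat.ble 7264256 i)
noncomputable def eT7088 (i : Nat) : Nat := Bool.rec (eL7096 i) (eL7097 i) (Nat.ble 7267328 i)
noncomputable def eT7089 (i : Nat) : Nat := Bool.rec (eL7095 i) (eT7088 i) (Nat.ble 7266304 i)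
noncomputable def eT7090 (i : Nat) : Nat := Bool.rec (eT7087 i) (eT7089 i) (Nat.ble 7265280 i)
noncomputable def eT7091 (i : Nat) : Nat := Bool.rec (eT7086 i) (eT7090 i) (Nat.ble 7263232 i)
noncomputable def eT7092 (i : Nat) : Nat := Bool.rec (eL7098 i) (eL7099 i) (Nat.ble 7269376 i)
noncomputable def eT7093 (i : Nat) : Nat := Bool.rec (eL7101 i) (eL7102 i) (Nat.ble 7272448 i)
noncomputable def eT7094 (i : Nat) : Nat := Bool.rec (eL7100 i) (eT7093 i) (Nat.ble 7271424 i)
noncomputable def eT7095 (i : Nat) : Nat := Bool.rec (eT7092 i) (eT7094 i) (Nat.ble 7270400 i)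
noncomputable def eT7096 (i : Nat) : Nat := Bool.rec (eL7104 i) (eL7105 i) (Nat.ble 7275520 i)
noncomputable def eT7097 (i : Nat) : Nat := Bool.rec (eL7103 i) (eT7096 i) (Nat.ble 7274496 i)
noncomputable def eT7098 (i : Nat) : Nat := Bool.rec (eL7107 i) (eL7108 i) (Nat.ble 7278592 i)
noncomputable def eT7099 (i : Nat) : Nat := Bool.rec (eL7106 i) (eT7098 i) (Nat.ble 7277568 i)
noncomputable def eT7100 (i : Nat) : Nat := Bool.rec (eT7097 i) (eT7099 i) (Nat.ble 7276544 i)
noncomputable def eT7101 (i : Nat) : Nat := Bool.rec (eT7095 i) (eT7100 i) (Nat.ble 7273472 i)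
noncomputable def eT7102 (i : Nat) : Nat := Bool.rec (eT7091 i) (eT7101 i) (Nat.ble 7268352 i)
noncomputable def eT7103 (i : Nat) : Nat := Bool.rec (eT7082 i) (eT7102 i) (Nat.ble 7258112 i)
noncomputable def eT7104 (i : Nat) : Nat := Bool.rec (eL7109 i) (eL7110 i) (Nat.ble 7280640 i)
noncomputable def eT7105 (i : Nat) : Nat := Bool.rec (eL7112 i) (eL7113 i) (Nat.ble 7283712 i)
noncomputable def eT7106 (i : Nat) : Nat := Bool.rec (eL7111 i) (eT7105 i) (Nat.ble 7282688 i)
noncomputable def eT7107 (i : Nat) : Nat := Bool.rec (eT7104 i) (eT7106 i) (Nat.ble 7281664 i)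
noncomputable def eT7108 (i : Nat) : Nat := Bool.rec (eL7114 i) (eL7115 i) (Nat.ble 7285760 i)
noncomputable def eT7109 (i : Nat) : Nat := Bool.rec (eL7117 i) (eL7118 i) (Nat.ble 7288832 i)
noncomputable def eT7110 (i : Nat) : Nat := Bool.rec (eL7116 i) (eT7109 i) (Nat.ble 7287808 i)
noncomputable def eT7111 (i : Nat) : Nat := Bool.rec (eT7108 i) (eT7110 i) (Nat.ble 7286784 i)
noncomputable def eT7112 (i : Nat) : Nat := Bool.rec (eT7107 i) (eT7111 i) (Nat.ble 7284736 i)
noncomputable def eT7113 (i : Nat) : Nat := Bool.rec (eL7119 i) (eL7120 i) (Nat.ble 7290880 i)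
noncomputable def eT7114 (i : Nat) : Nat := Bool.rec (eL7122 i) (eL7123 i) (Nat.ble 7293952 i)
noncomputable def eT7115 (i : Nat) : Nat := Bool.rec (eL7121 i) (eT7114 i) (Nat.ble 7292928 i)
noncomputable def eT7116 (i : Nat) : Nat := Bool.rec (eT7113 i) (eT7115 i) (Nat.ble 7291904 i)
noncomputable def eT7117 (i : Nat) : Nat := Bool.rec (eL7124 i) (eL7125 i) (Nat.ble 7296000 i)
noncomputable def eT7118 (i : Nat) : Nat := Bool.rec (eL7127 i) (eL7128 i) (Nat.ble 7299072 i)
noncomputable def eT7119 (i : Nat) : Nat := Bool.rec (eL7126 i) (eT7118 i) (Nat.ble 7298048 i)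
noncomputable def eT7120 (i : Nat) : Nat := Bool.rec (eT7117 i) (eT7119 i) (Nat.ble 7297024 i)
noncomputable def eT7121 (i : Nat) : Nat := Bool.rec (eT7116 i) (eT7120 i) (Nat.ble 7294976 i)
noncomputable def eT7122 (i : Nat) : Nat := Bool.rec (eT7112 i) (eT7121 i) (Nat.ble 7289856 i)
noncomputable def eT7123 (i : Nat) : Nat := Bool.rec (eL7129 i) (eL7130 i) (Nat.ble 7301120 i)
noncomputable def eT7124 (i : Nat) : Nat := Bool.rec (eL7132 i) (eL7133 i) (Nat.ble 7304192 i)
noncomputable def eT7125 (i : Nat) : Nat := Bool.rec (eL7131 i) (eT7124 i) (Nat.ble 7303168 i)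
noncomputable def eT7126 (i : Nat) : Nat := Bool.rec (eT7123 i) (eT7125 i) (Nat.ble 7302144 i)
noncomputable def eT7127 (i : Nat) : Nat := Bool.rec (eL7134 i) (eL7135 i) (Nat.ble 7306240 i)
noncomputable def eT7128 (i : Nat) : Nat := Bool.rec (eL7137 i) (eL7138 i) (Nat.ble 7309312 i)
noncomputable def eT7129 (i : Nat) : Nat := Bool.rec (eL7136 i) (eT7128 i) (Nat.ble 7308288 i)
noncomputable def eT7130 (i : Nat) : Nat := Bool.rec (eT7127 i) (eT7129 i) (Nat.ble 7307264 i)
noncomputable def eT7131 (i : Nat) : Nat := Bool.rec (eT7126 i) (eT7130 i) (Nat.ble 7305216 i)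
noncomputable def eT7132 (i : Nat) : Nat := Bool.rec (eL7139 i) (eL7140 i) (Nat.ble 7311360 i)
noncomputable def eT7133 (i : Nat) : Nat := Bool.rec (eL7142 i) (eL7143 i) (Nat.ble 7314432 i)
noncomputable def eT7134 (i : Nat) : Nat := Bool.rec (eL7141 i) (eT7133 i) (Nat.ble 7313408 i)
noncomputable def eT7135 (i : Nat) : Nat := Bool.rec (eT7132 i) (eT7134 i) (Nat.ble 7312384 i)
noncomputable def eT7136 (i : Nat) : Nat := Bool.rec (eL7145 i) (eL7146 i) (Nat.ble 7317504 i)
noncomputable def eT7137 (i : Nat) : Nat := Bool.rec (eL7144 i) (eT7136 i) (Nat.ble 7316480 i)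
noncomputable def eT7138 (i : Nat) : Nat := Bool.rec (eL7148 i) (eL7149 i) (Nat.ble 7320576 i)
noncomputable def eT7139 (i : Nat) : Nat := Bool.rec (eL7147 i) (eT7138 i) (Nat.ble 7319552 i)
noncomputable def eT7140 (i : Nat) : Nat := Bool.rec (eT7137 i) (eT7139 i) (Nat.ble 7318528 i)
noncomputable def eT7141 (i : Nat) : Nat := Bool.rec (eT7135 i) (eT7140 i) (Nat.ble 7315456 i)
noncomputable def eT7142 (i : Nat) : Nat := Bool.rec (eT7131 i) (eT7141 i) (Nat.ble 7310336 i)
noncomputable def eT7143 (i : Nat) : Nat := Bool.rec (eT7122 i) (eT7142 i) (Nat.ble 7300096 i)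
noncomputable def eT7144 (i : Nat) : Nat := Bool.rec (eT7103 i) (eT7143 i) (Nat.ble 7279616 i)
noncomputable def eT7145 (i : Nat) : Nat := Bool.rec (eL7150 i) (eL7151 i) (Nat.ble 7322624 i)
noncomputable def eT7146 (i : Nat) : Nat := Bool.rec (eL7153 i) (eL7154 i) (Nat.ble 7325696 i)
noncomputable def eT7147 (i : Nat) : Nat := Bool.rec (eL7152 i) (eT7146 i) (Nat.ble 7324672 i)
noncomputable def eT7148 (i : Nat) : Nat := Bool.rec (eT7145 i) (eT7147 i) (Nat.ble 7323648 i)
noncomputable def eT7149 (i : Nat) : Nat := Bool.rec (eL7155 i) (eL7156 i) (Nat.ble 7327744 i)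
noncomputable def eT7150 (i : Nat) : Nat := Bool.rec (eL7158 i) (eL7159 i) (Nat.ble 7330816 i)
noncomputable def eT7151 (i : Nat) : Nat := Bool.rec (eL7157 i) (eT7150 i) (Nat.ble 7329792 i)
noncomputable def eT7152 (i : Nat) : Nat := Bool.rec (eT7149 i) (eT7151 i) (Nat.ble 7328768 i)
noncomputable def eT7153 (i : Nat) : Nat := Bool.rec (eT7148 i) (eT7152 i) (Nat.ble 7326720 i)
noncomputable def eT7154 (i : Nat) : Nat := Bool.rec (eL7160 i) (eL7161 i) (Nat.ble 7332864 i)
noncomputable def eT7155 (i : Nat) : Nat := Bool.rec (eL7163 i) (eL7164 i) (Nat.ble 7335936 i)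
noncomputable def eT7156 (i : Nat) : Nat := Bool.rec (eL7162 i) (eT7155 i) (Nat.ble 7334912 i)
noncomputable def eT7157 (i : Nat) : Nat := Bool.rec (eT7154 i) (eT7156 i) (Nat.ble 7333888 i)
noncomputable def eT7158 (i : Nat) : Nat := Bool.rec (eL7165 i) (eL7166 i) (Nat.ble 7337984 i)
noncomputable def eT7159 (i : Nat) : Nat := Bool.rec (eL7168 i) (eL7169 i) (Nat.ble 7341056 i)
noncomputable def eT7160 (i : Nat) : Nat := Bool.rec (eL7167 i) (eT7159 i) (Nat.ble 7340032 i)
noncomputable def eT7161 (i : Nat) : Nat := Bool.rec (eT7158 i) (eT7160 i) (Nat.ble 7339008 i)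
noncomputable def eT7162 (i : Nat) : Nat := Bool.rec (eT7157 i) (eT7161 i) (Nat.ble 7336960 i)
noncomputable def eT7163 (i : Nat) : Nat := Bool.rec (eT7153 i) (eT7162 i) (Nat.ble 7331840 i)
noncomputable def eT7164 (i : Nat) : Nat := Bool.rec (eL7170 i) (eL7171 i) (Nat.ble 7343104 i)
noncomputable def eT7165 (i : Nat) : Nat := Bool.rec (eL7173 i) (eL7174 i) (Nat.ble 7346176 i)
noncomputable def eT7166 (i : Nat) : Nat := Bool.rec (eL7172 i) (eT7165 i) (Nat.ble 7345152 i)
noncomputable def eT7167 (i : Nat) : Nat := Bool.rec (eT7164 i) (eT7166 i) (Nat.ble 7344128 i)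
noncomputable def eT7168 (i : Nat) : Nat := Bool.rec (eL7175 i) (eL7176 i) (Nat.ble 7348224 i)
noncomputable def eT7169 (i : Nat) : Nat := Bool.rec (eL7178 i) (eL7179 i) (Nat.ble 7351296 i)
noncomputable def eT7170 (i : Nat) : Nat := Bool.rec (eL7177 i) (eT7169 i) (Nat.ble 7350272 i)
noncomputable def eT7171 (i : Nat) : Nat := Bool.rec (eT7168 i) (eT7170 i) (Nat.ble 7349248 i)
noncomputable def eT7172 (i : Nat) : Nat := Bool.rec (eT7167 i) (eT7171 i) (Nat.ble 7347200 i)
noncomputable def eT7173 (i : Nat) : Nat := Bool.rec (eL7180 i) (eL7181 i) (Nat.ble 7353344 i)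
noncomputable def eT7174 (i : Nat) : Nat := Bool.rec (eL7183 i) (eL7184 i) (Nat.ble 7356416 i)
noncomputable def eT7175 (i : Nat) : Nat := Bool.rec (eL7182 i) (eT7174 i) (Nat.ble 7355392 i)
noncomputable def eT7176 (i : Nat) : Nat := Bool.rec (eT7173 i) (eT7175 i) (Nat.ble 7354368 i)
noncomputable def eT7177 (i : Nat) : Nat := Bool.rec (eL7186 i) (eL7187 i) (Nat.ble 7359488 i)
noncomputable def eT7178 (i : Nat) : Nat := Bool.rec (eL7185 i) (eT7177 i) (Nat.ble 7358464 i)
noncomputable def eT7179 (i : Nat) : Nat := Bool.rec (eL7189 i) (eL7190 i) (Nat.ble 7362560 i)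
noncomputable def eT7180 (i : Nat) : Nat := Bool.rec (eL7188 i) (eT7179 i) (Nat.ble 7361536 i)
noncomputable def eT7181 (i : Nat) : Nat := Bool.rec (eT7178 i) (eT7180 i) (Nat.ble 7360512 i)
noncomputable def eT7182 (i : Nat) : Nat := Bool.rec (eT7176 i) (eT7181 i) (Nat.ble 7357440 i)
noncomputable def eT7183 (i : Nat) : Nat := Bool.rec (eT7172 i) (eT7182 i) (Nat.ble 7352320 i)
noncomputable def eT7184 (i : Nat) : Nat := Bool.rec (eT7163 i) (eT7183 i) (Nat.ble 7342080 i)
noncomputable def eT7185 (i : Nat) : Nat := Bool.rec (eL7191 i) (eL7192 i) (Nat.ble 7364608 i)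
noncomputable def eT7186 (i : Nat) : Nat := Bool.rec (eL7194 i) (eL7195 i) (Nat.ble 7367680 i)
noncomputable def eT7187 (i : Nat) : Nat := Bool.rec (eL7193 i) (eT7186 i) (Nat.ble 7366656 i)
noncomputable def eT7188 (i : Nat) : Nat := Bool.rec (eT7185 i) (eT7187 i) (Nat.ble 7365632 i)
noncomputable def eT7189 (i : Nat) : Nat := Bool.rec (eL7196 i) (eL7197 i) (Nat.ble 7369728 i)
noncomputable def eT7190 (i : Nat) : Nat := Bool.rec (eL7199 i) (eL7200 i) (Nat.ble 7372800 i)
noncomputable def eT7191 (i : Nat) : Nat := Bool.rec (eL7198 i) (eT7190 i) (Nat.ble 7371776 i)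
noncomputable def eT7192 (i : Nat) : Nat := Bool.rec (eT7189 i) (eT7191 i) (Nat.ble 7370752 i)
noncomputable def eT7193 (i : Nat) : Nat := Bool.rec (eT7188 i) (eT7192 i) (Nat.ble 7368704 i)
noncomputable def eT7194 (i : Nat) : Nat := Bool.rec (eL7201 i) (eL7202 i) (Nat.ble 7374848 i)
noncomputable def eT7195 (i : Nat) : Nat := Bool.rec (eL7204 i) (eL7205 i) (Nat.ble 7377920 i)
noncomputable def eT7196 (i : Nat) : Nat := Bool.rec (eL7203 i) (eT7195 i) (Nat.ble 7376896 i)
noncomputable def eT7197 (i : Nat) : Nat := Bool.rec (eT7194 i) (eT7196 i) (Nat.ble 7375872 i)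
noncomputable def eT7198 (i : Nat) : Nat := Bool.rec (eL7207 i) (eL7208 i) (Nat.ble 7380992 i)
noncomputable def eT7199 (i : Nat) : Nat := Bool.rec (eL7206 i) (eT7198 i) (Nat.ble 7379968 i)
noncomputable def eT7200 (i : Nat) : Nat := Bool.rec (eL7210 i) (eL7211 i) (Nat.ble 7384064 i)
noncomputable def eT7201 (i : Nat) : Nat := Bool.rec (eL7209 i) (eT7200 i) (Nat.ble 7383040 i)
noncomputable def eT7202 (i : Nat) : Nat := Bool.rec (eT7199 i) (eT7201 i) (Nat.ble 7382016 i)
noncomputable def eT7203 (i : Nat) : Nat := Bool.rec (eT7197 i) (eT7202 i) (Nat.ble 7378944 i)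
noncomputable def eT7204 (i : Nat) : Nat := Bool.rec (eT7193 i) (eT7203 i) (Nat.ble 7373824 i)
noncomputable def eT7205 (i : Nat) : Nat := Bool.rec (eL7212 i) (eL7213 i) (Nat.ble 7386112 i)
noncomputable def eT7206 (i : Nat) : Nat := Bool.rec (eL7215 i) (eL7216 i) (Nat.ble 7389184 i)
noncomputable def eT7207 (i : Nat) : Nat := Bool.rec (eL7214 i) (eT7206 i) (Nat.ble 7388160 i)
noncomputable def eT7208 (i : Nat) : Nat := Bool.rec (eT7205 i) (eT7207 i) (Nat.ble 7387136 i)
noncomputable def eT7209 (i : Nat) : Nat := Bool.rec (eL7217 i) (eL7218 i) (Nat.ble 7391232 i)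
noncomputable def eT7210 (i : Nat) : Nat := Bool.rec (eL7220 i) (eL7221 i) (Nat.ble 7394304 i)
noncomputable def eT7211 (i : Nat) : Nat := Bool.rec (eL7219 i) (eT7210 i) (Nat.ble 7393280 i)
noncomputable def eT7212 (i : Nat) : Nat := Bool.rec (eT7209 i) (eT7211 i) (Nat.ble 7392256 i)
noncomputable def eT7213 (i : Nat) : Nat := Bool.rec (eT7208 i) (eT7212 i) (Nat.ble 7390208 i)
noncomputable def eT7214 (i : Nat) : Nat := Bool.rec (eL7222 i) (eL7223 i) (Nat.ble 7396352 i)
noncomputable def eT7215 (i : Nat) : Nat := Bool.rec (eL7225 i) (eL7226 i) (Nat.ble 7399424 i)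
noncomputable def eT7216 (i : Nat) : Nat := Bool.rec (eL7224 i) (eT7215 i) (Nat.ble 7398400 i)
noncomputable def eT7217 (i : Nat) : Nat := Bool.rec (eT7214 i) (eT7216 i) (Nat.ble 7397376 i)
noncomputable def eT7218 (i : Nat) : Nat := Bool.rec (eL7228 i) (eL7229 i) (Nat.ble 7402496 i)
noncomputable def eT7219 (i : Nat) : Nat := Bool.rec (eL7227 i) (eT7218 i) (Nat.ble 7401472 i)
noncomputable def eT7220 (i : Nat) : Nat := Bool.rec (eL7231 i) (eL7232 i) (Nat.ble 7405568 i)
noncomputable def eT7221 (i : Nat) : Nat := Bool.rec (eL7230 i) (eT7220 i) (Nat.ble 7404544 i)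
noncomputable def eT7222 (i : Nat) : Nat := Bool.rec (eT7219 i) (eT7221 i) (Nat.ble 7403520 i)
noncomputable def eT7223 (i : Nat) : Nat := Bool.rec (eT7217 i) (eT7222 i) (Nat.ble 7400448 i)
noncomputable def eT7224 (i : Nat) : Nat := Bool.rec (eT7213 i) (eT7223 i) (Nat.ble 7395328 i)
noncomputable def eT7225 (i : Nat) : Nat := Bool.rec (eT7204 i) (eT7224 i) (Nat.ble 7385088 i)
noncomputable def eT7226 (i : Nat) : Nat := Bool.rec (eT7184 i) (eT7225 i) (Nat.ble 7363584 i)
noncomputable def eT7227 (i : Nat) : Nat := Bool.rec (eT7144 i) (eT7226 i) (Nat.ble 7321600 i)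
noncomputable def eT7228 (i : Nat) : Nat := Bool.rec (eT7063 i) (eT7227 i) (Nat.ble 7237632 i)
noncomputable def eT7229 (i : Nat) : Nat := Bool.rec (eT6900 i) (eT7228 i) (Nat.ble 7069696 i)
noncomputable def eT7230 (i : Nat) : Nat := Bool.rec (eL7233 i) (eL7234 i) (Nat.ble 7407616 i)
noncomputable def eT7231 (i : Nat) : Nat := Bool.rec (eL7236 i) (eL7237 i) (Nat.ble 7410688 i)
noncomputable def eT7232 (i : Nat) : Nat := Bool.rec (eL7235 i) (eT7231 i) (Nat.ble 7409664 i)
noncomputable def eT7233 (i : Nat) : Nat := Bool.rec (eT7230 i) (eT7232 i) (Nat.ble 7408640 i)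
noncomputable def eT7234 (i : Nat) : Nat := Bool.rec (eL7238 i) (eL7239 i) (Nat.ble 7412736 i)
noncomputable def eT7235 (i : Nat) : Nat := Bool.rec (eL7241 i) (eL7242 i) (Nat.ble 7415808 i)
noncomputable def eT7236 (i : Nat) : Nat := Bool.rec (eL7240 i) (eT7235 i) (Nat.ble 7414784 i)
noncomputable def eT7237 (i : Nat) : Nat := Bool.rec (eT7234 i) (eT7236 i) (Nat.ble 7413760 i)
noncomputable def eT7238 (i : Nat) : Nat := Bool.rec (eT7233 i) (eT7237 i) (Nat.ble 7411712 i)
noncomputable def eT7239 (i : Nat) : Nat := Bool.rec (eL7243 i) (eL7244 i) (Nat.ble 7417856 i)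
noncomputable def eT7240 (i : Nat) : Nat := Bool.rec (eL7246 i) (eL7247 i) (Nat.ble 7420928 i)
noncomputable def eT7241 (i : Nat) : Nat := Bool.rec (eL7245 i) (eT7240 i) (Nat.ble 7419904 i)
noncomputable def eT7242 (i : Nat) : Nat := Bool.rec (eT7239 i) (eT7241 i) (Nat.ble 7418880 i)
noncomputable def eT7243 (i : Nat) : Nat := Bool.rec (eL7248 i) (eL7249 i) (Nat.ble 7422976 i)
noncomputable def eT7244 (i : Nat) : Nat := Bool.rec (eL7251 i) (eL7252 i) (Nat.ble 7426048 i)
noncomputable def eT7245 (i : Nat) : Nat := Bool.rec (eL7250 i) (eT7244 i) (Nat.ble 7425024 i)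
noncomputable def eT7246 (i : Nat) : Nat := Bool.rec (eT7243 i) (eT7245 i) (Nat.ble 7424000 i)
noncomputable def eT7247 (i : Nat) : Nat := Bool.rec (eT7242 i) (eT7246 i) (Nat.ble 7421952 i)
noncomputable def eT7248 (i : Nat) : Nat := Bool.rec (eT7238 i) (eT7247 i) (Nat.ble 7416832 i)
noncomputable def eT7249 (i : Nat) : Nat := Bool.rec (eL7253 i) (eL7254 i) (Nat.ble 7428096 i)
noncomputable def eT7250 (i : Nat) : Nat := Bool.rec (eL7256 i) (eL7257 i) (Nat.ble 7431168 i)
noncomputable def eT7251 (i : Nat) : Nat := Bool.rec (eL7255 i) (eT7250 i) (Nat.ble 7430144 i)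
noncomputable def eT7252 (i : Nat) : Nat := Bool.rec (eT7249 i) (eT7251 i) (Nat.ble 7429120 i)
noncomputable def eT7253 (i : Nat) : Nat := Bool.rec (eL7258 i) (eL7259 i) (Nat.ble 7433216 i)
noncomputable def eT7254 (i : Nat) : Nat := Bool.rec (eL7261 i) (eL7262 i) (Nat.ble 7436288 i)
noncomputable def eT7255 (i : Nat) : Nat := Bool.rec (eL7260 i) (eT7254 i) (Nat.ble 7435264 i)
noncomputable def eT7256 (i : Nat) : Nat := Bool.rec (eT7253 i) (eT7255 i) (Nat.ble 7434240 i)
noncomputable def eT7257 (i : Nat) : Nat := Bool.rec (eT7252 i) (eT7256 i) (Nat.ble 7432192 i)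
noncomputable def eT7258 (i : Nat) : Nat := Bool.rec (eL7263 i) (eL7264 i) (Nat.ble 7438336 i)
noncomputable def eT7259 (i : Nat) : Nat := Bool.rec (eL7266 i) (eL7267 i) (Nat.ble 7441408 i)
noncomputable def eT7260 (i : Nat) : Nat := Bool.rec (eL7265 i) (eT7259 i) (Nat.ble 7440384 i)
noncomputable def eT7261 (i : Nat) : Nat := Bool.rec (eT7258 i) (eT7260 i) (Nat.ble 7439360 i)
noncomputable def eT7262 (i : Nat) : Nat := Bool.rec (eL7269 i) (eL7270 i) (Nat.ble 7444480 i)
noncomputable def eT7263 (i : Nat) : Nat := Bool.rec (eL7268 i) (eT7262 i) (Nat.ble 7443456 i)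
noncomputable def eT7264 (i : Nat) : Nat := Bool.rec (eL7272 i) (eL7273 i) (Nat.ble 7447552 i)
noncomputable def eT7265 (i : Nat) : Nat := Bool.rec (eL7271 i) (eT7264 i) (Nat.ble 7446528 i)
noncomputable def eT7266 (i : Nat) : Nat := Bool.rec (eT7263 i) (eT7265 i) (Nat.ble 7445504 i)
noncomputable def eT7267 (i : Nat) : Nat := Bool.rec (eT7261 i) (eT7266 i) (Nat.ble 7442432 i)
noncomputable def eT7268 (i : Nat) : Nat := Bool.rec (eT7257 i) (eT7267 i) (Nat.ble 7437312 i)
noncomputable def eT7269 (i : Nat) : Nat := Bool.rec (eT7248 i) (eT7268 i) (Nat.ble 7427072 i)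
noncomputable def eT7270 (i : Nat) : Nat := Bool.rec (eL7274 i) (eL7275 i) (Nat.ble 7449600 i)
noncomputable def eT7271 (i : Nat) : Nat := Bool.rec (eL7277 i) (eL7278 i) (Nat.ble 7452672 i)
noncomputable def eT7272 (i : Nat) : Nat := Bool.rec (eL7276 i) (eT7271 i) (Nat.ble 7451648 i)
noncomputable def eT7273 (i : Nat) : Nat := Bool.rec (eT7270 i) (eT7272 i) (Nat.ble 7450624 i)
noncomputable def eT7274 (i : Nat) : Nat := Bool.rec (eL7279 i) (eL7280 i) (Nat.ble 7454720 i)
noncomputable def eT7275 (i : Nat) : Nat := Bool.rec (eL7282 i) (eL7283 i) (Nat.ble 7457792 i)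
noncomputable def eT7276 (i : Nat) : Nat := Bool.rec (eL7281 i) (eT7275 i) (Nat.ble 7456768 i)
noncomputable def eT7277 (i : Nat) : Nat := Bool.rec (eT7274 i) (eT7276 i) (Nat.ble 7455744 i)
noncomputable def eT7278 (i : Nat) : Nat := Bool.rec (eT7273 i) (eT7277 i) (Nat.ble 7453696 i)
noncomputable def eT7279 (i : Nat) : Nat := Bool.rec (eL7284 i) (eL7285 i) (Nat.ble 7459840 i)
noncomputable def eT7280 (i : Nat) : Nat := Bool.rec (eL7287 i) (eL7288 i) (Nat.ble 7462912 i)
noncomputable def eT7281 (i : Nat) : Nat := Bool.rec (eL7286 i) (eT7280 i) (Nat.ble 7461888 i)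
noncomputable def eT7282 (i : Nat) : Nat := Bool.rec (eT7279 i) (eT7281 i) (Nat.ble 7460864 i)
noncomputable def eT7283 (i : Nat) : Nat := Bool.rec (eL7289 i) (eL7290 i) (Nat.ble 7464960 i)
noncomputable def eT7284 (i : Nat) : Nat := Bool.rec (eL7292 i) (eL7293 i) (Nat.ble 7468032 i)
noncomputable def eT7285 (i : Nat) : Nat := Bool.rec (eL7291 i) (eT7284 i) (Nat.ble 7467008 i)
noncomputable def eT7286 (i : Nat) : Nat := Bool.rec (eT7283 i) (eT7285 i) (Nat.ble 7465984 i)
noncomputable def eT7287 (i : Nat) : Nat := Bool.rec (eT7282 i) (eT7286 i) (Nat.ble 7463936 i)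
noncomputable def eT7288 (i : Nat) : Nat := Bool.rec (eT7278 i) (eT7287 i) (Nat.ble 7458816 i)
noncomputable def eT7289 (i : Nat) : Nat := Bool.rec (eL7294 i) (eL7295 i) (Nat.ble 7470080 i)
noncomputable def eT7290 (i : Nat) : Nat := Bool.rec (eL7297 i) (eL7298 i) (Nat.ble 7473152 i)
noncomputable def eT7291 (i : Nat) : Nat := Bool.rec (eL7296 i) (eT7290 i) (Nat.ble 7472128 i)
noncomputable def eT7292 (i : Nat) : Nat := Bool.rec (eT7289 i) (eT7291 i) (Nat.ble 7471104 i)
noncomputable def eT7293 (i : Nat) : Nat := Bool.rec (eL7299 i) (eL7300 i) (Nat.ble 7475200 i)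
noncomputable def eT7294 (i : Nat) : Nat := Bool.rec (eL7302 i) (eL7303 i) (Nat.ble 7478272 i)
noncomputable def eT7295 (i : Nat) : Nat := Bool.rec (eL7301 i) (eT7294 i) (Nat.ble 7477248 i)
noncomputable def eT7296 (i : Nat) : Nat := Bool.rec (eT7293 i) (eT7295 i) (Nat.ble 7476224 i)
noncomputable def eT7297 (i : Nat) : Nat := Bool.rec (eT7292 i) (eT7296 i) (Nat.ble 7474176 i)
noncomputable def eT7298 (i : Nat) : Nat := Bool.rec (eL7304 i) (eL7305 i) (Nat.ble 7480320 i)
noncomputable def eT7299 (i : Nat) : Nat := Bool.rec (eL7307 i) (eL7308 i) (Nat.ble 7483392 i)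
noncomputable def eT7300 (i : Nat) : Nat := Bool.rec (eL7306 i) (eT7299 i) (Nat.ble 7482368 i)
noncomputable def eT7301 (i : Nat) : Nat := Bool.rec (eT7298 i) (eT7300 i) (Nat.ble 7481344 i)
noncomputable def eT7302 (i : Nat) : Nat := Bool.rec (eL7310 i) (eL7311 i) (Nat.ble 7486464 i)
noncomputable def eT7303 (i : Nat) : Nat := Bool.rec (eL7309 i) (eT7302 i) (Nat.ble 7485440 i)
noncomputable def eT7304 (i : Nat) : Nat := Bool.rec (eL7313 i) (eL7314 i) (Nat.ble 7489536 i)
noncomputable def eT7305 (i : Nat) : Nat := Bool.rec (eL7312 i) (eT7304 i) (Nat.ble 7488512 i)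
noncomputable def eT7306 (i : Nat) : Nat := Bool.rec (eT7303 i) (eT7305 i) (Nat.ble 7487488 i)
noncomputable def eT7307 (i : Nat) : Nat := Bool.rec (eT7301 i) (eT7306 i) (Nat.ble 7484416 i)
noncomputable def eT7308 (i : Nat) : Nat := Bool.rec (eT7297 i) (eT7307 i) (Nat.ble 7479296 i)
noncomputable def eT7309 (i : Nat) : Nat := Bool.rec (eT7288 i) (eT7308 i) (Nat.ble 7469056 i)
noncomputable def eT7310 (i : Nat) : Nat := Bool.rec (eT7269 i) (eT7309 i) (Nat.ble 7448576 i)
noncomputable def eT7311 (i : Nat) : Nat := Bool.rec (eL7315 i) (eL7316 i) (Nat.ble 7491584 i)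
noncomputable def eT7312 (i : Nat) : Nat := Bool.rec (eL7318 i) (eL7319 i) (Nat.ble 7494656 i)
noncomputable def eT7313 (i : Nat) : Nat := Bool.rec (eL7317 i) (eT7312 i) (Nat.ble 7493632 i)
noncomputable def eT7314 (i : Nat) : Nat := Bool.rec (eT7311 i) (eT7313 i) (Nat.ble 7492608 i)
noncomputable def eT7315 (i : Nat) : Nat := Bool.rec (eL7320 i) (eL7321 i) (Nat.ble 7496704 i)
noncomputable def eT7316 (i : Nat) : Nat := Bool.rec (eL7323 i) (eL7324 i) (Nat.ble 7499776 i)
noncomputable def eT7317 (i : Nat) : Nat := Bool.rec (eL7322 i) (eT7316 i) (Nat.ble 7498752 i)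
noncomputable def eT7318 (i : Nat) : Nat := Bool.rec (eT7315 i) (eT7317 i) (Nat.ble 7497728 i)
noncomputable def eT7319 (i : Nat) : Nat := Bool.rec (eT7314 i) (eT7318 i) (Nat.ble 7495680 i)
noncomputable def eT7320 (i : Nat) : Nat := Bool.rec (eL7325 i) (eL7326 i) (Nat.ble 7501824 i)
noncomputable def eT7321 (i : Nat) : Nat := Bool.rec (eL7328 i) (eL7329 i) (Nat.ble 7504896 i)
noncomputable def eT7322 (i : Nat) : Nat := Bool.rec (eL7327 i) (eT7321 i) (Nat.ble 7503872 i)
noncomputable def eT7323 (i : Nat) : Nat := Bool.rec (eT7320 i) (eT7322 i) (Nat.ble 7502848 i)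
noncomputable def eT7324 (i : Nat) : Nat := Bool.rec (eL7330 i) (eL7331 i) (Nat.ble 7506944 i)
noncomputable def eT7325 (i : Nat) : Nat := Bool.rec (eL7333 i) (eL7334 i) (Nat.ble 7510016 i)
noncomputable def eT7326 (i : Nat) : Nat := Bool.rec (eL7332 i) (eT7325 i) (Nat.ble 7508992 i)
noncomputable def eT7327 (i : Nat) : Nat := Bool.rec (eT7324 i) (eT7326 i) (Nat.ble 7507968 i)
noncomputable def eT7328 (i : Nat) : Nat := Bool.rec (eT7323 i) (eT7327 i) (Nat.ble 7505920 i)
noncomputable def eT7329 (i : Nat) : Nat := Bool.rec (eT7319 i) (eT7328 i) (Nat.ble 7500800 i)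
noncomputable def eT7330 (i : Nat) : Nat := Bool.rec (eL7335 i) (eL7336 i) (Nat.ble 7512064 i)
noncomputable def eT7331 (i : Nat) : Nat := Bool.rec (eL7338 i) (eL7339 i) (Nat.ble 7515136 i)
noncomputable def eT7332 (i : Nat) : Nat := Bool.rec (eL7337 i) (eT7331 i) (Nat.ble 7514112 i)
noncomputable def eT7333 (i : Nat) : Nat := Bool.rec (eT7330 i) (eT7332 i) (Nat.ble 7513088 i)
noncomputable def eT7334 (i : Nat) : Nat := Bool.rec (eL7340 i) (eL7341 i) (Nat.ble 7517184 i)
noncomputable def eT7335 (i : Nat) : Nat := Bool.rec (eL7343 i) (eL7344 i) (Nat.ble 7520256 i)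
noncomputable def eT7336 (i : Nat) : Nat := Bool.rec (eL7342 i) (eT7335 i) (Nat.ble 7519232 i)
noncomputable def eT7337 (i : Nat) : Nat := Bool.rec (eT7334 i) (eT7336 i) (Nat.ble 7518208 i)
noncomputable def eT7338 (i : Nat) : Nat := Bool.rec (eT7333 i) (eT7337 i) (Nat.ble 7516160 i)
noncomputable def eT7339 (i : Nat) : Nat := Bool.rec (eL7345 i) (eL7346 i) (Nat.ble 7522304 i)
noncomputable def eT7340 (i : Nat) : Nat := Bool.rec (eL7348 i) (eL7349 i) (Nat.ble 7525376 i)
noncomputable def eT7341 (i : Nat) : Nat := Bool.rec (eL7347 i) (eT7340 i) (Nat.ble 7524352 i)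
noncomputable def eT7342 (i : Nat) : Nat := Bool.rec (eT7339 i) (eT7341 i) (Nat.ble 7523328 i)
noncomputable def eT7343 (i : Nat) : Nat := Bool.rec (eL7351 i) (eL7352 i) (Nat.ble 7528448 i)
noncomputable def eT7344 (i : Nat) : Nat := Bool.rec (eL7350 i) (eT7343 i) (Nat.ble 7527424 i)
noncomputable def eT7345 (i : Nat) : Nat := Bool.rec (eL7354 i) (eL7355 i) (Nat.ble 7531520 i)
noncomputable def eT7346 (i : Nat) : Nat := Bool.rec (eL7353 i) (eT7345 i) (Nat.ble 7530496 i)
noncomputable def eT7347 (i : Nat) : Nat := Bool.rec (eT7344 i) (eT7346 i) (Nat.ble 7529472 i)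
noncomputable def eT7348 (i : Nat) : Nat := Bool.rec (eT7342 i) (eT7347 i) (Nat.ble 7526400 i)
noncomputable def eT7349 (i : Nat) : Nat := Bool.rec (eT7338 i) (eT7348 i) (Nat.ble 7521280 i)
noncomputable def eT7350 (i : Nat) : Nat := Bool.rec (eT7329 i) (eT7349 i) (Nat.ble 7511040 i)
noncomputable def eT7351 (i : Nat) : Nat := Bool.rec (eL7356 i) (eL7357 i) (Nat.ble 7533568 i)
noncomputable def eT7352 (i : Nat) : Nat := Bool.rec (eL7359 i) (eL7360 i) (Nat.ble 7536640 i)
noncomputable def eT7353 (i : Nat) : Nat := Bool.rec (eL7358 i) (eT7352 i) (Nat.ble 7535616 i)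
noncomputable def eT7354 (i : Nat) : Nat := Bool.rec (eT7351 i) (eT7353 i) (Nat.ble 7534592 i)
noncomputable def eT7355 (i : Nat) : Nat := Bool.rec (eL7361 i) (eL7362 i) (Nat.ble 7538688 i)
noncomputable def eT7356 (i : Nat) : Nat := Bool.rec (eL7364 i) (eL7365 i) (Nat.ble 7541760 i)
noncomputable def eT7357 (i : Nat) : Nat := Bool.rec (eL7363 i) (eT7356 i) (Nat.ble 7540736 i)
noncomputable def eT7358 (i : Nat) : Nat := Bool.rec (eT7355 i) (eT7357 i) (Nat.ble 7539712 i)
noncomputable def eT7359 (i : Nat) : Nat := Bool.rec (eT7354 i) (eT7358 i) (Nat.ble 7537664 i)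
noncomputable def eT7360 (i : Nat) : Nat := Bool.rec (eL7366 i) (eL7367 i) (Nat.ble 7543808 i)
noncomputable def eT7361 (i : Nat) : Nat := Bool.rec (eL7369 i) (eL7370 i) (Nat.ble 7546880 i)
noncomputable def eT7362 (i : Nat) : Nat := Bool.rec (eL7368 i) (eT7361 i) (Nat.ble 7545856 i)
noncomputable def eT7363 (i : Nat) : Nat := Bool.rec (eT7360 i) (eT7362 i) (Nat.ble 7544832 i)
noncomputable def eT7364 (i : Nat) : Nat := Bool.rec (eL7371 i) (eL7372 i) (Nat.ble 7548928 i)
noncomputable def eT7365 (i : Nat) : Nat := Bool.rec (eL7374 i) (eL7375 i) (Nat.ble 7552000 i)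
noncomputable def eT7366 (i : Nat) : Nat := Bool.rec (eL7373 i) (eT7365 i) (Nat.ble 7550976 i)
noncomputable def eT7367 (i : Nat) : Nat := Bool.rec (eT7364 i) (eT7366 i) (Nat.ble 7549952 i)
noncomputable def eT7368 (i : Nat) : Nat := Bool.rec (eT7363 i) (eT7367 i) (Nat.ble 7547904 i)
noncomputable def eT7369 (i : Nat) : Nat := Bool.rec (eT7359 i) (eT7368 i) (Nat.ble 7542784 i)
noncomputable def eT7370 (i : Nat) : Nat := Bool.rec (eL7376 i) (eL7377 i) (Nat.ble 7554048 i)
noncomputable def eT7371 (i : Nat) : Nat := Bool.rec (eL7379 i) (eL7380 i) (Nat.ble 7557120 i)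
noncomputable def eT7372 (i : Nat) : Nat := Bool.rec (eL7378 i) (eT7371 i) (Nat.ble 7556096 i)
noncomputable def eT7373 (i : Nat) : Nat := Bool.rec (eT7370 i) (eT7372 i) (Nat.ble 7555072 i)
noncomputable def eT7374 (i : Nat) : Nat := Bool.rec (eL7381 i) (eL7382 i) (Nat.ble 7559168 i)
noncomputable def eT7375 (i : Nat) : Nat := Bool.rec (eL7384 i) (eL7385 i) (Nat.ble 7562240 i)
noncomputable def eT7376 (i : Nat) : Nat := Bool.rec (eL7383 i) (eT7375 i) (Nat.ble 7561216 i)
noncomputable def eT7377 (i : Nat) : Nat := Bool.rec (eT7374 i) (eT7376 i) (Nat.ble 7560192 i)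
noncomputable def eT7378 (i : Nat) : Nat := Bool.rec (eT7373 i) (eT7377 i) (Nat.ble 7558144 i)
noncomputable def eT7379 (i : Nat) : Nat := Bool.rec (eL7386 i) (eL7387 i) (Nat.ble 7564288 i)
noncomputable def eT7380 (i : Nat) : Nat := Bool.rec (eL7389 i) (eL7390 i) (Nat.ble 7567360 i)
noncomputable def eT7381 (i : Nat) : Nat := Bool.rec (eL7388 i) (eT7380 i) (Nat.ble 7566336 i)
noncomputable def eT7382 (i : Nat) : Nat := Bool.rec (eT7379 i) (eT7381 i) (Nat.ble 7565312 i)
noncomputable def eT7383 (i : Nat) : Nat := Bool.rec (eL7392 i) (eL7393 i) (Nat.ble 7570432 i)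
noncomputable def eT7384 (i : Nat) : Nat := Bool.rec (eL7391 i) (eT7383 i) (Nat.ble 7569408 i)
noncomputable def eT7385 (i : Nat) : Nat := Bool.rec (eL7395 i) (eL7396 i) (Nat.ble 7573504 i)
noncomputable def eT7386 (i : Nat) : Nat := Bool.rec (eL7394 i) (eT7385 i) (Nat.ble 7572480 i)
noncomputable def eT7387 (i : Nat) : Nat := Bool.rec (eT7384 i) (eT7386 i) (Nat.ble 7571456 i)
noncomputable def eT7388 (i : Nat) : Nat := Bool.rec (eT7382 i) (eT7387 i) (Nat.ble 7568384 i)
noncomputable def eT7389 (i : Nat) : Nat := Bool.rec (eT7378 i) (eT7388 i) (Nat.ble 7563264 i)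
noncomputable def eT7390 (i : Nat) : Nat := Bool.rec (eT7369 i) (eT7389 i) (Nat.ble 7553024 i)
noncomputable def eT7391 (i : Nat) : Nat := Bool.rec (eT7350 i) (eT7390 i) (Nat.ble 7532544 i)
noncomputable def eT7392 (i : Nat) : Nat := Bool.rec (eT7310 i) (eT7391 i) (Nat.ble 7490560 i)
noncomputable def eT7393 (i : Nat) : Nat := Bool.rec (eL7397 i) (eL7398 i) (Nat.ble 7575552 i)
noncomputable def eT7394 (i : Nat) : Nat := Bool.rec (eL7400 i) (eL7401 i) (Nat.ble 7578624 i)
noncomputable def eT7395 (i : Nat) : Nat := Bool.rec (eL7399 i) (eT7394 i) (Nat.ble 7577600 i)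
noncomputable def eT7396 (i : Nat) : Nat := Bool.rec (eT7393 i) (eT7395 i) (Nat.ble 7576576 i)
noncomputable def eT7397 (i : Nat) : Nat := Bool.rec (eL7402 i) (eL7403 i) (Nat.ble 7580672 i)
noncomputable def eT7398 (i : Nat) : Nat := Bool.rec (eL7405 i) (eL7406 i) (Nat.ble 7583744 i)
noncomputable def eT7399 (i : Nat) : Nat := Bool.rec (eL7404 i) (eT7398 i) (Nat.ble 7582720 i)
noncomputable def eT7400 (i : Nat) : Nat := Bool.rec (eT7397 i) (eT7399 i) (Nat.ble 7581696 i)
noncomputable def eT7401 (i : Nat) : Nat := Bool.rec (eT7396 i) (eT7400 i) (Nat.ble 7579648 i)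
noncomputable def eT7402 (i : Nat) : Nat := Bool.rec (eL7407 i) (eL7408 i) (Nat.ble 7585792 i)
noncomputable def eT7403 (i : Nat) : Nat := Bool.rec (eL7410 i) (eL7411 i) (Nat.ble 7588864 i)
noncomputable def eT7404 (i : Nat) : Nat := Bool.rec (eL7409 i) (eT7403 i) (Nat.ble 7587840 i)
noncomputable def eT7405 (i : Nat) : Nat := Bool.rec (eT7402 i) (eT7404 i) (Nat.ble 7586816 i)
noncomputable def eT7406 (i : Nat) : Nat := Bool.rec (eL7412 i) (eL7413 i) (Nat.ble 7590912 i)
noncomputable def eT7407 (i : Nat) : Nat := Bool.rec (eL7415 i) (eL7416 i) (Nat.ble 7593984 i)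
noncomputable def eT7408 (i : Nat) : Nat := Bool.rec (eL7414 i) (eT7407 i) (Nat.ble 7592960 i)
noncomputable def eT7409 (i : Nat) : Nat := Bool.rec (eT7406 i) (eT7408 i) (Nat.ble 7591936 i)
noncomputable def eT7410 (i : Nat) : Nat := Bool.rec (eT7405 i) (eT7409 i) (Nat.ble 7589888 i)
noncomputable def eT7411 (i : Nat) : Nat := Bool.rec (eT7401 i) (eT7410 i) (Nat.ble 7584768 i)
noncomputable def eT7412 (i : Nat) : Nat := Bool.rec (eL7417 i) (eL7418 i) (Nat.ble 7596032 i)
noncomputable def eT7413 (i : Nat) : Nat := Bool.rec (eL7420 i) (eL7421 i) (Nat.ble 7599104 i)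
noncomputable def eT7414 (i : Nat) : Nat := Bool.rec (eL7419 i) (eT7413 i) (Nat.ble 7598080 i)
noncomputable def eT7415 (i : Nat) : Nat := Bool.rec (eT7412 i) (eT7414 i) (Nat.ble 7597056 i)
noncomputable def eT7416 (i : Nat) : Nat := Bool.rec (eL7422 i) (eL7423 i) (Nat.ble 7601152 i)
noncomputable def eT7417 (i : Nat) : Nat := Bool.rec (eL7425 i) (eL7426 i) (Nat.ble 7604224 i)
noncomputable def eT7418 (i : Nat) : Nat := Bool.rec (eL7424 i) (eT7417 i) (Nat.ble 7603200 i)
noncomputable def eT7419 (i : Nat) : Nat := Bool.rec (eT7416 i) (eT7418 i) (Nat.ble 7602176 i)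
noncomputable def eT7420 (i : Nat) : Nat := Bool.rec (eT7415 i) (eT7419 i) (Nat.ble 7600128 i)
noncomputable def eT7421 (i : Nat) : Nat := Bool.rec (eL7427 i) (eL7428 i) (Nat.ble 7606272 i)
noncomputable def eT7422 (i : Nat) : Nat := Bool.rec (eL7430 i) (eL7431 i) (Nat.ble 7609344 i)
noncomputable def eT7423 (i : Nat) : Nat := Bool.rec (eL7429 i) (eT7422 i) (Nat.ble 7608320 i)
noncomputable def eT7424 (i : Nat) : Nat := Bool.rec (eT7421 i) (eT7423 i) (Nat.ble 7607296 i)
noncomputable def eT7425 (i : Nat) : Nat := Bool.rec (eL7433 i) (eL7434 i) (Nat.ble 7612416 i)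
noncomputable def eT7426 (i : Nat) : Nat := Bool.rec (eL7432 i) (eT7425 i) (Nat.ble 7611392 i)
noncomputable def eT7427 (i : Nat) : Nat := Bool.rec (eL7436 i) (eL7437 i) (Nat.ble 7615488 i)
noncomputable def eT7428 (i : Nat) : Nat := Bool.rec (eL7435 i) (eT7427 i) (Nat.ble 7614464 i)
noncomputable def eT7429 (i : Nat) : Nat := Bool.rec (eT7426 i) (eT7428 i) (Nat.ble 7613440 i)
noncomputable def eT7430 (i : Nat) : Nat := Bool.rec (eT7424 i) (eT7429 i) (Nat.ble 7610368 i)
noncomputable def eT7431 (i : Nat) : Nat := Bool.rec (eT7420 i) (eT7430 i) (Nat.ble 7605248 i)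
noncomputable def eT7432 (i : Nat) : Nat := Bool.rec (eT7411 i) (eT7431 i) (Nat.ble 7595008 i)
noncomputable def eT7433 (i : Nat) : Nat := Bool.rec (eL7438 i) (eL7439 i) (Nat.ble 7617536 i)
noncomputable def eT7434 (i : Nat) : Nat := Bool.rec (eL7441 i) (eL7442 i) (Nat.ble 7620608 i)
noncomputable def eT7435 (i : Nat) : Nat := Bool.rec (eL7440 i) (eT7434 i) (Nat.ble 7619584 i)
noncomputable def eT7436 (i : Nat) : Nat := Bool.rec (eT7433 i) (eT7435 i) (Nat.ble 7618560 i)
noncomputable def eT7437 (i : Nat) : Nat := Bool.rec (eL7443 i) (eL7444 i) (Nat.ble 7622656 i)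
noncomputable def eT7438 (i : Nat) : Nat := Bool.rec (eL7446 i) (eL7447 i) (Nat.ble 7625728 i)
noncomputable def eT7439 (i : Nat) : Nat := Bool.rec (eL7445 i) (eT7438 i) (Nat.ble 7624704 i)
noncomputable def eT7440 (i : Nat) : Nat := Bool.rec (eT7437 i) (eT7439 i) (Nat.ble 7623680 i)
noncomputable def eT7441 (i : Nat) : Nat := Bool.rec (eT7436 i) (eT7440 i) (Nat.ble 7621632 i)
noncomputable def eT7442 (i : Nat) : Nat := Bool.rec (eL7448 i) (eL7449 i) (Nat.ble 7627776 i)
noncomputable def eT7443 (i : Nat) : Nat := Bool.rec (eL7451 i) (eL7452 i) (Nat.ble 7630848 i)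
noncomputable def eT7444 (i : Nat) : Nat := Bool.rec (eL7450 i) (eT7443 i) (Nat.ble 7629824 i)
noncomputable def eT7445 (i : Nat) : Nat := Bool.rec (eT7442 i) (eT7444 i) (Nat.ble 7628800 i)
noncomputable def eT7446 (i : Nat) : Nat := Bool.rec (eL7453 i) (eL7454 i) (Nat.ble 7632896 i)
noncomputable def eT7447 (i : Nat) : Nat := Bool.rec (eL7456 i) (eL7457 i) (Nat.ble 7635968 i)
noncomputable def eT7448 (i : Nat) : Nat := Bool.rec (eL7455 i) (eT7447 i) (Nat.ble 7634944 i)
noncomputable def eT7449 (i : Nat) : Nat := Bool.rec (eT7446 i) (eT7448 i) (Nat.ble 7633920 i)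
noncomputable def eT7450 (i : Nat) : Nat := Bool.rec (eT7445 i) (eT7449 i) (Nat.ble 7631872 i)
noncomputable def eT7451 (i : Nat) : Nat := Bool.rec (eT7441 i) (eT7450 i) (Nat.ble 7626752 i)
noncomputable def eT7452 (i : Nat) : Nat := Bool.rec (eL7458 i) (eL7459 i) (Nat.ble 7638016 i)
noncomputable def eT7453 (i : Nat) : Nat := Bool.rec (eL7461 i) (eL7462 i) (Nat.ble 7641088 i)
noncomputable def eT7454 (i : Nat) : Nat := Bool.rec (eL7460 i) (eT7453 i) (Nat.ble 7640064 i)
noncomputable def eT7455 (i : Nat) : Nat := Bool.rec (eT7452 i) (eT7454 i) (Nat.ble 7639040 i)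
noncomputable def eT7456 (i : Nat) : Nat := Bool.rec (eL7463 i) (eL7464 i) (Nat.ble 7643136 i)
noncomputable def eT7457 (i : Nat) : Nat := Bool.rec (eL7466 i) (eL7467 i) (Nat.ble 7646208 i)
noncomputable def eT7458 (i : Nat) : Nat := Bool.rec (eL7465 i) (eT7457 i) (Nat.ble 7645184 i)
noncomputable def eT7459 (i : Nat) : Nat := Bool.rec (eT7456 i) (eT7458 i) (Nat.ble 7644160 i)
noncomputable def eT7460 (i : Nat) : Nat := Bool.rec (eT7455 i) (eT7459 i) (Nat.ble 7642112 i)
noncomputable def eT7461 (i : Nat) : Nat := Bool.rec (eL7468 i) (eL7469 i) (Nat.ble 7648256 i)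
noncomputable def eT7462 (i : Nat) : Nat := Bool.rec (eL7471 i) (eL7472 i) (Nat.ble 7651328 i)
noncomputable def eT7463 (i : Nat) : Nat := Bool.rec (eL7470 i) (eT7462 i) (Nat.ble 7650304 i)
noncomputable def eT7464 (i : Nat) : Nat := Bool.rec (eT7461 i) (eT7463 i) (Nat.ble 7649280 i)
noncomputable def eT7465 (i : Nat) : Nat := Bool.rec (eL7474 i) (eL7475 i) (Nat.ble 7654400 i)
noncomputable def eT7466 (i : Nat) : Nat := Bool.rec (eL7473 i) (eT7465 i) (Nat.ble 7653376 i)
noncomputable def eT7467 (i : Nat) : Nat := Bool.rec (eL7477 i) (eL7478 i) (Nat.ble 7657472 i)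
noncomputable def eT7468 (i : Nat) : Nat := Bool.rec (eL7476 i) (eT7467 i) (Nat.ble 7656448 i)
noncomputable def eT7469 (i : Nat) : Nat := Bool.rec (eT7466 i) (eT7468 i) (Nat.ble 7655424 i)
noncomputable def eT7470 (i : Nat) : Nat := Bool.rec (eT7464 i) (eT7469 i) (Nat.ble 7652352 i)
noncomputable def eT7471 (i : Nat) : Nat := Bool.rec (eT7460 i) (eT7470 i) (Nat.ble 7647232 i)
noncomputable def eT7472 (i : Nat) : Nat := Bool.rec (eT7451 i) (eT7471 i) (Nat.ble 7636992 i)
noncomputable def eT7473 (i : Nat) : Nat := Bool.rec (eT7432 i) (eT7472 i) (Nat.ble 7616512 i)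
noncomputable def eT7474 (i : Nat) : Nat := Bool.rec (eL7479 i) (eL7480 i) (Nat.ble 7659520 i)
noncomputable def eT7475 (i : Nat) : Nat := Bool.rec (eL7482 i) (eL7483 i) (Nat.ble 7662592 i)
noncomputable def eT7476 (i : Nat) : Nat := Bool.rec (eL7481 i) (eT7475 i) (Nat.ble 7661568 i)
noncomputable def eT7477 (i : Nat) : Nat := Bool.rec (eT7474 i) (eT7476 i) (Nat.ble 7660544 i)
noncomputable def eT7478 (i : Nat) : Nat := Bool.rec (eL7484 i) (eL7485 i) (Nat.ble 7664640 i)
noncomputable def eT7479 (i : Nat) : Nat := Bool.rec (eL7487 i) (eL7488 i) (Nat.ble 7667712 i)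
noncomputable def eT7480 (i : Nat) : Nat := Bool.rec (eL7486 i) (eT7479 i) (Nat.ble 7666688 i)
noncomputable def eT7481 (i : Nat) : Nat := Bool.rec (eT7478 i) (eT7480 i) (Nat.ble 7665664 i)
noncomputable def eT7482 (i : Nat) : Nat := Bool.rec (eT7477 i) (eT7481 i) (Nat.ble 7663616 i)
noncomputable def eT7483 (i : Nat) : Nat := Bool.rec (eL7489 i) (eL7490 i) (Nat.ble 7669760 i)
noncomputable def eT7484 (i : Nat) : Nat := Bool.rec (eL7492 i) (eL7493 i) (Nat.ble 7672832 i)
noncomputable def eT7485 (i : Nat) : Nat := Bool.rec (eL7491 i) (eT7484 i) (Nat.ble 7671808 i)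
noncomputable def eT7486 (i : Nat) : Nat := Bool.rec (eT7483 i) (eT7485 i) (Nat.ble 7670784 i)
noncomputable def eT7487 (i : Nat) : Nat := Bool.rec (eL7494 i) (eL7495 i) (Nat.ble 7674880 i)
noncomputable def eT7488 (i : Nat) : Nat := Bool.rec (eL7497 i) (eL7498 i) (Nat.ble 7677952 i)
noncomputable def eT7489 (i : Nat) : Nat := Bool.rec (eL7496 i) (eT7488 i) (Nat.ble 7676928 i)
noncomputable def eT7490 (i : Nat) : Nat := Bool.rec (eT7487 i) (eT7489 i) (Nat.ble 7675904 i)
noncomputable def eT7491 (i : Nat) : Nat := Bool.rec (eT7486 i) (eT7490 i) (Nat.ble 7673856 i)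
noncomputable def eT7492 (i : Nat) : Nat := Bool.rec (eT7482 i) (eT7491 i) (Nat.ble 7668736 i)
noncomputable def eT7493 (i : Nat) : Nat := Bool.rec (eL7499 i) (eL7500 i) (Nat.ble 7680000 i)
noncomputable def eT7494 (i : Nat) : Nat := Bool.rec (eL7502 i) (eL7503 i) (Nat.ble 7683072 i)
noncomputable def eT7495 (i : Nat) : Nat := Bool.rec (eL7501 i) (eT7494 i) (Nat.ble 7682048 i)
noncomputable def eT7496 (i : Nat) : Nat := Bool.rec (eT7493 i) (eT7495 i) (Nat.ble 7681024 i)
noncomputable def eT7497 (i : Nat) : Nat := Bool.rec (eL7504 i) (eL7505 i) (Nat.ble 7685120 i)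
noncomputable def eT7498 (i : Nat) : Nat := Bool.rec (eL7507 i) (eL7508 i) (Nat.ble 7688192 i)
noncomputable def eT7499 (i : Nat) : Nat := Bool.rec (eL7506 i) (eT7498 i) (Nat.ble 7687168 i)
noncomputable def eT7500 (i : Nat) : Nat := Bool.rec (eT7497 i) (eT7499 i) (Nat.ble 7686144 i)
noncomputable def eT7501 (i : Nat) : Nat := Bool.rec (eT7496 i) (eT7500 i) (Nat.ble 7684096 i)
noncomputable def eT7502 (i : Nat) : Nat := Bool.rec (eL7509 i) (eL7510 i) (Nat.ble 7690240 i)
noncomputable def eT7503 (i : Nat) : Nat := Bool.rec (eL7512 i) (eL7513 i) (Nat.ble 7693312 i)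
noncomputable def eT7504 (i : Nat) : Nat := Bool.rec (eL7511 i) (eT7503 i) (Nat.ble 7692288 i)
noncomputable def eT7505 (i : Nat) : Nat := Bool.rec (eT7502 i) (eT7504 i) (Nat.ble 7691264 i)
noncomputable def eT7506 (i : Nat) : Nat := Bool.rec (eL7515 i) (eL7516 i) (Nat.ble 7696384 i)
noncomputable def eT7507 (i : Nat) : Nat := Bool.rec (eL7514 i) (eT7506 i) (Nat.ble 7695360 i)
noncomputable def eT7508 (i : Nat) : Nat := Bool.rec (eL7518 i) (eL7519 i) (Nat.ble 7699456 i)
noncomputable def eT7509 (i : Nat) : Nat := Bool.rec (eL7517 i) (eT7508 i) (Nat.ble 7698432 i)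
noncomputable def eT7510 (i : Nat) : Nat := Bool.rec (eT7507 i) (eT7509 i) (Nat.ble 7697408 i)
noncomputable def eT7511 (i : Nat) : Nat := Bool.rec (eT7505 i) (eT7510 i) (Nat.ble 7694336 i)
noncomputable def eT7512 (i : Nat) : Nat := Bool.rec (eT7501 i) (eT7511 i) (Nat.ble 7689216 i)
noncomputable def eT7513 (i : Nat) : Nat := Bool.rec (eT7492 i) (eT7512 i) (Nat.ble 7678976 i)
noncomputable def eT7514 (i : Nat) : Nat := Bool.rec (eL7520 i) (eL7521 i) (Nat.ble 7701504 i)
noncomputable def eT7515 (i : Nat) : Nat := Bool.rec (eL7523 i) (eL7524 i) (Nat.ble 7704576 i)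
noncomputable def eT7516 (i : Nat) : Nat := Bool.rec (eL7522 i) (eT7515 i) (Nat.ble 7703552 i)
noncomputable def eT7517 (i : Nat) : Nat := Bool.rec (eT7514 i) (eT7516 i) (Nat.ble 7702528 i)
noncomputable def eT7518 (i : Nat) : Nat := Bool.rec (eL7525 i) (eL7526 i) (Nat.ble 7706624 i)
noncomputable def eT7519 (i : Nat) : Nat := Bool.rec (eL7528 i) (eL7529 i) (Nat.ble 7709696 i)
noncomputable def eT7520 (i : Nat) : Nat := Bool.rec (eL7527 i) (eT7519 i) (Nat.ble 7708672 i)
noncomputable def eT7521 (i : Nat) : Nat := Bool.rec (eT7518 i) (eT7520 i) (Nat.ble 7707648 i)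
noncomputable def eT7522 (i : Nat) : Nat := Bool.rec (eT7517 i) (eT7521 i) (Nat.ble 7705600 i)
noncomputable def eT7523 (i : Nat) : Nat := Bool.rec (eL7530 i) (eL7531 i) (Nat.ble 7711744 i)
noncomputable def eT7524 (i : Nat) : Nat := Bool.rec (eL7533 i) (eL7534 i) (Nat.ble 7714816 i)
noncomputable def eT7525 (i : Nat) : Nat := Bool.rec (eL7532 i) (eT7524 i) (Nat.ble 7713792 i)
noncomputable def eT7526 (i : Nat) : Nat := Bool.rec (eT7523 i) (eT7525 i) (Nat.ble 7712768 i)
noncomputable def eT7527 (i : Nat) : Nat := Bool.rec (eL7536 i) (eL7537 i) (Nat.ble 7717888 i)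
noncomputable def eT7528 (i : Nat) : Nat := Bool.rec (eL7535 i) (eT7527 i) (Nat.ble 7716864 i)
noncomputable def eT7529 (i : Nat) : Nat := Bool.rec (eL7539 i) (eL7540 i) (Nat.ble 7720960 i)
noncomputable def eT7530 (i : Nat) : Nat := Bool.rec (eL7538 i) (eT7529 i) (Nat.ble 7719936 i)
noncomputable def eT7531 (i : Nat) : Nat := Bool.rec (eT7528 i) (eT7530 i) (Nat.ble 7718912 i)
noncomputable def eT7532 (i : Nat) : Nat := Bool.rec (eT7526 i) (eT7531 i) (Nat.ble 7715840 i)
noncomputable def eT7533 (i : Nat) : Nat := Bool.rec (eT7522 i) (eT7532 i) (Nat.ble 7710720 i)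
noncomputable def eT7534 (i : Nat) : Nat := Bool.rec (eL7541 i) (eL7542 i) (Nat.ble 7723008 i)
noncomputable def eT7535 (i : Nat) : Nat := Bool.rec (eL7544 i) (eL7545 i) (Nat.ble 7726080 i)
noncomputable def eT7536 (i : Nat) : Nat := Bool.rec (eL7543 i) (eT7535 i) (Nat.ble 7725056 i)
noncomputable def eT7537 (i : Nat) : Nat := Bool.rec (eT7534 i) (eT7536 i) (Nat.ble 7724032 i)
noncomputable def eT7538 (i : Nat) : Nat := Bool.rec (eL7546 i) (eL7547 i) (Nat.ble 7728128 i)
noncomputable def eT7539 (i : Nat) : Nat := Bool.rec (eL7549 i) (eL7550 i) (Nat.ble 7731200 i)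
noncomputable def eT7540 (i : Nat) : Nat := Bool.rec (eL7548 i) (eT7539 i) (Nat.ble 7730176 i)
noncomputable def eT7541 (i : Nat) : Nat := Bool.rec (eT7538 i) (eT7540 i) (Nat.ble 7729152 i)
noncomputable def eT7542 (i : Nat) : Nat := Bool.rec (eT7537 i) (eT7541 i) (Nat.ble 7727104 i)
noncomputable def eT7543 (i : Nat) : Nat := Bool.rec (eL7551 i) (eL7552 i) (Nat.ble 7733248 i)
noncomputable def eT7544 (i : Nat) : Nat := Bool.rec (eL7554 i) (eL7555 i) (Nat.ble 7736320 i)
noncomputable def eT7545 (i : Nat) : Nat := Bool.rec (eL7553 i) (eT7544 i) (Nat.ble 7735296 i)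
noncomputable def eT7546 (i : Nat) : Nat := Bool.rec (eT7543 i) (eT7545 i) (Nat.ble 7734272 i)
noncomputable def eT7547 (i : Nat) : Nat := Bool.rec (eL7557 i) (eL7558 i) (Nat.ble 7739392 i)
noncomputable def eT7548 (i : Nat) : Nat := Bool.rec (eL7556 i) (eT7547 i) (Nat.ble 7738368 i)
noncomputable def eT7549 (i : Nat) : Nat := Bool.rec (eL7560 i) (eL7561 i) (Nat.ble 7742464 i)
noncomputable def eT7550 (i : Nat) : Nat := Bool.rec (eL7559 i) (eT7549 i) (Nat.ble 7741440 i)
noncomputable def eT7551 (i : Nat) : Nat := Bool.rec (eT7548 i) (eT7550 i) (Nat.ble 7740416 i)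
noncomputable def eT7552 (i : Nat) : Nat := Bool.rec (eT7546 i) (eT7551 i) (Nat.ble 7737344 i)
noncomputable def eT7553 (i : Nat) : Nat := Bool.rec (eT7542 i) (eT7552 i) (Nat.ble 7732224 i)
noncomputable def eT7554 (i : Nat) : Nat := Bool.rec (eT7533 i) (eT7553 i) (Nat.ble 7721984 i)
noncomputable def eT7555 (i : Nat) : Nat := Bool.rec (eT7513 i) (eT7554 i) (Nat.ble 7700480 i)
noncomputable def eT7556 (i : Nat) : Nat := Bool.rec (eT7473 i) (eT7555 i) (Nat.ble 7658496 i)
noncomputable def eT7557 (i : Nat) : Nat := Bool.rec (eT7392 i) (eT7556 i) (Nat.ble 7574528 i)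
noncomputable def eT7558 (i : Nat) : Nat := Bool.rec (eL7562 i) (eL7563 i) (Nat.ble 7744512 i)
noncomputable def eT7559 (i : Nat) : Nat := Bool.rec (eL7565 i) (eL7566 i) (Nat.ble 7747584 i)
noncomputable def eT7560 (i : Nat) : Nat := Bool.rec (eL7564 i) (eT7559 i) (Nat.ble 7746560 i)
noncomputable def eT7561 (i : Nat) : Nat := Bool.rec (eT7558 i) (eT7560 i) (Nat.ble 7745536 i)
noncomputable def eT7562 (i : Nat) : Nat := Bool.rec (eL7567 i) (eL7568 i) (Nat.ble 7749632 i)
noncomputable def eT7563 (i : Nat) : Nat := Bool.rec (eL7570 i) (eL7571 i) (Nat.ble 7752704 i)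
noncomputable def eT7564 (i : Nat) : Nat := Bool.rec (eL7569 i) (eT7563 i) (Nat.ble 7751680 i)
noncomputable def eT7565 (i : Nat) : Nat := Bool.rec (eT7562 i) (eT7564 i) (Nat.ble 7750656 i)
noncomputable def eT7566 (i : Nat) : Nat := Bool.rec (eT7561 i) (eT7565 i) (Nat.ble 7748608 i)
noncomputable def eT7567 (i : Nat) : Nat := Bool.rec (eL7572 i) (eL7573 i) (Nat.ble 7754752 i)
noncomputable def eT7568 (i : Nat) : Nat := Bool.rec (eL7575 i) (eL7576 i) (Nat.ble 7757824 i)
noncomputable def eT7569 (i : Nat) : Nat := Bool.rec (eL7574 i) (eT7568 i) (Nat.ble 7756800 i)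
noncomputable def eT7570 (i : Nat) : Nat := Bool.rec (eT7567 i) (eT7569 i) (Nat.ble 7755776 i)
noncomputable def eT7571 (i : Nat) : Nat := Bool.rec (eL7577 i) (eL7578 i) (Nat.ble 7759872 i)
noncomputable def eT7572 (i : Nat) : Nat := Bool.rec (eL7580 i) (eL7581 i) (Nat.ble 7762944 i)
noncomputable def eT7573 (i : Nat) : Nat := Bool.rec (eL7579 i) (eT7572 i) (Nat.ble 7761920 i)
noncomputable def eT7574 (i : Nat) : Nat := Bool.rec (eT7571 i) (eT7573 i) (Nat.ble 7760896 i)
noncomputable def eT7575 (i : Nat) : Nat := Bool.rec (eT7570 i) (eT7574 i) (Nat.ble 7758848 i)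
noncomputable def eT7576 (i : Nat) : Nat := Bool.rec (eT7566 i) (eT7575 i) (Nat.ble 7753728 i)
noncomputable def eT7577 (i : Nat) : Nat := Bool.rec (eL7582 i) (eL7583 i) (Nat.ble 7764992 i)
noncomputable def eT7578 (i : Nat) : Nat := Bool.rec (eL7585 i) (eL7586 i) (Nat.ble 7768064 i)
noncomputable def eT7579 (i : Nat) : Nat := Bool.rec (eL7584 i) (eT7578 i) (Nat.ble 7767040 i)
noncomputable def eT7580 (i : Nat) : Nat := Bool.rec (eT7577 i) (eT7579 i) (Nat.ble 7766016 i)
noncomputable def eT7581 (i : Nat) : Nat := Bool.rec (eL7587 i) (eL7588 i) (Nat.ble 7770112 i)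
noncomputable def eT7582 (i : Nat) : Nat := Bool.rec (eL7590 i) (eL7591 i) (Nat.ble 7773184 i)
noncomputable def eT7583 (i : Nat) : Nat := Bool.rec (eL7589 i) (eT7582 i) (Nat.ble 7772160 i)
noncomputable def eT7584 (i : Nat) : Nat := Bool.rec (eT7581 i) (eT7583 i) (Nat.ble 7771136 i)
noncomputable def eT7585 (i : Nat) : Nat := Bool.rec (eT7580 i) (eT7584 i) (Nat.ble 7769088 i)
noncomputable def eT7586 (i : Nat) : Nat := Bool.rec (eL7592 i) (eL7593 i) (Nat.ble 7775232 i)
noncomputable def eT7587 (i : Nat) : Nat := Bool.rec (eL7595 i) (eL7596 i) (Nat.ble 7778304 i)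
noncomputable def eT7588 (i : Nat) : Nat := Bool.rec (eL7594 i) (eT7587 i) (Nat.ble 7777280 i)
noncomputable def eT7589 (i : Nat) : Nat := Bool.rec (eT7586 i) (eT7588 i) (Nat.ble 7776256 i)
noncomputable def eT7590 (i : Nat) : Nat := Bool.rec (eL7598 i) (eL7599 i) (Nat.ble 7781376 i)
noncomputable def eT7591 (i : Nat) : Nat := Bool.rec (eL7597 i) (eT7590 i) (Nat.ble 7780352 i)
noncomputable def eT7592 (i : Nat) : Nat := Bool.rec (eL7601 i) (eL7602 i) (Nat.ble 7784448 i)
noncomputable def eT7593 (i : Nat) : Nat := Bool.rec (eL7600 i) (eT7592 i) (Nat.ble 7783424 i)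
noncomputable def eT7594 (i : Nat) : Nat := Bool.rec (eT7591 i) (eT7593 i) (Nat.ble 7782400 i)
noncomputable def eT7595 (i : Nat) : Nat := Bool.rec (eT7589 i) (eT7594 i) (Nat.ble 7779328 i)
noncomputable def eT7596 (i : Nat) : Nat := Bool.rec (eT7585 i) (eT7595 i) (Nat.ble 7774208 i)
noncomputable def eT7597 (i : Nat) : Nat := Bool.rec (eT7576 i) (eT7596 i) (Nat.ble 7763968 i)
noncomputable def eT7598 (i : Nat) : Nat := Bool.rec (eL7603 i) (eL7604 i) (Nat.ble 7786496 i)
noncomputable def eT7599 (i : Nat) : Nat := Bool.rec (eL7606 i) (eL7607 i) (Nat.ble 7789568 i)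
noncomputable def eT7600 (i : Nat) : Nat := Bool.rec (eL7605 i) (eT7599 i) (Nat.ble 7788544 i)
noncomputable def eT7601 (i : Nat) : Nat := Bool.rec (eT7598 i) (eT7600 i) (Nat.ble 7787520 i)
noncomputable def eT7602 (i : Nat) : Nat := Bool.rec (eL7608 i) (eL7609 i) (Nat.ble 7791616 i)
noncomputable def eT7603 (i : Nat) : Nat := Bool.rec (eL7611 i) (eL7612 i) (Nat.ble 7794688 i)
noncomputable def eT7604 (i : Nat) : Nat := Bool.rec (eL7610 i) (eT7603 i) (Nat.ble 7793664 i)
noncomputable def eT7605 (i : Nat) : Nat := Bool.rec (eT7602 i) (eT7604 i) (Nat.ble 7792640 i)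
noncomputable def eT7606 (i : Nat) : Nat := Bool.rec (eT7601 i) (eT7605 i) (Nat.ble 7790592 i)
noncomputable def eT7607 (i : Nat) : Nat := Bool.rec (eL7613 i) (eL7614 i) (Nat.ble 7796736 i)
noncomputable def eT7608 (i : Nat) : Nat := Bool.rec (eL7616 i) (eL7617 i) (Nat.ble 7799808 i)
noncomputable def eT7609 (i : Nat) : Nat := Bool.rec (eL7615 i) (eT7608 i) (Nat.ble 7798784 i)
noncomputable def eT7610 (i : Nat) : Nat := Bool.rec (eT7607 i) (eT7609 i) (Nat.ble 7797760 i)
noncomputable def eT7611 (i : Nat) : Nat := Bool.rec (eL7618 i) (eL7619 i) (Nat.ble 7801856 i)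
noncomputable def eT7612 (i : Nat) : Nat := Bool.rec (eL7621 i) (eL7622 i) (Nat.ble 7804928 i)
noncomputable def eT7613 (i : Nat) : Nat := Bool.rec (eL7620 i) (eT7612 i) (Nat.ble 7803904 i)
noncomputable def eT7614 (i : Nat) : Nat := Bool.rec (eT7611 i) (eT7613 i) (Nat.ble 7802880 i)
noncomputable def eT7615 (i : Nat) : Nat := Bool.rec (eT7610 i) (eT7614 i) (Nat.ble 7800832 i)
noncomputable def eT7616 (i : Nat) : Nat := Bool.rec (eT7606 i) (eT7615 i) (Nat.ble 7795712 i)
noncomputable def eT7617 (i : Nat) : Nat := Bool.rec (eL7623 i) (eL7624 i) (Nat.ble 7806976 i)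
noncomputable def eT7618 (i : Nat) : Nat := Bool.rec (eL7626 i) (eL7627 i) (Nat.ble 7810048 i)
noncomputable def eT7619 (i : Nat) : Nat := Bool.rec (eL7625 i) (eT7618 i) (Nat.ble 7809024 i)
noncomputable def eT7620 (i : Nat) : Nat := Bool.rec (eT7617 i) (eT7619 i) (Nat.ble 7808000 i)
noncomputable def eT7621 (i : Nat) : Nat := Bool.rec (eL7628 i) (eL7629 i) (Nat.ble 7812096 i)
noncomputable def eT7622 (i : Nat) : Nat := Bool.rec (eL7631 i) (eL7632 i) (Nat.ble 7815168 i)
noncomputable def eT7623 (i : Nat) : Nat := Bool.rec (eL7630 i) (eT7622 i) (Nat.ble 7814144 i)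
noncomputable def eT7624 (i : Nat) : Nat := Bool.rec (eT7621 i) (eT7623 i) (Nat.ble 7813120 i)
noncomputable def eT7625 (i : Nat) : Nat := Bool.rec (eT7620 i) (eT7624 i) (Nat.ble 7811072 i)
noncomputable def eT7626 (i : Nat) : Nat := Bool.rec (eL7633 i) (eL7634 i) (Nat.ble 7817216 i)
noncomputable def eT7627 (i : Nat) : Nat := Bool.rec (eL7636 i) (eL7637 i) (Nat.ble 7820288 i)
noncomputable def eT7628 (i : Nat) : Nat := Bool.rec (eL7635 i) (eT7627 i) (Nat.ble 7819264 i)
noncomputable def eT7629 (i : Nat) : Nat := Bool.rec (eT7626 i) (eT7628 i) (Nat.ble 7818240 i)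
noncomputable def eT7630 (i : Nat) : Nat := Bool.rec (eL7639 i) (eL7640 i) (Nat.ble 7823360 i)
noncomputable def eT7631 (i : Nat) : Nat := Bool.rec (eL7638 i) (eT7630 i) (Nat.ble 7822336 i)
noncomputable def eT7632 (i : Nat) : Nat := Bool.rec (eL7642 i) (eL7643 i) (Nat.ble 7826432 i)
noncomputable def eT7633 (i : Nat) : Nat := Bool.rec (eL7641 i) (eT7632 i) (Nat.ble 7825408 i)
noncomputable def eT7634 (i : Nat) : Nat := Bool.rec (eT7631 i) (eT7633 i) (Nat.ble 7824384 i)
noncomputable def eT7635 (i : Nat) : Nat := Bool.rec (eT7629 i) (eT7634 i) (Nat.ble 7821312 i)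
noncomputable def eT7636 (i : Nat) : Nat := Bool.rec (eT7625 i) (eT7635 i) (Nat.ble 7816192 i)
noncomputable def eT7637 (i : Nat) : Nat := Bool.rec (eT7616 i) (eT7636 i) (Nat.ble 7805952 i)
noncomputable def eT7638 (i : Nat) : Nat := Bool.rec (eT7597 i) (eT7637 i) (Nat.ble 7785472 i)
noncomputable def eT7639 (i : Nat) : Nat := Bool.rec (eL7644 i) (eL7645 i) (Nat.ble 7828480 i)
noncomputable def eT7640 (i : Nat) : Nat := Bool.rec (eL7647 i) (eL7648 i) (Nat.ble 7831552 i)
noncomputable def eT7641 (i : Nat) : Nat := Bool.rec (eL7646 i) (eT7640 i) (Nat.ble 7830528 i)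
noncomputable def eT7642 (i : Nat) : Nat := Bool.rec (eT7639 i) (eT7641 i) (Nat.ble 7829504 i)
noncomputable def eT7643 (i : Nat) : Nat := Bool.rec (eL7649 i) (eL7650 i) (Nat.ble 7833600 i)
noncomputable def eT7644 (i : Nat) : Nat := Bool.rec (eL7652 i) (eL7653 i) (Nat.ble 7836672 i)
noncomputable def eT7645 (i : Nat) : Nat := Bool.rec (eL7651 i) (eT7644 i) (Nat.ble 7835648 i)
noncomputable def eT7646 (i : Nat) : Nat := Bool.rec (eT7643 i) (eT7645 i) (Nat.ble 7834624 i)
noncomputable def eT7647 (i : Nat) : Nat := Bool.rec (eT7642 i) (eT7646 i) (Nat.ble 7832576 i)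
noncomputable def eT7648 (i : Nat) : Nat := Bool.rec (eL7654 i) (eL7655 i) (Nat.ble 7838720 i)
noncomputable def eT7649 (i : Nat) : Nat := Bool.rec (eL7657 i) (eL7658 i) (Nat.ble 7841792 i)
noncomputable def eT7650 (i : Nat) : Nat := Bool.rec (eL7656 i) (eT7649 i) (Nat.ble 7840768 i)
noncomputable def eT7651 (i : Nat) : Nat := Bool.rec (eT7648 i) (eT7650 i) (Nat.ble 7839744 i)
noncomputable def eT7652 (i : Nat) : Nat := Bool.rec (eL7659 i) (eL7660 i) (Nat.ble 7843840 i)
noncomputable def eT7653 (i : Nat) : Nat := Bool.rec (eL7662 i) (eL7663 i) (Nat.ble 7846912 i)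
noncomputable def eT7654 (i : Nat) : Nat := Bool.rec (eL7661 i) (eT7653 i) (Nat.ble 7845888 i)
noncomputable def eT7655 (i : Nat) : Nat := Bool.rec (eT7652 i) (eT7654 i) (Nat.ble 7844864 i)
noncomputable def eT7656 (i : Nat) : Nat := Bool.rec (eT7651 i) (eT7655 i) (Nat.ble 7842816 i)
noncomputable def eT7657 (i : Nat) : Nat := Bool.rec (eT7647 i) (eT7656 i) (Nat.ble 7837696 i)
noncomputable def eT7658 (i : Nat) : Nat := Bool.rec (eL7664 i) (eL7665 i) (Nat.ble 7848960 i)
noncomputable def eT7659 (i : Nat) : Nat := Bool.rec (eL7667 i) (eL7668 i) (Nat.ble 7852032 i)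
noncomputable def eT7660 (i : Nat) : Nat := Bool.rec (eL7666 i) (eT7659 i) (Nat.ble 7851008 i)
noncomputable def eT7661 (i : Nat) : Nat := Bool.rec (eT7658 i) (eT7660 i) (Nat.ble 7849984 i)
noncomputable def eT7662 (i : Nat) : Nat := Bool.rec (eL7669 i) (eL7670 i) (Nat.ble 7854080 i)
noncomputable def eT7663 (i : Nat) : Nat := Bool.rec (eL7672 i) (eL7673 i) (Nat.ble 7857152 i)
noncomputable def eT7664 (i : Nat) : Nat := Bool.rec (eL7671 i) (eT7663 i) (Nat.ble 7856128 i)
noncomputable def eT7665 (i : Nat) : Nat := Bool.rec (eT7662 i) (eT7664 i) (Nat.ble 7855104 i)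
noncomputable def eT7666 (i : Nat) : Nat := Bool.rec (eT7661 i) (eT7665 i) (Nat.ble 7853056 i)
noncomputable def eT7667 (i : Nat) : Nat := Bool.rec (eL7674 i) (eL7675 i) (Nat.ble 7859200 i)
noncomputable def eT7668 (i : Nat) : Nat := Bool.rec (eL7677 i) (eL7678 i) (Nat.ble 7862272 i)
noncomputable def eT7669 (i : Nat) : Nat := Bool.rec (eL7676 i) (eT7668 i) (Nat.ble 7861248 i)
noncomputable def eT7670 (i : Nat) : Nat := Bool.rec (eT7667 i) (eT7669 i) (Nat.ble 7860224 i)
noncomputable def eT7671 (i : Nat) : Nat := Bool.rec (eL7680 i) (eL7681 i) (Nat.ble 7865344 i)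
noncomputable def eT7672 (i : Nat) : Nat := Bool.rec (eL7679 i) (eT7671 i) (Nat.ble 7864320 i)
noncomputable def eT7673 (i : Nat) : Nat := Bool.rec (eL7683 i) (eL7684 i) (Nat.ble 7868416 i)
noncomputable def eT7674 (i : Nat) : Nat := Bool.rec (eL7682 i) (eT7673 i) (Nat.ble 7867392 i)
noncomputable def eT7675 (i : Nat) : Nat := Bool.rec (eT7672 i) (eT7674 i) (Nat.ble 7866368 i)
noncomputable def eT7676 (i : Nat) : Nat := Bool.rec (eT7670 i) (eT7675 i) (Nat.ble 7863296 i)
noncomputable def eT7677 (i : Nat) : Nat := Bool.rec (eT7666 i) (eT7676 i) (Nat.ble 7858176 i)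
noncomputable def eT7678 (i : Nat) : Nat := Bool.rec (eT7657 i) (eT7677 i) (Nat.ble 7847936 i)
noncomputable def eT7679 (i : Nat) : Nat := Bool.rec (eL7685 i) (eL7686 i) (Nat.ble 7870464 i)
noncomputable def eT7680 (i : Nat) : Nat := Bool.rec (eL7688 i) (eL7689 i) (Nat.ble 7873536 i)
noncomputable def eT7681 (i : Nat) : Nat := Bool.rec (eL7687 i) (eT7680 i) (Nat.ble 7872512 i)
noncomputable def eT7682 (i : Nat) : Nat := Bool.rec (eT7679 i) (eT7681 i) (Nat.ble 7871488 i)
noncomputable def eT7683 (i : Nat) : Nat := Bool.rec (eL7690 i) (eL7691 i) (Nat.ble 7875584 i)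
noncomputable def eT7684 (i : Nat) : Nat := Bool.rec (eL7693 i) (eL7694 i) (Nat.ble 7878656 i)
noncomputable def eT7685 (i : Nat) : Nat := Bool.rec (eL7692 i) (eT7684 i) (Nat.ble 7877632 i)
noncomputable def eT7686 (i : Nat) : Nat := Bool.rec (eT7683 i) (eT7685 i) (Nat.ble 7876608 i)
noncomputable def eT7687 (i : Nat) : Nat := Bool.rec (eT7682 i) (eT7686 i) (Nat.ble 7874560 i)
noncomputable def eT7688 (i : Nat) : Nat := Bool.rec (eL7695 i) (eL7696 i) (Nat.ble 7880704 i)
noncomputable def eT7689 (i : Nat) : Nat := Bool.rec (eL7698 i) (eL7699 i) (Nat.ble 7883776 i)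
noncomputable def eT7690 (i : Nat) : Nat := Bool.rec (eL7697 i) (eT7689 i) (Nat.ble 7882752 i)
noncomputable def eT7691 (i : Nat) : Nat := Bool.rec (eT7688 i) (eT7690 i) (Nat.ble 7881728 i)
noncomputable def eT7692 (i : Nat) : Nat := Bool.rec (eL7700 i) (eL7701 i) (Nat.ble 7885824 i)
noncomputable def eT7693 (i : Nat) : Nat := Bool.rec (eL7703 i) (eL7704 i) (Nat.ble 7888896 i)
noncomputable def eT7694 (i : Nat) : Nat := Bool.rec (eL7702 i) (eT7693 i) (Nat.ble 7887872 i)
noncomputable def eT7695 (i : Nat) : Nat := Bool.rec (eT7692 i) (eT7694 i) (Nat.ble 7886848 i)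
noncomputable def eT7696 (i : Nat) : Nat := Bool.rec (eT7691 i) (eT7695 i) (Nat.ble 7884800 i)
noncomputable def eT7697 (i : Nat) : Nat := Bool.rec (eT7687 i) (eT7696 i) (Nat.ble 7879680 i)
noncomputable def eT7698 (i : Nat) : Nat := Bool.rec (eL7705 i) (eL7706 i) (Nat.ble 7890944 i)
noncomputable def eT7699 (i : Nat) : Nat := Bool.rec (eL7708 i) (eL7709 i) (Nat.ble 7894016 i)
noncomputable def eT7700 (i : Nat) : Nat := Bool.rec (eL7707 i) (eT7699 i) (Nat.ble 7892992 i)
noncomputable def eT7701 (i : Nat) : Nat := Bool.rec (eT7698 i) (eT7700 i) (Nat.ble 7891968 i)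
noncomputable def eT7702 (i : Nat) : Nat := Bool.rec (eL7710 i) (eL7711 i) (Nat.ble 7896064 i)
noncomputable def eT7703 (i : Nat) : Nat := Bool.rec (eL7713 i) (eL7714 i) (Nat.ble 7899136 i)
noncomputable def eT7704 (i : Nat) : Nat := Bool.rec (eL7712 i) (eT7703 i) (Nat.ble 7898112 i)
noncomputable def eT7705 (i : Nat) : Nat := Bool.rec (eT7702 i) (eT7704 i) (Nat.ble 7897088 i)
noncomputable def eT7706 (i : Nat) : Nat := Bool.rec (eT7701 i) (eT7705 i) (Nat.ble 7895040 i)
noncomputable def eT7707 (i : Nat) : Nat := Bool.rec (eL7715 i) (eL7716 i) (Nat.ble 7901184 i)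
noncomputable def eT7708 (i : Nat) : Nat := Bool.rec (eL7718 i) (eL7719 i) (Nat.ble 7904256 i)
noncomputable def eT7709 (i : Nat) : Nat := Bool.rec (eL7717 i) (eT7708 i) (Nat.ble 7903232 i)
noncomputable def eT7710 (i : Nat) : Nat := Bool.rec (eT7707 i) (eT7709 i) (Nat.ble 7902208 i)
noncomputable def eT7711 (i : Nat) : Nat := Bool.rec (eL7721 i) (eL7722 i) (Nat.ble 7907328 i)
noncomputable def eT7712 (i : Nat) : Nat := Bool.rec (eL7720 i) (eT7711 i) (Nat.ble 7906304 i)
noncomputable def eT7713 (i : Nat) : Nat := Bool.rec (eL7724 i) (eL7725 i) (Nat.ble 7910400 i)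
noncomputable def eT7714 (i : Nat) : Nat := Bool.rec (eL7723 i) (eT7713 i) (Nat.ble 7909376 i)
noncomputable def eT7715 (i : Nat) : Nat := Bool.rec (eT7712 i) (eT7714 i) (Nat.ble 7908352 i)
noncomputable def eT7716 (i : Nat) : Nat := Bool.rec (eT7710 i) (eT7715 i) (Nat.ble 7905280 i)
noncomputable def eT7717 (i : Nat) : Nat := Bool.rec (eT7706 i) (eT7716 i) (Nat.ble 7900160 i)
noncomputable def eT7718 (i : Nat) : Nat := Bool.rec (eT7697 i) (eT7717 i) (Nat.ble 7889920 i)
noncomputable def eT7719 (i : Nat) : Nat := Bool.rec (eT7678 i) (eT7718 i) (Nat.ble 7869440 i)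
noncomputable def eT7720 (i : Nat) : Nat := Bool.rec (eT7638 i) (eT7719 i) (Nat.ble 7827456 i)
noncomputable def eT7721 (i : Nat) : Nat := Bool.rec (eL7726 i) (eL7727 i) (Nat.ble 7912448 i)
noncomputable def eT7722 (i : Nat) : Nat := Bool.rec (eL7729 i) (eL7730 i) (Nat.ble 7915520 i)
noncomputable def eT7723 (i : Nat) : Nat := Bool.rec (eL7728 i) (eT7722 i) (Nat.ble 7914496 i)
noncomputable def eT7724 (i : Nat) : Nat := Bool.rec (eT7721 i) (eT7723 i) (Nat.ble 7913472 i)
noncomputable def eT7725 (i : Nat) : Nat := Bool.rec (eL7731 i) (eL7732 i) (Nat.ble 7917568 i)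
noncomputable def eT7726 (i : Nat) : Nat := Bool.rec (eL7734 i) (eL7735 i) (Nat.ble 7920640 i)
noncomputable def eT7727 (i : Nat) : Nat := Bool.rec (eL7733 i) (eT7726 i) (Nat.ble 7919616 i)
noncomputable def eT7728 (i : Nat) : Nat := Bool.rec (eT7725 i) (eT7727 i) (Nat.ble 7918592 i)
noncomputable def eT7729 (i : Nat) : Nat := Bool.rec (eT7724 i) (eT7728 i) (Nat.ble 7916544 i)
noncomputable def eT7730 (i : Nat) : Nat := Bool.rec (eL7736 i) (eL7737 i) (Nat.ble 7922688 i)
noncomputable def eT7731 (i : Nat) : Nat := Bool.rec (eL7739 i) (eL7740 i) (Nat.ble 7925760 i)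
noncomputable def eT7732 (i : Nat) : Nat := Bool.rec (eL7738 i) (eT7731 i) (Nat.ble 7924736 i)
noncomputable def eT7733 (i : Nat) : Nat := Bool.rec (eT7730 i) (eT7732 i) (Nat.ble 7923712 i)
noncomputable def eT7734 (i : Nat) : Nat := Bool.rec (eL7741 i) (eL7742 i) (Nat.ble 7927808 i)
noncomputable def eT7735 (i : Nat) : Nat := Bool.rec (eL7744 i) (eL7745 i) (Nat.ble 7930880 i)
noncomputable def eT7736 (i : Nat) : Nat := Bool.rec (eL7743 i) (eT7735 i) (Nat.ble 7929856 i)
noncomputable def eT7737 (i : Nat) : Nat := Bool.rec (eT7734 i) (eT7736 i) (Nat.ble 7928832 i)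
noncomputable def eT7738 (i : Nat) : Nat := Bool.rec (eT7733 i) (eT7737 i) (Nat.ble 7926784 i)
noncomputable def eT7739 (i : Nat) : Nat := Bool.rec (eT7729 i) (eT7738 i) (Nat.ble 7921664 i)
noncomputable def eT7740 (i : Nat) : Nat := Bool.rec (eL7746 i) (eL7747 i) (Nat.ble 7932928 i)
noncomputable def eT7741 (i : Nat) : Nat := Bool.rec (eL7749 i) (eL7750 i) (Nat.ble 7936000 i)
noncomputable def eT7742 (i : Nat) : Nat := Bool.rec (eL7748 i) (eT7741 i) (Nat.ble 7934976 i)
noncomputable def eT7743 (i : Nat) : Nat := Bool.rec (eT7740 i) (eT7742 i) (Nat.ble 7933952 i)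
noncomputable def eT7744 (i : Nat) : Nat := Bool.rec (eL7751 i) (eL7752 i) (Nat.ble 7938048 i)
noncomputable def eT7745 (i : Nat) : Nat := Bool.rec (eL7754 i) (eL7755 i) (Nat.ble 7941120 i)
noncomputable def eT7746 (i : Nat) : Nat := Bool.rec (eL7753 i) (eT7745 i) (Nat.ble 7940096 i)
noncomputable def eT7747 (i : Nat) : Nat := Bool.rec (eT7744 i) (eT7746 i) (Nat.ble 7939072 i)
noncomputable def eT7748 (i : Nat) : Nat := Bool.rec (eT7743 i) (eT7747 i) (Nat.ble 7937024 i)
noncomputable def eT7749 (i : Nat) : Nat := Bool.rec (eL7756 i) (eL7757 i) (Nat.ble 7943168 i)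
noncomputable def eT7750 (i : Nat) : Nat := Bool.rec (eL7759 i) (eL7760 i) (Nat.ble 7946240 i)
noncomputable def eT7751 (i : Nat) : Nat := Bool.rec (eL7758 i) (eT7750 i) (Nat.ble 7945216 i)
noncomputable def eT7752 (i : Nat) : Nat := Bool.rec (eT7749 i) (eT7751 i) (Nat.ble 7944192 i)
noncomputable def eT7753 (i : Nat) : Nat := Bool.rec (eL7762 i) (eL7763 i) (Nat.ble 7949312 i)
noncomputable def eT7754 (i : Nat) : Nat := Bool.rec (eL7761 i) (eT7753 i) (Nat.ble 7948288 i)
noncomputable def eT7755 (i : Nat) : Nat := Bool.rec (eL7765 i) (eL7766 i) (Nat.ble 7952384 i)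
noncomputable def eT7756 (i : Nat) : Nat := Bool.rec (eL7764 i) (eT7755 i) (Nat.ble 7951360 i)
noncomputable def eT7757 (i : Nat) : Nat := Bool.rec (eT7754 i) (eT7756 i) (Nat.ble 7950336 i)
noncomputable def eT7758 (i : Nat) : Nat := Bool.rec (eT7752 i) (eT7757 i) (Nat.ble 7947264 i)
noncomputable def eT7759 (i : Nat) : Nat := Bool.rec (eT7748 i) (eT7758 i) (Nat.ble 7942144 i)
noncomputable def eT7760 (i : Nat) : Nat := Bool.rec (eT7739 i) (eT7759 i) (Nat.ble 7931904 i)
noncomputable def eT7761 (i : Nat) : Nat := Bool.rec (eL7767 i) (eL7768 i) (Nat.ble 7954432 i)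
noncomputable def eT7762 (i : Nat) : Nat := Bool.rec (eL7770 i) (eL7771 i) (Nat.ble 7957504 i)
noncomputable def eT7763 (i : Nat) : Nat := Bool.rec (eL7769 i) (eT7762 i) (Nat.ble 7956480 i)
noncomputable def eT7764 (i : Nat) : Nat := Bool.rec (eT7761 i) (eT7763 i) (Nat.ble 7955456 i)
noncomputable def eT7765 (i : Nat) : Nat := Bool.rec (eL7772 i) (eL7773 i) (Nat.ble 7959552 i)
noncomputable def eT7766 (i : Nat) : Nat := Bool.rec (eL7775 i) (eL7776 i) (Nat.ble 7962624 i)
noncomputable def eT7767 (i : Nat) : Nat := Bool.rec (eL7774 i) (eT7766 i) (Nat.ble 7961600 i)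
noncomputable def eT7768 (i : Nat) : Nat := Bool.rec (eT7765 i) (eT7767 i) (Nat.ble 7960576 i)
noncomputable def eT7769 (i : Nat) : Nat := Bool.rec (eT7764 i) (eT7768 i) (Nat.ble 7958528 i)
noncomputable def eT7770 (i : Nat) : Nat := Bool.rec (eL7777 i) (eL7778 i) (Nat.ble 7964672 i)
noncomputable def eT7771 (i : Nat) : Nat := Bool.rec (eL7780 i) (eL7781 i) (Nat.ble 7967744 i)
noncomputable def eT7772 (i : Nat) : Nat := Bool.rec (eL7779 i) (eT7771 i) (Nat.ble 7966720 i)
noncomputable def eT7773 (i : Nat) : Nat := Bool.rec (eT7770 i) (eT7772 i) (Nat.ble 7965696 i)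
noncomputable def eT7774 (i : Nat) : Nat := Bool.rec (eL7782 i) (eL7783 i) (Nat.ble 7969792 i)
noncomputable def eT7775 (i : Nat) : Nat := Bool.rec (eL7785 i) (eL7786 i) (Nat.ble 7972864 i)
noncomputable def eT7776 (i : Nat) : Nat := Bool.rec (eL7784 i) (eT7775 i) (Nat.ble 7971840 i)
noncomputable def eT7777 (i : Nat) : Nat := Bool.rec (eT7774 i) (eT7776 i) (Nat.ble 7970816 i)
noncomputable def eT7778 (i : Nat) : Nat := Bool.rec (eT7773 i) (eT7777 i) (Nat.ble 7968768 i)
noncomputable def eT7779 (i : Nat) : Nat := Bool.rec (eT7769 i) (eT7778 i) (Nat.ble 7963648 i)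
noncomputable def eT7780 (i : Nat) : Nat := Bool.rec (eL7787 i) (eL7788 i) (Nat.ble 7974912 i)
noncomputable def eT7781 (i : Nat) : Nat := Bool.rec (eL7790 i) (eL7791 i) (Nat.ble 7977984 i)
noncomputable def eT7782 (i : Nat) : Nat := Bool.rec (eL7789 i) (eT7781 i) (Nat.ble 7976960 i)
noncomputable def eT7783 (i : Nat) : Nat := Bool.rec (eT7780 i) (eT7782 i) (Nat.ble 7975936 i)
noncomputable def eT7784 (i : Nat) : Nat := Bool.rec (eL7792 i) (eL7793 i) (Nat.ble 7980032 i)
noncomputable def eT7785 (i : Nat) : Nat := Bool.rec (eL7795 i) (eL7796 i) (Nat.ble 7983104 i)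
noncomputable def eT7786 (i : Nat) : Nat := Bool.rec (eL7794 i) (eT7785 i) (Nat.ble 7982080 i)
noncomputable def eT7787 (i : Nat) : Nat := Bool.rec (eT7784 i) (eT7786 i) (Nat.ble 7981056 i)
noncomputable def eT7788 (i : Nat) : Nat := Bool.rec (eT7783 i) (eT7787 i) (Nat.ble 7979008 i)
noncomputable def eT7789 (i : Nat) : Nat := Bool.rec (eL7797 i) (eL7798 i) (Nat.ble 7985152 i)
noncomputable def eT7790 (i : Nat) : Nat := Bool.rec (eL7800 i) (eL7801 i) (Nat.ble 7988224 i)
noncomputable def eT7791 (i : Nat) : Nat := Bool.rec (eL7799 i) (eT7790 i) (Nat.ble 7987200 i)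
noncomputable def eT7792 (i : Nat) : Nat := Bool.rec (eT7789 i) (eT7791 i) (Nat.ble 7986176 i)
noncomputable def eT7793 (i : Nat) : Nat := Bool.rec (eL7803 i) (eL7804 i) (Nat.ble 7991296 i)
noncomputable def eT7794 (i : Nat) : Nat := Bool.rec (eL7802 i) (eT7793 i) (Nat.ble 7990272 i)
noncomputable def eT7795 (i : Nat) : Nat := Bool.rec (eL7806 i) (eL7807 i) (Nat.ble 7994368 i)
noncomputable def eT7796 (i : Nat) : Nat := Bool.rec (eL7805 i) (eT7795 i) (Nat.ble 7993344 i)
noncomputable def eT7797 (i : Nat) : Nat := Bool.rec (eT7794 i) (eT7796 i) (Nat.ble 7992320 i)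
noncomputable def eT7798 (i : Nat) : Nat := Bool.rec (eT7792 i) (eT7797 i) (Nat.ble 7989248 i)
noncomputable def eT7799 (i : Nat) : Nat := Bool.rec (eT7788 i) (eT7798 i) (Nat.ble 7984128 i)
noncomputable def eT7800 (i : Nat) : Nat := Bool.rec (eT7779 i) (eT7799 i) (Nat.ble 7973888 i)
noncomputable def eT7801 (i : Nat) : Nat := Bool.rec (eT7760 i) (eT7800 i) (Nat.ble 7953408 i)
noncomputable def eT7802 (i : Nat) : Nat := Bool.rec (eL7808 i) (eL7809 i) (Nat.ble 7996416 i)
noncomputable def eT7803 (i : Nat) : Nat := Bool.rec (eL7811 i) (eL7812 i) (Nat.ble 7999488 i)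
noncomputable def eT7804 (i : Nat) : Nat := Bool.rec (eL7810 i) (eT7803 i) (Nat.ble 7998464 i)
noncomputable def eT7805 (i : Nat) : Nat := Bool.rec (eT7802 i) (eT7804 i) (Nat.ble 7997440 i)
noncomputable def eT7806 (i : Nat) : Nat := Bool.rec (eL7813 i) (eL7814 i) (Nat.ble 8001536 i)
noncomputable def eT7807 (i : Nat) : Nat := Bool.rec (eL7816 i) (eL7817 i) (Nat.ble 8004608 i)
noncomputable def eT7808 (i : Nat) : Nat := Bool.rec (eL7815 i) (eT7807 i) (Nat.ble 8003584 i)
noncomputable def eT7809 (i : Nat) : Nat := Bool.rec (eT7806 i) (eT7808 i) (Nat.ble 8002560 i)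
noncomputable def eT7810 (i : Nat) : Nat := Bool.rec (eT7805 i) (eT7809 i) (Nat.ble 8000512 i)
noncomputable def eT7811 (i : Nat) : Nat := Bool.rec (eL7818 i) (eL7819 i) (Nat.ble 8006656 i)
noncomputable def eT7812 (i : Nat) : Nat := Bool.rec (eL7821 i) (eL7822 i) (Nat.ble 8009728 i)
noncomputable def eT7813 (i : Nat) : Nat := Bool.rec (eL7820 i) (eT7812 i) (Nat.ble 8008704 i)
noncomputable def eT7814 (i : Nat) : Nat := Bool.rec (eT7811 i) (eT7813 i) (Nat.ble 8007680 i)
noncomputable def eT7815 (i : Nat) : Nat := Bool.rec (eL7823 i) (eL7824 i) (Nat.ble 8011776 i)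
noncomputable def eT7816 (i : Nat) : Nat := Bool.rec (eL7826 i) (eL7827 i) (Nat.ble 8014848 i)
noncomputable def eT7817 (i : Nat) : Nat := Bool.rec (eL7825 i) (eT7816 i) (Nat.ble 8013824 i)
noncomputable def eT7818 (i : Nat) : Nat := Bool.rec (eT7815 i) (eT7817 i) (Nat.ble 8012800 i)
noncomputable def eT7819 (i : Nat) : Nat := Bool.rec (eT7814 i) (eT7818 i) (Nat.ble 8010752 i)
noncomputable def eT7820 (i : Nat) : Nat := Bool.rec (eT7810 i) (eT7819 i) (Nat.ble 8005632 i)
noncomputable def eT7821 (i : Nat) : Nat := Bool.rec (eL7828 i) (eL7829 i) (Nat.ble 8016896 i)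
noncomputable def eT7822 (i : Nat) : Nat := Bool.rec (eL7831 i) (eL7832 i) (Nat.ble 8019968 i)
noncomputable def eT7823 (i : Nat) : Nat := Bool.rec (eL7830 i) (eT7822 i) (Nat.ble 8018944 i)
noncomputable def eT7824 (i : Nat) : Nat := Bool.rec (eT7821 i) (eT7823 i) (Nat.ble 8017920 i)
noncomputable def eT7825 (i : Nat) : Nat := Bool.rec (eL7833 i) (eL7834 i) (Nat.ble 8022016 i)
noncomputable def eT7826 (i : Nat) : Nat := Bool.rec (eL7836 i) (eL7837 i) (Nat.ble 8025088 i)
noncomputable def eT7827 (i : Nat) : Nat := Bool.rec (eL7835 i) (eT7826 i) (Nat.ble 8024064 i)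
noncomputable def eT7828 (i : Nat) : Nat := Bool.rec (eT7825 i) (eT7827 i) (Nat.ble 8023040 i)
noncomputable def eT7829 (i : Nat) : Nat := Bool.rec (eT7824 i) (eT7828 i) (Nat.ble 8020992 i)
noncomputable def eT7830 (i : Nat) : Nat := Bool.rec (eL7838 i) (eL7839 i) (Nat.ble 8027136 i)
noncomputable def eT7831 (i : Nat) : Nat := Bool.rec (eL7841 i) (eL7842 i) (Nat.ble 8030208 i)
noncomputable def eT7832 (i : Nat) : Nat := Bool.rec (eL7840 i) (eT7831 i) (Nat.ble 8029184 i)
noncomputable def eT7833 (i : Nat) : Nat := Bool.rec (eT7830 i) (eT7832 i) (Nat.ble 8028160 i)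
noncomputable def eT7834 (i : Nat) : Nat := Bool.rec (eL7844 i) (eL7845 i) (Nat.ble 8033280 i)
noncomputable def eT7835 (i : Nat) : Nat := Bool.rec (eL7843 i) (eT7834 i) (Nat.ble 8032256 i)
noncomputable def eT7836 (i : Nat) : Nat := Bool.rec (eL7847 i) (eL7848 i) (Nat.ble 8036352 i)
noncomputable def eT7837 (i : Nat) : Nat := Bool.rec (eL7846 i) (eT7836 i) (Nat.ble 8035328 i)
noncomputable def eT7838 (i : Nat) : Nat := Bool.rec (eT7835 i) (eT7837 i) (Nat.ble 8034304 i)
noncomputable def eT7839 (i : Nat) : Nat := Bool.rec (eT7833 i) (eT7838 i) (Nat.ble 8031232 i)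
noncomputable def eT7840 (i : Nat) : Nat := Bool.rec (eT7829 i) (eT7839 i) (Nat.ble 8026112 i)
noncomputable def eT7841 (i : Nat) : Nat := Bool.rec (eT7820 i) (eT7840 i) (Nat.ble 8015872 i)
noncomputable def eT7842 (i : Nat) : Nat := Bool.rec (eL7849 i) (eL7850 i) (Nat.ble 8038400 i)
noncomputable def eT7843 (i : Nat) : Nat := Bool.rec (eL7852 i) (eL7853 i) (Nat.ble 8041472 i)
noncomputable def eT7844 (i : Nat) : Nat := Bool.rec (eL7851 i) (eT7843 i) (Nat.ble 8040448 i)
noncomputable def eT7845 (i : Nat) : Nat := Bool.rec (eT7842 i) (eT7844 i) (Nat.ble 8039424 i)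
noncomputable def eT7846 (i : Nat) : Nat := Bool.rec (eL7854 i) (eL7855 i) (Nat.ble 8043520 i)
noncomputable def eT7847 (i : Nat) : Nat := Bool.rec (eL7857 i) (eL7858 i) (Nat.ble 8046592 i)
noncomputable def eT7848 (i : Nat) : Nat := Bool.rec (eL7856 i) (eT7847 i) (Nat.ble 8045568 i)
noncomputable def eT7849 (i : Nat) : Nat := Bool.rec (eT7846 i) (eT7848 i) (Nat.ble 8044544 i)
noncomputable def eT7850 (i : Nat) : Nat := Bool.rec (eT7845 i) (eT7849 i) (Nat.ble 8042496 i)
noncomputable def eT7851 (i : Nat) : Nat := Bool.rec (eL7859 i) (eL7860 i) (Nat.ble 8048640 i)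
noncomputable def eT7852 (i : Nat) : Nat := Bool.rec (eL7862 i) (eL7863 i) (Nat.ble 8051712 i)
noncomputable def eT7853 (i : Nat) : Nat := Bool.rec (eL7861 i) (eT7852 i) (Nat.ble 8050688 i)
noncomputable def eT7854 (i : Nat) : Nat := Bool.rec (eT7851 i) (eT7853 i) (Nat.ble 8049664 i)
noncomputable def eT7855 (i : Nat) : Nat := Bool.rec (eL7865 i) (eL7866 i) (Nat.ble 8054784 i)
noncomputable def eT7856 (i : Nat) : Nat := Bool.rec (eL7864 i) (eT7855 i) (Nat.ble 8053760 i)
noncomputable def eT7857 (i : Nat) : Nat := Bool.rec (eL7868 i) (eL7869 i) (Nat.ble 8057856 i)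
noncomputable def eT7858 (i : Nat) : Nat := Bool.rec (eL7867 i) (eT7857 i) (Nat.ble 8056832 i)
noncomputable def eT7859 (i : Nat) : Nat := Bool.rec (eT7856 i) (eT7858 i) (Nat.ble 8055808 i)
noncomputable def eT7860 (i : Nat) : Nat := Bool.rec (eT7854 i) (eT7859 i) (Nat.ble 8052736 i)
noncomputable def eT7861 (i : Nat) : Nat := Bool.rec (eT7850 i) (eT7860 i) (Nat.ble 8047616 i)
noncomputable def eT7862 (i : Nat) : Nat := Bool.rec (eL7870 i) (eL7871 i) (Nat.ble 8059904 i)
noncomputable def eT7863 (i : Nat) : Nat := Bool.rec (eL7873 i) (eL7874 i) (Nat.ble 8062976 i)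
noncomputable def eT7864 (i : Nat) : Nat := Bool.rec (eL7872 i) (eT7863 i) (Nat.ble 8061952 i)
noncomputable def eT7865 (i : Nat) : Nat := Bool.rec (eT7862 i) (eT7864 i) (Nat.ble 8060928 i)
noncomputable def eT7866 (i : Nat) : Nat := Bool.rec (eL7875 i) (eL7876 i) (Nat.ble 8065024 i)
noncomputable def eT7867 (i : Nat) : Nat := Bool.rec (eL7878 i) (eL7879 i) (Nat.ble 8068096 i)
noncomputable def eT7868 (i : Nat) : Nat := Bool.rec (eL7877 i) (eT7867 i) (Nat.ble 8067072 i)
noncomputable def eT7869 (i : Nat) : Nat := Bool.rec (eT7866 i) (eT7868 i) (Nat.ble 8066048 i)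
noncomputable def eT7870 (i : Nat) : Nat := Bool.rec (eT7865 i) (eT7869 i) (Nat.ble 8064000 i)
noncomputable def eT7871 (i : Nat) : Nat := Bool.rec (eL7880 i) (eL7881 i) (Nat.ble 8070144 i)
noncomputable def eT7872 (i : Nat) : Nat := Bool.rec (eL7883 i) (eL7884 i) (Nat.ble 8073216 i)
noncomputable def eT7873 (i : Nat) : Nat := Bool.rec (eL7882 i) (eT7872 i) (Nat.ble 8072192 i)
noncomputable def eT7874 (i : Nat) : Nat := Bool.rec (eT7871 i) (eT7873 i) (Nat.ble 8071168 i)
noncomputable def eT7875 (i : Nat) : Nat := Bool.rec (eL7886 i) (eL7887 i) (Nat.ble 8076288 i)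
noncomputable def eT7876 (i : Nat) : Nat := Bool.rec (eL7885 i) (eT7875 i) (Nat.ble 8075264 i)
noncomputable def eT7877 (i : Nat) : Nat := Bool.rec (eL7889 i) (eL7890 i) (Nat.ble 8079360 i)
noncomputable def eT7878 (i : Nat) : Nat := Bool.rec (eL7888 i) (eT7877 i) (Nat.ble 8078336 i)
noncomputable def eT7879 (i : Nat) : Nat := Bool.rec (eT7876 i) (eT7878 i) (Nat.ble 8077312 i)
noncomputable def eT7880 (i : Nat) : Nat := Bool.rec (eT7874 i) (eT7879 i) (Nat.ble 8074240 i)
noncomputable def eT7881 (i : Nat) : Nat := Bool.rec (eT7870 i) (eT7880 i) (Nat.ble 8069120 i)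
noncomputable def eT7882 (i : Nat) : Nat := Bool.rec (eT7861 i) (eT7881 i) (Nat.ble 8058880 i)
noncomputable def eT7883 (i : Nat) : Nat := Bool.rec (eT7841 i) (eT7882 i) (Nat.ble 8037376 i)
noncomputable def eT7884 (i : Nat) : Nat := Bool.rec (eT7801 i) (eT7883 i) (Nat.ble 7995392 i)
noncomputable def eT7885 (i : Nat) : Nat := Bool.rec (eT7720 i) (eT7884 i) (Nat.ble 7911424 i)
noncomputable def eT7886 (i : Nat) : Nat := Bool.rec (eT7557 i) (eT7885 i) (Nat.ble 7743488 i)
noncomputable def eT7887 (i : Nat) : Nat := Bool.rec (eT7229 i) (eT7886 i) (Nat.ble 7406592 i)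
noncomputable def eT7888 (i : Nat) : Nat := Bool.rec (eT6573 i) (eT7887 i) (Nat.ble 6733824 i)
noncomputable def eT7889 (i : Nat) : Nat := Bool.rec (eL7891 i) (eL7892 i) (Nat.ble 8081408 i)
noncomputable def eT7890 (i : Nat) : Nat := Bool.rec (eL7894 i) (eL7895 i) (Nat.ble 8084480 i)
noncomputable def eT7891 (i : Nat) : Nat := Bool.rec (eL7893 i) (eT7890 i) (Nat.ble 8083456 i)
noncomputable def eT7892 (i : Nat) : Nat := Bool.rec (eT7889 i) (eT7891 i) (Nat.ble 8082432 i)
noncomputable def eT7893 (i : Nat) : Nat := Bool.rec (eL7896 i) (eL7897 i) (Nat.ble 8086528 i)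
noncomputable def eT7894 (i : Nat) : Nat := Bool.rec (eL7899 i) (eL7900 i) (Nat.ble 8089600 i)
noncomputable def eT7895 (i : Nat) : Nat := Bool.rec (eL7898 i) (eT7894 i) (Nat.ble 8088576 i)
noncomputable def eT7896 (i : Nat) : Nat := Bool.rec (eT7893 i) (eT7895 i) (Nat.ble 8087552 i)
noncomputable def eT7897 (i : Nat) : Nat := Bool.rec (eT7892 i) (eT7896 i) (Nat.ble 8085504 i)
noncomputable def eT7898 (i : Nat) : Nat := Bool.rec (eL7901 i) (eL7902 i) (Nat.ble 8091648 i)
noncomputable def eT7899 (i : Nat) : Nat := Bool.rec (eL7904 i) (eL7905 i) (Nat.ble 8094720 i)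
noncomputable def eT7900 (i : Nat) : Nat := Bool.rec (eL7903 i) (eT7899 i) (Nat.ble 8093696 i)
noncomputable def eT7901 (i : Nat) : Nat := Bool.rec (eT7898 i) (eT7900 i) (Nat.ble 8092672 i)
noncomputable def eT7902 (i : Nat) : Nat := Bool.rec (eL7906 i) (eL7907 i) (Nat.ble 8096768 i)
noncomputable def eT7903 (i : Nat) : Nat := Bool.rec (eL7909 i) (eL7910 i) (Nat.ble 8099840 i)
noncomputable def eT7904 (i : Nat) : Nat := Bool.rec (eL7908 i) (eT7903 i) (Nat.ble 8098816 i)
noncomputable def eT7905 (i : Nat) : Nat := Bool.rec (eT7902 i) (eT7904 i) (Nat.ble 8097792 i)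
noncomputable def eT7906 (i : Nat) : Nat := Bool.rec (eT7901 i) (eT7905 i) (Nat.ble 8095744 i)
noncomputable def eT7907 (i : Nat) : Nat := Bool.rec (eT7897 i) (eT7906 i) (Nat.ble 8090624 i)
noncomputable def eT7908 (i : Nat) : Nat := Bool.rec (eL7911 i) (eL7912 i) (Nat.ble 8101888 i)
noncomputable def eT7909 (i : Nat) : Nat := Bool.rec (eL7914 i) (eL7915 i) (Nat.ble 8104960 i)
noncomputable def eT7910 (i : Nat) : Nat := Bool.rec (eL7913 i) (eT7909 i) (Nat.ble 8103936 i)
noncomputable def eT7911 (i : Nat) : Nat := Bool.rec (eT7908 i) (eT7910 i) (Nat.ble 8102912 i)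
noncomputable def eT7912 (i : Nat) : Nat := Bool.rec (eL7916 i) (eL7917 i) (Nat.ble 8107008 i)
noncomputable def eT7913 (i : Nat) : Nat := Bool.rec (eL7919 i) (eL7920 i) (Nat.ble 8110080 i)
noncomputable def eT7914 (i : Nat) : Nat := Bool.rec (eL7918 i) (eT7913 i) (Nat.ble 8109056 i)
noncomputable def eT7915 (i : Nat) : Nat := Bool.rec (eT7912 i) (eT7914 i) (Nat.ble 8108032 i)
noncomputable def eT7916 (i : Nat) : Nat := Bool.rec (eT7911 i) (eT7915 i) (Nat.ble 8105984 i)
noncomputable def eT7917 (i : Nat) : Nat := Bool.rec (eL7921 i) (eL7922 i) (Nat.ble 8112128 i)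
noncomputable def eT7918 (i : Nat) : Nat := Bool.rec (eL7924 i) (eL7925 i) (Nat.ble 8115200 i)
noncomputable def eT7919 (i : Nat) : Nat := Bool.rec (eL7923 i) (eT7918 i) (Nat.ble 8114176 i)
noncomputable def eT7920 (i : Nat) : Nat := Bool.rec (eT7917 i) (eT7919 i) (Nat.ble 8113152 i)
noncomputable def eT7921 (i : Nat) : Nat := Bool.rec (eL7927 i) (eL7928 i) (Nat.ble 8118272 i)
noncomputable def eT7922 (i : Nat) : Nat := Bool.rec (eL7926 i) (eT7921 i) (Nat.ble 8117248 i)
noncomputable def eT7923 (i : Nat) : Nat := Bool.rec (eL7930 i) (eL7931 i) (Nat.ble 8121344 i)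
noncomputable def eT7924 (i : Nat) : Nat := Bool.rec (eL7929 i) (eT7923 i) (Nat.ble 8120320 i)
noncomputable def eT7925 (i : Nat) : Nat := Bool.rec (eT7922 i) (eT7924 i) (Nat.ble 8119296 i)
noncomputable def eT7926 (i : Nat) : Nat := Bool.rec (eT7920 i) (eT7925 i) (Nat.ble 8116224 i)
noncomputable def eT7927 (i : Nat) : Nat := Bool.rec (eT7916 i) (eT7926 i) (Nat.ble 8111104 i)
noncomputable def eT7928 (i : Nat) : Nat := Bool.rec (eT7907 i) (eT7927 i) (Nat.ble 8100864 i)
noncomputable def eT7929 (i : Nat) : Nat := Bool.rec (eL7932 i) (eL7933 i) (Nat.ble 8123392 i)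
noncomputable def eT7930 (i : Nat) : Nat := Bool.rec (eL7935 i) (eL7936 i) (Nat.ble 8126464 i)
noncomputable def eT7931 (i : Nat) : Nat := Bool.rec (eL7934 i) (eT7930 i) (Nat.ble 8125440 i)
noncomputable def eT7932 (i : Nat) : Nat := Bool.rec (eT7929 i) (eT7931 i) (Nat.ble 8124416 i)
noncomputable def eT7933 (i : Nat) : Nat := Bool.rec (eL7937 i) (eL7938 i) (Nat.ble 8128512 i)
noncomputable def eT7934 (i : Nat) : Nat := Bool.rec (eL7940 i) (eL7941 i) (Nat.ble 8131584 i)
noncomputable def eT7935 (i : Nat) : Nat := Bool.rec (eL7939 i) (eT7934 i) (Nat.ble 8130560 i)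
noncomputable def eT7936 (i : Nat) : Nat := Bool.rec (eT7933 i) (eT7935 i) (Nat.ble 8129536 i)
noncomputable def eT7937 (i : Nat) : Nat := Bool.rec (eT7932 i) (eT7936 i) (Nat.ble 8127488 i)
noncomputable def eT7938 (i : Nat) : Nat := Bool.rec (eL7942 i) (eL7943 i) (Nat.ble 8133632 i)
noncomputable def eT7939 (i : Nat) : Nat := Bool.rec (eL7945 i) (eL7946 i) (Nat.ble 8136704 i)
noncomputable def eT7940 (i : Nat) : Nat := Bool.rec (eL7944 i) (eT7939 i) (Nat.ble 8135680 i)
noncomputable def eT7941 (i : Nat) : Nat := Bool.rec (eT7938 i) (eT7940 i) (Nat.ble 8134656 i)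
noncomputable def eT7942 (i : Nat) : Nat := Bool.rec (eL7947 i) (eL7948 i) (Nat.ble 8138752 i)
noncomputable def eT7943 (i : Nat) : Nat := Bool.rec (eL7950 i) (eL7951 i) (Nat.ble 8141824 i)
noncomputable def eT7944 (i : Nat) : Nat := Bool.rec (eL7949 i) (eT7943 i) (Nat.ble 8140800 i)
noncomputable def eT7945 (i : Nat) : Nat := Bool.rec (eT7942 i) (eT7944 i) (Nat.ble 8139776 i)
noncomputable def eT7946 (i : Nat) : Nat := Bool.rec (eT7941 i) (eT7945 i) (Nat.ble 8137728 i)
noncomputable def eT7947 (i : Nat) : Nat := Bool.rec (eT7937 i) (eT7946 i) (Nat.ble 8132608 i)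
noncomputable def eT7948 (i : Nat) : Nat := Bool.rec (eL7952 i) (eL7953 i) (Nat.ble 8143872 i)
noncomputable def eT7949 (i : Nat) : Nat := Bool.rec (eL7955 i) (eL7956 i) (Nat.ble 8146944 i)
noncomputable def eT7950 (i : Nat) : Nat := Bool.rec (eL7954 i) (eT7949 i) (Nat.ble 8145920 i)
noncomputable def eT7951 (i : Nat) : Nat := Bool.rec (eT7948 i) (eT7950 i) (Nat.ble 8144896 i)
noncomputable def eT7952 (i : Nat) : Nat := Bool.rec (eL7957 i) (eL7958 i) (Nat.ble 8148992 i)
noncomputable def eT7953 (i : Nat) : Nat := Bool.rec (eL7960 i) (eL7961 i) (Nat.ble 8152064 i)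
noncomputable def eT7954 (i : Nat) : Nat := Bool.rec (eL7959 i) (eT7953 i) (Nat.ble 8151040 i)
noncomputable def eT7955 (i : Nat) : Nat := Bool.rec (eT7952 i) (eT7954 i) (Nat.ble 8150016 i)
noncomputable def eT7956 (i : Nat) : Nat := Bool.rec (eT7951 i) (eT7955 i) (Nat.ble 8147968 i)
noncomputable def eT7957 (i : Nat) : Nat := Bool.rec (eL7962 i) (eL7963 i) (Nat.ble 8154112 i)
noncomputable def eT7958 (i : Nat) : Nat := Bool.rec (eL7965 i) (eL7966 i) (Nat.ble 8157184 i)
noncomputable def eT7959 (i : Nat) : Nat := Bool.rec (eL7964 i) (eT7958 i) (Nat.ble 8156160 i)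
noncomputable def eT7960 (i : Nat) : Nat := Bool.rec (eT7957 i) (eT7959 i) (Nat.ble 8155136 i)
noncomputable def eT7961 (i : Nat) : Nat := Bool.rec (eL7968 i) (eL7969 i) (Nat.ble 8160256 i)
noncomputable def eT7962 (i : Nat) : Nat := Bool.rec (eL7967 i) (eT7961 i) (Nat.ble 8159232 i)
noncomputable def eT7963 (i : Nat) : Nat := Bool.rec (eL7971 i) (eL7972 i) (Nat.ble 8163328 i)
noncomputable def eT7964 (i : Nat) : Nat := Bool.rec (eL7970 i) (eT7963 i) (Nat.ble 8162304 i)
noncomputable def eT7965 (i : Nat) : Nat := Bool.rec (eT7962 i) (eT7964 i) (Nat.ble 8161280 i)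
noncomputable def eT7966 (i : Nat) : Nat := Bool.rec (eT7960 i) (eT7965 i) (Nat.ble 8158208 i)
noncomputable def eT7967 (i : Nat) : Nat := Bool.rec (eT7956 i) (eT7966 i) (Nat.ble 8153088 i)
noncomputable def eT7968 (i : Nat) : Nat := Bool.rec (eT7947 i) (eT7967 i) (Nat.ble 8142848 i)
noncomputable def eT7969 (i : Nat) : Nat := Bool.rec (eT7928 i) (eT7968 i) (Nat.ble 8122368 i)
noncomputable def eT7970 (i : Nat) : Nat := Bool.rec (eL7973 i) (eL7974 i) (Nat.ble 8165376 i)
noncomputable def eT7971 (i : Nat) : Nat := Bool.rec (eL7976 i) (eL7977 i) (Nat.ble 8168448 i)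
noncomputable def eT7972 (i : Nat) : Nat := Bool.rec (eL7975 i) (eT7971 i) (Nat.ble 8167424 i)
noncomputable def eT7973 (i : Nat) : Nat := Bool.rec (eT7970 i) (eT7972 i) (Nat.ble 8166400 i)
noncomputable def eT7974 (i : Nat) : Nat := Bool.rec (eL7978 i) (eL7979 i) (Nat.ble 8170496 i)
noncomputable def eT7975 (i : Nat) : Nat := Bool.rec (eL7981 i) (eL7982 i) (Nat.ble 8173568 i)
noncomputable def eT7976 (i : Nat) : Nat := Bool.rec (eL7980 i) (eT7975 i) (Nat.ble 8172544 i)
noncomputable def eT7977 (i : Nat) : Nat := Bool.rec (eT7974 i) (eT7976 i) (Nat.ble 8171520 i)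
noncomputable def eT7978 (i : Nat) : Nat := Bool.rec (eT7973 i) (eT7977 i) (Nat.ble 8169472 i)
noncomputable def eT7979 (i : Nat) : Nat := Bool.rec (eL7983 i) (eL7984 i) (Nat.ble 8175616 i)
noncomputable def eT7980 (i : Nat) : Nat := Bool.rec (eL7986 i) (eL7987 i) (Nat.ble 8178688 i)
noncomputable def eT7981 (i : Nat) : Nat := Bool.rec (eL7985 i) (eT7980 i) (Nat.ble 8177664 i)
noncomputable def eT7982 (i : Nat) : Nat := Bool.rec (eT7979 i) (eT7981 i) (Nat.ble 8176640 i)
noncomputable def eT7983 (i : Nat) : Nat := Bool.rec (eL7988 i) (eL7989 i) (Nat.ble 8180736 i)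
noncomputable def eT7984 (i : Nat) : Nat := Bool.rec (eL7991 i) (eL7992 i) (Nat.ble 8183808 i)
noncomputable def eT7985 (i : Nat) : Nat := Bool.rec (eL7990 i) (eT7984 i) (Nat.ble 8182784 i)
noncomputable def eT7986 (i : Nat) : Nat := Bool.rec (eT7983 i) (eT7985 i) (Nat.ble 8181760 i)
noncomputable def eT7987 (i : Nat) : Nat := Bool.rec (eT7982 i) (eT7986 i) (Nat.ble 8179712 i)
noncomputable def eT7988 (i : Nat) : Nat := Bool.rec (eT7978 i) (eT7987 i) (Nat.ble 8174592 i)
noncomputable def eT7989 (i : Nat) : Nat := Bool.rec (eL7993 i) (eL7994 i) (Nat.ble 8185856 i)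
noncomputable def eT7990 (i : Nat) : Nat := Bool.rec (eL7996 i) (eL7997 i) (Nat.ble 8188928 i)
noncomputable def eT7991 (i : Nat) : Nat := Bool.rec (eL7995 i) (eT7990 i) (Nat.ble 8187904 i)
noncomputable def eT7992 (i : Nat) : Nat := Bool.rec (eT7989 i) (eT7991 i) (Nat.ble 8186880 i)
noncomputable def eT7993 (i : Nat) : Nat := Bool.rec (eL7998 i) (eL7999 i) (Nat.ble 8190976 i)
noncomputable def eT7994 (i : Nat) : Nat := Bool.rec (eL8001 i) (eL8002 i) (Nat.ble 8194048 i)
noncomputable def eT7995 (i : Nat) : Nat := Bool.rec (eL8000 i) (eT7994 i) (Nat.ble 8193024 i)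
noncomputable def eT7996 (i : Nat) : Nat := Bool.rec (eT7993 i) (eT7995 i) (Nat.ble 8192000 i)
noncomputable def eT7997 (i : Nat) : Nat := Bool.rec (eT7992 i) (eT7996 i) (Nat.ble 8189952 i)
noncomputable def eT7998 (i : Nat) : Nat := Bool.rec (eL8003 i) (eL8004 i) (Nat.ble 8196096 i)
noncomputable def eT7999 (i : Nat) : Nat := Bool.rec (eL8006 i) (eL8007 i) (Nat.ble 8199168 i)
noncomputable def eT8000 (i : Nat) : Nat := Bool.rec (eL8005 i) (eT7999 i) (Nat.ble 8198144 i)
noncomputable def eT8001 (i : Nat) : Nat := Bool.rec (eT7998 i) (eT8000 i) (Nat.ble 8197120 i)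
noncomputable def eT8002 (i : Nat) : Nat := Bool.rec (eL8009 i) (eL8010 i) (Nat.ble 8202240 i)
noncomputable def eT8003 (i : Nat) : Nat := Bool.rec (eL8008 i) (eT8002 i) (Nat.ble 8201216 i)
noncomputable def eT8004 (i : Nat) : Nat := Bool.rec (eL8012 i) (eL8013 i) (Nat.ble 8205312 i)
noncomputable def eT8005 (i : Nat) : Nat := Bool.rec (eL8011 i) (eT8004 i) (Nat.ble 8204288 i)
noncomputable def eT8006 (i : Nat) : Nat := Bool.rec (eT8003 i) (eT8005 i) (Nat.ble 8203264 i)
noncomputable def eT8007 (i : Nat) : Nat := Bool.rec (eT8001 i) (eT8006 i) (Nat.ble 8200192 i)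
noncomputable def eT8008 (i : Nat) : Nat := Bool.rec (eT7997 i) (eT8007 i) (Nat.ble 8195072 i)
noncomputable def eT8009 (i : Nat) : Nat := Bool.rec (eT7988 i) (eT8008 i) (Nat.ble 8184832 i)
noncomputable def eT8010 (i : Nat) : Nat := Bool.rec (eL8014 i) (eL8015 i) (Nat.ble 8207360 i)
noncomputable def eT8011 (i : Nat) : Nat := Bool.rec (eL8017 i) (eL8018 i) (Nat.ble 8210432 i)
noncomputable def eT8012 (i : Nat) : Nat := Bool.rec (eL8016 i) (eT8011 i) (Nat.ble 8209408 i)
noncomputable def eT8013 (i : Nat) : Nat := Bool.rec (eT8010 i) (eT8012 i) (Nat.ble 8208384 i)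
noncomputable def eT8014 (i : Nat) : Nat := Bool.rec (eL8019 i) (eL8020 i) (Nat.ble 8212480 i)
noncomputable def eT8015 (i : Nat) : Nat := Bool.rec (eL8022 i) (eL8023 i) (Nat.ble 8215552 i)
noncomputable def eT8016 (i : Nat) : Nat := Bool.rec (eL8021 i) (eT8015 i) (Nat.ble 8214528 i)
noncomputable def eT8017 (i : Nat) : Nat := Bool.rec (eT8014 i) (eT8016 i) (Nat.ble 8213504 i)
noncomputable def eT8018 (i : Nat) : Nat := Bool.rec (eT8013 i) (eT8017 i) (Nat.ble 8211456 i)
noncomputable def eT8019 (i : Nat) : Nat := Bool.rec (eL8024 i) (eL8025 i) (Nat.ble 8217600 i)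
noncomputable def eT8020 (i : Nat) : Nat := Bool.rec (eL8027 i) (eL8028 i) (Nat.ble 8220672 i)
noncomputable def eT8021 (i : Nat) : Nat := Bool.rec (eL8026 i) (eT8020 i) (Nat.ble 8219648 i)
noncomputable def eT8022 (i : Nat) : Nat := Bool.rec (eT8019 i) (eT8021 i) (Nat.ble 8218624 i)
noncomputable def eT8023 (i : Nat) : Nat := Bool.rec (eL8029 i) (eL8030 i) (Nat.ble 8222720 i)
noncomputable def eT8024 (i : Nat) : Nat := Bool.rec (eL8032 i) (eL8033 i) (Nat.ble 8225792 i)
noncomputable def eT8025 (i : Nat) : Nat := Bool.rec (eL8031 i) (eT8024 i) (Nat.ble 8224768 i)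
noncomputable def eT8026 (i : Nat) : Nat := Bool.rec (eT8023 i) (eT8025 i) (Nat.ble 8223744 i)
noncomputable def eT8027 (i : Nat) : Nat := Bool.rec (eT8022 i) (eT8026 i) (Nat.ble 8221696 i)
noncomputable def eT8028 (i : Nat) : Nat := Bool.rec (eT8018 i) (eT8027 i) (Nat.ble 8216576 i)
noncomputable def eT8029 (i : Nat) : Nat := Bool.rec (eL8034 i) (eL8035 i) (Nat.ble 8227840 i)
noncomputable def eT8030 (i : Nat) : Nat := Bool.rec (eL8037 i) (eL8038 i) (Nat.ble 8230912 i)
noncomputable def eT8031 (i : Nat) : Nat := Bool.rec (eL8036 i) (eT8030 i) (Nat.ble 8229888 i)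
noncomputable def eT8032 (i : Nat) : Nat := Bool.rec (eT8029 i) (eT8031 i) (Nat.ble 8228864 i)
noncomputable def eT8033 (i : Nat) : Nat := Bool.rec (eL8039 i) (eL8040 i) (Nat.ble 8232960 i)
noncomputable def eT8034 (i : Nat) : Nat := Bool.rec (eL8042 i) (eL8043 i) (Nat.ble 8236032 i)
noncomputable def eT8035 (i : Nat) : Nat := Bool.rec (eL8041 i) (eT8034 i) (Nat.ble 8235008 i)
noncomputable def eT8036 (i : Nat) : Nat := Bool.rec (eT8033 i) (eT8035 i) (Nat.ble 8233984 i)
noncomputable def eT8037 (i : Nat) : Nat := Bool.rec (eT8032 i) (eT8036 i) (Nat.ble 8231936 i)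
noncomputable def eT8038 (i : Nat) : Nat := Bool.rec (eL8044 i) (eL8045 i) (Nat.ble 8238080 i)
noncomputable def eT8039 (i : Nat) : Nat := Bool.rec (eL8047 i) (eL8048 i) (Nat.ble 8241152 i)
noncomputable def eT8040 (i : Nat) : Nat := Bool.rec (eL8046 i) (eT8039 i) (Nat.ble 8240128 i)
noncomputable def eT8041 (i : Nat) : Nat := Bool.rec (eT8038 i) (eT8040 i) (Nat.ble 8239104 i)
noncomputable def eT8042 (i : Nat) : Nat := Bool.rec (eL8050 i) (eL8051 i) (Nat.ble 8244224 i)
noncomputable def eT8043 (i : Nat) : Nat := Bool.rec (eL8049 i) (eT8042 i) (Nat.ble 8243200 i)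
noncomputable def eT8044 (i : Nat) : Nat := Bool.rec (eL8053 i) (eL8054 i) (Nat.ble 8247296 i)
noncomputable def eT8045 (i : Nat) : Nat := Bool.rec (eL8052 i) (eT8044 i) (Nat.ble 8246272 i)
noncomputable def eT8046 (i : Nat) : Nat := Bool.rec (eT8043 i) (eT8045 i) (Nat.ble 8245248 i)
noncomputable def eT8047 (i : Nat) : Nat := Bool.rec (eT8041 i) (eT8046 i) (Nat.ble 8242176 i)
noncomputable def eT8048 (i : Nat) : Nat := Bool.rec (eT8037 i) (eT8047 i) (Nat.ble 8237056 i)
noncomputable def eT8049 (i : Nat) : Nat := Bool.rec (eT8028 i) (eT8048 i) (Nat.ble 8226816 i)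
noncomputable def eT8050 (i : Nat) : Nat := Bool.rec (eT8009 i) (eT8049 i) (Nat.ble 8206336 i)
noncomputable def eT8051 (i : Nat) : Nat := Bool.rec (eT7969 i) (eT8050 i) (Nat.ble 8164352 i)
noncomputable def eT8052 (i : Nat) : Nat := Bool.rec (eL8055 i) (eL8056 i) (Nat.ble 8249344 i)
noncomputable def eT8053 (i : Nat) : Nat := Bool.rec (eL8058 i) (eL8059 i) (Nat.ble 8252416 i)
noncomputable def eT8054 (i : Nat) : Nat := Bool.rec (eL8057 i) (eT8053 i) (Nat.ble 8251392 i)
noncomputable def eT8055 (i : Nat) : Nat := Bool.rec (eT8052 i) (eT8054 i) (Nat.ble 8250368 i)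
noncomputable def eT8056 (i : Nat) : Nat := Bool.rec (eL8060 i) (eL8061 i) (Nat.ble 8254464 i)
noncomputable def eT8057 (i : Nat) : Nat := Bool.rec (eL8063 i) (eL8064 i) (Nat.ble 8257536 i)
noncomputable def eT8058 (i : Nat) : Nat := Bool.rec (eL8062 i) (eT8057 i) (Nat.ble 8256512 i)
noncomputable def eT8059 (i : Nat) : Nat := Bool.rec (eT8056 i) (eT8058 i) (Nat.ble 8255488 i)
noncomputable def eT8060 (i : Nat) : Nat := Bool.rec (eT8055 i) (eT8059 i) (Nat.ble 8253440 i)
noncomputable def eT8061 (i : Nat) : Nat := Bool.rec (eL8065 i) (eL8066 i) (Nat.ble 8259584 i)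
noncomputable def eT8062 (i : Nat) : Nat := Bool.rec (eL8068 i) (eL8069 i) (Nat.ble 8262656 i)
noncomputable def eT8063 (i : Nat) : Nat := Bool.rec (eL8067 i) (eT8062 i) (Nat.ble 8261632 i)
noncomputable def eT8064 (i : Nat) : Nat := Bool.rec (eT8061 i) (eT8063 i) (Nat.ble 8260608 i)
noncomputable def eT8065 (i : Nat) : Nat := Bool.rec (eL8070 i) (eL8071 i) (Nat.ble 8264704 i)
noncomputable def eT8066 (i : Nat) : Nat := Bool.rec (eL8073 i) (eL8074 i) (Nat.ble 8267776 i)
noncomputable def eT8067 (i : Nat) : Nat := Bool.rec (eL8072 i) (eT8066 i) (Nat.ble 8266752 i)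
noncomputable def eT8068 (i : Nat) : Nat := Bool.rec (eT8065 i) (eT8067 i) (Nat.ble 8265728 i)
noncomputable def eT8069 (i : Nat) : Nat := Bool.rec (eT8064 i) (eT8068 i) (Nat.ble 8263680 i)
noncomputable def eT8070 (i : Nat) : Nat := Bool.rec (eT8060 i) (eT8069 i) (Nat.ble 8258560 i)
noncomputable def eT8071 (i : Nat) : Nat := Bool.rec (eL8075 i) (eL8076 i) (Nat.ble 8269824 i)
noncomputable def eT8072 (i : Nat) : Nat := Bool.rec (eL8078 i) (eL8079 i) (Nat.ble 8272896 i)
noncomputable def eT8073 (i : Nat) : Nat := Bool.rec (eL8077 i) (eT8072 i) (Nat.ble 8271872 i)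
noncomputable def eT8074 (i : Nat) : Nat := Bool.rec (eT8071 i) (eT8073 i) (Nat.ble 8270848 i)
noncomputable def eT8075 (i : Nat) : Nat := Bool.rec (eL8080 i) (eL8081 i) (Nat.ble 8274944 i)
noncomputable def eT8076 (i : Nat) : Nat := Bool.rec (eL8083 i) (eL8084 i) (Nat.ble 8278016 i)
noncomputable def eT8077 (i : Nat) : Nat := Bool.rec (eL8082 i) (eT8076 i) (Nat.ble 8276992 i)
noncomputable def eT8078 (i : Nat) : Nat := Bool.rec (eT8075 i) (eT8077 i) (Nat.ble 8275968 i)
noncomputable def eT8079 (i : Nat) : Nat := Bool.rec (eT8074 i) (eT8078 i) (Nat.ble 8273920 i)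
noncomputable def eT8080 (i : Nat) : Nat := Bool.rec (eL8085 i) (eL8086 i) (Nat.ble 8280064 i)
noncomputable def eT8081 (i : Nat) : Nat := Bool.rec (eL8088 i) (eL8089 i) (Nat.ble 8283136 i)
noncomputable def eT8082 (i : Nat) : Nat := Bool.rec (eL8087 i) (eT8081 i) (Nat.ble 8282112 i)
noncomputable def eT8083 (i : Nat) : Nat := Bool.rec (eT8080 i) (eT8082 i) (Nat.ble 8281088 i)
noncomputable def eT8084 (i : Nat) : Nat := Bool.rec (eL8091 i) (eL8092 i) (Nat.ble 8286208 i)
noncomputable def eT8085 (i : Nat) : Nat := Bool.rec (eL8090 i) (eT8084 i) (Nat.ble 8285184 i)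
noncomputable def eT8086 (i : Nat) : Nat := Bool.rec (eL8094 i) (eL8095 i) (Nat.ble 8289280 i)
noncomputable def eT8087 (i : Nat) : Nat := Bool.rec (eL8093 i) (eT8086 i) (Nat.ble 8288256 i)
noncomputable def eT8088 (i : Nat) : Nat := Bool.rec (eT8085 i) (eT8087 i) (Nat.ble 8287232 i)
noncomputable def eT8089 (i : Nat) : Nat := Bool.rec (eT8083 i) (eT8088 i) (Nat.ble 8284160 i)
noncomputable def eT8090 (i : Nat) : Nat := Bool.rec (eT8079 i) (eT8089 i) (Nat.ble 8279040 i)
noncomputable def eT8091 (i : Nat) : Nat := Bool.rec (eT8070 i) (eT8090 i) (Nat.ble 8268800 i)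
noncomputable def eT8092 (i : Nat) : Nat := Bool.rec (eL8096 i) (eL8097 i) (Nat.ble 8291328 i)
noncomputable def eT8093 (i : Nat) : Nat := Bool.rec (eL8099 i) (eL8100 i) (Nat.ble 8294400 i)
noncomputable def eT8094 (i : Nat) : Nat := Bool.rec (eL8098 i) (eT8093 i) (Nat.ble 8293376 i)
noncomputable def eT8095 (i : Nat) : Nat := Bool.rec (eT8092 i) (eT8094 i) (Nat.ble 8292352 i)
noncomputable def eT8096 (i : Nat) : Nat := Bool.rec (eL8101 i) (eL8102 i) (Nat.ble 8296448 i)
noncomputable def eT8097 (i : Nat) : Nat := Bool.rec (eL8104 i) (eL8105 i) (Nat.ble 8299520 i)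
noncomputable def eT8098 (i : Nat) : Nat := Bool.rec (eL8103 i) (eT8097 i) (Nat.ble 8298496 i)
noncomputable def eT8099 (i : Nat) : Nat := Bool.rec (eT8096 i) (eT8098 i) (Nat.ble 8297472 i)
noncomputable def eT8100 (i : Nat) : Nat := Bool.rec (eT8095 i) (eT8099 i) (Nat.ble 8295424 i)
noncomputable def eT8101 (i : Nat) : Nat := Bool.rec (eL8106 i) (eL8107 i) (Nat.ble 8301568 i)
noncomputable def eT8102 (i : Nat) : Nat := Bool.rec (eL8109 i) (eL8110 i) (Nat.ble 8304640 i)
noncomputable def eT8103 (i : Nat) : Nat := Bool.rec (eL8108 i) (eT8102 i) (Nat.ble 8303616 i)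
noncomputable def eT8104 (i : Nat) : Nat := Bool.rec (eT8101 i) (eT8103 i) (Nat.ble 8302592 i)
noncomputable def eT8105 (i : Nat) : Nat := Bool.rec (eL8111 i) (eL8112 i) (Nat.ble 8306688 i)
noncomputable def eT8106 (i : Nat) : Nat := Bool.rec (eL8114 i) (eL8115 i) (Nat.ble 8309760 i)
noncomputable def eT8107 (i : Nat) : Nat := Bool.rec (eL8113 i) (eT8106 i) (Nat.ble 8308736 i)
noncomputable def eT8108 (i : Nat) : Nat := Bool.rec (eT8105 i) (eT8107 i) (Nat.ble 8307712 i)
noncomputable def eT8109 (i : Nat) : Nat := Bool.rec (eT8104 i) (eT8108 i) (Nat.ble 8305664 i)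
noncomputable def eT8110 (i : Nat) : Nat := Bool.rec (eT8100 i) (eT8109 i) (Nat.ble 8300544 i)
noncomputable def eT8111 (i : Nat) : Nat := Bool.rec (eL8116 i) (eL8117 i) (Nat.ble 8311808 i)
noncomputable def eT8112 (i : Nat) : Nat := Bool.rec (eL8119 i) (eL8120 i) (Nat.ble 8314880 i)
noncomputable def eT8113 (i : Nat) : Nat := Bool.rec (eL8118 i) (eT8112 i) (Nat.ble 8313856 i)
noncomputable def eT8114 (i : Nat) : Nat := Bool.rec (eT8111 i) (eT8113 i) (Nat.ble 8312832 i)
noncomputable def eT8115 (i : Nat) : Nat := Bool.rec (eL8121 i) (eL8122 i) (Nat.ble 8316928 i)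
noncomputable def eT8116 (i : Nat) : Nat := Bool.rec (eL8124 i) (eL8125 i) (Nat.ble 8320000 i)
noncomputable def eT8117 (i : Nat) : Nat := Bool.rec (eL8123 i) (eT8116 i) (Nat.ble 8318976 i)
noncomputable def eT8118 (i : Nat) : Nat := Bool.rec (eT8115 i) (eT8117 i) (Nat.ble 8317952 i)
noncomputable def eT8119 (i : Nat) : Nat := Bool.rec (eT8114 i) (eT8118 i) (Nat.ble 8315904 i)
noncomputable def eT8120 (i : Nat) : Nat := Bool.rec (eL8126 i) (eL8127 i) (Nat.ble 8322048 i)
noncomputable def eT8121 (i : Nat) : Nat := Bool.rec (eL8129 i) (eL8130 i) (Nat.ble 8325120 i)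
noncomputable def eT8122 (i : Nat) : Nat := Bool.rec (eL8128 i) (eT8121 i) (Nat.ble 8324096 i)
noncomputable def eT8123 (i : Nat) : Nat := Bool.rec (eT8120 i) (eT8122 i) (Nat.ble 8323072 i)
noncomputable def eT8124 (i : Nat) : Nat := Bool.rec (eL8132 i) (eL8133 i) (Nat.ble 8328192 i)
noncomputable def eT8125 (i : Nat) : Nat := Bool.rec (eL8131 i) (eT8124 i) (Nat.ble 8327168 i)
noncomputable def eT8126 (i : Nat) : Nat := Bool.rec (eL8135 i) (eL8136 i) (Nat.ble 8331264 i)
noncomputable def eT8127 (i : Nat) : Nat := Bool.rec (eL8134 i) (eT8126 i) (Nat.ble 8330240 i)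
noncomputable def eT8128 (i : Nat) : Nat := Bool.rec (eT8125 i) (eT8127 i) (Nat.ble 8329216 i)
noncomputable def eT8129 (i : Nat) : Nat := Bool.rec (eT8123 i) (eT8128 i) (Nat.ble 8326144 i)
noncomputable def eT8130 (i : Nat) : Nat := Bool.rec (eT8119 i) (eT8129 i) (Nat.ble 8321024 i)
noncomputable def eT8131 (i : Nat) : Nat := Bool.rec (eT8110 i) (eT8130 i) (Nat.ble 8310784 i)
noncomputable def eT8132 (i : Nat) : Nat := Bool.rec (eT8091 i) (eT8131 i) (Nat.ble 8290304 i)
noncomputable def eT8133 (i : Nat) : Nat := Bool.rec (eL8137 i) (eL8138 i) (Nat.ble 8333312 i)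
noncomputable def eT8134 (i : Nat) : Nat := Bool.rec (eL8140 i) (eL8141 i) (Nat.ble 8336384 i)
noncomputable def eT8135 (i : Nat) : Nat := Bool.rec (eL8139 i) (eT8134 i) (Nat.ble 8335360 i)
noncomputable def eT8136 (i : Nat) : Nat := Bool.rec (eT8133 i) (eT8135 i) (Nat.ble 8334336 i)
noncomputable def eT8137 (i : Nat) : Nat := Bool.rec (eL8142 i) (eL8143 i) (Nat.ble 8338432 i)
noncomputable def eT8138 (i : Nat) : Nat := Bool.rec (eL8145 i) (eL8146 i) (Nat.ble 8341504 i)
noncomputable def eT8139 (i : Nat) : Nat := Bool.rec (eL8144 i) (eT8138 i) (Nat.ble 8340480 i)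
noncomputable def eT8140 (i : Nat) : Nat := Bool.rec (eT8137 i) (eT8139 i) (Nat.ble 8339456 i)
noncomputable def eT8141 (i : Nat) : Nat := Bool.rec (eT8136 i) (eT8140 i) (Nat.ble 8337408 i)
noncomputable def eT8142 (i : Nat) : Nat := Bool.rec (eL8147 i) (eL8148 i) (Nat.ble 8343552 i)
noncomputable def eT8143 (i : Nat) : Nat := Bool.rec (eL8150 i) (eL8151 i) (Nat.ble 8346624 i)
noncomputable def eT8144 (i : Nat) : Nat := Bool.rec (eL8149 i) (eT8143 i) (Nat.ble 8345600 i)
noncomputable def eT8145 (i : Nat) : Nat := Bool.rec (eT8142 i) (eT8144 i) (Nat.ble 8344576 i)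
noncomputable def eT8146 (i : Nat) : Nat := Bool.rec (eL8152 i) (eL8153 i) (Nat.ble 8348672 i)
noncomputable def eT8147 (i : Nat) : Nat := Bool.rec (eL8155 i) (eL8156 i) (Nat.ble 8351744 i)
noncomputable def eT8148 (i : Nat) : Nat := Bool.rec (eL8154 i) (eT8147 i) (Nat.ble 8350720 i)
noncomputable def eT8149 (i : Nat) : Nat := Bool.rec (eT8146 i) (eT8148 i) (Nat.ble 8349696 i)
noncomputable def eT8150 (i : Nat) : Nat := Bool.rec (eT8145 i) (eT8149 i) (Nat.ble 8347648 i)
noncomputable def eT8151 (i : Nat) : Nat := Bool.rec (eT8141 i) (eT8150 i) (Nat.ble 8342528 i)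
noncomputable def eT8152 (i : Nat) : Nat := Bool.rec (eL8157 i) (eL8158 i) (Nat.ble 8353792 i)
noncomputable def eT8153 (i : Nat) : Nat := Bool.rec (eL8160 i) (eL8161 i) (Nat.ble 8356864 i)
noncomputable def eT8154 (i : Nat) : Nat := Bool.rec (eL8159 i) (eT8153 i) (Nat.ble 8355840 i)
noncomputable def eT8155 (i : Nat) : Nat := Bool.rec (eT8152 i) (eT8154 i) (Nat.ble 8354816 i)
noncomputable def eT8156 (i : Nat) : Nat := Bool.rec (eL8162 i) (eL8163 i) (Nat.ble 8358912 i)
noncomputable def eT8157 (i : Nat) : Nat := Bool.rec (eL8165 i) (eL8166 i) (Nat.ble 8361984 i)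
noncomputable def eT8158 (i : Nat) : Nat := Bool.rec (eL8164 i) (eT8157 i) (Nat.ble 8360960 i)
noncomputable def eT8159 (i : Nat) : Nat := Bool.rec (eT8156 i) (eT8158 i) (Nat.ble 8359936 i)
noncomputable def eT8160 (i : Nat) : Nat := Bool.rec (eT8155 i) (eT8159 i) (Nat.ble 8357888 i)
noncomputable def eT8161 (i : Nat) : Nat := Bool.rec (eL8167 i) (eL8168 i) (Nat.ble 8364032 i)
noncomputable def eT8162 (i : Nat) : Nat := Bool.rec (eL8170 i) (eL8171 i) (Nat.ble 8367104 i)
noncomputable def eT8163 (i : Nat) : Nat := Bool.rec (eL8169 i) (eT8162 i) (Nat.ble 8366080 i)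
noncomputable def eT8164 (i : Nat) : Nat := Bool.rec (eT8161 i) (eT8163 i) (Nat.ble 8365056 i)
noncomputable def eT8165 (i : Nat) : Nat := Bool.rec (eL8173 i) (eL8174 i) (Nat.ble 8370176 i)
noncomputable def eT8166 (i : Nat) : Nat := Bool.rec (eL8172 i) (eT8165 i) (Nat.ble 8369152 i)
noncomputable def eT8167 (i : Nat) : Nat := Bool.rec (eL8176 i) (eL8177 i) (Nat.ble 8373248 i)
noncomputable def eT8168 (i : Nat) : Nat := Bool.rec (eL8175 i) (eT8167 i) (Nat.ble 8372224 i)
noncomputable def eT8169 (i : Nat) : Nat := Bool.rec (eT8166 i) (eT8168 i) (Nat.ble 8371200 i)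
noncomputable def eT8170 (i : Nat) : Nat := Bool.rec (eT8164 i) (eT8169 i) (Nat.ble 8368128 i)
noncomputable def eT8171 (i : Nat) : Nat := Bool.rec (eT8160 i) (eT8170 i) (Nat.ble 8363008 i)
noncomputable def eT8172 (i : Nat) : Nat := Bool.rec (eT8151 i) (eT8171 i) (Nat.ble 8352768 i)
noncomputable def eT8173 (i : Nat) : Nat := Bool.rec (eL8178 i) (eL8179 i) (Nat.ble 8375296 i)
noncomputable def eT8174 (i : Nat) : Nat := Bool.rec (eL8181 i) (eL8182 i) (Nat.ble 8378368 i)
noncomputable def eT8175 (i : Nat) : Nat := Bool.rec (eL8180 i) (eT8174 i) (Nat.ble 8377344 i)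
noncomputable def eT8176 (i : Nat) : Nat := Bool.rec (eT8173 i) (eT8175 i) (Nat.ble 8376320 i)
noncomputable def eT8177 (i : Nat) : Nat := Bool.rec (eL8183 i) (eL8184 i) (Nat.ble 8380416 i)
noncomputable def eT8178 (i : Nat) : Nat := Bool.rec (eL8186 i) (eL8187 i) (Nat.ble 8383488 i)
noncomputable def eT8179 (i : Nat) : Nat := Bool.rec (eL8185 i) (eT8178 i) (Nat.ble 8382464 i)
noncomputable def eT8180 (i : Nat) : Nat := Bool.rec (eT8177 i) (eT8179 i) (Nat.ble 8381440 i)
noncomputable def eT8181 (i : Nat) : Nat := Bool.rec (eT8176 i) (eT8180 i) (Nat.ble 8379392 i)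
noncomputable def eT8182 (i : Nat) : Nat := Bool.rec (eL8188 i) (eL8189 i) (Nat.ble 8385536 i)
noncomputable def eT8183 (i : Nat) : Nat := Bool.rec (eL8191 i) (eL8192 i) (Nat.ble 8388608 i)
noncomputable def eT8184 (i : Nat) : Nat := Bool.rec (eL8190 i) (eT8183 i) (Nat.ble 8387584 i)
noncomputable def eT8185 (i : Nat) : Nat := Bool.rec (eT8182 i) (eT8184 i) (Nat.ble 8386560 i)
noncomputable def eT8186 (i : Nat) : Nat := Bool.rec (eL8193 i) (eL8194 i) (Nat.ble 8390656 i)
noncomputable def eT8187 (i : Nat) : Nat := Bool.rec (eL8196 i) (eL8197 i) (Nat.ble 8393728 i)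
noncomputable def eT8188 (i : Nat) : Nat := Bool.rec (eL8195 i) (eT8187 i) (Nat.ble 8392704 i)
noncomputable def eT8189 (i : Nat) : Nat := Bool.rec (eT8186 i) (eT8188 i) (Nat.ble 8391680 i)
noncomputable def eT8190 (i : Nat) : Nat := Bool.rec (eT8185 i) (eT8189 i) (Nat.ble 8389632 i)
noncomputable def eT8191 (i : Nat) : Nat := Bool.rec (eT8181 i) (eT8190 i) (Nat.ble 8384512 i)
noncomputable def eT8192 (i : Nat) : Nat := Bool.rec (eL8198 i) (eL8199 i) (Nat.ble 8395776 i)
noncomputable def eT8193 (i : Nat) : Nat := Bool.rec (eL8201 i) (eL8202 i) (Nat.ble 8398848 i)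
noncomputable def eT8194 (i : Nat) : Nat := Bool.rec (eL8200 i) (eT8193 i) (Nat.ble 8397824 i)
noncomputable def eT8195 (i : Nat) : Nat := Bool.rec (eT8192 i) (eT8194 i) (Nat.ble 8396800 i)
noncomputable def eT8196 (i : Nat) : Nat := Bool.rec (eL8203 i) (eL8204 i) (Nat.ble 8400896 i)
noncomputable def eT8197 (i : Nat) : Nat := Bool.rec (eL8206 i) (eL8207 i) (Nat.ble 8403968 i)
noncomputable def eT8198 (i : Nat) : Nat := Bool.rec (eL8205 i) (eT8197 i) (Nat.ble 8402944 i)
noncomputable def eT8199 (i : Nat) : Nat := Bool.rec (eT8196 i) (eT8198 i) (Nat.ble 8401920 i)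
noncomputable def eT8200 (i : Nat) : Nat := Bool.rec (eT8195 i) (eT8199 i) (Nat.ble 8399872 i)
noncomputable def eT8201 (i : Nat) : Nat := Bool.rec (eL8208 i) (eL8209 i) (Nat.ble 8406016 i)
noncomputable def eT8202 (i : Nat) : Nat := Bool.rec (eL8211 i) (eL8212 i) (Nat.ble 8409088 i)
noncomputable def eT8203 (i : Nat) : Nat := Bool.rec (eL8210 i) (eT8202 i) (Nat.ble 8408064 i)
noncomputable def eT8204 (i : Nat) : Nat := Bool.rec (eT8201 i) (eT8203 i) (Nat.ble 8407040 i)
noncomputable def eT8205 (i : Nat) : Nat := Bool.rec (eL8214 i) (eL8215 i) (Nat.ble 8412160 i)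
noncomputable def eT8206 (i : Nat) : Nat := Bool.rec (eL8213 i) (eT8205 i) (Nat.ble 8411136 i)
noncomputable def eT8207 (i : Nat) : Nat := Bool.rec (eL8217 i) (eL8218 i) (Nat.ble 8415232 i)
noncomputable def eT8208 (i : Nat) : Nat := Bool.rec (eL8216 i) (eT8207 i) (Nat.ble 8414208 i)
noncomputable def eT8209 (i : Nat) : Nat := Bool.rec (eT8206 i) (eT8208 i) (Nat.ble 8413184 i)
noncomputable def eT8210 (i : Nat) : Nat := Bool.rec (eT8204 i) (eT8209 i) (Nat.ble 8410112 i)
noncomputable def eT8211 (i : Nat) : Nat := Bool.rec (eT8200 i) (eT8210 i) (Nat.ble 8404992 i)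
noncomputable def eT8212 (i : Nat) : Nat := Bool.rec (eT8191 i) (eT8211 i) (Nat.ble 8394752 i)
noncomputable def eT8213 (i : Nat) : Nat := Bool.rec (eT8172 i) (eT8212 i) (Nat.ble 8374272 i)
noncomputable def eT8214 (i : Nat) : Nat := Bool.rec (eT8132 i) (eT8213 i) (Nat.ble 8332288 i)
noncomputable def eT8215 (i : Nat) : Nat := Bool.rec (eT8051 i) (eT8214 i) (Nat.ble 8248320 i)
noncomputable def eT8216 (i : Nat) : Nat := Bool.rec (eL8219 i) (eL8220 i) (Nat.ble 8417280 i)
noncomputable def eT8217 (i : Nat) : Nat := Bool.rec (eL8222 i) (eL8223 i) (Nat.ble 8420352 i)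
noncomputable def eT8218 (i : Nat) : Nat := Bool.rec (eL8221 i) (eT8217 i) (Nat.ble 8419328 i)
noncomputable def eT8219 (i : Nat) : Nat := Bool.rec (eT8216 i) (eT8218 i) (Nat.ble 8418304 i)
noncomputable def eT8220 (i : Nat) : Nat := Bool.rec (eL8224 i) (eL8225 i) (Nat.ble 8422400 i)
noncomputable def eT8221 (i : Nat) : Nat := Bool.rec (eL8227 i) (eL8228 i) (Nat.ble 8425472 i)
noncomputable def eT8222 (i : Nat) : Nat := Bool.rec (eL8226 i) (eT8221 i) (Nat.ble 8424448 i)
noncomputable def eT8223 (i : Nat) : Nat := Bool.rec (eT8220 i) (eT8222 i) (Nat.ble 8423424 i)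
noncomputable def eT8224 (i : Nat) : Nat := Bool.rec (eT8219 i) (eT8223 i) (Nat.ble 8421376 i)
noncomputable def eT8225 (i : Nat) : Nat := Bool.rec (eL8229 i) (eL8230 i) (Nat.ble 8427520 i)
noncomputable def eT8226 (i : Nat) : Nat := Bool.rec (eL8232 i) (eL8233 i) (Nat.ble 8430592 i)
noncomputable def eT8227 (i : Nat) : Nat := Bool.rec (eL8231 i) (eT8226 i) (Nat.ble 8429568 i)
noncomputable def eT8228 (i : Nat) : Nat := Bool.rec (eT8225 i) (eT8227 i) (Nat.ble 8428544 i)
noncomputable def eT8229 (i : Nat) : Nat := Bool.rec (eL8234 i) (eL8235 i) (Nat.ble 8432640 i)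
noncomputable def eT8230 (i : Nat) : Nat := Bool.rec (eL8237 i) (eL8238 i) (Nat.ble 8435712 i)
noncomputable def eT8231 (i : Nat) : Nat := Bool.rec (eL8236 i) (eT8230 i) (Nat.ble 8434688 i)
noncomputable def eT8232 (i : Nat) : Nat := Bool.rec (eT8229 i) (eT8231 i) (Nat.ble 8433664 i)
noncomputable def eT8233 (i : Nat) : Nat := Bool.rec (eT8228 i) (eT8232 i) (Nat.ble 8431616 i)
noncomputable def eT8234 (i : Nat) : Nat := Bool.rec (eT8224 i) (eT8233 i) (Nat.ble 8426496 i)
noncomputable def eT8235 (i : Nat) : Nat := Bool.rec (eL8239 i) (eL8240 i) (Nat.ble 8437760 i)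
noncomputable def eT8236 (i : Nat) : Nat := Bool.rec (eL8242 i) (eL8243 i) (Nat.ble 8440832 i)
noncomputable def eT8237 (i : Nat) : Nat := Bool.rec (eL8241 i) (eT8236 i) (Nat.ble 8439808 i)
noncomputable def eT8238 (i : Nat) : Nat := Bool.rec (eT8235 i) (eT8237 i) (Nat.ble 8438784 i)
noncomputable def eT8239 (i : Nat) : Nat := Bool.rec (eL8244 i) (eL8245 i) (Nat.ble 8442880 i)
noncomputable def eT8240 (i : Nat) : Nat := Bool.rec (eL8247 i) (eL8248 i) (Nat.ble 8445952 i)
noncomputable def eT8241 (i : Nat) : Nat := Bool.rec (eL8246 i) (eT8240 i) (Nat.ble 8444928 i)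
noncomputable def eT8242 (i : Nat) : Nat := Bool.rec (eT8239 i) (eT8241 i) (Nat.ble 8443904 i)
noncomputable def eT8243 (i : Nat) : Nat := Bool.rec (eT8238 i) (eT8242 i) (Nat.ble 8441856 i)
noncomputable def eT8244 (i : Nat) : Nat := Bool.rec (eL8249 i) (eL8250 i) (Nat.ble 8448000 i)
noncomputable def eT8245 (i : Nat) : Nat := Bool.rec (eL8252 i) (eL8253 i) (Nat.ble 8451072 i)
noncomputable def eT8246 (i : Nat) : Nat := Bool.rec (eL8251 i) (eT8245 i) (Nat.ble 8450048 i)
noncomputable def eT8247 (i : Nat) : Nat := Bool.rec (eT8244 i) (eT8246 i) (Nat.ble 8449024 i)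
noncomputable def eT8248 (i : Nat) : Nat := Bool.rec (eL8255 i) (eL8256 i) (Nat.ble 8454144 i)
noncomputable def eT8249 (i : Nat) : Nat := Bool.rec (eL8254 i) (eT8248 i) (Nat.ble 8453120 i)
noncomputable def eT8250 (i : Nat) : Nat := Bool.rec (eL8258 i) (eL8259 i) (Nat.ble 8457216 i)
noncomputable def eT8251 (i : Nat) : Nat := Bool.rec (eL8257 i) (eT8250 i) (Nat.ble 8456192 i)
noncomputable def eT8252 (i : Nat) : Nat := Bool.rec (eT8249 i) (eT8251 i) (Nat.ble 8455168 i)
noncomputable def eT8253 (i : Nat) : Nat := Bool.rec (eT8247 i) (eT8252 i) (Nat.ble 8452096 i)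
noncomputable def eT8254 (i : Nat) : Nat := Bool.rec (eT8243 i) (eT8253 i) (Nat.ble 8446976 i)
noncomputable def eT8255 (i : Nat) : Nat := Bool.rec (eT8234 i) (eT8254 i) (Nat.ble 8436736 i)
noncomputable def eT8256 (i : Nat) : Nat := Bool.rec (eL8260 i) (eL8261 i) (Nat.ble 8459264 i)
noncomputable def eT8257 (i : Nat) : Nat := Bool.rec (eL8263 i) (eL8264 i) (Nat.ble 8462336 i)
noncomputable def eT8258 (i : Nat) : Nat := Bool.rec (eL8262 i) (eT8257 i) (Nat.ble 8461312 i)
noncomputable def eT8259 (i : Nat) : Nat := Bool.rec (eT8256 i) (eT8258 i) (Nat.ble 8460288 i)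
noncomputable def eT8260 (i : Nat) : Nat := Bool.rec (eL8265 i) (eL8266 i) (Nat.ble 8464384 i)
noncomputable def eT8261 (i : Nat) : Nat := Bool.rec (eL8268 i) (eL8269 i) (Nat.ble 8467456 i)
noncomputable def eT8262 (i : Nat) : Nat := Bool.rec (eL8267 i) (eT8261 i) (Nat.ble 8466432 i)
noncomputable def eT8263 (i : Nat) : Nat := Bool.rec (eT8260 i) (eT8262 i) (Nat.ble 8465408 i)
noncomputable def eT8264 (i : Nat) : Nat := Bool.rec (eT8259 i) (eT8263 i) (Nat.ble 8463360 i)
noncomputable def eT8265 (i : Nat) : Nat := Bool.rec (eL8270 i) (eL8271 i) (Nat.ble 8469504 i)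
noncomputable def eT8266 (i : Nat) : Nat := Bool.rec (eL8273 i) (eL8274 i) (Nat.ble 8472576 i)
noncomputable def eT8267 (i : Nat) : Nat := Bool.rec (eL8272 i) (eT8266 i) (Nat.ble 8471552 i)
noncomputable def eT8268 (i : Nat) : Nat := Bool.rec (eT8265 i) (eT8267 i) (Nat.ble 8470528 i)
noncomputable def eT8269 (i : Nat) : Nat := Bool.rec (eL8275 i) (eL8276 i) (Nat.ble 8474624 i)
noncomputable def eT8270 (i : Nat) : Nat := Bool.rec (eL8278 i) (eL8279 i) (Nat.ble 8477696 i)
noncomputable def eT8271 (i : Nat) : Nat := Bool.rec (eL8277 i) (eT8270 i) (Nat.ble 8476672 i)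
noncomputable def eT8272 (i : Nat) : Nat := Bool.rec (eT8269 i) (eT8271 i) (Nat.ble 8475648 i)
noncomputable def eT8273 (i : Nat) : Nat := Bool.rec (eT8268 i) (eT8272 i) (Nat.ble 8473600 i)
noncomputable def eT8274 (i : Nat) : Nat := Bool.rec (eT8264 i) (eT8273 i) (Nat.ble 8468480 i)
noncomputable def eT8275 (i : Nat) : Nat := Bool.rec (eL8280 i) (eL8281 i) (Nat.ble 8479744 i)
noncomputable def eT8276 (i : Nat) : Nat := Bool.rec (eL8283 i) (eL8284 i) (Nat.ble 8482816 i)
noncomputable def eT8277 (i : Nat) : Nat := Bool.rec (eL8282 i) (eT8276 i) (Nat.ble 8481792 i)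
noncomputable def eT8278 (i : Nat) : Nat := Bool.rec (eT8275 i) (eT8277 i) (Nat.ble 8480768 i)
noncomputable def eT8279 (i : Nat) : Nat := Bool.rec (eL8285 i) (eL8286 i) (Nat.ble 8484864 i)
noncomputable def eT8280 (i : Nat) : Nat := Bool.rec (eL8288 i) (eL8289 i) (Nat.ble 8487936 i)
noncomputable def eT8281 (i : Nat) : Nat := Bool.rec (eL8287 i) (eT8280 i) (Nat.ble 8486912 i)
noncomputable def eT8282 (i : Nat) : Nat := Bool.rec (eT8279 i) (eT8281 i) (Nat.ble 8485888 i)
noncomputable def eT8283 (i : Nat) : Nat := Bool.rec (eT8278 i) (eT8282 i) (Nat.ble 8483840 i)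
noncomputable def eT8284 (i : Nat) : Nat := Bool.rec (eL8290 i) (eL8291 i) (Nat.ble 8489984 i)
noncomputable def eT8285 (i : Nat) : Nat := Bool.rec (eL8293 i) (eL8294 i) (Nat.ble 8493056 i)
noncomputable def eT8286 (i : Nat) : Nat := Bool.rec (eL8292 i) (eT8285 i) (Nat.ble 8492032 i)
noncomputable def eT8287 (i : Nat) : Nat := Bool.rec (eT8284 i) (eT8286 i) (Nat.ble 8491008 i)
noncomputable def eT8288 (i : Nat) : Nat := Bool.rec (eL8296 i) (eL8297 i) (Nat.ble 8496128 i)
noncomputable def eT8289 (i : Nat) : Nat := Bool.rec (eL8295 i) (eT8288 i) (Nat.ble 8495104 i)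
noncomputable def eT8290 (i : Nat) : Nat := Bool.rec (eL8299 i) (eL8300 i) (Nat.ble 8499200 i)
noncomputable def eT8291 (i : Nat) : Nat := Bool.rec (eL8298 i) (eT8290 i) (Nat.ble 8498176 i)
noncomputable def eT8292 (i : Nat) : Nat := Bool.rec (eT8289 i) (eT8291 i) (Nat.ble 8497152 i)
noncomputable def eT8293 (i : Nat) : Nat := Bool.rec (eT8287 i) (eT8292 i) (Nat.ble 8494080 i)
noncomputable def eT8294 (i : Nat) : Nat := Bool.rec (eT8283 i) (eT8293 i) (Nat.ble 8488960 i)
noncomputable def eT8295 (i : Nat) : Nat := Bool.rec (eT8274 i) (eT8294 i) (Nat.ble 8478720 i)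
noncomputable def eT8296 (i : Nat) : Nat := Bool.rec (eT8255 i) (eT8295 i) (Nat.ble 8458240 i)
noncomputable def eT8297 (i : Nat) : Nat := Bool.rec (eL8301 i) (eL8302 i) (Nat.ble 8501248 i)
noncomputable def eT8298 (i : Nat) : Nat := Bool.rec (eL8304 i) (eL8305 i) (Nat.ble 8504320 i)
noncomputable def eT8299 (i : Nat) : Nat := Bool.rec (eL8303 i) (eT8298 i) (Nat.ble 8503296 i)
noncomputable def eT8300 (i : Nat) : Nat := Bool.rec (eT8297 i) (eT8299 i) (Nat.ble 8502272 i)
noncomputable def eT8301 (i : Nat) : Nat := Bool.rec (eL8306 i) (eL8307 i) (Nat.ble 8506368 i)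
noncomputable def eT8302 (i : Nat) : Nat := Bool.rec (eL8309 i) (eL8310 i) (Nat.ble 8509440 i)
noncomputable def eT8303 (i : Nat) : Nat := Bool.rec (eL8308 i) (eT8302 i) (Nat.ble 8508416 i)
noncomputable def eT8304 (i : Nat) : Nat := Bool.rec (eT8301 i) (eT8303 i) (Nat.ble 8507392 i)
noncomputable def eT8305 (i : Nat) : Nat := Bool.rec (eT8300 i) (eT8304 i) (Nat.ble 8505344 i)
noncomputable def eT8306 (i : Nat) : Nat := Bool.rec (eL8311 i) (eL8312 i) (Nat.ble 8511488 i)
noncomputable def eT8307 (i : Nat) : Nat := Bool.rec (eL8314 i) (eL8315 i) (Nat.ble 8514560 i)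
noncomputable def eT8308 (i : Nat) : Nat := Bool.rec (eL8313 i) (eT8307 i) (Nat.ble 8513536 i)
noncomputable def eT8309 (i : Nat) : Nat := Bool.rec (eT8306 i) (eT8308 i) (Nat.ble 8512512 i)
noncomputable def eT8310 (i : Nat) : Nat := Bool.rec (eL8316 i) (eL8317 i) (Nat.ble 8516608 i)
noncomputable def eT8311 (i : Nat) : Nat := Bool.rec (eL8319 i) (eL8320 i) (Nat.ble 8519680 i)
noncomputable def eT8312 (i : Nat) : Nat := Bool.rec (eL8318 i) (eT8311 i) (Nat.ble 8518656 i)
noncomputable def eT8313 (i : Nat) : Nat := Bool.rec (eT8310 i) (eT8312 i) (Nat.ble 8517632 i)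
noncomputable def eT8314 (i : Nat) : Nat := Bool.rec (eT8309 i) (eT8313 i) (Nat.ble 8515584 i)
noncomputable def eT8315 (i : Nat) : Nat := Bool.rec (eT8305 i) (eT8314 i) (Nat.ble 8510464 i)
noncomputable def eT8316 (i : Nat) : Nat := Bool.rec (eL8321 i) (eL8322 i) (Nat.ble 8521728 i)
noncomputable def eT8317 (i : Nat) : Nat := Bool.rec (eL8324 i) (eL8325 i) (Nat.ble 8524800 i)
noncomputable def eT8318 (i : Nat) : Nat := Bool.rec (eL8323 i) (eT8317 i) (Nat.ble 8523776 i)
noncomputable def eT8319 (i : Nat) : Nat := Bool.rec (eT8316 i) (eT8318 i) (Nat.ble 8522752 i)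
noncomputable def eT8320 (i : Nat) : Nat := Bool.rec (eL8326 i) (eL8327 i) (Nat.ble 8526848 i)
noncomputable def eT8321 (i : Nat) : Nat := Bool.rec (eL8329 i) (eL8330 i) (Nat.ble 8529920 i)
noncomputable def eT8322 (i : Nat) : Nat := Bool.rec (eL8328 i) (eT8321 i) (Nat.ble 8528896 i)
noncomputable def eT8323 (i : Nat) : Nat := Bool.rec (eT8320 i) (eT8322 i) (Nat.ble 8527872 i)
noncomputable def eT8324 (i : Nat) : Nat := Bool.rec (eT8319 i) (eT8323 i) (Nat.ble 8525824 i)
noncomputable def eT8325 (i : Nat) : Nat := Bool.rec (eL8331 i) (eL8332 i) (Nat.ble 8531968 i)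
noncomputable def eT8326 (i : Nat) : Nat := Bool.rec (eL8334 i) (eL8335 i) (Nat.ble 8535040 i)
noncomputable def eT8327 (i : Nat) : Nat := Bool.rec (eL8333 i) (eT8326 i) (Nat.ble 8534016 i)
noncomputable def eT8328 (i : Nat) : Nat := Bool.rec (eT8325 i) (eT8327 i) (Nat.ble 8532992 i)
noncomputable def eT8329 (i : Nat) : Nat := Bool.rec (eL8337 i) (eL8338 i) (Nat.ble 8538112 i)
noncomputable def eT8330 (i : Nat) : Nat := Bool.rec (eL8336 i) (eT8329 i) (Nat.ble 8537088 i)
noncomputable def eT8331 (i : Nat) : Nat := Bool.rec (eL8340 i) (eL8341 i) (Nat.ble 8541184 i)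
noncomputable def eT8332 (i : Nat) : Nat := Bool.rec (eL8339 i) (eT8331 i) (Nat.ble 8540160 i)
noncomputable def eT8333 (i : Nat) : Nat := Bool.rec (eT8330 i) (eT8332 i) (Nat.ble 8539136 i)
noncomputable def eT8334 (i : Nat) : Nat := Bool.rec (eT8328 i) (eT8333 i) (Nat.ble 8536064 i)
noncomputable def eT8335 (i : Nat) : Nat := Bool.rec (eT8324 i) (eT8334 i) (Nat.ble 8530944 i)
noncomputable def eT8336 (i : Nat) : Nat := Bool.rec (eT8315 i) (eT8335 i) (Nat.ble 8520704 i)
noncomputable def eT8337 (i : Nat) : Nat := Bool.rec (eL8342 i) (eL8343 i) (Nat.ble 8543232 i)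
noncomputable def eT8338 (i : Nat) : Nat := Bool.rec (eL8345 i) (eL8346 i) (Nat.ble 8546304 i)
noncomputable def eT8339 (i : Nat) : Nat := Bool.rec (eL8344 i) (eT8338 i) (Nat.ble 8545280 i)
noncomputable def eT8340 (i : Nat) : Nat := Bool.rec (eT8337 i) (eT8339 i) (Nat.ble 8544256 i)
noncomputable def eT8341 (i : Nat) : Nat := Bool.rec (eL8347 i) (eL8348 i) (Nat.ble 8548352 i)
noncomputable def eT8342 (i : Nat) : Nat := Bool.rec (eL8350 i) (eL8351 i) (Nat.ble 8551424 i)
noncomputable def eT8343 (i : Nat) : Nat := Bool.rec (eL8349 i) (eT8342 i) (Nat.ble 8550400 i)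
noncomputable def eT8344 (i : Nat) : Nat := Bool.rec (eT8341 i) (eT8343 i) (Nat.ble 8549376 i)
noncomputable def eT8345 (i : Nat) : Nat := Bool.rec (eT8340 i) (eT8344 i) (Nat.ble 8547328 i)
noncomputable def eT8346 (i : Nat) : Nat := Bool.rec (eL8352 i) (eL8353 i) (Nat.ble 8553472 i)
noncomputable def eT8347 (i : Nat) : Nat := Bool.rec (eL8355 i) (eL8356 i) (Nat.ble 8556544 i)
noncomputable def eT8348 (i : Nat) : Nat := Bool.rec (eL8354 i) (eT8347 i) (Nat.ble 8555520 i)
noncomputable def eT8349 (i : Nat) : Nat := Bool.rec (eT8346 i) (eT8348 i) (Nat.ble 8554496 i)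
noncomputable def eT8350 (i : Nat) : Nat := Bool.rec (eL8357 i) (eL8358 i) (Nat.ble 8558592 i)
noncomputable def eT8351 (i : Nat) : Nat := Bool.rec (eL8360 i) (eL8361 i) (Nat.ble 8561664 i)
noncomputable def eT8352 (i : Nat) : Nat := Bool.rec (eL8359 i) (eT8351 i) (Nat.ble 8560640 i)
noncomputable def eT8353 (i : Nat) : Nat := Bool.rec (eT8350 i) (eT8352 i) (Nat.ble 8559616 i)
noncomputable def eT8354 (i : Nat) : Nat := Bool.rec (eT8349 i) (eT8353 i) (Nat.ble 8557568 i)
noncomputable def eT8355 (i : Nat) : Nat := Bool.rec (eT8345 i) (eT8354 i) (Nat.ble 8552448 i)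
noncomputable def eT8356 (i : Nat) : Nat := Bool.rec (eL8362 i) (eL8363 i) (Nat.ble 8563712 i)
noncomputable def eT8357 (i : Nat) : Nat := Bool.rec (eL8365 i) (eL8366 i) (Nat.ble 8566784 i)
noncomputable def eT8358 (i : Nat) : Nat := Bool.rec (eL8364 i) (eT8357 i) (Nat.ble 8565760 i)
noncomputable def eT8359 (i : Nat) : Nat := Bool.rec (eT8356 i) (eT8358 i) (Nat.ble 8564736 i)
noncomputable def eT8360 (i : Nat) : Nat := Bool.rec (eL8367 i) (eL8368 i) (Nat.ble 8568832 i)
noncomputable def eT8361 (i : Nat) : Nat := Bool.rec (eL8370 i) (eL8371 i) (Nat.ble 8571904 i)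
noncomputable def eT8362 (i : Nat) : Nat := Bool.rec (eL8369 i) (eT8361 i) (Nat.ble 8570880 i)
noncomputable def eT8363 (i : Nat) : Nat := Bool.rec (eT8360 i) (eT8362 i) (Nat.ble 8569856 i)
noncomputable def eT8364 (i : Nat) : Nat := Bool.rec (eT8359 i) (eT8363 i) (Nat.ble 8567808 i)
noncomputable def eT8365 (i : Nat) : Nat := Bool.rec (eL8372 i) (eL8373 i) (Nat.ble 8573952 i)
noncomputable def eT8366 (i : Nat) : Nat := Bool.rec (eL8375 i) (eL8376 i) (Nat.ble 8577024 i)
noncomputable def eT8367 (i : Nat) : Nat := Bool.rec (eL8374 i) (eT8366 i) (Nat.ble 8576000 i)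
noncomputable def eT8368 (i : Nat) : Nat := Bool.rec (eT8365 i) (eT8367 i) (Nat.ble 8574976 i)
noncomputable def eT8369 (i : Nat) : Nat := Bool.rec (eL8378 i) (eL8379 i) (Nat.ble 8580096 i)
noncomputable def eT8370 (i : Nat) : Nat := Bool.rec (eL8377 i) (eT8369 i) (Nat.ble 8579072 i)
noncomputable def eT8371 (i : Nat) : Nat := Bool.rec (eL8381 i) (eL8382 i) (Nat.ble 8583168 i)
noncomputable def eT8372 (i : Nat) : Nat := Bool.rec (eL8380 i) (eT8371 i) (Nat.ble 8582144 i)
noncomputable def eT8373 (i : Nat) : Nat := Bool.rec (eT8370 i) (eT8372 i) (Nat.ble 8581120 i)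
noncomputable def eT8374 (i : Nat) : Nat := Bool.rec (eT8368 i) (eT8373 i) (Nat.ble 8578048 i)
noncomputable def eT8375 (i : Nat) : Nat := Bool.rec (eT8364 i) (eT8374 i) (Nat.ble 8572928 i)
noncomputable def eT8376 (i : Nat) : Nat := Bool.rec (eT8355 i) (eT8375 i) (Nat.ble 8562688 i)
noncomputable def eT8377 (i : Nat) : Nat := Bool.rec (eT8336 i) (eT8376 i) (Nat.ble 8542208 i)
noncomputable def eT8378 (i : Nat) : Nat := Bool.rec (eT8296 i) (eT8377 i) (Nat.ble 8500224 i)
noncomputable def eT8379 (i : Nat) : Nat := Bool.rec (eL8383 i) (eL8384 i) (Nat.ble 8585216 i)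
noncomputable def eT8380 (i : Nat) : Nat := Bool.rec (eL8386 i) (eL8387 i) (Nat.ble 8588288 i)
noncomputable def eT8381 (i : Nat) : Nat := Bool.rec (eL8385 i) (eT8380 i) (Nat.ble 8587264 i)
noncomputable def eT8382 (i : Nat) : Nat := Bool.rec (eT8379 i) (eT8381 i) (Nat.ble 8586240 i)
noncomputable def eT8383 (i : Nat) : Nat := Bool.rec (eL8388 i) (eL8389 i) (Nat.ble 8590336 i)
noncomputable def eT8384 (i : Nat) : Nat := Bool.rec (eL8391 i) (eL8392 i) (Nat.ble 8593408 i)
noncomputable def eT8385 (i : Nat) : Nat := Bool.rec (eL8390 i) (eT8384 i) (Nat.ble 8592384 i)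
noncomputable def eT8386 (i : Nat) : Nat := Bool.rec (eT8383 i) (eT8385 i) (Nat.ble 8591360 i)
noncomputable def eT8387 (i : Nat) : Nat := Bool.rec (eT8382 i) (eT8386 i) (Nat.ble 8589312 i)
noncomputable def eT8388 (i : Nat) : Nat := Bool.rec (eL8393 i) (eL8394 i) (Nat.ble 8595456 i)
noncomputable def eT8389 (i : Nat) : Nat := Bool.rec (eL8396 i) (eL8397 i) (Nat.ble 8598528 i)
noncomputable def eT8390 (i : Nat) : Nat := Bool.rec (eL8395 i) (eT8389 i) (Nat.ble 8597504 i)
noncomputable def eT8391 (i : Nat) : Nat := Bool.rec (eT8388 i) (eT8390 i) (Nat.ble 8596480 i)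
noncomputable def eT8392 (i : Nat) : Nat := Bool.rec (eL8398 i) (eL8399 i) (Nat.ble 8600576 i)
noncomputable def eT8393 (i : Nat) : Nat := Bool.rec (eL8401 i) (eL8402 i) (Nat.ble 8603648 i)
noncomputable def eT8394 (i : Nat) : Nat := Bool.rec (eL8400 i) (eT8393 i) (Nat.ble 8602624 i)
noncomputable def eT8395 (i : Nat) : Nat := Bool.rec (eT8392 i) (eT8394 i) (Nat.ble 8601600 i)
noncomputable def eT8396 (i : Nat) : Nat := Bool.rec (eT8391 i) (eT8395 i) (Nat.ble 8599552 i)
noncomputable def eT8397 (i : Nat) : Nat := Bool.rec (eT8387 i) (eT8396 i) (Nat.ble 8594432 i)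
noncomputable def eT8398 (i : Nat) : Nat := Bool.rec (eL8403 i) (eL8404 i) (Nat.ble 8605696 i)
noncomputable def eT8399 (i : Nat) : Nat := Bool.rec (eL8406 i) (eL8407 i) (Nat.ble 8608768 i)
noncomputable def eT8400 (i : Nat) : Nat := Bool.rec (eL8405 i) (eT8399 i) (Nat.ble 8607744 i)
noncomputable def eT8401 (i : Nat) : Nat := Bool.rec (eT8398 i) (eT8400 i) (Nat.ble 8606720 i)
noncomputable def eT8402 (i : Nat) : Nat := Bool.rec (eL8408 i) (eL8409 i) (Nat.ble 8610816 i)
noncomputable def eT8403 (i : Nat) : Nat := Bool.rec (eL8411 i) (eL8412 i) (Nat.ble 8613888 i)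
noncomputable def eT8404 (i : Nat) : Nat := Bool.rec (eL8410 i) (eT8403 i) (Nat.ble 8612864 i)
noncomputable def eT8405 (i : Nat) : Nat := Bool.rec (eT8402 i) (eT8404 i) (Nat.ble 8611840 i)
noncomputable def eT8406 (i : Nat) : Nat := Bool.rec (eT8401 i) (eT8405 i) (Nat.ble 8609792 i)
noncomputable def eT8407 (i : Nat) : Nat := Bool.rec (eL8413 i) (eL8414 i) (Nat.ble 8615936 i)
noncomputable def eT8408 (i : Nat) : Nat := Bool.rec (eL8416 i) (eL8417 i) (Nat.ble 8619008 i)
noncomputable def eT8409 (i : Nat) : Nat := Bool.rec (eL8415 i) (eT8408 i) (Nat.ble 8617984 i)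
noncomputable def eT8410 (i : Nat) : Nat := Bool.rec (eT8407 i) (eT8409 i) (Nat.ble 8616960 i)
noncomputable def eT8411 (i : Nat) : Nat := Bool.rec (eL8419 i) (eL8420 i) (Nat.ble 8622080 i)
noncomputable def eT8412 (i : Nat) : Nat := Bool.rec (eL8418 i) (eT8411 i) (Nat.ble 8621056 i)
noncomputable def eT8413 (i : Nat) : Nat := Bool.rec (eL8422 i) (eL8423 i) (Nat.ble 8625152 i)
noncomputable def eT8414 (i : Nat) : Nat := Bool.rec (eL8421 i) (eT8413 i) (Nat.ble 8624128 i)
noncomputable def eT8415 (i : Nat) : Nat := Bool.rec (eT8412 i) (eT8414 i) (Nat.ble 8623104 i)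
noncomputable def eT8416 (i : Nat) : Nat := Bool.rec (eT8410 i) (eT8415 i) (Nat.ble 8620032 i)
noncomputable def eT8417 (i : Nat) : Nat := Bool.rec (eT8406 i) (eT8416 i) (Nat.ble 8614912 i)
noncomputable def eT8418 (i : Nat) : Nat := Bool.rec (eT8397 i) (eT8417 i) (Nat.ble 8604672 i)
noncomputable def eT8419 (i : Nat) : Nat := Bool.rec (eL8424 i) (eL8425 i) (Nat.ble 8627200 i)
noncomputable def eT8420 (i : Nat) : Nat := Bool.rec (eL8427 i) (eL8428 i) (Nat.ble 8630272 i)
noncomputable def eT8421 (i : Nat) : Nat := Bool.rec (eL8426 i) (eT8420 i) (Nat.ble 8629248 i)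
noncomputable def eT8422 (i : Nat) : Nat := Bool.rec (eT8419 i) (eT8421 i) (Nat.ble 8628224 i)
noncomputable def eT8423 (i : Nat) : Nat := Bool.rec (eL8429 i) (eL8430 i) (Nat.ble 8632320 i)
noncomputable def eT8424 (i : Nat) : Nat := Bool.rec (eL8432 i) (eL8433 i) (Nat.ble 8635392 i)
noncomputable def eT8425 (i : Nat) : Nat := Bool.rec (eL8431 i) (eT8424 i) (Nat.ble 8634368 i)
noncomputable def eT8426 (i : Nat) : Nat := Bool.rec (eT8423 i) (eT8425 i) (Nat.ble 8633344 i)
noncomputable def eT8427 (i : Nat) : Nat := Bool.rec (eT8422 i) (eT8426 i) (Nat.ble 8631296 i)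
noncomputable def eT8428 (i : Nat) : Nat := Bool.rec (eL8434 i) (eL8435 i) (Nat.ble 8637440 i)
noncomputable def eT8429 (i : Nat) : Nat := Bool.rec (eL8437 i) (eL8438 i) (Nat.ble 8640512 i)
noncomputable def eT8430 (i : Nat) : Nat := Bool.rec (eL8436 i) (eT8429 i) (Nat.ble 8639488 i)
noncomputable def eT8431 (i : Nat) : Nat := Bool.rec (eT8428 i) (eT8430 i) (Nat.ble 8638464 i)
noncomputable def eT8432 (i : Nat) : Nat := Bool.rec (eL8439 i) (eL8440 i) (Nat.ble 8642560 i)
noncomputable def eT8433 (i : Nat) : Nat := Bool.rec (eL8442 i) (eL8443 i) (Nat.ble 8645632 i)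
noncomputable def eT8434 (i : Nat) : Nat := Bool.rec (eL8441 i) (eT8433 i) (Nat.ble 8644608 i)
noncomputable def eT8435 (i : Nat) : Nat := Bool.rec (eT8432 i) (eT8434 i) (Nat.ble 8643584 i)
noncomputable def eT8436 (i : Nat) : Nat := Bool.rec (eT8431 i) (eT8435 i) (Nat.ble 8641536 i)
noncomputable def eT8437 (i : Nat) : Nat := Bool.rec (eT8427 i) (eT8436 i) (Nat.ble 8636416 i)
noncomputable def eT8438 (i : Nat) : Nat := Bool.rec (eL8444 i) (eL8445 i) (Nat.ble 8647680 i)
noncomputable def eT8439 (i : Nat) : Nat := Bool.rec (eL8447 i) (eL8448 i) (Nat.ble 8650752 i)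
noncomputable def eT8440 (i : Nat) : Nat := Bool.rec (eL8446 i) (eT8439 i) (Nat.ble 8649728 i)
noncomputable def eT8441 (i : Nat) : Nat := Bool.rec (eT8438 i) (eT8440 i) (Nat.ble 8648704 i)
noncomputable def eT8442 (i : Nat) : Nat := Bool.rec (eL8449 i) (eL8450 i) (Nat.ble 8652800 i)
noncomputable def eT8443 (i : Nat) : Nat := Bool.rec (eL8452 i) (eL8453 i) (Nat.ble 8655872 i)
noncomputable def eT8444 (i : Nat) : Nat := Bool.rec (eL8451 i) (eT8443 i) (Nat.ble 8654848 i)
noncomputable def eT8445 (i : Nat) : Nat := Bool.rec (eT8442 i) (eT8444 i) (Nat.ble 8653824 i)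
noncomputable def eT8446 (i : Nat) : Nat := Bool.rec (eT8441 i) (eT8445 i) (Nat.ble 8651776 i)
noncomputable def eT8447 (i : Nat) : Nat := Bool.rec (eL8454 i) (eL8455 i) (Nat.ble 8657920 i)
noncomputable def eT8448 (i : Nat) : Nat := Bool.rec (eL8457 i) (eL8458 i) (Nat.ble 8660992 i)
noncomputable def eT8449 (i : Nat) : Nat := Bool.rec (eL8456 i) (eT8448 i) (Nat.ble 8659968 i)
noncomputable def eT8450 (i : Nat) : Nat := Bool.rec (eT8447 i) (eT8449 i) (Nat.ble 8658944 i)
noncomputable def eT8451 (i : Nat) : Nat := Bool.rec (eL8460 i) (eL8461 i) (Nat.ble 8664064 i)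
noncomputable def eT8452 (i : Nat) : Nat := Bool.rec (eL8459 i) (eT8451 i) (Nat.ble 8663040 i)
noncomputable def eT8453 (i : Nat) : Nat := Bool.rec (eL8463 i) (eL8464 i) (Nat.ble 8667136 i)
noncomputable def eT8454 (i : Nat) : Nat := Bool.rec (eL8462 i) (eT8453 i) (Nat.ble 8666112 i)
noncomputable def eT8455 (i : Nat) : Nat := Bool.rec (eT8452 i) (eT8454 i) (Nat.ble 8665088 i)
noncomputable def eT8456 (i : Nat) : Nat := Bool.rec (eT8450 i) (eT8455 i) (Nat.ble 8662016 i)
noncomputable def eT8457 (i : Nat) : Nat := Bool.rec (eT8446 i) (eT8456 i) (Nat.ble 8656896 i)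
noncomputable def eT8458 (i : Nat) : Nat := Bool.rec (eT8437 i) (eT8457 i) (Nat.ble 8646656 i)
noncomputable def eT8459 (i : Nat) : Nat := Bool.rec (eT8418 i) (eT8458 i) (Nat.ble 8626176 i)
noncomputable def eT8460 (i : Nat) : Nat := Bool.rec (eL8465 i) (eL8466 i) (Nat.ble 8669184 i)
noncomputable def eT8461 (i : Nat) : Nat := Bool.rec (eL8468 i) (eL8469 i) (Nat.ble 8672256 i)
noncomputable def eT8462 (i : Nat) : Nat := Bool.rec (eL8467 i) (eT8461 i) (Nat.ble 8671232 i)
noncomputable def eT8463 (i : Nat) : Nat := Bool.rec (eT8460 i) (eT8462 i) (Nat.ble 8670208 i)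
noncomputable def eT8464 (i : Nat) : Nat := Bool.rec (eL8470 i) (eL8471 i) (Nat.ble 8674304 i)
noncomputable def eT8465 (i : Nat) : Nat := Bool.rec (eL8473 i) (eL8474 i) (Nat.ble 8677376 i)
noncomputable def eT8466 (i : Nat) : Nat := Bool.rec (eL8472 i) (eT8465 i) (Nat.ble 8676352 i)
noncomputable def eT8467 (i : Nat) : Nat := Bool.rec (eT8464 i) (eT8466 i) (Nat.ble 8675328 i)
noncomputable def eT8468 (i : Nat) : Nat := Bool.rec (eT8463 i) (eT8467 i) (Nat.ble 8673280 i)
noncomputable def eT8469 (i : Nat) : Nat := Bool.rec (eL8475 i) (eL8476 i) (Nat.ble 8679424 i)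
noncomputable def eT8470 (i : Nat) : Nat := Bool.rec (eL8478 i) (eL8479 i) (Nat.ble 8682496 i)
noncomputable def eT8471 (i : Nat) : Nat := Bool.rec (eL8477 i) (eT8470 i) (Nat.ble 8681472 i)
noncomputable def eT8472 (i : Nat) : Nat := Bool.rec (eT8469 i) (eT8471 i) (Nat.ble 8680448 i)
noncomputable def eT8473 (i : Nat) : Nat := Bool.rec (eL8480 i) (eL8481 i) (Nat.ble 8684544 i)
noncomputable def eT8474 (i : Nat) : Nat := Bool.rec (eL8483 i) (eL8484 i) (Nat.ble 8687616 i)
noncomputable def eT8475 (i : Nat) : Nat := Bool.rec (eL8482 i) (eT8474 i) (Nat.ble 8686592 i)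
noncomputable def eT8476 (i : Nat) : Nat := Bool.rec (eT8473 i) (eT8475 i) (Nat.ble 8685568 i)
noncomputable def eT8477 (i : Nat) : Nat := Bool.rec (eT8472 i) (eT8476 i) (Nat.ble 8683520 i)
noncomputable def eT8478 (i : Nat) : Nat := Bool.rec (eT8468 i) (eT8477 i) (Nat.ble 8678400 i)
noncomputable def eT8479 (i : Nat) : Nat := Bool.rec (eL8485 i) (eL8486 i) (Nat.ble 8689664 i)
noncomputable def eT8480 (i : Nat) : Nat := Bool.rec (eL8488 i) (eL8489 i) (Nat.ble 8692736 i)
noncomputable def eT8481 (i : Nat) : Nat := Bool.rec (eL8487 i) (eT8480 i) (Nat.ble 8691712 i)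
noncomputable def eT8482 (i : Nat) : Nat := Bool.rec (eT8479 i) (eT8481 i) (Nat.ble 8690688 i)
noncomputable def eT8483 (i : Nat) : Nat := Bool.rec (eL8490 i) (eL8491 i) (Nat.ble 8694784 i)
noncomputable def eT8484 (i : Nat) : Nat := Bool.rec (eL8493 i) (eL8494 i) (Nat.ble 8697856 i)
noncomputable def eT8485 (i : Nat) : Nat := Bool.rec (eL8492 i) (eT8484 i) (Nat.ble 8696832 i)
noncomputable def eT8486 (i : Nat) : Nat := Bool.rec (eT8483 i) (eT8485 i) (Nat.ble 8695808 i)
noncomputable def eT8487 (i : Nat) : Nat := Bool.rec (eT8482 i) (eT8486 i) (Nat.ble 8693760 i)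
noncomputable def eT8488 (i : Nat) : Nat := Bool.rec (eL8495 i) (eL8496 i) (Nat.ble 8699904 i)
noncomputable def eT8489 (i : Nat) : Nat := Bool.rec (eL8498 i) (eL8499 i) (Nat.ble 8702976 i)
noncomputable def eT8490 (i : Nat) : Nat := Bool.rec (eL8497 i) (eT8489 i) (Nat.ble 8701952 i)
noncomputable def eT8491 (i : Nat) : Nat := Bool.rec (eT8488 i) (eT8490 i) (Nat.ble 8700928 i)
noncomputable def eT8492 (i : Nat) : Nat := Bool.rec (eL8501 i) (eL8502 i) (Nat.ble 8706048 i)
noncomputable def eT8493 (i : Nat) : Nat := Bool.rec (eL8500 i) (eT8492 i) (Nat.ble 8705024 i)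
noncomputable def eT8494 (i : Nat) : Nat := Bool.rec (eL8504 i) (eL8505 i) (Nat.ble 8709120 i)
noncomputable def eT8495 (i : Nat) : Nat := Bool.rec (eL8503 i) (eT8494 i) (Nat.ble 8708096 i)
noncomputable def eT8496 (i : Nat) : Nat := Bool.rec (eT8493 i) (eT8495 i) (Nat.ble 8707072 i)
noncomputable def eT8497 (i : Nat) : Nat := Bool.rec (eT8491 i) (eT8496 i) (Nat.ble 8704000 i)
noncomputable def eT8498 (i : Nat) : Nat := Bool.rec (eT8487 i) (eT8497 i) (Nat.ble 8698880 i)
noncomputable def eT8499 (i : Nat) : Nat := Bool.rec (eT8478 i) (eT8498 i) (Nat.ble 8688640 i)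
noncomputable def eT8500 (i : Nat) : Nat := Bool.rec (eL8506 i) (eL8507 i) (Nat.ble 8711168 i)
noncomputable def eT8501 (i : Nat) : Nat := Bool.rec (eL8509 i) (eL8510 i) (Nat.ble 8714240 i)
noncomputable def eT8502 (i : Nat) : Nat := Bool.rec (eL8508 i) (eT8501 i) (Nat.ble 8713216 i)
noncomputable def eT8503 (i : Nat) : Nat := Bool.rec (eT8500 i) (eT8502 i) (Nat.ble 8712192 i)
noncomputable def eT8504 (i : Nat) : Nat := Bool.rec (eL8511 i) (eL8512 i) (Nat.ble 8716288 i)
noncomputable def eT8505 (i : Nat) : Nat := Bool.rec (eL8514 i) (eL8515 i) (Nat.ble 8719360 i)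
noncomputable def eT8506 (i : Nat) : Nat := Bool.rec (eL8513 i) (eT8505 i) (Nat.ble 8718336 i)
noncomputable def eT8507 (i : Nat) : Nat := Bool.rec (eT8504 i) (eT8506 i) (Nat.ble 8717312 i)
noncomputable def eT8508 (i : Nat) : Nat := Bool.rec (eT8503 i) (eT8507 i) (Nat.ble 8715264 i)
noncomputable def eT8509 (i : Nat) : Nat := Bool.rec (eL8516 i) (eL8517 i) (Nat.ble 8721408 i)
noncomputable def eT8510 (i : Nat) : Nat := Bool.rec (eL8519 i) (eL8520 i) (Nat.ble 8724480 i)
noncomputable def eT8511 (i : Nat) : Nat := Bool.rec (eL8518 i) (eT8510 i) (Nat.ble 8723456 i)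
noncomputable def eT8512 (i : Nat) : Nat := Bool.rec (eT8509 i) (eT8511 i) (Nat.ble 8722432 i)
noncomputable def eT8513 (i : Nat) : Nat := Bool.rec (eL8522 i) (eL8523 i) (Nat.ble 8727552 i)
noncomputable def eT8514 (i : Nat) : Nat := Bool.rec (eL8521 i) (eT8513 i) (Nat.ble 8726528 i)
noncomputable def eT8515 (i : Nat) : Nat := Bool.rec (eL8525 i) (eL8526 i) (Nat.ble 8730624 i)
noncomputable def eT8516 (i : Nat) : Nat := Bool.rec (eL8524 i) (eT8515 i) (Nat.ble 8729600 i)
noncomputable def eT8517 (i : Nat) : Nat := Bool.rec (eT8514 i) (eT8516 i) (Nat.ble 8728576 i)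
noncomputable def eT8518 (i : Nat) : Nat := Bool.rec (eT8512 i) (eT8517 i) (Nat.ble 8725504 i)
noncomputable def eT8519 (i : Nat) : Nat := Bool.rec (eT8508 i) (eT8518 i) (Nat.ble 8720384 i)
noncomputable def eT8520 (i : Nat) : Nat := Bool.rec (eL8527 i) (eL8528 i) (Nat.ble 8732672 i)
noncomputable def eT8521 (i : Nat) : Nat := Bool.rec (eL8530 i) (eL8531 i) (Nat.ble 8735744 i)
noncomputable def eT8522 (i : Nat) : Nat := Bool.rec (eL8529 i) (eT8521 i) (Nat.ble 8734720 i)
noncomputable def eT8523 (i : Nat) : Nat := Bool.rec (eT8520 i) (eT8522 i) (Nat.ble 8733696 i)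
noncomputable def eT8524 (i : Nat) : Nat := Bool.rec (eL8532 i) (eL8533 i) (Nat.ble 8737792 i)
noncomputable def eT8525 (i : Nat) : Nat := Bool.rec (eL8535 i) (eL8536 i) (Nat.ble 8740864 i)
noncomputable def eT8526 (i : Nat) : Nat := Bool.rec (eL8534 i) (eT8525 i) (Nat.ble 8739840 i)
noncomputable def eT8527 (i : Nat) : Nat := Bool.rec (eT8524 i) (eT8526 i) (Nat.ble 8738816 i)
noncomputable def eT8528 (i : Nat) : Nat := Bool.rec (eT8523 i) (eT8527 i) (Nat.ble 8736768 i)
noncomputable def eT8529 (i : Nat) : Nat := Bool.rec (eL8537 i) (eL8538 i) (Nat.ble 8742912 i)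
noncomputable def eT8530 (i : Nat) : Nat := Bool.rec (eL8540 i) (eL8541 i) (Nat.ble 8745984 i)
noncomputable def eT8531 (i : Nat) : Nat := Bool.rec (eL8539 i) (eT8530 i) (Nat.ble 8744960 i)
noncomputable def eT8532 (i : Nat) : Nat := Bool.rec (eT8529 i) (eT8531 i) (Nat.ble 8743936 i)
noncomputable def eT8533 (i : Nat) : Nat := Bool.rec (eL8543 i) (eL8544 i) (Nat.ble 8749056 i)
noncomputable def eT8534 (i : Nat) : Nat := Bool.rec (eL8542 i) (eT8533 i) (Nat.ble 8748032 i)
noncomputable def eT8535 (i : Nat) : Nat := Bool.rec (eL8546 i) (eL8547 i) (Nat.ble 8752128 i)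
noncomputable def eT8536 (i : Nat) : Nat := Bool.rec (eL8545 i) (eT8535 i) (Nat.ble 8751104 i)
noncomputable def eT8537 (i : Nat) : Nat := Bool.rec (eT8534 i) (eT8536 i) (Nat.ble 8750080 i)
noncomputable def eT8538 (i : Nat) : Nat := Bool.rec (eT8532 i) (eT8537 i) (Nat.ble 8747008 i)
noncomputable def eT8539 (i : Nat) : Nat := Bool.rec (eT8528 i) (eT8538 i) (Nat.ble 8741888 i)
noncomputable def eT8540 (i : Nat) : Nat := Bool.rec (eT8519 i) (eT8539 i) (Nat.ble 8731648 i)
noncomputable def eT8541 (i : Nat) : Nat := Bool.rec (eT8499 i) (eT8540 i) (Nat.ble 8710144 i)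
noncomputable def eT8542 (i : Nat) : Nat := Bool.rec (eT8459 i) (eT8541 i) (Nat.ble 8668160 i)
noncomputable def eT8543 (i : Nat) : Nat := Bool.rec (eT8378 i) (eT8542 i) (Nat.ble 8584192 i)
noncomputable def eT8544 (i : Nat) : Nat := Bool.rec (eT8215 i) (eT8543 i) (Nat.ble 8416256 i)
noncomputable def eT8545 (i : Nat) : Nat := Bool.rec (eL8548 i) (eL8549 i) (Nat.ble 8754176 i)
noncomputable def eT8546 (i : Nat) : Nat := Bool.rec (eL8551 i) (eL8552 i) (Nat.ble 8757248 i)
noncomputable def eT8547 (i : Nat) : Nat := Bool.rec (eL8550 i) (eT8546 i) (Nat.ble 8756224 i)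
noncomputable def eT8548 (i : Nat) : Nat := Bool.rec (eT8545 i) (eT8547 i) (Nat.ble 8755200 i)
noncomputable def eT8549 (i : Nat) : Nat := Bool.rec (eL8553 i) (eL8554 i) (Nat.ble 8759296 i)
noncomputable def eT8550 (i : Nat) : Nat := Bool.rec (eL8556 i) (eL8557 i) (Nat.ble 8762368 i)
noncomputable def eT8551 (i : Nat) : Nat := Bool.rec (eL8555 i) (eT8550 i) (Nat.ble 8761344 i)
noncomputable def eT8552 (i : Nat) : Nat := Bool.rec (eT8549 i) (eT8551 i) (Nat.ble 8760320 i)
noncomputable def eT8553 (i : Nat) : Nat := Bool.rec (eT8548 i) (eT8552 i) (Nat.ble 8758272 i)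
noncomputable def eT8554 (i : Nat) : Nat := Bool.rec (eL8558 i) (eL8559 i) (Nat.ble 8764416 i)
noncomputable def eT8555 (i : Nat) : Nat := Bool.rec (eL8561 i) (eL8562 i) (Nat.ble 8767488 i)
noncomputable def eT8556 (i : Nat) : Nat := Bool.rec (eL8560 i) (eT8555 i) (Nat.ble 8766464 i)
noncomputable def eT8557 (i : Nat) : Nat := Bool.rec (eT8554 i) (eT8556 i) (Nat.ble 8765440 i)
noncomputable def eT8558 (i : Nat) : Nat := Bool.rec (eL8563 i) (eL8564 i) (Nat.ble 8769536 i)
noncomputable def eT8559 (i : Nat) : Nat := Bool.rec (eL8566 i) (eL8567 i) (Nat.ble 8772608 i)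
noncomputable def eT8560 (i : Nat) : Nat := Bool.rec (eL8565 i) (eT8559 i) (Nat.ble 8771584 i)
noncomputable def eT8561 (i : Nat) : Nat := Bool.rec (eT8558 i) (eT8560 i) (Nat.ble 8770560 i)
noncomputable def eT8562 (i : Nat) : Nat := Bool.rec (eT8557 i) (eT8561 i) (Nat.ble 8768512 i)
noncomputable def eT8563 (i : Nat) : Nat := Bool.rec (eT8553 i) (eT8562 i) (Nat.ble 8763392 i)
noncomputable def eT8564 (i : Nat) : Nat := Bool.rec (eL8568 i) (eL8569 i) (Nat.ble 8774656 i)
noncomputable def eT8565 (i : Nat) : Nat := Bool.rec (eL8571 i) (eL8572 i) (Nat.ble 8777728 i)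
noncomputable def eT8566 (i : Nat) : Nat := Bool.rec (eL8570 i) (eT8565 i) (Nat.ble 8776704 i)
noncomputable def eT8567 (i : Nat) : Nat := Bool.rec (eT8564 i) (eT8566 i) (Nat.ble 8775680 i)
noncomputable def eT8568 (i : Nat) : Nat := Bool.rec (eL8573 i) (eL8574 i) (Nat.ble 8779776 i)
noncomputable def eT8569 (i : Nat) : Nat := Bool.rec (eL8576 i) (eL8577 i) (Nat.ble 8782848 i)
noncomputable def eT8570 (i : Nat) : Nat := Bool.rec (eL8575 i) (eT8569 i) (Nat.ble 8781824 i)
noncomputable def eT8571 (i : Nat) : Nat := Bool.rec (eT8568 i) (eT8570 i) (Nat.ble 8780800 i)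
noncomputable def eT8572 (i : Nat) : Nat := Bool.rec (eT8567 i) (eT8571 i) (Nat.ble 8778752 i)
noncomputable def eT8573 (i : Nat) : Nat := Bool.rec (eL8578 i) (eL8579 i) (Nat.ble 8784896 i)
noncomputable def eT8574 (i : Nat) : Nat := Bool.rec (eL8581 i) (eL8582 i) (Nat.ble 8787968 i)
noncomputable def eT8575 (i : Nat) : Nat := Bool.rec (eL8580 i) (eT8574 i) (Nat.ble 8786944 i)
noncomputable def eT8576 (i : Nat) : Nat := Bool.rec (eT8573 i) (eT8575 i) (Nat.ble 8785920 i)
noncomputable def eT8577 (i : Nat) : Nat := Bool.rec (eL8584 i) (eL8585 i) (Nat.ble 8791040 i)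
noncomputable def eT8578 (i : Nat) : Nat := Bool.rec (eL8583 i) (eT8577 i) (Nat.ble 8790016 i)
noncomputable def eT8579 (i : Nat) : Nat := Bool.rec (eL8587 i) (eL8588 i) (Nat.ble 8794112 i)
noncomputable def eT8580 (i : Nat) : Nat := Bool.rec (eL8586 i) (eT8579 i) (Nat.ble 8793088 i)
noncomputable def eT8581 (i : Nat) : Nat := Bool.rec (eT8578 i) (eT8580 i) (Nat.ble 8792064 i)
noncomputable def eT8582 (i : Nat) : Nat := Bool.rec (eT8576 i) (eT8581 i) (Nat.ble 8788992 i)
noncomputable def eT8583 (i : Nat) : Nat := Bool.rec (eT8572 i) (eT8582 i) (Nat.ble 8783872 i)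
noncomputable def eT8584 (i : Nat) : Nat := Bool.rec (eT8563 i) (eT8583 i) (Nat.ble 8773632 i)
noncomputable def eT8585 (i : Nat) : Nat := Bool.rec (eL8589 i) (eL8590 i) (Nat.ble 8796160 i)
noncomputable def eT8586 (i : Nat) : Nat := Bool.rec (eL8592 i) (eL8593 i) (Nat.ble 8799232 i)
noncomputable def eT8587 (i : Nat) : Nat := Bool.rec (eL8591 i) (eT8586 i) (Nat.ble 8798208 i)
noncomputable def eT8588 (i : Nat) : Nat := Bool.rec (eT8585 i) (eT8587 i) (Nat.ble 8797184 i)
noncomputable def eT8589 (i : Nat) : Nat := Bool.rec (eL8594 i) (eL8595 i) (Nat.ble 8801280 i)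
noncomputable def eT8590 (i : Nat) : Nat := Bool.rec (eL8597 i) (eL8598 i) (Nat.ble 8804352 i)
noncomputable def eT8591 (i : Nat) : Nat := Bool.rec (eL8596 i) (eT8590 i) (Nat.ble 8803328 i)
noncomputable def eT8592 (i : Nat) : Nat := Bool.rec (eT8589 i) (eT8591 i) (Nat.ble 8802304 i)
noncomputable def eT8593 (i : Nat) : Nat := Bool.rec (eT8588 i) (eT8592 i) (Nat.ble 8800256 i)
noncomputable def eT8594 (i : Nat) : Nat := Bool.rec (eL8599 i) (eL8600 i) (Nat.ble 8806400 i)
noncomputable def eT8595 (i : Nat) : Nat := Bool.rec (eL8602 i) (eL8603 i) (Nat.ble 8809472 i)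
noncomputable def eT8596 (i : Nat) : Nat := Bool.rec (eL8601 i) (eT8595 i) (Nat.ble 8808448 i)
noncomputable def eT8597 (i : Nat) : Nat := Bool.rec (eT8594 i) (eT8596 i) (Nat.ble 8807424 i)
noncomputable def eT8598 (i : Nat) : Nat := Bool.rec (eL8604 i) (eL8605 i) (Nat.ble 8811520 i)
noncomputable def eT8599 (i : Nat) : Nat := Bool.rec (eL8607 i) (eL8608 i) (Nat.ble 8814592 i)
noncomputable def eT8600 (i : Nat) : Nat := Bool.rec (eL8606 i) (eT8599 i) (Nat.ble 8813568 i)
noncomputable def eT8601 (i : Nat) : Nat := Bool.rec (eT8598 i) (eT8600 i) (Nat.ble 8812544 i)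
noncomputable def eT8602 (i : Nat) : Nat := Bool.rec (eT8597 i) (eT8601 i) (Nat.ble 8810496 i)
noncomputable def eT8603 (i : Nat) : Nat := Bool.rec (eT8593 i) (eT8602 i) (Nat.ble 8805376 i)
noncomputable def eT8604 (i : Nat) : Nat := Bool.rec (eL8609 i) (eL8610 i) (Nat.ble 8816640 i)
noncomputable def eT8605 (i : Nat) : Nat := Bool.rec (eL8612 i) (eL8613 i) (Nat.ble 8819712 i)
noncomputable def eT8606 (i : Nat) : Nat := Bool.rec (eL8611 i) (eT8605 i) (Nat.ble 8818688 i)
noncomputable def eT8607 (i : Nat) : Nat := Bool.rec (eT8604 i) (eT8606 i) (Nat.ble 8817664 i)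
noncomputable def eT8608 (i : Nat) : Nat := Bool.rec (eL8614 i) (eL8615 i) (Nat.ble 8821760 i)
noncomputable def eT8609 (i : Nat) : Nat := Bool.rec (eL8617 i) (eL8618 i) (Nat.ble 8824832 i)
noncomputable def eT8610 (i : Nat) : Nat := Bool.rec (eL8616 i) (eT8609 i) (Nat.ble 8823808 i)
noncomputable def eT8611 (i : Nat) : Nat := Bool.rec (eT8608 i) (eT8610 i) (Nat.ble 8822784 i)
noncomputable def eT8612 (i : Nat) : Nat := Bool.rec (eT8607 i) (eT8611 i) (Nat.ble 8820736 i)
noncomputable def eT8613 (i : Nat) : Nat := Bool.rec (eL8619 i) (eL8620 i) (Nat.ble 8826880 i)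
noncomputable def eT8614 (i : Nat) : Nat := Bool.rec (eL8622 i) (eL8623 i) (Nat.ble 8829952 i)
noncomputable def eT8615 (i : Nat) : Nat := Bool.rec (eL8621 i) (eT8614 i) (Nat.ble 8828928 i)
noncomputable def eT8616 (i : Nat) : Nat := Bool.rec (eT8613 i) (eT8615 i) (Nat.ble 8827904 i)
noncomputable def eT8617 (i : Nat) : Nat := Bool.rec (eL8625 i) (eL8626 i) (Nat.ble 8833024 i)
noncomputable def eT8618 (i : Nat) : Nat := Bool.rec (eL8624 i) (eT8617 i) (Nat.ble 8832000 i)
noncomputable def eT8619 (i : Nat) : Nat := Bool.rec (eL8628 i) (eL8629 i) (Nat.ble 8836096 i)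
noncomputable def eT8620 (i : Nat) : Nat := Bool.rec (eL8627 i) (eT8619 i) (Nat.ble 8835072 i)
noncomputable def eT8621 (i : Nat) : Nat := Bool.rec (eT8618 i) (eT8620 i) (Nat.ble 8834048 i)
noncomputable def eT8622 (i : Nat) : Nat := Bool.rec (eT8616 i) (eT8621 i) (Nat.ble 8830976 i)
noncomputable def eT8623 (i : Nat) : Nat := Bool.rec (eT8612 i) (eT8622 i) (Nat.ble 8825856 i)
noncomputable def eT8624 (i : Nat) : Nat := Bool.rec (eT8603 i) (eT8623 i) (Nat.ble 8815616 i)
noncomputable def eT8625 (i : Nat) : Nat := Bool.rec (eT8584 i) (eT8624 i) (Nat.ble 8795136 i)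
noncomputable def eT8626 (i : Nat) : Nat := Bool.rec (eL8630 i) (eL8631 i) (Nat.ble 8838144 i)
noncomputable def eT8627 (i : Nat) : Nat := Bool.rec (eL8633 i) (eL8634 i) (Nat.ble 8841216 i)
noncomputable def eT8628 (i : Nat) : Nat := Bool.rec (eL8632 i) (eT8627 i) (Nat.ble 8840192 i)
noncomputable def eT8629 (i : Nat) : Nat := Bool.rec (eT8626 i) (eT8628 i) (Nat.ble 8839168 i)
noncomputable def eT8630 (i : Nat) : Nat := Bool.rec (eL8635 i) (eL8636 i) (Nat.ble 8843264 i)
noncomputable def eT8631 (i : Nat) : Nat := Bool.rec (eL8638 i) (eL8639 i) (Nat.ble 8846336 i)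
noncomputable def eT8632 (i : Nat) : Nat := Bool.rec (eL8637 i) (eT8631 i) (Nat.ble 8845312 i)
noncomputable def eT8633 (i : Nat) : Nat := Bool.rec (eT8630 i) (eT8632 i) (Nat.ble 8844288 i)
noncomputable def eT8634 (i : Nat) : Nat := Bool.rec (eT8629 i) (eT8633 i) (Nat.ble 8842240 i)
noncomputable def eT8635 (i : Nat) : Nat := Bool.rec (eL8640 i) (eL8641 i) (Nat.ble 8848384 i)
noncomputable def eT8636 (i : Nat) : Nat := Bool.rec (eL8643 i) (eL8644 i) (Nat.ble 8851456 i)
noncomputable def eT8637 (i : Nat) : Nat := Bool.rec (eL8642 i) (eT8636 i) (Nat.ble 8850432 i)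
noncomputable def eT8638 (i : Nat) : Nat := Bool.rec (eT8635 i) (eT8637 i) (Nat.ble 8849408 i)
noncomputable def eT8639 (i : Nat) : Nat := Bool.rec (eL8645 i) (eL8646 i) (Nat.ble 8853504 i)
noncomputable def eT8640 (i : Nat) : Nat := Bool.rec (eL8648 i) (eL8649 i) (Nat.ble 8856576 i)
noncomputable def eT8641 (i : Nat) : Nat := Bool.rec (eL8647 i) (eT8640 i) (Nat.ble 8855552 i)
noncomputable def eT8642 (i : Nat) : Nat := Bool.rec (eT8639 i) (eT8641 i) (Nat.ble 8854528 i)
noncomputable def eT8643 (i : Nat) : Nat := Bool.rec (eT8638 i) (eT8642 i) (Nat.ble 8852480 i)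
noncomputable def eT8644 (i : Nat) : Nat := Bool.rec (eT8634 i) (eT8643 i) (Nat.ble 8847360 i)
noncomputable def eT8645 (i : Nat) : Nat := Bool.rec (eL8650 i) (eL8651 i) (Nat.ble 8858624 i)
noncomputable def eT8646 (i : Nat) : Nat := Bool.rec (eL8653 i) (eL8654 i) (Nat.ble 8861696 i)
noncomputable def eT8647 (i : Nat) : Nat := Bool.rec (eL8652 i) (eT8646 i) (Nat.ble 8860672 i)
noncomputable def eT8648 (i : Nat) : Nat := Bool.rec (eT8645 i) (eT8647 i) (Nat.ble 8859648 i)
noncomputable def eT8649 (i : Nat) : Nat := Bool.rec (eL8655 i) (eL8656 i) (Nat.ble 8863744 i)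
noncomputable def eT8650 (i : Nat) : Nat := Bool.rec (eL8658 i) (eL8659 i) (Nat.ble 8866816 i)
noncomputable def eT8651 (i : Nat) : Nat := Bool.rec (eL8657 i) (eT8650 i) (Nat.ble 8865792 i)
noncomputable def eT8652 (i : Nat) : Nat := Bool.rec (eT8649 i) (eT8651 i) (Nat.ble 8864768 i)
noncomputable def eT8653 (i : Nat) : Nat := Bool.rec (eT8648 i) (eT8652 i) (Nat.ble 8862720 i)
noncomputable def eT8654 (i : Nat) : Nat := Bool.rec (eL8660 i) (eL8661 i) (Nat.ble 8868864 i)
noncomputable def eT8655 (i : Nat) : Nat := Bool.rec (eL8663 i) (eL8664 i) (Nat.ble 8871936 i)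
noncomputable def eT8656 (i : Nat) : Nat := Bool.rec (eL8662 i) (eT8655 i) (Nat.ble 8870912 i)
noncomputable def eT8657 (i : Nat) : Nat := Bool.rec (eT8654 i) (eT8656 i) (Nat.ble 8869888 i)
noncomputable def eT8658 (i : Nat) : Nat := Bool.rec (eL8666 i) (eL8667 i) (Nat.ble 8875008 i)
noncomputable def eT8659 (i : Nat) : Nat := Bool.rec (eL8665 i) (eT8658 i) (Nat.ble 8873984 i)
noncomputable def eT8660 (i : Nat) : Nat := Bool.rec (eL8669 i) (eL8670 i) (Nat.ble 8878080 i)
noncomputable def eT8661 (i : Nat) : Nat := Bool.rec (eL8668 i) (eT8660 i) (Nat.ble 8877056 i)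
noncomputable def eT8662 (i : Nat) : Nat := Bool.rec (eT8659 i) (eT8661 i) (Nat.ble 8876032 i)
noncomputable def eT8663 (i : Nat) : Nat := Bool.rec (eT8657 i) (eT8662 i) (Nat.ble 8872960 i)
noncomputable def eT8664 (i : Nat) : Nat := Bool.rec (eT8653 i) (eT8663 i) (Nat.ble 8867840 i)
noncomputable def eT8665 (i : Nat) : Nat := Bool.rec (eT8644 i) (eT8664 i) (Nat.ble 8857600 i)
noncomputable def eT8666 (i : Nat) : Nat := Bool.rec (eL8671 i) (eL8672 i) (Nat.ble 8880128 i)
noncomputable def eT8667 (i : Nat) : Nat := Bool.rec (eL8674 i) (eL8675 i) (Nat.ble 8883200 i)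
noncomputable def eT8668 (i : Nat) : Nat := Bool.rec (eL8673 i) (eT8667 i) (Nat.ble 8882176 i)
noncomputable def eT8669 (i : Nat) : Nat := Bool.rec (eT8666 i) (eT8668 i) (Nat.ble 8881152 i)
noncomputable def eT8670 (i : Nat) : Nat := Bool.rec (eL8676 i) (eL8677 i) (Nat.ble 8885248 i)
noncomputable def eT8671 (i : Nat) : Nat := Bool.rec (eL8679 i) (eL8680 i) (Nat.ble 8888320 i)
noncomputable def eT8672 (i : Nat) : Nat := Bool.rec (eL8678 i) (eT8671 i) (Nat.ble 8887296 i)
noncomputable def eT8673 (i : Nat) : Nat := Bool.rec (eT8670 i) (eT8672 i) (Nat.ble 8886272 i)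
noncomputable def eT8674 (i : Nat) : Nat := Bool.rec (eT8669 i) (eT8673 i) (Nat.ble 8884224 i)
noncomputable def eT8675 (i : Nat) : Nat := Bool.rec (eL8681 i) (eL8682 i) (Nat.ble 8890368 i)
noncomputable def eT8676 (i : Nat) : Nat := Bool.rec (eL8684 i) (eL8685 i) (Nat.ble 8893440 i)
noncomputable def eT8677 (i : Nat) : Nat := Bool.rec (eL8683 i) (eT8676 i) (Nat.ble 8892416 i)
noncomputable def eT8678 (i : Nat) : Nat := Bool.rec (eT8675 i) (eT8677 i) (Nat.ble 8891392 i)
noncomputable def eT8679 (i : Nat) : Nat := Bool.rec (eL8686 i) (eL8687 i) (Nat.ble 8895488 i)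
noncomputable def eT8680 (i : Nat) : Nat := Bool.rec (eL8689 i) (eL8690 i) (Nat.ble 8898560 i)
noncomputable def eT8681 (i : Nat) : Nat := Bool.rec (eL8688 i) (eT8680 i) (Nat.ble 8897536 i)
noncomputable def eT8682 (i : Nat) : Nat := Bool.rec (eT8679 i) (eT8681 i) (Nat.ble 8896512 i)
noncomputable def eT8683 (i : Nat) : Nat := Bool.rec (eT8678 i) (eT8682 i) (Nat.ble 8894464 i)
noncomputable def eT8684 (i : Nat) : Nat := Bool.rec (eT8674 i) (eT8683 i) (Nat.ble 8889344 i)
noncomputable def eT8685 (i : Nat) : Nat := Bool.rec (eL8691 i) (eL8692 i) (Nat.ble 8900608 i)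
noncomputable def eT8686 (i : Nat) : Nat := Bool.rec (eL8694 i) (eL8695 i) (Nat.ble 8903680 i)
noncomputable def eT8687 (i : Nat) : Nat := Bool.rec (eL8693 i) (eT8686 i) (Nat.ble 8902656 i)
noncomputable def eT8688 (i : Nat) : Nat := Bool.rec (eT8685 i) (eT8687 i) (Nat.ble 8901632 i)
noncomputable def eT8689 (i : Nat) : Nat := Bool.rec (eL8696 i) (eL8697 i) (Nat.ble 8905728 i)
noncomputable def eT8690 (i : Nat) : Nat := Bool.rec (eL8699 i) (eL8700 i) (Nat.ble 8908800 i)
noncomputable def eT8691 (i : Nat) : Nat := Bool.rec (eL8698 i) (eT8690 i) (Nat.ble 8907776 i)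
noncomputable def eT8692 (i : Nat) : Nat := Bool.rec (eT8689 i) (eT8691 i) (Nat.ble 8906752 i)
noncomputable def eT8693 (i : Nat) : Nat := Bool.rec (eT8688 i) (eT8692 i) (Nat.ble 8904704 i)
noncomputable def eT8694 (i : Nat) : Nat := Bool.rec (eL8701 i) (eL8702 i) (Nat.ble 8910848 i)
noncomputable def eT8695 (i : Nat) : Nat := Bool.rec (eL8704 i) (eL8705 i) (Nat.ble 8913920 i)
noncomputable def eT8696 (i : Nat) : Nat := Bool.rec (eL8703 i) (eT8695 i) (Nat.ble 8912896 i)
noncomputable def eT8697 (i : Nat) : Nat := Bool.rec (eT8694 i) (eT8696 i) (Nat.ble 8911872 i)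
noncomputable def eT8698 (i : Nat) : Nat := Bool.rec (eL8707 i) (eL8708 i) (Nat.ble 8916992 i)
noncomputable def eT8699 (i : Nat) : Nat := Bool.rec (eL8706 i) (eT8698 i) (Nat.ble 8915968 i)
noncomputable def eT8700 (i : Nat) : Nat := Bool.rec (eL8710 i) (eL8711 i) (Nat.ble 8920064 i)
noncomputable def eT8701 (i : Nat) : Nat := Bool.rec (eL8709 i) (eT8700 i) (Nat.ble 8919040 i)
noncomputable def eT8702 (i : Nat) : Nat := Bool.rec (eT8699 i) (eT8701 i) (Nat.ble 8918016 i)
noncomputable def eT8703 (i : Nat) : Nat := Bool.rec (eT8697 i) (eT8702 i) (Nat.ble 8914944 i)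
noncomputable def eT8704 (i : Nat) : Nat := Bool.rec (eT8693 i) (eT8703 i) (Nat.ble 8909824 i)
noncomputable def eT8705 (i : Nat) : Nat := Bool.rec (eT8684 i) (eT8704 i) (Nat.ble 8899584 i)
noncomputable def eT8706 (i : Nat) : Nat := Bool.rec (eT8665 i) (eT8705 i) (Nat.ble 8879104 i)
noncomputable def eT8707 (i : Nat) : Nat := Bool.rec (eT8625 i) (eT8706 i) (Nat.ble 8837120 i)
noncomputable def eT8708 (i : Nat) : Nat := Bool.rec (eL8712 i) (eL8713 i) (Nat.ble 8922112 i)
noncomputable def eT8709 (i : Nat) : Nat := Bool.rec (eL8715 i) (eL8716 i) (Nat.ble 8925184 i)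
noncomputable def eT8710 (i : Nat) : Nat := Bool.rec (eL8714 i) (eT8709 i) (Nat.ble 8924160 i)
noncomputable def eT8711 (i : Nat) : Nat := Bool.rec (eT8708 i) (eT8710 i) (Nat.ble 8923136 i)
noncomputable def eT8712 (i : Nat) : Nat := Bool.rec (eL8717 i) (eL8718 i) (Nat.ble 8927232 i)
noncomputable def eT8713 (i : Nat) : Nat := Bool.rec (eL8720 i) (eL8721 i) (Nat.ble 8930304 i)
noncomputable def eT8714 (i : Nat) : Nat := Bool.rec (eL8719 i) (eT8713 i) (Nat.ble 8929280 i)
noncomputable def eT8715 (i : Nat) : Nat := Bool.rec (eT8712 i) (eT8714 i) (Nat.ble 8928256 i)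
noncomputable def eT8716 (i : Nat) : Nat := Bool.rec (eT8711 i) (eT8715 i) (Nat.ble 8926208 i)
noncomputable def eT8717 (i : Nat) : Nat := Bool.rec (eL8722 i) (eL8723 i) (Nat.ble 8932352 i)
noncomputable def eT8718 (i : Nat) : Nat := Bool.rec (eL8725 i) (eL8726 i) (Nat.ble 8935424 i)
noncomputable def eT8719 (i : Nat) : Nat := Bool.rec (eL8724 i) (eT8718 i) (Nat.ble 8934400 i)
noncomputable def eT8720 (i : Nat) : Nat := Bool.rec (eT8717 i) (eT8719 i) (Nat.ble 8933376 i)
noncomputable def eT8721 (i : Nat) : Nat := Bool.rec (eL8727 i) (eL8728 i) (Nat.ble 8937472 i)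
noncomputable def eT8722 (i : Nat) : Nat := Bool.rec (eL8730 i) (eL8731 i) (Nat.ble 8940544 i)
noncomputable def eT8723 (i : Nat) : Nat := Bool.rec (eL8729 i) (eT8722 i) (Nat.ble 8939520 i)
noncomputable def eT8724 (i : Nat) : Nat := Bool.rec (eT8721 i) (eT8723 i) (Nat.ble 8938496 i)
noncomputable def eT8725 (i : Nat) : Nat := Bool.rec (eT8720 i) (eT8724 i) (Nat.ble 8936448 i)
noncomputable def eT8726 (i : Nat) : Nat := Bool.rec (eT8716 i) (eT8725 i) (Nat.ble 8931328 i)
noncomputable def eT8727 (i : Nat) : Nat := Bool.rec (eL8732 i) (eL8733 i) (Nat.ble 8942592 i)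
noncomputable def eT8728 (i : Nat) : Nat := Bool.rec (eL8735 i) (eL8736 i) (Nat.ble 8945664 i)
noncomputable def eT8729 (i : Nat) : Nat := Bool.rec (eL8734 i) (eT8728 i) (Nat.ble 8944640 i)
noncomputable def eT8730 (i : Nat) : Nat := Bool.rec (eT8727 i) (eT8729 i) (Nat.ble 8943616 i)
noncomputable def eT8731 (i : Nat) : Nat := Bool.rec (eL8737 i) (eL8738 i) (Nat.ble 8947712 i)
noncomputable def eT8732 (i : Nat) : Nat := Bool.rec (eL8740 i) (eL8741 i) (Nat.ble 8950784 i)
noncomputable def eT8733 (i : Nat) : Nat := Bool.rec (eL8739 i) (eT8732 i) (Nat.ble 8949760 i)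
noncomputable def eT8734 (i : Nat) : Nat := Bool.rec (eT8731 i) (eT8733 i) (Nat.ble 8948736 i)
noncomputable def eT8735 (i : Nat) : Nat := Bool.rec (eT8730 i) (eT8734 i) (Nat.ble 8946688 i)
noncomputable def eT8736 (i : Nat) : Nat := Bool.rec (eL8742 i) (eL8743 i) (Nat.ble 8952832 i)
noncomputable def eT8737 (i : Nat) : Nat := Bool.rec (eL8745 i) (eL8746 i) (Nat.ble 8955904 i)
noncomputable def eT8738 (i : Nat) : Nat := Bool.rec (eL8744 i) (eT8737 i) (Nat.ble 8954880 i)
noncomputable def eT8739 (i : Nat) : Nat := Bool.rec (eT8736 i) (eT8738 i) (Nat.ble 8953856 i)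
noncomputable def eT8740 (i : Nat) : Nat := Bool.rec (eL8748 i) (eL8749 i) (Nat.ble 8958976 i)
noncomputable def eT8741 (i : Nat) : Nat := Bool.rec (eL8747 i) (eT8740 i) (Nat.ble 8957952 i)
noncomputable def eT8742 (i : Nat) : Nat := Bool.rec (eL8751 i) (eL8752 i) (Nat.ble 8962048 i)
noncomputable def eT8743 (i : Nat) : Nat := Bool.rec (eL8750 i) (eT8742 i) (Nat.ble 8961024 i)
noncomputable def eT8744 (i : Nat) : Nat := Bool.rec (eT8741 i) (eT8743 i) (Nat.ble 8960000 i)
noncomputable def eT8745 (i : Nat) : Nat := Bool.rec (eT8739 i) (eT8744 i) (Nat.ble 8956928 i)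
noncomputable def eT8746 (i : Nat) : Nat := Bool.rec (eT8735 i) (eT8745 i) (Nat.ble 8951808 i)
noncomputable def eT8747 (i : Nat) : Nat := Bool.rec (eT8726 i) (eT8746 i) (Nat.ble 8941568 i)
noncomputable def eT8748 (i : Nat) : Nat := Bool.rec (eL8753 i) (eL8754 i) (Nat.ble 8964096 i)
noncomputable def eT8749 (i : Nat) : Nat := Bool.rec (eL8756 i) (eL8757 i) (Nat.ble 8967168 i)
noncomputable def eT8750 (i : Nat) : Nat := Bool.rec (eL8755 i) (eT8749 i) (Nat.ble 8966144 i)
noncomputable def eT8751 (i : Nat) : Nat := Bool.rec (eT8748 i) (eT8750 i) (Nat.ble 8965120 i)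
noncomputable def eT8752 (i : Nat) : Nat := Bool.rec (eL8758 i) (eL8759 i) (Nat.ble 8969216 i)
noncomputable def eT8753 (i : Nat) : Nat := Bool.rec (eL8761 i) (eL8762 i) (Nat.ble 8972288 i)
noncomputable def eT8754 (i : Nat) : Nat := Bool.rec (eL8760 i) (eT8753 i) (Nat.ble 8971264 i)
noncomputable def eT8755 (i : Nat) : Nat := Bool.rec (eT8752 i) (eT8754 i) (Nat.ble 8970240 i)
noncomputable def eT8756 (i : Nat) : Nat := Bool.rec (eT8751 i) (eT8755 i) (Nat.ble 8968192 i)
noncomputable def eT8757 (i : Nat) : Nat := Bool.rec (eL8763 i) (eL8764 i) (Nat.ble 8974336 i)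
noncomputable def eT8758 (i : Nat) : Nat := Bool.rec (eL8766 i) (eL8767 i) (Nat.ble 8977408 i)
noncomputable def eT8759 (i : Nat) : Nat := Bool.rec (eL8765 i) (eT8758 i) (Nat.ble 8976384 i)
noncomputable def eT8760 (i : Nat) : Nat := Bool.rec (eT8757 i) (eT8759 i) (Nat.ble 8975360 i)
noncomputable def eT8761 (i : Nat) : Nat := Bool.rec (eL8768 i) (eL8769 i) (Nat.ble 8979456 i)
noncomputable def eT8762 (i : Nat) : Nat := Bool.rec (eL8771 i) (eL8772 i) (Nat.ble 8982528 i)
noncomputable def eT8763 (i : Nat) : Nat := Bool.rec (eL8770 i) (eT8762 i) (Nat.ble 8981504 i)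
noncomputable def eT8764 (i : Nat) : Nat := Bool.rec (eT8761 i) (eT8763 i) (Nat.ble 8980480 i)
noncomputable def eT8765 (i : Nat) : Nat := Bool.rec (eT8760 i) (eT8764 i) (Nat.ble 8978432 i)
noncomputable def eT8766 (i : Nat) : Nat := Bool.rec (eT8756 i) (eT8765 i) (Nat.ble 8973312 i)
noncomputable def eT8767 (i : Nat) : Nat := Bool.rec (eL8773 i) (eL8774 i) (Nat.ble 8984576 i)
noncomputable def eT8768 (i : Nat) : Nat := Bool.rec (eL8776 i) (eL8777 i) (Nat.ble 8987648 i)
noncomputable def eT8769 (i : Nat) : Nat := Bool.rec (eL8775 i) (eT8768 i) (Nat.ble 8986624 i)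
noncomputable def eT8770 (i : Nat) : Nat := Bool.rec (eT8767 i) (eT8769 i) (Nat.ble 8985600 i)
noncomputable def eT8771 (i : Nat) : Nat := Bool.rec (eL8778 i) (eL8779 i) (Nat.ble 8989696 i)
noncomputable def eT8772 (i : Nat) : Nat := Bool.rec (eL8781 i) (eL8782 i) (Nat.ble 8992768 i)
noncomputable def eT8773 (i : Nat) : Nat := Bool.rec (eL8780 i) (eT8772 i) (Nat.ble 8991744 i)
noncomputable def eT8774 (i : Nat) : Nat := Bool.rec (eT8771 i) (eT8773 i) (Nat.ble 8990720 i)
noncomputable def eT8775 (i : Nat) : Nat := Bool.rec (eT8770 i) (eT8774 i) (Nat.ble 8988672 i)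
noncomputable def eT8776 (i : Nat) : Nat := Bool.rec (eL8783 i) (eL8784 i) (Nat.ble 8994816 i)
noncomputable def eT8777 (i : Nat) : Nat := Bool.rec (eL8786 i) (eL8787 i) (Nat.ble 8997888 i)
noncomputable def eT8778 (i : Nat) : Nat := Bool.rec (eL8785 i) (eT8777 i) (Nat.ble 8996864 i)
noncomputable def eT8779 (i : Nat) : Nat := Bool.rec (eT8776 i) (eT8778 i) (Nat.ble 8995840 i)
noncomputable def eT8780 (i : Nat) : Nat := Bool.rec (eL8789 i) (eL8790 i) (Nat.ble 9000960 i)
noncomputable def eT8781 (i : Nat) : Nat := Bool.rec (eL8788 i) (eT8780 i) (Nat.ble 8999936 i)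
noncomputable def eT8782 (i : Nat) : Nat := Bool.rec (eL8792 i) (eL8793 i) (Nat.ble 9004032 i)
noncomputable def eT8783 (i : Nat) : Nat := Bool.rec (eL8791 i) (eT8782 i) (Nat.ble 9003008 i)
noncomputable def eT8784 (i : Nat) : Nat := Bool.rec (eT8781 i) (eT8783 i) (Nat.ble 9001984 i)
noncomputable def eT8785 (i : Nat) : Nat := Bool.rec (eT8779 i) (eT8784 i) (Nat.ble 8998912 i)
noncomputable def eT8786 (i : Nat) : Nat := Bool.rec (eT8775 i) (eT8785 i) (Nat.ble 8993792 i)
noncomputable def eT8787 (i : Nat) : Nat := Bool.rec (eT8766 i) (eT8786 i) (Nat.ble 8983552 i)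
noncomputable def eT8788 (i : Nat) : Nat := Bool.rec (eT8747 i) (eT8787 i) (Nat.ble 8963072 i)
noncomputable def eT8789 (i : Nat) : Nat := Bool.rec (eL8794 i) (eL8795 i) (Nat.ble 9006080 i)
noncomputable def eT8790 (i : Nat) : Nat := Bool.rec (eL8797 i) (eL8798 i) (Nat.ble 9009152 i)
noncomputable def eT8791 (i : Nat) : Nat := Bool.rec (eL8796 i) (eT8790 i) (Nat.ble 9008128 i)
noncomputable def eT8792 (i : Nat) : Nat := Bool.rec (eT8789 i) (eT8791 i) (Nat.ble 9007104 i)
noncomputable def eT8793 (i : Nat) : Nat := Bool.rec (eL8799 i) (eL8800 i) (Nat.ble 9011200 i)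
noncomputable def eT8794 (i : Nat) : Nat := Bool.rec (eL8802 i) (eL8803 i) (Nat.ble 9014272 i)
noncomputable def eT8795 (i : Nat) : Nat := Bool.rec (eL8801 i) (eT8794 i) (Nat.ble 9013248 i)
noncomputable def eT8796 (i : Nat) : Nat := Bool.rec (eT8793 i) (eT8795 i) (Nat.ble 9012224 i)
noncomputable def eT8797 (i : Nat) : Nat := Bool.rec (eT8792 i) (eT8796 i) (Nat.ble 9010176 i)
noncomputable def eT8798 (i : Nat) : Nat := Bool.rec (eL8804 i) (eL8805 i) (Nat.ble 9016320 i)
noncomputable def eT8799 (i : Nat) : Nat := Bool.rec (eL8807 i) (eL8808 i) (Nat.ble 9019392 i)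
noncomputable def eT8800 (i : Nat) : Nat := Bool.rec (eL8806 i) (eT8799 i) (Nat.ble 9018368 i)
noncomputable def eT8801 (i : Nat) : Nat := Bool.rec (eT8798 i) (eT8800 i) (Nat.ble 9017344 i)
noncomputable def eT8802 (i : Nat) : Nat := Bool.rec (eL8809 i) (eL8810 i) (Nat.ble 9021440 i)
noncomputable def eT8803 (i : Nat) : Nat := Bool.rec (eL8812 i) (eL8813 i) (Nat.ble 9024512 i)
noncomputable def eT8804 (i : Nat) : Nat := Bool.rec (eL8811 i) (eT8803 i) (Nat.ble 9023488 i)
noncomputable def eT8805 (i : Nat) : Nat := Bool.rec (eT8802 i) (eT8804 i) (Nat.ble 9022464 i)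
noncomputable def eT8806 (i : Nat) : Nat := Bool.rec (eT8801 i) (eT8805 i) (Nat.ble 9020416 i)
noncomputable def eT8807 (i : Nat) : Nat := Bool.rec (eT8797 i) (eT8806 i) (Nat.ble 9015296 i)
noncomputable def eT8808 (i : Nat) : Nat := Bool.rec (eL8814 i) (eL8815 i) (Nat.ble 9026560 i)
noncomputable def eT8809 (i : Nat) : Nat := Bool.rec (eL8817 i) (eL8818 i) (Nat.ble 9029632 i)
noncomputable def eT8810 (i : Nat) : Nat := Bool.rec (eL8816 i) (eT8809 i) (Nat.ble 9028608 i)
noncomputable def eT8811 (i : Nat) : Nat := Bool.rec (eT8808 i) (eT8810 i) (Nat.ble 9027584 i)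
noncomputable def eT8812 (i : Nat) : Nat := Bool.rec (eL8819 i) (eL8820 i) (Nat.ble 9031680 i)
noncomputable def eT8813 (i : Nat) : Nat := Bool.rec (eL8822 i) (eL8823 i) (Nat.ble 9034752 i)
noncomputable def eT8814 (i : Nat) : Nat := Bool.rec (eL8821 i) (eT8813 i) (Nat.ble 9033728 i)
noncomputable def eT8815 (i : Nat) : Nat := Bool.rec (eT8812 i) (eT8814 i) (Nat.ble 9032704 i)
noncomputable def eT8816 (i : Nat) : Nat := Bool.rec (eT8811 i) (eT8815 i) (Nat.ble 9030656 i)
noncomputable def eT8817 (i : Nat) : Nat := Bool.rec (eL8824 i) (eL8825 i) (Nat.ble 9036800 i)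
noncomputable def eT8818 (i : Nat) : Nat := Bool.rec (eL8827 i) (eL8828 i) (Nat.ble 9039872 i)
noncomputable def eT8819 (i : Nat) : Nat := Bool.rec (eL8826 i) (eT8818 i) (Nat.ble 9038848 i)
noncomputable def eT8820 (i : Nat) : Nat := Bool.rec (eT8817 i) (eT8819 i) (Nat.ble 9037824 i)
noncomputable def eT8821 (i : Nat) : Nat := Bool.rec (eL8830 i) (eL8831 i) (Nat.ble 9042944 i)
noncomputable def eT8822 (i : Nat) : Nat := Bool.rec (eL8829 i) (eT8821 i) (Nat.ble 9041920 i)
noncomputable def eT8823 (i : Nat) : Nat := Bool.rec (eL8833 i) (eL8834 i) (Nat.ble 9046016 i)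
noncomputable def eT8824 (i : Nat) : Nat := Bool.rec (eL8832 i) (eT8823 i) (Nat.ble 9044992 i)
noncomputable def eT8825 (i : Nat) : Nat := Bool.rec (eT8822 i) (eT8824 i) (Nat.ble 9043968 i)
noncomputable def eT8826 (i : Nat) : Nat := Bool.rec (eT8820 i) (eT8825 i) (Nat.ble 9040896 i)
noncomputable def eT8827 (i : Nat) : Nat := Bool.rec (eT8816 i) (eT8826 i) (Nat.ble 9035776 i)
noncomputable def eT8828 (i : Nat) : Nat := Bool.rec (eT8807 i) (eT8827 i) (Nat.ble 9025536 i)
noncomputable def eT8829 (i : Nat) : Nat := Bool.rec (eL8835 i) (eL8836 i) (Nat.ble 9048064 i)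
noncomputable def eT8830 (i : Nat) : Nat := Bool.rec (eL8838 i) (eL8839 i) (Nat.ble 9051136 i)
noncomputable def eT8831 (i : Nat) : Nat := Bool.rec (eL8837 i) (eT8830 i) (Nat.ble 9050112 i)
noncomputable def eT8832 (i : Nat) : Nat := Bool.rec (eT8829 i) (eT8831 i) (Nat.ble 9049088 i)
noncomputable def eT8833 (i : Nat) : Nat := Bool.rec (eL8840 i) (eL8841 i) (Nat.ble 9053184 i)
noncomputable def eT8834 (i : Nat) : Nat := Bool.rec (eL8843 i) (eL8844 i) (Nat.ble 9056256 i)
noncomputable def eT8835 (i : Nat) : Nat := Bool.rec (eL8842 i) (eT8834 i) (Nat.ble 9055232 i)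
noncomputable def eT8836 (i : Nat) : Nat := Bool.rec (eT8833 i) (eT8835 i) (Nat.ble 9054208 i)
noncomputable def eT8837 (i : Nat) : Nat := Bool.rec (eT8832 i) (eT8836 i) (Nat.ble 9052160 i)
noncomputable def eT8838 (i : Nat) : Nat := Bool.rec (eL8845 i) (eL8846 i) (Nat.ble 9058304 i)
noncomputable def eT8839 (i : Nat) : Nat := Bool.rec (eL8848 i) (eL8849 i) (Nat.ble 9061376 i)
noncomputable def eT8840 (i : Nat) : Nat := Bool.rec (eL8847 i) (eT8839 i) (Nat.ble 9060352 i)
noncomputable def eT8841 (i : Nat) : Nat := Bool.rec (eT8838 i) (eT8840 i) (Nat.ble 9059328 i)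
noncomputable def eT8842 (i : Nat) : Nat := Bool.rec (eL8851 i) (eL8852 i) (Nat.ble 9064448 i)
noncomputable def eT8843 (i : Nat) : Nat := Bool.rec (eL8850 i) (eT8842 i) (Nat.ble 9063424 i)
noncomputable def eT8844 (i : Nat) : Nat := Bool.rec (eL8854 i) (eL8855 i) (Nat.ble 9067520 i)
noncomputable def eT8845 (i : Nat) : Nat := Bool.rec (eL8853 i) (eT8844 i) (Nat.ble 9066496 i)
noncomputable def eT8846 (i : Nat) : Nat := Bool.rec (eT8843 i) (eT8845 i) (Nat.ble 9065472 i)
noncomputable def eT8847 (i : Nat) : Nat := Bool.rec (eT8841 i) (eT8846 i) (Nat.ble 9062400 i)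
noncomputable def eT8848 (i : Nat) : Nat := Bool.rec (eT8837 i) (eT8847 i) (Nat.ble 9057280 i)
noncomputable def eT8849 (i : Nat) : Nat := Bool.rec (eL8856 i) (eL8857 i) (Nat.ble 9069568 i)
noncomputable def eT8850 (i : Nat) : Nat := Bool.rec (eL8859 i) (eL8860 i) (Nat.ble 9072640 i)
noncomputable def eT8851 (i : Nat) : Nat := Bool.rec (eL8858 i) (eT8850 i) (Nat.ble 9071616 i)
noncomputable def eT8852 (i : Nat) : Nat := Bool.rec (eT8849 i) (eT8851 i) (Nat.ble 9070592 i)
noncomputable def eT8853 (i : Nat) : Nat := Bool.rec (eL8861 i) (eL8862 i) (Nat.ble 9074688 i)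
noncomputable def eT8854 (i : Nat) : Nat := Bool.rec (eL8864 i) (eL8865 i) (Nat.ble 9077760 i)
noncomputable def eT8855 (i : Nat) : Nat := Bool.rec (eL8863 i) (eT8854 i) (Nat.ble 9076736 i)
noncomputable def eT8856 (i : Nat) : Nat := Bool.rec (eT8853 i) (eT8855 i) (Nat.ble 9075712 i)
noncomputable def eT8857 (i : Nat) : Nat := Bool.rec (eT8852 i) (eT8856 i) (Nat.ble 9073664 i)
noncomputable def eT8858 (i : Nat) : Nat := Bool.rec (eL8866 i) (eL8867 i) (Nat.ble 9079808 i)
noncomputable def eT8859 (i : Nat) : Nat := Bool.rec (eL8869 i) (eL8870 i) (Nat.ble 9082880 i)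
noncomputable def eT8860 (i : Nat) : Nat := Bool.rec (eL8868 i) (eT8859 i) (Nat.ble 9081856 i)
noncomputable def eT8861 (i : Nat) : Nat := Bool.rec (eT8858 i) (eT8860 i) (Nat.ble 9080832 i)
noncomputable def eT8862 (i : Nat) : Nat := Bool.rec (eL8872 i) (eL8873 i) (Nat.ble 9085952 i)
noncomputable def eT8863 (i : Nat) : Nat := Bool.rec (eL8871 i) (eT8862 i) (Nat.ble 9084928 i)
noncomputable def eT8864 (i : Nat) : Nat := Bool.rec (eL8875 i) (eL8876 i) (Nat.ble 9089024 i)
noncomputable def eT8865 (i : Nat) : Nat := Bool.rec (eL8874 i) (eT8864 i) (Nat.ble 9088000 i)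
noncomputable def eT8866 (i : Nat) : Nat := Bool.rec (eT8863 i) (eT8865 i) (Nat.ble 9086976 i)
noncomputable def eT8867 (i : Nat) : Nat := Bool.rec (eT8861 i) (eT8866 i) (Nat.ble 9083904 i)
noncomputable def eT8868 (i : Nat) : Nat := Bool.rec (eT8857 i) (eT8867 i) (Nat.ble 9078784 i)
noncomputable def eT8869 (i : Nat) : Nat := Bool.rec (eT8848 i) (eT8868 i) (Nat.ble 9068544 i)
noncomputable def eT8870 (i : Nat) : Nat := Bool.rec (eT8828 i) (eT8869 i) (Nat.ble 9047040 i)
noncomputable def eT8871 (i : Nat) : Nat := Bool.rec (eT8788 i) (eT8870 i) (Nat.ble 9005056 i)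
noncomputable def eT8872 (i : Nat) : Nat := Bool.rec (eT8707 i) (eT8871 i) (Nat.ble 8921088 i)
noncomputable def eT8873 (i : Nat) : Nat := Bool.rec (eL8877 i) (eL8878 i) (Nat.ble 9091072 i)
noncomputable def eT8874 (i : Nat) : Nat := Bool.rec (eL8880 i) (eL8881 i) (Nat.ble 9094144 i)
noncomputable def eT8875 (i : Nat) : Nat := Bool.rec (eL8879 i) (eT8874 i) (Nat.ble 9093120 i)
noncomputable def eT8876 (i : Nat) : Nat := Bool.rec (eT8873 i) (eT8875 i) (Nat.ble 9092096 i)
noncomputable def eT8877 (i : Nat) : Nat := Bool.rec (eL8882 i) (eL8883 i) (Nat.ble 9096192 i)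
noncomputable def eT8878 (i : Nat) : Nat := Bool.rec (eL8885 i) (eL8886 i) (Nat.ble 9099264 i)
noncomputable def eT8879 (i : Nat) : Nat := Bool.rec (eL8884 i) (eT8878 i) (Nat.ble 9098240 i)
noncomputable def eT8880 (i : Nat) : Nat := Bool.rec (eT8877 i) (eT8879 i) (Nat.ble 9097216 i)
noncomputable def eT8881 (i : Nat) : Nat := Bool.rec (eT8876 i) (eT8880 i) (Nat.ble 9095168 i)
noncomputable def eT8882 (i : Nat) : Nat := Bool.rec (eL8887 i) (eL8888 i) (Nat.ble 9101312 i)
noncomputable def eT8883 (i : Nat) : Nat := Bool.rec (eL8890 i) (eL8891 i) (Nat.ble 9104384 i)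
noncomputable def eT8884 (i : Nat) : Nat := Bool.rec (eL8889 i) (eT8883 i) (Nat.ble 9103360 i)
noncomputable def eT8885 (i : Nat) : Nat := Bool.rec (eT8882 i) (eT8884 i) (Nat.ble 9102336 i)
noncomputable def eT8886 (i : Nat) : Nat := Bool.rec (eL8892 i) (eL8893 i) (Nat.ble 9106432 i)
noncomputable def eT8887 (i : Nat) : Nat := Bool.rec (eL8895 i) (eL8896 i) (Nat.ble 9109504 i)
noncomputable def eT8888 (i : Nat) : Nat := Bool.rec (eL8894 i) (eT8887 i) (Nat.ble 9108480 i)
noncomputable def eT8889 (i : Nat) : Nat := Bool.rec (eT8886 i) (eT8888 i) (Nat.ble 9107456 i)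
noncomputable def eT8890 (i : Nat) : Nat := Bool.rec (eT8885 i) (eT8889 i) (Nat.ble 9105408 i)
noncomputable def eT8891 (i : Nat) : Nat := Bool.rec (eT8881 i) (eT8890 i) (Nat.ble 9100288 i)
noncomputable def eT8892 (i : Nat) : Nat := Bool.rec (eL8897 i) (eL8898 i) (Nat.ble 9111552 i)
noncomputable def eT8893 (i : Nat) : Nat := Bool.rec (eL8900 i) (eL8901 i) (Nat.ble 9114624 i)
noncomputable def eT8894 (i : Nat) : Nat := Bool.rec (eL8899 i) (eT8893 i) (Nat.ble 9113600 i)
noncomputable def eT8895 (i : Nat) : Nat := Bool.rec (eT8892 i) (eT8894 i) (Nat.ble 9112576 i)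
noncomputable def eT8896 (i : Nat) : Nat := Bool.rec (eL8902 i) (eL8903 i) (Nat.ble 9116672 i)
noncomputable def eT8897 (i : Nat) : Nat := Bool.rec (eL8905 i) (eL8906 i) (Nat.ble 9119744 i)
noncomputable def eT8898 (i : Nat) : Nat := Bool.rec (eL8904 i) (eT8897 i) (Nat.ble 9118720 i)
noncomputable def eT8899 (i : Nat) : Nat := Bool.rec (eT8896 i) (eT8898 i) (Nat.ble 9117696 i)
noncomputable def eT8900 (i : Nat) : Nat := Bool.rec (eT8895 i) (eT8899 i) (Nat.ble 9115648 i)
noncomputable def eT8901 (i : Nat) : Nat := Bool.rec (eL8907 i) (eL8908 i) (Nat.ble 9121792 i)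
noncomputable def eT8902 (i : Nat) : Nat := Bool.rec (eL8910 i) (eL8911 i) (Nat.ble 9124864 i)
noncomputable def eT8903 (i : Nat) : Nat := Bool.rec (eL8909 i) (eT8902 i) (Nat.ble 9123840 i)
noncomputable def eT8904 (i : Nat) : Nat := Bool.rec (eT8901 i) (eT8903 i) (Nat.ble 9122816 i)
noncomputable def eT8905 (i : Nat) : Nat := Bool.rec (eL8913 i) (eL8914 i) (Nat.ble 9127936 i)
noncomputable def eT8906 (i : Nat) : Nat := Bool.rec (eL8912 i) (eT8905 i) (Nat.ble 9126912 i)
noncomputable def eT8907 (i : Nat) : Nat := Bool.rec (eL8916 i) (eL8917 i) (Nat.ble 9131008 i)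
noncomputable def eT8908 (i : Nat) : Nat := Bool.rec (eL8915 i) (eT8907 i) (Nat.ble 9129984 i)
noncomputable def eT8909 (i : Nat) : Nat := Bool.rec (eT8906 i) (eT8908 i) (Nat.ble 9128960 i)
noncomputable def eT8910 (i : Nat) : Nat := Bool.rec (eT8904 i) (eT8909 i) (Nat.ble 9125888 i)
noncomputable def eT8911 (i : Nat) : Nat := Bool.rec (eT8900 i) (eT8910 i) (Nat.ble 9120768 i)
noncomputable def eT8912 (i : Nat) : Nat := Bool.rec (eT8891 i) (eT8911 i) (Nat.ble 9110528 i)
noncomputable def eT8913 (i : Nat) : Nat := Bool.rec (eL8918 i) (eL8919 i) (Nat.ble 9133056 i)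
noncomputable def eT8914 (i : Nat) : Nat := Bool.rec (eL8921 i) (eL8922 i) (Nat.ble 9136128 i)
noncomputable def eT8915 (i : Nat) : Nat := Bool.rec (eL8920 i) (eT8914 i) (Nat.ble 9135104 i)
noncomputable def eT8916 (i : Nat) : Nat := Bool.rec (eT8913 i) (eT8915 i) (Nat.ble 9134080 i)
noncomputable def eT8917 (i : Nat) : Nat := Bool.rec (eL8923 i) (eL8924 i) (Nat.ble 9138176 i)
noncomputable def eT8918 (i : Nat) : Nat := Bool.rec (eL8926 i) (eL8927 i) (Nat.ble 9141248 i)
noncomputable def eT8919 (i : Nat) : Nat := Bool.rec (eL8925 i) (eT8918 i) (Nat.ble 9140224 i)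
noncomputable def eT8920 (i : Nat) : Nat := Bool.rec (eT8917 i) (eT8919 i) (Nat.ble 9139200 i)
noncomputable def eT8921 (i : Nat) : Nat := Bool.rec (eT8916 i) (eT8920 i) (Nat.ble 9137152 i)
noncomputable def eT8922 (i : Nat) : Nat := Bool.rec (eL8928 i) (eL8929 i) (Nat.ble 9143296 i)
noncomputable def eT8923 (i : Nat) : Nat := Bool.rec (eL8931 i) (eL8932 i) (Nat.ble 9146368 i)
noncomputable def eT8924 (i : Nat) : Nat := Bool.rec (eL8930 i) (eT8923 i) (Nat.ble 9145344 i)
noncomputable def eT8925 (i : Nat) : Nat := Bool.rec (eT8922 i) (eT8924 i) (Nat.ble 9144320 i)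
noncomputable def eT8926 (i : Nat) : Nat := Bool.rec (eL8933 i) (eL8934 i) (Nat.ble 9148416 i)
noncomputable def eT8927 (i : Nat) : Nat := Bool.rec (eL8936 i) (eL8937 i) (Nat.ble 9151488 i)
noncomputable def eT8928 (i : Nat) : Nat := Bool.rec (eL8935 i) (eT8927 i) (Nat.ble 9150464 i)
noncomputable def eT8929 (i : Nat) : Nat := Bool.rec (eT8926 i) (eT8928 i) (Nat.ble 9149440 i)
noncomputable def eT8930 (i : Nat) : Nat := Bool.rec (eT8925 i) (eT8929 i) (Nat.ble 9147392 i)
noncomputable def eT8931 (i : Nat) : Nat := Bool.rec (eT8921 i) (eT8930 i) (Nat.ble 9142272 i)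
noncomputable def eT8932 (i : Nat) : Nat := Bool.rec (eL8938 i) (eL8939 i) (Nat.ble 9153536 i)
noncomputable def eT8933 (i : Nat) : Nat := Bool.rec (eL8941 i) (eL8942 i) (Nat.ble 9156608 i)
noncomputable def eT8934 (i : Nat) : Nat := Bool.rec (eL8940 i) (eT8933 i) (Nat.ble 9155584 i)
noncomputable def eT8935 (i : Nat) : Nat := Bool.rec (eT8932 i) (eT8934 i) (Nat.ble 9154560 i)
noncomputable def eT8936 (i : Nat) : Nat := Bool.rec (eL8943 i) (eL8944 i) (Nat.ble 9158656 i)
noncomputable def eT8937 (i : Nat) : Nat := Bool.rec (eL8946 i) (eL8947 i) (Nat.ble 9161728 i)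
noncomputable def eT8938 (i : Nat) : Nat := Bool.rec (eL8945 i) (eT8937 i) (Nat.ble 9160704 i)
noncomputable def eT8939 (i : Nat) : Nat := Bool.rec (eT8936 i) (eT8938 i) (Nat.ble 9159680 i)
noncomputable def eT8940 (i : Nat) : Nat := Bool.rec (eT8935 i) (eT8939 i) (Nat.ble 9157632 i)
noncomputable def eT8941 (i : Nat) : Nat := Bool.rec (eL8948 i) (eL8949 i) (Nat.ble 9163776 i)
noncomputable def eT8942 (i : Nat) : Nat := Bool.rec (eL8951 i) (eL8952 i) (Nat.ble 9166848 i)
noncomputable def eT8943 (i : Nat) : Nat := Bool.rec (eL8950 i) (eT8942 i) (Nat.ble 9165824 i)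
noncomputable def eT8944 (i : Nat) : Nat := Bool.rec (eT8941 i) (eT8943 i) (Nat.ble 9164800 i)
noncomputable def eT8945 (i : Nat) : Nat := Bool.rec (eL8954 i) (eL8955 i) (Nat.ble 9169920 i)
noncomputable def eT8946 (i : Nat) : Nat := Bool.rec (eL8953 i) (eT8945 i) (Nat.ble 9168896 i)
noncomputable def eT8947 (i : Nat) : Nat := Bool.rec (eL8957 i) (eL8958 i) (Nat.ble 9172992 i)
noncomputable def eT8948 (i : Nat) : Nat := Bool.rec (eL8956 i) (eT8947 i) (Nat.ble 9171968 i)
noncomputable def eT8949 (i : Nat) : Nat := Bool.rec (eT8946 i) (eT8948 i) (Nat.ble 9170944 i)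
noncomputable def eT8950 (i : Nat) : Nat := Bool.rec (eT8944 i) (eT8949 i) (Nat.ble 9167872 i)
noncomputable def eT8951 (i : Nat) : Nat := Bool.rec (eT8940 i) (eT8950 i) (Nat.ble 9162752 i)
noncomputable def eT8952 (i : Nat) : Nat := Bool.rec (eT8931 i) (eT8951 i) (Nat.ble 9152512 i)
noncomputable def eT8953 (i : Nat) : Nat := Bool.rec (eT8912 i) (eT8952 i) (Nat.ble 9132032 i)
noncomputable def eT8954 (i : Nat) : Nat := Bool.rec (eL8959 i) (eL8960 i) (Nat.ble 9175040 i)
noncomputable def eT8955 (i : Nat) : Nat := Bool.rec (eL8962 i) (eL8963 i) (Nat.ble 9178112 i)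
noncomputable def eT8956 (i : Nat) : Nat := Bool.rec (eL8961 i) (eT8955 i) (Nat.ble 9177088 i)
noncomputable def eT8957 (i : Nat) : Nat := Bool.rec (eT8954 i) (eT8956 i) (Nat.ble 9176064 i)
noncomputable def eT8958 (i : Nat) : Nat := Bool.rec (eL8964 i) (eL8965 i) (Nat.ble 9180160 i)
noncomputable def eT8959 (i : Nat) : Nat := Bool.rec (eL8967 i) (eL8968 i) (Nat.ble 9183232 i)
noncomputable def eT8960 (i : Nat) : Nat := Bool.rec (eL8966 i) (eT8959 i) (Nat.ble 9182208 i)
noncomputable def eT8961 (i : Nat) : Nat := Bool.rec (eT8958 i) (eT8960 i) (Nat.ble 9181184 i)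
noncomputable def eT8962 (i : Nat) : Nat := Bool.rec (eT8957 i) (eT8961 i) (Nat.ble 9179136 i)
noncomputable def eT8963 (i : Nat) : Nat := Bool.rec (eL8969 i) (eL8970 i) (Nat.ble 9185280 i)
noncomputable def eT8964 (i : Nat) : Nat := Bool.rec (eL8972 i) (eL8973 i) (Nat.ble 9188352 i)
noncomputable def eT8965 (i : Nat) : Nat := Bool.rec (eL8971 i) (eT8964 i) (Nat.ble 9187328 i)
noncomputable def eT8966 (i : Nat) : Nat := Bool.rec (eT8963 i) (eT8965 i) (Nat.ble 9186304 i)
noncomputable def eT8967 (i : Nat) : Nat := Bool.rec (eL8974 i) (eL8975 i) (Nat.ble 9190400 i)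
noncomputable def eT8968 (i : Nat) : Nat := Bool.rec (eL8977 i) (eL8978 i) (Nat.ble 9193472 i)
noncomputable def eT8969 (i : Nat) : Nat := Bool.rec (eL8976 i) (eT8968 i) (Nat.ble 9192448 i)
noncomputable def eT8970 (i : Nat) : Nat := Bool.rec (eT8967 i) (eT8969 i) (Nat.ble 9191424 i)
noncomputable def eT8971 (i : Nat) : Nat := Bool.rec (eT8966 i) (eT8970 i) (Nat.ble 9189376 i)
noncomputable def eT8972 (i : Nat) : Nat := Bool.rec (eT8962 i) (eT8971 i) (Nat.ble 9184256 i)
noncomputable def eT8973 (i : Nat) : Nat := Bool.rec (eL8979 i) (eL8980 i) (Nat.ble 9195520 i)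
noncomputable def eT8974 (i : Nat) : Nat := Bool.rec (eL8982 i) (eL8983 i) (Nat.ble 9198592 i)
noncomputable def eT8975 (i : Nat) : Nat := Bool.rec (eL8981 i) (eT8974 i) (Nat.ble 9197568 i)
noncomputable def eT8976 (i : Nat) : Nat := Bool.rec (eT8973 i) (eT8975 i) (Nat.ble 9196544 i)
noncomputable def eT8977 (i : Nat) : Nat := Bool.rec (eL8984 i) (eL8985 i) (Nat.ble 9200640 i)
noncomputable def eT8978 (i : Nat) : Nat := Bool.rec (eL8987 i) (eL8988 i) (Nat.ble 9203712 i)
noncomputable def eT8979 (i : Nat) : Nat := Bool.rec (eL8986 i) (eT8978 i) (Nat.ble 9202688 i)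
noncomputable def eT8980 (i : Nat) : Nat := Bool.rec (eT8977 i) (eT8979 i) (Nat.ble 9201664 i)
noncomputable def eT8981 (i : Nat) : Nat := Bool.rec (eT8976 i) (eT8980 i) (Nat.ble 9199616 i)
noncomputable def eT8982 (i : Nat) : Nat := Bool.rec (eL8989 i) (eL8990 i) (Nat.ble 9205760 i)
noncomputable def eT8983 (i : Nat) : Nat := Bool.rec (eL8992 i) (eL8993 i) (Nat.ble 9208832 i)
noncomputable def eT8984 (i : Nat) : Nat := Bool.rec (eL8991 i) (eT8983 i) (Nat.ble 9207808 i)
noncomputable def eT8985 (i : Nat) : Nat := Bool.rec (eT8982 i) (eT8984 i) (Nat.ble 9206784 i)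
noncomputable def eT8986 (i : Nat) : Nat := Bool.rec (eL8995 i) (eL8996 i) (Nat.ble 9211904 i)
noncomputable def eT8987 (i : Nat) : Nat := Bool.rec (eL8994 i) (eT8986 i) (Nat.ble 9210880 i)
noncomputable def eT8988 (i : Nat) : Nat := Bool.rec (eL8998 i) (eL8999 i) (Nat.ble 9214976 i)
noncomputable def eT8989 (i : Nat) : Nat := Bool.rec (eL8997 i) (eT8988 i) (Nat.ble 9213952 i)
noncomputable def eT8990 (i : Nat) : Nat := Bool.rec (eT8987 i) (eT8989 i) (Nat.ble 9212928 i)
noncomputable def eT8991 (i : Nat) : Nat := Bool.rec (eT8985 i) (eT8990 i) (Nat.ble 9209856 i)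
noncomputable def eT8992 (i : Nat) : Nat := Bool.rec (eT8981 i) (eT8991 i) (Nat.ble 9204736 i)
noncomputable def eT8993 (i : Nat) : Nat := Bool.rec (eT8972 i) (eT8992 i) (Nat.ble 9194496 i)
noncomputable def eT8994 (i : Nat) : Nat := Bool.rec (eL9000 i) (eL9001 i) (Nat.ble 9217024 i)
noncomputable def eT8995 (i : Nat) : Nat := Bool.rec (eL9003 i) (eL9004 i) (Nat.ble 9220096 i)
noncomputable def eT8996 (i : Nat) : Nat := Bool.rec (eL9002 i) (eT8995 i) (Nat.ble 9219072 i)
noncomputable def eT8997 (i : Nat) : Nat := Bool.rec (eT8994 i) (eT8996 i) (Nat.ble 9218048 i)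
noncomputable def eT8998 (i : Nat) : Nat := Bool.rec (eL9005 i) (eL9006 i) (Nat.ble 9222144 i)
noncomputable def eT8999 (i : Nat) : Nat := Bool.rec (eL9008 i) (eL9009 i) (Nat.ble 9225216 i)
noncomputable def eT9000 (i : Nat) : Nat := Bool.rec (eL9007 i) (eT8999 i) (Nat.ble 9224192 i)
noncomputable def eT9001 (i : Nat) : Nat := Bool.rec (eT8998 i) (eT9000 i) (Nat.ble 9223168 i)
noncomputable def eT9002 (i : Nat) : Nat := Bool.rec (eT8997 i) (eT9001 i) (Nat.ble 9221120 i)
noncomputable def eT9003 (i : Nat) : Nat := Bool.rec (eL9010 i) (eL9011 i) (Nat.ble 9227264 i)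
noncomputable def eT9004 (i : Nat) : Nat := Bool.rec (eL9013 i) (eL9014 i) (Nat.ble 9230336 i)
noncomputable def eT9005 (i : Nat) : Nat := Bool.rec (eL9012 i) (eT9004 i) (Nat.ble 9229312 i)
noncomputable def eT9006 (i : Nat) : Nat := Bool.rec (eT9003 i) (eT9005 i) (Nat.ble 9228288 i)
noncomputable def eT9007 (i : Nat) : Nat := Bool.rec (eL9015 i) (eL9016 i) (Nat.ble 9232384 i)
noncomputable def eT9008 (i : Nat) : Nat := Bool.rec (eL9018 i) (eL9019 i) (Nat.ble 9235456 i)
noncomputable def eT9009 (i : Nat) : Nat := Bool.rec (eL9017 i) (eT9008 i) (Nat.ble 9234432 i)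
noncomputable def eT9010 (i : Nat) : Nat := Bool.rec (eT9007 i) (eT9009 i) (Nat.ble 9233408 i)
noncomputable def eT9011 (i : Nat) : Nat := Bool.rec (eT9006 i) (eT9010 i) (Nat.ble 9231360 i)
noncomputable def eT9012 (i : Nat) : Nat := Bool.rec (eT9002 i) (eT9011 i) (Nat.ble 9226240 i)
noncomputable def eT9013 (i : Nat) : Nat := Bool.rec (eL9020 i) (eL9021 i) (Nat.ble 9237504 i)
noncomputable def eT9014 (i : Nat) : Nat := Bool.rec (eL9023 i) (eL9024 i) (Nat.ble 9240576 i)
noncomputable def eT9015 (i : Nat) : Nat := Bool.rec (eL9022 i) (eT9014 i) (Nat.ble 9239552 i)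
noncomputable def eT9016 (i : Nat) : Nat := Bool.rec (eT9013 i) (eT9015 i) (Nat.ble 9238528 i)
noncomputable def eT9017 (i : Nat) : Nat := Bool.rec (eL9025 i) (eL9026 i) (Nat.ble 9242624 i)
noncomputable def eT9018 (i : Nat) : Nat := Bool.rec (eL9028 i) (eL9029 i) (Nat.ble 9245696 i)
noncomputable def eT9019 (i : Nat) : Nat := Bool.rec (eL9027 i) (eT9018 i) (Nat.ble 9244672 i)
noncomputable def eT9020 (i : Nat) : Nat := Bool.rec (eT9017 i) (eT9019 i) (Nat.ble 9243648 i)
noncomputable def eT9021 (i : Nat) : Nat := Bool.rec (eT9016 i) (eT9020 i) (Nat.ble 9241600 i)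
noncomputable def eT9022 (i : Nat) : Nat := Bool.rec (eL9030 i) (eL9031 i) (Nat.ble 9247744 i)
noncomputable def eT9023 (i : Nat) : Nat := Bool.rec (eL9033 i) (eL9034 i) (Nat.ble 9250816 i)
noncomputable def eT9024 (i : Nat) : Nat := Bool.rec (eL9032 i) (eT9023 i) (Nat.ble 9249792 i)
noncomputable def eT9025 (i : Nat) : Nat := Bool.rec (eT9022 i) (eT9024 i) (Nat.ble 9248768 i)
noncomputable def eT9026 (i : Nat) : Nat := Bool.rec (eL9036 i) (eL9037 i) (Nat.ble 9253888 i)
noncomputable def eT9027 (i : Nat) : Nat := Bool.rec (eL9035 i) (eT9026 i) (Nat.ble 9252864 i)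
noncomputable def eT9028 (i : Nat) : Nat := Bool.rec (eL9039 i) (eL9040 i) (Nat.ble 9256960 i)
noncomputable def eT9029 (i : Nat) : Nat := Bool.rec (eL9038 i) (eT9028 i) (Nat.ble 9255936 i)
noncomputable def eT9030 (i : Nat) : Nat := Bool.rec (eT9027 i) (eT9029 i) (Nat.ble 9254912 i)
noncomputable def eT9031 (i : Nat) : Nat := Bool.rec (eT9025 i) (eT9030 i) (Nat.ble 9251840 i)
noncomputable def eT9032 (i : Nat) : Nat := Bool.rec (eT9021 i) (eT9031 i) (Nat.ble 9246720 i)
noncomputable def eT9033 (i : Nat) : Nat := Bool.rec (eT9012 i) (eT9032 i) (Nat.ble 9236480 i)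
noncomputable def eT9034 (i : Nat) : Nat := Bool.rec (eT8993 i) (eT9033 i) (Nat.ble 9216000 i)
noncomputable def eT9035 (i : Nat) : Nat := Bool.rec (eT8953 i) (eT9034 i) (Nat.ble 9174016 i)
noncomputable def eT9036 (i : Nat) : Nat := Bool.rec (eL9041 i) (eL9042 i) (Nat.ble 9259008 i)
noncomputable def eT9037 (i : Nat) : Nat := Bool.rec (eL9044 i) (eL9045 i) (Nat.ble 9262080 i)
noncomputable def eT9038 (i : Nat) : Nat := Bool.rec (eL9043 i) (eT9037 i) (Nat.ble 9261056 i)
noncomputable def eT9039 (i : Nat) : Nat := Bool.rec (eT9036 i) (eT9038 i) (Nat.ble 9260032 i)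
noncomputable def eT9040 (i : Nat) : Nat := Bool.rec (eL9046 i) (eL9047 i) (Nat.ble 9264128 i)
noncomputable def eT9041 (i : Nat) : Nat := Bool.rec (eL9049 i) (eL9050 i) (Nat.ble 9267200 i)
noncomputable def eT9042 (i : Nat) : Nat := Bool.rec (eL9048 i) (eT9041 i) (Nat.ble 9266176 i)
noncomputable def eT9043 (i : Nat) : Nat := Bool.rec (eT9040 i) (eT9042 i) (Nat.ble 9265152 i)
noncomputable def eT9044 (i : Nat) : Nat := Bool.rec (eT9039 i) (eT9043 i) (Nat.ble 9263104 i)
noncomputable def eT9045 (i : Nat) : Nat := Bool.rec (eL9051 i) (eL9052 i) (Nat.ble 9269248 i)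
noncomputable def eT9046 (i : Nat) : Nat := Bool.rec (eL9054 i) (eL9055 i) (Nat.ble 9272320 i)
noncomputable def eT9047 (i : Nat) : Nat := Bool.rec (eL9053 i) (eT9046 i) (Nat.ble 9271296 i)
noncomputable def eT9048 (i : Nat) : Nat := Bool.rec (eT9045 i) (eT9047 i) (Nat.ble 9270272 i)
noncomputable def eT9049 (i : Nat) : Nat := Bool.rec (eL9056 i) (eL9057 i) (Nat.ble 9274368 i)
noncomputable def eT9050 (i : Nat) : Nat := Bool.rec (eL9059 i) (eL9060 i) (Nat.ble 9277440 i)
noncomputable def eT9051 (i : Nat) : Nat := Bool.rec (eL9058 i) (eT9050 i) (Nat.ble 9276416 i)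
noncomputable def eT9052 (i : Nat) : Nat := Bool.rec (eT9049 i) (eT9051 i) (Nat.ble 9275392 i)
noncomputable def eT9053 (i : Nat) : Nat := Bool.rec (eT9048 i) (eT9052 i) (Nat.ble 9273344 i)
noncomputable def eT9054 (i : Nat) : Nat := Bool.rec (eT9044 i) (eT9053 i) (Nat.ble 9268224 i)
noncomputable def eT9055 (i : Nat) : Nat := Bool.rec (eL9061 i) (eL9062 i) (Nat.ble 9279488 i)
noncomputable def eT9056 (i : Nat) : Nat := Bool.rec (eL9064 i) (eL9065 i) (Nat.ble 9282560 i)
noncomputable def eT9057 (i : Nat) : Nat := Bool.rec (eL9063 i) (eT9056 i) (Nat.ble 9281536 i)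
noncomputable def eT9058 (i : Nat) : Nat := Bool.rec (eT9055 i) (eT9057 i) (Nat.ble 9280512 i)
noncomputable def eT9059 (i : Nat) : Nat := Bool.rec (eL9066 i) (eL9067 i) (Nat.ble 9284608 i)
noncomputable def eT9060 (i : Nat) : Nat := Bool.rec (eL9069 i) (eL9070 i) (Nat.ble 9287680 i)
noncomputable def eT9061 (i : Nat) : Nat := Bool.rec (eL9068 i) (eT9060 i) (Nat.ble 9286656 i)
noncomputable def eT9062 (i : Nat) : Nat := Bool.rec (eT9059 i) (eT9061 i) (Nat.ble 9285632 i)
noncomputable def eT9063 (i : Nat) : Nat := Bool.rec (eT9058 i) (eT9062 i) (Nat.ble 9283584 i)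
noncomputable def eT9064 (i : Nat) : Nat := Bool.rec (eL9071 i) (eL9072 i) (Nat.ble 9289728 i)
noncomputable def eT9065 (i : Nat) : Nat := Bool.rec (eL9074 i) (eL9075 i) (Nat.ble 9292800 i)
noncomputable def eT9066 (i : Nat) : Nat := Bool.rec (eL9073 i) (eT9065 i) (Nat.ble 9291776 i)
noncomputable def eT9067 (i : Nat) : Nat := Bool.rec (eT9064 i) (eT9066 i) (Nat.ble 9290752 i)
noncomputable def eT9068 (i : Nat) : Nat := Bool.rec (eL9077 i) (eL9078 i) (Nat.ble 9295872 i)
noncomputable def eT9069 (i : Nat) : Nat := Bool.rec (eL9076 i) (eT9068 i) (Nat.ble 9294848 i)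
noncomputable def eT9070 (i : Nat) : Nat := Bool.rec (eL9080 i) (eL9081 i) (Nat.ble 9298944 i)
noncomputable def eT9071 (i : Nat) : Nat := Bool.rec (eL9079 i) (eT9070 i) (Nat.ble 9297920 i)
noncomputable def eT9072 (i : Nat) : Nat := Bool.rec (eT9069 i) (eT9071 i) (Nat.ble 9296896 i)
noncomputable def eT9073 (i : Nat) : Nat := Bool.rec (eT9067 i) (eT9072 i) (Nat.ble 9293824 i)
noncomputable def eT9074 (i : Nat) : Nat := Bool.rec (eT9063 i) (eT9073 i) (Nat.ble 9288704 i)
noncomputable def eT9075 (i : Nat) : Nat := Bool.rec (eT9054 i) (eT9074 i) (Nat.ble 9278464 i)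
noncomputable def eT9076 (i : Nat) : Nat := Bool.rec (eL9082 i) (eL9083 i) (Nat.ble 9300992 i)
noncomputable def eT9077 (i : Nat) : Nat := Bool.rec (eL9085 i) (eL9086 i) (Nat.ble 9304064 i)
noncomputable def eT9078 (i : Nat) : Nat := Bool.rec (eL9084 i) (eT9077 i) (Nat.ble 9303040 i)
noncomputable def eT9079 (i : Nat) : Nat := Bool.rec (eT9076 i) (eT9078 i) (Nat.ble 9302016 i)
noncomputable def eT9080 (i : Nat) : Nat := Bool.rec (eL9087 i) (eL9088 i) (Nat.ble 9306112 i)
noncomputable def eT9081 (i : Nat) : Nat := Bool.rec (eL9090 i) (eL9091 i) (Nat.ble 9309184 i)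
noncomputable def eT9082 (i : Nat) : Nat := Bool.rec (eL9089 i) (eT9081 i) (Nat.ble 9308160 i)
noncomputable def eT9083 (i : Nat) : Nat := Bool.rec (eT9080 i) (eT9082 i) (Nat.ble 9307136 i)
noncomputable def eT9084 (i : Nat) : Nat := Bool.rec (eT9079 i) (eT9083 i) (Nat.ble 9305088 i)
noncomputable def eT9085 (i : Nat) : Nat := Bool.rec (eL9092 i) (eL9093 i) (Nat.ble 9311232 i)
noncomputable def eT9086 (i : Nat) : Nat := Bool.rec (eL9095 i) (eL9096 i) (Nat.ble 9314304 i)
noncomputable def eT9087 (i : Nat) : Nat := Bool.rec (eL9094 i) (eT9086 i) (Nat.ble 9313280 i)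
noncomputable def eT9088 (i : Nat) : Nat := Bool.rec (eT9085 i) (eT9087 i) (Nat.ble 9312256 i)
noncomputable def eT9089 (i : Nat) : Nat := Bool.rec (eL9097 i) (eL9098 i) (Nat.ble 9316352 i)
noncomputable def eT9090 (i : Nat) : Nat := Bool.rec (eL9100 i) (eL9101 i) (Nat.ble 9319424 i)
noncomputable def eT9091 (i : Nat) : Nat := Bool.rec (eL9099 i) (eT9090 i) (Nat.ble 9318400 i)
noncomputable def eT9092 (i : Nat) : Nat := Bool.rec (eT9089 i) (eT9091 i) (Nat.ble 9317376 i)
noncomputable def eT9093 (i : Nat) : Nat := Bool.rec (eT9088 i) (eT9092 i) (Nat.ble 9315328 i)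
noncomputable def eT9094 (i : Nat) : Nat := Bool.rec (eT9084 i) (eT9093 i) (Nat.ble 9310208 i)
noncomputable def eT9095 (i : Nat) : Nat := Bool.rec (eL9102 i) (eL9103 i) (Nat.ble 9321472 i)
noncomputable def eT9096 (i : Nat) : Nat := Bool.rec (eL9105 i) (eL9106 i) (Nat.ble 9324544 i)
noncomputable def eT9097 (i : Nat) : Nat := Bool.rec (eL9104 i) (eT9096 i) (Nat.ble 9323520 i)
noncomputable def eT9098 (i : Nat) : Nat := Bool.rec (eT9095 i) (eT9097 i) (Nat.ble 9322496 i)
noncomputable def eT9099 (i : Nat) : Nat := Bool.rec (eL9107 i) (eL9108 i) (Nat.ble 9326592 i)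
noncomputable def eT9100 (i : Nat) : Nat := Bool.rec (eL9110 i) (eL9111 i) (Nat.ble 9329664 i)
noncomputable def eT9101 (i : Nat) : Nat := Bool.rec (eL9109 i) (eT9100 i) (Nat.ble 9328640 i)
noncomputable def eT9102 (i : Nat) : Nat := Bool.rec (eT9099 i) (eT9101 i) (Nat.ble 9327616 i)
noncomputable def eT9103 (i : Nat) : Nat := Bool.rec (eT9098 i) (eT9102 i) (Nat.ble 9325568 i)
noncomputable def eT9104 (i : Nat) : Nat := Bool.rec (eL9112 i) (eL9113 i) (Nat.ble 9331712 i)
noncomputable def eT9105 (i : Nat) : Nat := Bool.rec (eL9115 i) (eL9116 i) (Nat.ble 9334784 i)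
noncomputable def eT9106 (i : Nat) : Nat := Bool.rec (eL9114 i) (eT9105 i) (Nat.ble 9333760 i)
noncomputable def eT9107 (i : Nat) : Nat := Bool.rec (eT9104 i) (eT9106 i) (Nat.ble 9332736 i)
noncomputable def eT9108 (i : Nat) : Nat := Bool.rec (eL9118 i) (eL9119 i) (Nat.ble 9337856 i)
noncomputable def eT9109 (i : Nat) : Nat := Bool.rec (eL9117 i) (eT9108 i) (Nat.ble 9336832 i)
noncomputable def eT9110 (i : Nat) : Nat := Bool.rec (eL9121 i) (eL9122 i) (Nat.ble 9340928 i)
noncomputable def eT9111 (i : Nat) : Nat := Bool.rec (eL9120 i) (eT9110 i) (Nat.ble 9339904 i)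
noncomputable def eT9112 (i : Nat) : Nat := Bool.rec (eT9109 i) (eT9111 i) (Nat.ble 9338880 i)
noncomputable def eT9113 (i : Nat) : Nat := Bool.rec (eT9107 i) (eT9112 i) (Nat.ble 9335808 i)
noncomputable def eT9114 (i : Nat) : Nat := Bool.rec (eT9103 i) (eT9113 i) (Nat.ble 9330688 i)
noncomputable def eT9115 (i : Nat) : Nat := Bool.rec (eT9094 i) (eT9114 i) (Nat.ble 9320448 i)
noncomputable def eT9116 (i : Nat) : Nat := Bool.rec (eT9075 i) (eT9115 i) (Nat.ble 9299968 i)
noncomputable def eT9117 (i : Nat) : Nat := Bool.rec (eL9123 i) (eL9124 i) (Nat.ble 9342976 i)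
noncomputable def eT9118 (i : Nat) : Nat := Bool.rec (eL9126 i) (eL9127 i) (Nat.ble 9346048 i)
noncomputable def eT9119 (i : Nat) : Nat := Bool.rec (eL9125 i) (eT9118 i) (Nat.ble 9345024 i)
noncomputable def eT9120 (i : Nat) : Nat := Bool.rec (eT9117 i) (eT9119 i) (Nat.ble 9344000 i)
noncomputable def eT9121 (i : Nat) : Nat := Bool.rec (eL9128 i) (eL9129 i) (Nat.ble 9348096 i)
noncomputable def eT9122 (i : Nat) : Nat := Bool.rec (eL9131 i) (eL9132 i) (Nat.ble 9351168 i)
noncomputable def eT9123 (i : Nat) : Nat := Bool.rec (eL9130 i) (eT9122 i) (Nat.ble 9350144 i)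
noncomputable def eT9124 (i : Nat) : Nat := Bool.rec (eT9121 i) (eT9123 i) (Nat.ble 9349120 i)
noncomputable def eT9125 (i : Nat) : Nat := Bool.rec (eT9120 i) (eT9124 i) (Nat.ble 9347072 i)
noncomputable def eT9126 (i : Nat) : Nat := Bool.rec (eL9133 i) (eL9134 i) (Nat.ble 9353216 i)
noncomputable def eT9127 (i : Nat) : Nat := Bool.rec (eL9136 i) (eL9137 i) (Nat.ble 9356288 i)
noncomputable def eT9128 (i : Nat) : Nat := Bool.rec (eL9135 i) (eT9127 i) (Nat.ble 9355264 i)
noncomputable def eT9129 (i : Nat) : Nat := Bool.rec (eT9126 i) (eT9128 i) (Nat.ble 9354240 i)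
noncomputable def eT9130 (i : Nat) : Nat := Bool.rec (eL9138 i) (eL9139 i) (Nat.ble 9358336 i)
noncomputable def eT9131 (i : Nat) : Nat := Bool.rec (eL9141 i) (eL9142 i) (Nat.ble 9361408 i)
noncomputable def eT9132 (i : Nat) : Nat := Bool.rec (eL9140 i) (eT9131 i) (Nat.ble 9360384 i)
noncomputable def eT9133 (i : Nat) : Nat := Bool.rec (eT9130 i) (eT9132 i) (Nat.ble 9359360 i)
noncomputable def eT9134 (i : Nat) : Nat := Bool.rec (eT9129 i) (eT9133 i) (Nat.ble 9357312 i)
noncomputable def eT9135 (i : Nat) : Nat := Bool.rec (eT9125 i) (eT9134 i) (Nat.ble 9352192 i)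
noncomputable def eT9136 (i : Nat) : Nat := Bool.rec (eL9143 i) (eL9144 i) (Nat.ble 9363456 i)
noncomputable def eT9137 (i : Nat) : Nat := Bool.rec (eL9146 i) (eL9147 i) (Nat.ble 9366528 i)
noncomputable def eT9138 (i : Nat) : Nat := Bool.rec (eL9145 i) (eT9137 i) (Nat.ble 9365504 i)
noncomputable def eT9139 (i : Nat) : Nat := Bool.rec (eT9136 i) (eT9138 i) (Nat.ble 9364480 i)
noncomputable def eT9140 (i : Nat) : Nat := Bool.rec (eL9148 i) (eL9149 i) (Nat.ble 9368576 i)
noncomputable def eT9141 (i : Nat) : Nat := Bool.rec (eL9151 i) (eL9152 i) (Nat.ble 9371648 i)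
noncomputable def eT9142 (i : Nat) : Nat := Bool.rec (eL9150 i) (eT9141 i) (Nat.ble 9370624 i)
noncomputable def eT9143 (i : Nat) : Nat := Bool.rec (eT9140 i) (eT9142 i) (Nat.ble 9369600 i)
noncomputable def eT9144 (i : Nat) : Nat := Bool.rec (eT9139 i) (eT9143 i) (Nat.ble 9367552 i)
noncomputable def eT9145 (i : Nat) : Nat := Bool.rec (eL9153 i) (eL9154 i) (Nat.ble 9373696 i)
noncomputable def eT9146 (i : Nat) : Nat := Bool.rec (eL9156 i) (eL9157 i) (Nat.ble 9376768 i)
noncomputable def eT9147 (i : Nat) : Nat := Bool.rec (eL9155 i) (eT9146 i) (Nat.ble 9375744 i)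
noncomputable def eT9148 (i : Nat) : Nat := Bool.rec (eT9145 i) (eT9147 i) (Nat.ble 9374720 i)
noncomputable def eT9149 (i : Nat) : Nat := Bool.rec (eL9159 i) (eL9160 i) (Nat.ble 9379840 i)
noncomputable def eT9150 (i : Nat) : Nat := Bool.rec (eL9158 i) (eT9149 i) (Nat.ble 9378816 i)
noncomputable def eT9151 (i : Nat) : Nat := Bool.rec (eL9162 i) (eL9163 i) (Nat.ble 9382912 i)
noncomputable def eT9152 (i : Nat) : Nat := Bool.rec (eL9161 i) (eT9151 i) (Nat.ble 9381888 i)
noncomputable def eT9153 (i : Nat) : Nat := Bool.rec (eT9150 i) (eT9152 i) (Nat.ble 9380864 i)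
noncomputable def eT9154 (i : Nat) : Nat := Bool.rec (eT9148 i) (eT9153 i) (Nat.ble 9377792 i)
noncomputable def eT9155 (i : Nat) : Nat := Bool.rec (eT9144 i) (eT9154 i) (Nat.ble 9372672 i)
noncomputable def eT9156 (i : Nat) : Nat := Bool.rec (eT9135 i) (eT9155 i) (Nat.ble 9362432 i)
noncomputable def eT9157 (i : Nat) : Nat := Bool.rec (eL9164 i) (eL9165 i) (Nat.ble 9384960 i)
noncomputable def eT9158 (i : Nat) : Nat := Bool.rec (eL9167 i) (eL9168 i) (Nat.ble 9388032 i)
noncomputable def eT9159 (i : Nat) : Nat := Bool.rec (eL9166 i) (eT9158 i) (Nat.ble 9387008 i)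
noncomputable def eT9160 (i : Nat) : Nat := Bool.rec (eT9157 i) (eT9159 i) (Nat.ble 9385984 i)
noncomputable def eT9161 (i : Nat) : Nat := Bool.rec (eL9169 i) (eL9170 i) (Nat.ble 9390080 i)
noncomputable def eT9162 (i : Nat) : Nat := Bool.rec (eL9172 i) (eL9173 i) (Nat.ble 9393152 i)
noncomputable def eT9163 (i : Nat) : Nat := Bool.rec (eL9171 i) (eT9162 i) (Nat.ble 9392128 i)
noncomputable def eT9164 (i : Nat) : Nat := Bool.rec (eT9161 i) (eT9163 i) (Nat.ble 9391104 i)
noncomputable def eT9165 (i : Nat) : Nat := Bool.rec (eT9160 i) (eT9164 i) (Nat.ble 9389056 i)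
noncomputable def eT9166 (i : Nat) : Nat := Bool.rec (eL9174 i) (eL9175 i) (Nat.ble 9395200 i)
noncomputable def eT9167 (i : Nat) : Nat := Bool.rec (eL9177 i) (eL9178 i) (Nat.ble 9398272 i)
noncomputable def eT9168 (i : Nat) : Nat := Bool.rec (eL9176 i) (eT9167 i) (Nat.ble 9397248 i)
noncomputable def eT9169 (i : Nat) : Nat := Bool.rec (eT9166 i) (eT9168 i) (Nat.ble 9396224 i)
noncomputable def eT9170 (i : Nat) : Nat := Bool.rec (eL9180 i) (eL9181 i) (Nat.ble 9401344 i)
noncomputable def eT9171 (i : Nat) : Nat := Bool.rec (eL9179 i) (eT9170 i) (Nat.ble 9400320 i)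
noncomputable def eT9172 (i : Nat) : Nat := Bool.rec (eL9183 i) (eL9184 i) (Nat.ble 9404416 i)
noncomputable def eT9173 (i : Nat) : Nat := Bool.rec (eL9182 i) (eT9172 i) (Nat.ble 9403392 i)
noncomputable def eT9174 (i : Nat) : Nat := Bool.rec (eT9171 i) (eT9173 i) (Nat.ble 9402368 i)
noncomputable def eT9175 (i : Nat) : Nat := Bool.rec (eT9169 i) (eT9174 i) (Nat.ble 9399296 i)
noncomputable def eT9176 (i : Nat) : Nat := Bool.rec (eT9165 i) (eT9175 i) (Nat.ble 9394176 i)
noncomputable def eT9177 (i : Nat) : Nat := Bool.rec (eL9185 i) (eL9186 i) (Nat.ble 9406464 i)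
noncomputable def eT9178 (i : Nat) : Nat := Bool.rec (eL9188 i) (eL9189 i) (Nat.ble 9409536 i)
noncomputable def eT9179 (i : Nat) : Nat := Bool.rec (eL9187 i) (eT9178 i) (Nat.ble 9408512 i)
noncomputable def eT9180 (i : Nat) : Nat := Bool.rec (eT9177 i) (eT9179 i) (Nat.ble 9407488 i)
noncomputable def eT9181 (i : Nat) : Nat := Bool.rec (eL9190 i) (eL9191 i) (Nat.ble 9411584 i)
noncomputable def eT9182 (i : Nat) : Nat := Bool.rec (eL9193 i) (eL9194 i) (Nat.ble 9414656 i)
noncomputable def eT9183 (i : Nat) : Nat := Bool.rec (eL9192 i) (eT9182 i) (Nat.ble 9413632 i)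
noncomputable def eT9184 (i : Nat) : Nat := Bool.rec (eT9181 i) (eT9183 i) (Nat.ble 9412608 i)
noncomputable def eT9185 (i : Nat) : Nat := Bool.rec (eT9180 i) (eT9184 i) (Nat.ble 9410560 i)
noncomputable def eT9186 (i : Nat) : Nat := Bool.rec (eL9195 i) (eL9196 i) (Nat.ble 9416704 i)
noncomputable def eT9187 (i : Nat) : Nat := Bool.rec (eL9198 i) (eL9199 i) (Nat.ble 9419776 i)
noncomputable def eT9188 (i : Nat) : Nat := Bool.rec (eL9197 i) (eT9187 i) (Nat.ble 9418752 i)
noncomputable def eT9189 (i : Nat) : Nat := Bool.rec (eT9186 i) (eT9188 i) (Nat.ble 9417728 i)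
noncomputable def eT9190 (i : Nat) : Nat := Bool.rec (eL9201 i) (eL9202 i) (Nat.ble 9422848 i)
noncomputable def eT9191 (i : Nat) : Nat := Bool.rec (eL9200 i) (eT9190 i) (Nat.ble 9421824 i)
noncomputable def eT9192 (i : Nat) : Nat := Bool.rec (eL9204 i) (eL9205 i) (Nat.ble 9425920 i)
noncomputable def eT9193 (i : Nat) : Nat := Bool.rec (eL9203 i) (eT9192 i) (Nat.ble 9424896 i)
noncomputable def eT9194 (i : Nat) : Nat := Bool.rec (eT9191 i) (eT9193 i) (Nat.ble 9423872 i)
noncomputable def eT9195 (i : Nat) : Nat := Bool.rec (eT9189 i) (eT9194 i) (Nat.ble 9420800 i)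
noncomputable def eT9196 (i : Nat) : Nat := Bool.rec (eT9185 i) (eT9195 i) (Nat.ble 9415680 i)
noncomputable def eT9197 (i : Nat) : Nat := Bool.rec (eT9176 i) (eT9196 i) (Nat.ble 9405440 i)
noncomputable def eT9198 (i : Nat) : Nat := Bool.rec (eT9156 i) (eT9197 i) (Nat.ble 9383936 i)
noncomputable def eT9199 (i : Nat) : Nat := Bool.rec (eT9116 i) (eT9198 i) (Nat.ble 9341952 i)
noncomputable def eT9200 (i : Nat) : Nat := Bool.rec (eT9035 i) (eT9199 i) (Nat.ble 9257984 i)
noncomputable def eT9201 (i : Nat) : Nat := Bool.rec (eT8872 i) (eT9200 i) (Nat.ble 9090048 i)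
noncomputable def eT9202 (i : Nat) : Nat := Bool.rec (eT8544 i) (eT9201 i) (Nat.ble 8753152 i)
noncomputable def eT9203 (i : Nat) : Nat := Bool.rec (eL9206 i) (eL9207 i) (Nat.ble 9427968 i)
noncomputable def eT9204 (i : Nat) : Nat := Bool.rec (eL9209 i) (eL9210 i) (Nat.ble 9431040 i)
noncomputable def eT9205 (i : Nat) : Nat := Bool.rec (eL9208 i) (eT9204 i) (Nat.ble 9430016 i)
noncomputable def eT9206 (i : Nat) : Nat := Bool.rec (eT9203 i) (eT9205 i) (Nat.ble 9428992 i)
noncomputable def eT9207 (i : Nat) : Nat := Bool.rec (eL9211 i) (eL9212 i) (Nat.ble 9433088 i)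
noncomputable def eT9208 (i : Nat) : Nat := Bool.rec (eL9214 i) (eL9215 i) (Nat.ble 9436160 i)
noncomputable def eT9209 (i : Nat) : Nat := Bool.rec (eL9213 i) (eT9208 i) (Nat.ble 9435136 i)
noncomputable def eT9210 (i : Nat) : Nat := Bool.rec (eT9207 i) (eT9209 i) (Nat.ble 9434112 i)
noncomputable def eT9211 (i : Nat) : Nat := Bool.rec (eT9206 i) (eT9210 i) (Nat.ble 9432064 i)
noncomputable def eT9212 (i : Nat) : Nat := Bool.rec (eL9216 i) (eL9217 i) (Nat.ble 9438208 i)
noncomputable def eT9213 (i : Nat) : Nat := Bool.rec (eL9219 i) (eL9220 i) (Nat.ble 9441280 i)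
noncomputable def eT9214 (i : Nat) : Nat := Bool.rec (eL9218 i) (eT9213 i) (Nat.ble 9440256 i)
noncomputable def eT9215 (i : Nat) : Nat := Bool.rec (eT9212 i) (eT9214 i) (Nat.ble 9439232 i)
noncomputable def eT9216 (i : Nat) : Nat := Bool.rec (eL9221 i) (eL9222 i) (Nat.ble 9443328 i)
noncomputable def eT9217 (i : Nat) : Nat := Bool.rec (eL9224 i) (eL9225 i) (Nat.ble 9446400 i)
noncomputable def eT9218 (i : Nat) : Nat := Bool.rec (eL9223 i) (eT9217 i) (Nat.ble 9445376 i)
noncomputable def eT9219 (i : Nat) : Nat := Bool.rec (eT9216 i) (eT9218 i) (Nat.ble 9444352 i)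
noncomputable def eT9220 (i : Nat) : Nat := Bool.rec (eT9215 i) (eT9219 i) (Nat.ble 9442304 i)
noncomputable def eT9221 (i : Nat) : Nat := Bool.rec (eT9211 i) (eT9220 i) (Nat.ble 9437184 i)
noncomputable def eT9222 (i : Nat) : Nat := Bool.rec (eL9226 i) (eL9227 i) (Nat.ble 9448448 i)
noncomputable def eT9223 (i : Nat) : Nat := Bool.rec (eL9229 i) (eL9230 i) (Nat.ble 9451520 i)
noncomputable def eT9224 (i : Nat) : Nat := Bool.rec (eL9228 i) (eT9223 i) (Nat.ble 9450496 i)
noncomputable def eT9225 (i : Nat) : Nat := Bool.rec (eT9222 i) (eT9224 i) (Nat.ble 9449472 i)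
noncomputable def eT9226 (i : Nat) : Nat := Bool.rec (eL9231 i) (eL9232 i) (Nat.ble 9453568 i)
noncomputable def eT9227 (i : Nat) : Nat := Bool.rec (eL9234 i) (eL9235 i) (Nat.ble 9456640 i)
noncomputable def eT9228 (i : Nat) : Nat := Bool.rec (eL9233 i) (eT9227 i) (Nat.ble 9455616 i)
noncomputable def eT9229 (i : Nat) : Nat := Bool.rec (eT9226 i) (eT9228 i) (Nat.ble 9454592 i)
noncomputable def eT9230 (i : Nat) : Nat := Bool.rec (eT9225 i) (eT9229 i) (Nat.ble 9452544 i)
noncomputable def eT9231 (i : Nat) : Nat := Bool.rec (eL9236 i) (eL9237 i) (Nat.ble 9458688 i)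
noncomputable def eT9232 (i : Nat) : Nat := Bool.rec (eL9239 i) (eL9240 i) (Nat.ble 9461760 i)
noncomputable def eT9233 (i : Nat) : Nat := Bool.rec (eL9238 i) (eT9232 i) (Nat.ble 9460736 i)
noncomputable def eT9234 (i : Nat) : Nat := Bool.rec (eT9231 i) (eT9233 i) (Nat.ble 9459712 i)
noncomputable def eT9235 (i : Nat) : Nat := Bool.rec (eL9242 i) (eL9243 i) (Nat.ble 9464832 i)
noncomputable def eT9236 (i : Nat) : Nat := Bool.rec (eL9241 i) (eT9235 i) (Nat.ble 9463808 i)
noncomputable def eT9237 (i : Nat) : Nat := Bool.rec (eL9245 i) (eL9246 i) (Nat.ble 9467904 i)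
noncomputable def eT9238 (i : Nat) : Nat := Bool.rec (eL9244 i) (eT9237 i) (Nat.ble 9466880 i)
noncomputable def eT9239 (i : Nat) : Nat := Bool.rec (eT9236 i) (eT9238 i) (Nat.ble 9465856 i)
noncomputable def eT9240 (i : Nat) : Nat := Bool.rec (eT9234 i) (eT9239 i) (Nat.ble 9462784 i)
noncomputable def eT9241 (i : Nat) : Nat := Bool.rec (eT9230 i) (eT9240 i) (Nat.ble 9457664 i)
noncomputable def eT9242 (i : Nat) : Nat := Bool.rec (eT9221 i) (eT9241 i) (Nat.ble 9447424 i)
noncomputable def eT9243 (i : Nat) : Nat := Bool.rec (eL9247 i) (eL9248 i) (Nat.ble 9469952 i)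
noncomputable def eT9244 (i : Nat) : Nat := Bool.rec (eL9250 i) (eL9251 i) (Nat.ble 9473024 i)
noncomputable def eT9245 (i : Nat) : Nat := Bool.rec (eL9249 i) (eT9244 i) (Nat.ble 9472000 i)
noncomputable def eT9246 (i : Nat) : Nat := Bool.rec (eT9243 i) (eT9245 i) (Nat.ble 9470976 i)
noncomputable def eT9247 (i : Nat) : Nat := Bool.rec (eL9252 i) (eL9253 i) (Nat.ble 9475072 i)
noncomputable def eT9248 (i : Nat) : Nat := Bool.rec (eL9255 i) (eL9256 i) (Nat.ble 9478144 i)
noncomputable def eT9249 (i : Nat) : Nat := Bool.rec (eL9254 i) (eT9248 i) (Nat.ble 9477120 i)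
noncomputable def eT9250 (i : Nat) : Nat := Bool.rec (eT9247 i) (eT9249 i) (Nat.ble 9476096 i)
noncomputable def eT9251 (i : Nat) : Nat := Bool.rec (eT9246 i) (eT9250 i) (Nat.ble 9474048 i)
noncomputable def eT9252 (i : Nat) : Nat := Bool.rec (eL9257 i) (eL9258 i) (Nat.ble 9480192 i)
noncomputable def eT9253 (i : Nat) : Nat := Bool.rec (eL9260 i) (eL9261 i) (Nat.ble 9483264 i)
noncomputable def eT9254 (i : Nat) : Nat := Bool.rec (eL9259 i) (eT9253 i) (Nat.ble 9482240 i)
noncomputable def eT9255 (i : Nat) : Nat := Bool.rec (eT9252 i) (eT9254 i) (Nat.ble 9481216 i)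
noncomputable def eT9256 (i : Nat) : Nat := Bool.rec (eL9262 i) (eL9263 i) (Nat.ble 9485312 i)
noncomputable def eT9257 (i : Nat) : Nat := Bool.rec (eL9265 i) (eL9266 i) (Nat.ble 9488384 i)
noncomputable def eT9258 (i : Nat) : Nat := Bool.rec (eL9264 i) (eT9257 i) (Nat.ble 9487360 i)
noncomputable def eT9259 (i : Nat) : Nat := Bool.rec (eT9256 i) (eT9258 i) (Nat.ble 9486336 i)
noncomputable def eT9260 (i : Nat) : Nat := Bool.rec (eT9255 i) (eT9259 i) (Nat.ble 9484288 i)
noncomputable def eT9261 (i : Nat) : Nat := Bool.rec (eT9251 i) (eT9260 i) (Nat.ble 9479168 i)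
noncomputable def eT9262 (i : Nat) : Nat := Bool.rec (eL9267 i) (eL9268 i) (Nat.ble 9490432 i)
noncomputable def eT9263 (i : Nat) : Nat := Bool.rec (eL9270 i) (eL9271 i) (Nat.ble 9493504 i)
noncomputable def eT9264 (i : Nat) : Nat := Bool.rec (eL9269 i) (eT9263 i) (Nat.ble 9492480 i)
noncomputable def eT9265 (i : Nat) : Nat := Bool.rec (eT9262 i) (eT9264 i) (Nat.ble 9491456 i)
noncomputable def eT9266 (i : Nat) : Nat := Bool.rec (eL9272 i) (eL9273 i) (Nat.ble 9495552 i)
noncomputable def eT9267 (i : Nat) : Nat := Bool.rec (eL9275 i) (eL9276 i) (Nat.ble 9498624 i)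
noncomputable def eT9268 (i : Nat) : Nat := Bool.rec (eL9274 i) (eT9267 i) (Nat.ble 9497600 i)
noncomputable def eT9269 (i : Nat) : Nat := Bool.rec (eT9266 i) (eT9268 i) (Nat.ble 9496576 i)
noncomputable def eT9270 (i : Nat) : Nat := Bool.rec (eT9265 i) (eT9269 i) (Nat.ble 9494528 i)
noncomputable def eT9271 (i : Nat) : Nat := Bool.rec (eL9277 i) (eL9278 i) (Nat.ble 9500672 i)
noncomputable def eT9272 (i : Nat) : Nat := Bool.rec (eL9280 i) (eL9281 i) (Nat.ble 9503744 i)
noncomputable def eT9273 (i : Nat) : Nat := Bool.rec (eL9279 i) (eT9272 i) (Nat.ble 9502720 i)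
noncomputable def eT9274 (i : Nat) : Nat := Bool.rec (eT9271 i) (eT9273 i) (Nat.ble 9501696 i)
noncomputable def eT9275 (i : Nat) : Nat := Bool.rec (eL9283 i) (eL9284 i) (Nat.ble 9506816 i)
noncomputable def eT9276 (i : Nat) : Nat := Bool.rec (eL9282 i) (eT9275 i) (Nat.ble 9505792 i)
noncomputable def eT9277 (i : Nat) : Nat := Bool.rec (eL9286 i) (eL9287 i) (Nat.ble 9509888 i)
noncomputable def eT9278 (i : Nat) : Nat := Bool.rec (eL9285 i) (eT9277 i) (Nat.ble 9508864 i)
noncomputable def eT9279 (i : Nat) : Nat := Bool.rec (eT9276 i) (eT9278 i) (Nat.ble 9507840 i)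
noncomputable def eT9280 (i : Nat) : Nat := Bool.rec (eT9274 i) (eT9279 i) (Nat.ble 9504768 i)
noncomputable def eT9281 (i : Nat) : Nat := Bool.rec (eT9270 i) (eT9280 i) (Nat.ble 9499648 i)
noncomputable def eT9282 (i : Nat) : Nat := Bool.rec (eT9261 i) (eT9281 i) (Nat.ble 9489408 i)
noncomputable def eT9283 (i : Nat) : Nat := Bool.rec (eT9242 i) (eT9282 i) (Nat.ble 9468928 i)
noncomputable def eT9284 (i : Nat) : Nat := Bool.rec (eL9288 i) (eL9289 i) (Nat.ble 9511936 i)
noncomputable def eT9285 (i : Nat) : Nat := Bool.rec (eL9291 i) (eL9292 i) (Nat.ble 9515008 i)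
noncomputable def eT9286 (i : Nat) : Nat := Bool.rec (eL9290 i) (eT9285 i) (Nat.ble 9513984 i)
noncomputable def eT9287 (i : Nat) : Nat := Bool.rec (eT9284 i) (eT9286 i) (Nat.ble 9512960 i)
noncomputable def eT9288 (i : Nat) : Nat := Bool.rec (eL9293 i) (eL9294 i) (Nat.ble 9517056 i)
noncomputable def eT9289 (i : Nat) : Nat := Bool.rec (eL9296 i) (eL9297 i) (Nat.ble 9520128 i)
noncomputable def eT9290 (i : Nat) : Nat := Bool.rec (eL9295 i) (eT9289 i) (Nat.ble 9519104 i)
noncomputable def eT9291 (i : Nat) : Nat := Bool.rec (eT9288 i) (eT9290 i) (Nat.ble 9518080 i)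
noncomputable def eT9292 (i : Nat) : Nat := Bool.rec (eT9287 i) (eT9291 i) (Nat.ble 9516032 i)
noncomputable def eT9293 (i : Nat) : Nat := Bool.rec (eL9298 i) (eL9299 i) (Nat.ble 9522176 i)
noncomputable def eT9294 (i : Nat) : Nat := Bool.rec (eL9301 i) (eL9302 i) (Nat.ble 9525248 i)
noncomputable def eT9295 (i : Nat) : Nat := Bool.rec (eL9300 i) (eT9294 i) (Nat.ble 9524224 i)
noncomputable def eT9296 (i : Nat) : Nat := Bool.rec (eT9293 i) (eT9295 i) (Nat.ble 9523200 i)
noncomputable def eT9297 (i : Nat) : Nat := Bool.rec (eL9303 i) (eL9304 i) (Nat.ble 9527296 i)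
noncomputable def eT9298 (i : Nat) : Nat := Bool.rec (eL9306 i) (eL9307 i) (Nat.ble 9530368 i)
noncomputable def eT9299 (i : Nat) : Nat := Bool.rec (eL9305 i) (eT9298 i) (Nat.ble 9529344 i)
noncomputable def eT9300 (i : Nat) : Nat := Bool.rec (eT9297 i) (eT9299 i) (Nat.ble 9528320 i)
noncomputable def eT9301 (i : Nat) : Nat := Bool.rec (eT9296 i) (eT9300 i) (Nat.ble 9526272 i)
noncomputable def eT9302 (i : Nat) : Nat := Bool.rec (eT9292 i) (eT9301 i) (Nat.ble 9521152 i)
noncomputable def eT9303 (i : Nat) : Nat := Bool.rec (eL9308 i) (eL9309 i) (Nat.ble 9532416 i)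
noncomputable def eT9304 (i : Nat) : Nat := Bool.rec (eL9311 i) (eL9312 i) (Nat.ble 9535488 i)
noncomputable def eT9305 (i : Nat) : Nat := Bool.rec (eL9310 i) (eT9304 i) (Nat.ble 9534464 i)
noncomputable def eT9306 (i : Nat) : Nat := Bool.rec (eT9303 i) (eT9305 i) (Nat.ble 9533440 i)
noncomputable def eT9307 (i : Nat) : Nat := Bool.rec (eL9313 i) (eL9314 i) (Nat.ble 9537536 i)
noncomputable def eT9308 (i : Nat) : Nat := Bool.rec (eL9316 i) (eL9317 i) (Nat.ble 9540608 i)
noncomputable def eT9309 (i : Nat) : Nat := Bool.rec (eL9315 i) (eT9308 i) (Nat.ble 9539584 i)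
noncomputable def eT9310 (i : Nat) : Nat := Bool.rec (eT9307 i) (eT9309 i) (Nat.ble 9538560 i)
noncomputable def eT9311 (i : Nat) : Nat := Bool.rec (eT9306 i) (eT9310 i) (Nat.ble 9536512 i)
noncomputable def eT9312 (i : Nat) : Nat := Bool.rec (eL9318 i) (eL9319 i) (Nat.ble 9542656 i)
noncomputable def eT9313 (i : Nat) : Nat := Bool.rec (eL9321 i) (eL9322 i) (Nat.ble 9545728 i)
noncomputable def eT9314 (i : Nat) : Nat := Bool.rec (eL9320 i) (eT9313 i) (Nat.ble 9544704 i)
noncomputable def eT9315 (i : Nat) : Nat := Bool.rec (eT9312 i) (eT9314 i) (Nat.ble 9543680 i)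
noncomputable def eT9316 (i : Nat) : Nat := Bool.rec (eL9324 i) (eL9325 i) (Nat.ble 9548800 i)
noncomputable def eT9317 (i : Nat) : Nat := Bool.rec (eL9323 i) (eT9316 i) (Nat.ble 9547776 i)
noncomputable def eT9318 (i : Nat) : Nat := Bool.rec (eL9327 i) (eL9328 i) (Nat.ble 9551872 i)
noncomputable def eT9319 (i : Nat) : Nat := Bool.rec (eL9326 i) (eT9318 i) (Nat.ble 9550848 i)
noncomputable def eT9320 (i : Nat) : Nat := Bool.rec (eT9317 i) (eT9319 i) (Nat.ble 9549824 i)
noncomputable def eT9321 (i : Nat) : Nat := Bool.rec (eT9315 i) (eT9320 i) (Nat.ble 9546752 i)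
noncomputable def eT9322 (i : Nat) : Nat := Bool.rec (eT9311 i) (eT9321 i) (Nat.ble 9541632 i)
noncomputable def eT9323 (i : Nat) : Nat := Bool.rec (eT9302 i) (eT9322 i) (Nat.ble 9531392 i)
noncomputable def eT9324 (i : Nat) : Nat := Bool.rec (eL9329 i) (eL9330 i) (Nat.ble 9553920 i)
noncomputable def eT9325 (i : Nat) : Nat := Bool.rec (eL9332 i) (eL9333 i) (Nat.ble 9556992 i)
noncomputable def eT9326 (i : Nat) : Nat := Bool.rec (eL9331 i) (eT9325 i) (Nat.ble 9555968 i)
noncomputable def eT9327 (i : Nat) : Nat := Bool.rec (eT9324 i) (eT9326 i) (Nat.ble 9554944 i)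
noncomputable def eT9328 (i : Nat) : Nat := Bool.rec (eL9334 i) (eL9335 i) (Nat.ble 9559040 i)
noncomputable def eT9329 (i : Nat) : Nat := Bool.rec (eL9337 i) (eL9338 i) (Nat.ble 9562112 i)
noncomputable def eT9330 (i : Nat) : Nat := Bool.rec (eL9336 i) (eT9329 i) (Nat.ble 9561088 i)
noncomputable def eT9331 (i : Nat) : Nat := Bool.rec (eT9328 i) (eT9330 i) (Nat.ble 9560064 i)
noncomputable def eT9332 (i : Nat) : Nat := Bool.rec (eT9327 i) (eT9331 i) (Nat.ble 9558016 i)
noncomputable def eT9333 (i : Nat) : Nat := Bool.rec (eL9339 i) (eL9340 i) (Nat.ble 9564160 i)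
noncomputable def eT9334 (i : Nat) : Nat := Bool.rec (eL9342 i) (eL9343 i) (Nat.ble 9567232 i)
noncomputable def eT9335 (i : Nat) : Nat := Bool.rec (eL9341 i) (eT9334 i) (Nat.ble 9566208 i)
noncomputable def eT9336 (i : Nat) : Nat := Bool.rec (eT9333 i) (eT9335 i) (Nat.ble 9565184 i)
noncomputable def eT9337 (i : Nat) : Nat := Bool.rec (eL9344 i) (eL9345 i) (Nat.ble 9569280 i)
noncomputable def eT9338 (i : Nat) : Nat := Bool.rec (eL9347 i) (eL9348 i) (Nat.ble 9572352 i)
noncomputable def eT9339 (i : Nat) : Nat := Bool.rec (eL9346 i) (eT9338 i) (Nat.ble 9571328 i)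
noncomputable def eT9340 (i : Nat) : Nat := Bool.rec (eT9337 i) (eT9339 i) (Nat.ble 9570304 i)
noncomputable def eT9341 (i : Nat) : Nat := Bool.rec (eT9336 i) (eT9340 i) (Nat.ble 9568256 i)
noncomputable def eT9342 (i : Nat) : Nat := Bool.rec (eT9332 i) (eT9341 i) (Nat.ble 9563136 i)
noncomputable def eT9343 (i : Nat) : Nat := Bool.rec (eL9349 i) (eL9350 i) (Nat.ble 9574400 i)
noncomputable def eT9344 (i : Nat) : Nat := Bool.rec (eL9352 i) (eL9353 i) (Nat.ble 9577472 i)
noncomputable def eT9345 (i : Nat) : Nat := Bool.rec (eL9351 i) (eT9344 i) (Nat.ble 9576448 i)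
noncomputable def eT9346 (i : Nat) : Nat := Bool.rec (eT9343 i) (eT9345 i) (Nat.ble 9575424 i)
noncomputable def eT9347 (i : Nat) : Nat := Bool.rec (eL9354 i) (eL9355 i) (Nat.ble 9579520 i)
noncomputable def eT9348 (i : Nat) : Nat := Bool.rec (eL9357 i) (eL9358 i) (Nat.ble 9582592 i)
noncomputable def eT9349 (i : Nat) : Nat := Bool.rec (eL9356 i) (eT9348 i) (Nat.ble 9581568 i)
noncomputable def eT9350 (i : Nat) : Nat := Bool.rec (eT9347 i) (eT9349 i) (Nat.ble 9580544 i)
noncomputable def eT9351 (i : Nat) : Nat := Bool.rec (eT9346 i) (eT9350 i) (Nat.ble 9578496 i)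
noncomputable def eT9352 (i : Nat) : Nat := Bool.rec (eL9359 i) (eL9360 i) (Nat.ble 9584640 i)
noncomputable def eT9353 (i : Nat) : Nat := Bool.rec (eL9362 i) (eL9363 i) (Nat.ble 9587712 i)
noncomputable def eT9354 (i : Nat) : Nat := Bool.rec (eL9361 i) (eT9353 i) (Nat.ble 9586688 i)
noncomputable def eT9355 (i : Nat) : Nat := Bool.rec (eT9352 i) (eT9354 i) (Nat.ble 9585664 i)
noncomputable def eT9356 (i : Nat) : Nat := Bool.rec (eL9365 i) (eL9366 i) (Nat.ble 9590784 i)
noncomputable def eT9357 (i : Nat) : Nat := Bool.rec (eL9364 i) (eT9356 i) (Nat.ble 9589760 i)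
noncomputable def eT9358 (i : Nat) : Nat := Bool.rec (eL9368 i) (eL9369 i) (Nat.ble 9593856 i)
noncomputable def eT9359 (i : Nat) : Nat := Bool.rec (eL9367 i) (eT9358 i) (Nat.ble 9592832 i)
noncomputable def eT9360 (i : Nat) : Nat := Bool.rec (eT9357 i) (eT9359 i) (Nat.ble 9591808 i)
noncomputable def eT9361 (i : Nat) : Nat := Bool.rec (eT9355 i) (eT9360 i) (Nat.ble 9588736 i)
noncomputable def eT9362 (i : Nat) : Nat := Bool.rec (eT9351 i) (eT9361 i) (Nat.ble 9583616 i)
noncomputable def eT9363 (i : Nat) : Nat := Bool.rec (eT9342 i) (eT9362 i) (Nat.ble 9573376 i)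
noncomputable def eT9364 (i : Nat) : Nat := Bool.rec (eT9323 i) (eT9363 i) (Nat.ble 9552896 i)
noncomputable def eT9365 (i : Nat) : Nat := Bool.rec (eT9283 i) (eT9364 i) (Nat.ble 9510912 i)
noncomputable def eT9366 (i : Nat) : Nat := Bool.rec (eL9370 i) (eL9371 i) (Nat.ble 9595904 i)
noncomputable def eT9367 (i : Nat) : Nat := Bool.rec (eL9373 i) (eL9374 i) (Nat.ble 9598976 i)
noncomputable def eT9368 (i : Nat) : Nat := Bool.rec (eL9372 i) (eT9367 i) (Nat.ble 9597952 i)
noncomputable def eT9369 (i : Nat) : Nat := Bool.rec (eT9366 i) (eT9368 i) (Nat.ble 9596928 i)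
noncomputable def eT9370 (i : Nat) : Nat := Bool.rec (eL9375 i) (eL9376 i) (Nat.ble 9601024 i)
noncomputable def eT9371 (i : Nat) : Nat := Bool.rec (eL9378 i) (eL9379 i) (Nat.ble 9604096 i)
noncomputable def eT9372 (i : Nat) : Nat := Bool.rec (eL9377 i) (eT9371 i) (Nat.ble 9603072 i)
noncomputable def eT9373 (i : Nat) : Nat := Bool.rec (eT9370 i) (eT9372 i) (Nat.ble 9602048 i)
noncomputable def eT9374 (i : Nat) : Nat := Bool.rec (eT9369 i) (eT9373 i) (Nat.ble 9600000 i)
noncomputable def eT9375 (i : Nat) : Nat := Bool.rec (eL9380 i) (eL9381 i) (Nat.ble 9606144 i)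
noncomputable def eT9376 (i : Nat) : Nat := Bool.rec (eL9383 i) (eL9384 i) (Nat.ble 9609216 i)
noncomputable def eT9377 (i : Nat) : Nat := Bool.rec (eL9382 i) (eT9376 i) (Nat.ble 9608192 i)
noncomputable def eT9378 (i : Nat) : Nat := Bool.rec (eT9375 i) (eT9377 i) (Nat.ble 9607168 i)
noncomputable def eT9379 (i : Nat) : Nat := Bool.rec (eL9385 i) (eL9386 i) (Nat.ble 9611264 i)
noncomputable def eT9380 (i : Nat) : Nat := Bool.rec (eL9388 i) (eL9389 i) (Nat.ble 9614336 i)
noncomputable def eT9381 (i : Nat) : Nat := Bool.rec (eL9387 i) (eT9380 i) (Nat.ble 9613312 i)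
noncomputable def eT9382 (i : Nat) : Nat := Bool.rec (eT9379 i) (eT9381 i) (Nat.ble 9612288 i)
noncomputable def eT9383 (i : Nat) : Nat := Bool.rec (eT9378 i) (eT9382 i) (Nat.ble 9610240 i)
noncomputable def eT9384 (i : Nat) : Nat := Bool.rec (eT9374 i) (eT9383 i) (Nat.ble 9605120 i)
noncomputable def eT9385 (i : Nat) : Nat := Bool.rec (eL9390 i) (eL9391 i) (Nat.ble 9616384 i)
noncomputable def eT9386 (i : Nat) : Nat := Bool.rec (eL9393 i) (eL9394 i) (Nat.ble 9619456 i)
noncomputable def eT9387 (i : Nat) : Nat := Bool.rec (eL9392 i) (eT9386 i) (Nat.ble 9618432 i)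
noncomputable def eT9388 (i : Nat) : Nat := Bool.rec (eT9385 i) (eT9387 i) (Nat.ble 9617408 i)
noncomputable def eT9389 (i : Nat) : Nat := Bool.rec (eL9395 i) (eL9396 i) (Nat.ble 9621504 i)
noncomputable def eT9390 (i : Nat) : Nat := Bool.rec (eL9398 i) (eL9399 i) (Nat.ble 9624576 i)
noncomputable def eT9391 (i : Nat) : Nat := Bool.rec (eL9397 i) (eT9390 i) (Nat.ble 9623552 i)
noncomputable def eT9392 (i : Nat) : Nat := Bool.rec (eT9389 i) (eT9391 i) (Nat.ble 9622528 i)
noncomputable def eT9393 (i : Nat) : Nat := Bool.rec (eT9388 i) (eT9392 i) (Nat.ble 9620480 i)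
noncomputable def eT9394 (i : Nat) : Nat := Bool.rec (eL9400 i) (eL9401 i) (Nat.ble 9626624 i)
noncomputable def eT9395 (i : Nat) : Nat := Bool.rec (eL9403 i) (eL9404 i) (Nat.ble 9629696 i)
noncomputable def eT9396 (i : Nat) : Nat := Bool.rec (eL9402 i) (eT9395 i) (Nat.ble 9628672 i)
noncomputable def eT9397 (i : Nat) : Nat := Bool.rec (eT9394 i) (eT9396 i) (Nat.ble 9627648 i)
noncomputable def eT9398 (i : Nat) : Nat := Bool.rec (eL9406 i) (eL9407 i) (Nat.ble 9632768 i)
noncomputable def eT9399 (i : Nat) : Nat := Bool.rec (eL9405 i) (eT9398 i) (Nat.ble 9631744 i)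
noncomputable def eT9400 (i : Nat) : Nat := Bool.rec (eL9409 i) (eL9410 i) (Nat.ble 9635840 i)
noncomputable def eT9401 (i : Nat) : Nat := Bool.rec (eL9408 i) (eT9400 i) (Nat.ble 9634816 i)
noncomputable def eT9402 (i : Nat) : Nat := Bool.rec (eT9399 i) (eT9401 i) (Nat.ble 9633792 i)
noncomputable def eT9403 (i : Nat) : Nat := Bool.rec (eT9397 i) (eT9402 i) (Nat.ble 9630720 i)
noncomputable def eT9404 (i : Nat) : Nat := Bool.rec (eT9393 i) (eT9403 i) (Nat.ble 9625600 i)
noncomputable def eT9405 (i : Nat) : Nat := Bool.rec (eT9384 i) (eT9404 i) (Nat.ble 9615360 i)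
noncomputable def eT9406 (i : Nat) : Nat := Bool.rec (eL9411 i) (eL9412 i) (Nat.ble 9637888 i)
noncomputable def eT9407 (i : Nat) : Nat := Bool.rec (eL9414 i) (eL9415 i) (Nat.ble 9640960 i)
noncomputable def eT9408 (i : Nat) : Nat := Bool.rec (eL9413 i) (eT9407 i) (Nat.ble 9639936 i)
noncomputable def eT9409 (i : Nat) : Nat := Bool.rec (eT9406 i) (eT9408 i) (Nat.ble 9638912 i)
noncomputable def eT9410 (i : Nat) : Nat := Bool.rec (eL9416 i) (eL9417 i) (Nat.ble 9643008 i)
noncomputable def eT9411 (i : Nat) : Nat := Bool.rec (eL9419 i) (eL9420 i) (Nat.ble 9646080 i)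
noncomputable def eT9412 (i : Nat) : Nat := Bool.rec (eL9418 i) (eT9411 i) (Nat.ble 9645056 i)
noncomputable def eT9413 (i : Nat) : Nat := Bool.rec (eT9410 i) (eT9412 i) (Nat.ble 9644032 i)
noncomputable def eT9414 (i : Nat) : Nat := Bool.rec (eT9409 i) (eT9413 i) (Nat.ble 9641984 i)
noncomputable def eT9415 (i : Nat) : Nat := Bool.rec (eL9421 i) (eL9422 i) (Nat.ble 9648128 i)
noncomputable def eT9416 (i : Nat) : Nat := Bool.rec (eL9424 i) (eL9425 i) (Nat.ble 9651200 i)
noncomputable def eT9417 (i : Nat) : Nat := Bool.rec (eL9423 i) (eT9416 i) (Nat.ble 9650176 i)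
noncomputable def eT9418 (i : Nat) : Nat := Bool.rec (eT9415 i) (eT9417 i) (Nat.ble 9649152 i)
noncomputable def eT9419 (i : Nat) : Nat := Bool.rec (eL9426 i) (eL9427 i) (Nat.ble 9653248 i)
noncomputable def eT9420 (i : Nat) : Nat := Bool.rec (eL9429 i) (eL9430 i) (Nat.ble 9656320 i)
noncomputable def eT9421 (i : Nat) : Nat := Bool.rec (eL9428 i) (eT9420 i) (Nat.ble 9655296 i)
noncomputable def eT9422 (i : Nat) : Nat := Bool.rec (eT9419 i) (eT9421 i) (Nat.ble 9654272 i)
noncomputable def eT9423 (i : Nat) : Nat := Bool.rec (eT9418 i) (eT9422 i) (Nat.ble 9652224 i)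
noncomputable def eT9424 (i : Nat) : Nat := Bool.rec (eT9414 i) (eT9423 i) (Nat.ble 9647104 i)
noncomputable def eT9425 (i : Nat) : Nat := Bool.rec (eL9431 i) (eL9432 i) (Nat.ble 9658368 i)
noncomputable def eT9426 (i : Nat) : Nat := Bool.rec (eL9434 i) (eL9435 i) (Nat.ble 9661440 i)
noncomputable def eT9427 (i : Nat) : Nat := Bool.rec (eL9433 i) (eT9426 i) (Nat.ble 9660416 i)
noncomputable def eT9428 (i : Nat) : Nat := Bool.rec (eT9425 i) (eT9427 i) (Nat.ble 9659392 i)
noncomputable def eT9429 (i : Nat) : Nat := Bool.rec (eL9436 i) (eL9437 i) (Nat.ble 9663488 i)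
noncomputable def eT9430 (i : Nat) : Nat := Bool.rec (eL9439 i) (eL9440 i) (Nat.ble 9666560 i)
noncomputable def eT9431 (i : Nat) : Nat := Bool.rec (eL9438 i) (eT9430 i) (Nat.ble 9665536 i)
noncomputable def eT9432 (i : Nat) : Nat := Bool.rec (eT9429 i) (eT9431 i) (Nat.ble 9664512 i)
noncomputable def eT9433 (i : Nat) : Nat := Bool.rec (eT9428 i) (eT9432 i) (Nat.ble 9662464 i)
noncomputable def eT9434 (i : Nat) : Nat := Bool.rec (eL9441 i) (eL9442 i) (Nat.ble 9668608 i)
noncomputable def eT9435 (i : Nat) : Nat := Bool.rec (eL9444 i) (eL9445 i) (Nat.ble 9671680 i)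
noncomputable def eT9436 (i : Nat) : Nat := Bool.rec (eL9443 i) (eT9435 i) (Nat.ble 9670656 i)
noncomputable def eT9437 (i : Nat) : Nat := Bool.rec (eT9434 i) (eT9436 i) (Nat.ble 9669632 i)
noncomputable def eT9438 (i : Nat) : Nat := Bool.rec (eL9447 i) (eL9448 i) (Nat.ble 9674752 i)
noncomputable def eT9439 (i : Nat) : Nat := Bool.rec (eL9446 i) (eT9438 i) (Nat.ble 9673728 i)
noncomputable def eT9440 (i : Nat) : Nat := Bool.rec (eL9450 i) (eL9451 i) (Nat.ble 9677824 i)
noncomputable def eT9441 (i : Nat) : Nat := Bool.rec (eL9449 i) (eT9440 i) (Nat.ble 9676800 i)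
noncomputable def eT9442 (i : Nat) : Nat := Bool.rec (eT9439 i) (eT9441 i) (Nat.ble 9675776 i)
noncomputable def eT9443 (i : Nat) : Nat := Bool.rec (eT9437 i) (eT9442 i) (Nat.ble 9672704 i)
noncomputable def eT9444 (i : Nat) : Nat := Bool.rec (eT9433 i) (eT9443 i) (Nat.ble 9667584 i)
noncomputable def eT9445 (i : Nat) : Nat := Bool.rec (eT9424 i) (eT9444 i) (Nat.ble 9657344 i)
noncomputable def eT9446 (i : Nat) : Nat := Bool.rec (eT9405 i) (eT9445 i) (Nat.ble 9636864 i)
noncomputable def eT9447 (i : Nat) : Nat := Bool.rec (eL9452 i) (eL9453 i) (Nat.ble 9679872 i)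
noncomputable def eT9448 (i : Nat) : Nat := Bool.rec (eL9455 i) (eL9456 i) (Nat.ble 9682944 i)
noncomputable def eT9449 (i : Nat) : Nat := Bool.rec (eL9454 i) (eT9448 i) (Nat.ble 9681920 i)
noncomputable def eT9450 (i : Nat) : Nat := Bool.rec (eT9447 i) (eT9449 i) (Nat.ble 9680896 i)
noncomputable def eT9451 (i : Nat) : Nat := Bool.rec (eL9457 i) (eL9458 i) (Nat.ble 9684992 i)
noncomputable def eT9452 (i : Nat) : Nat := Bool.rec (eL9460 i) (eL9461 i) (Nat.ble 9688064 i)
noncomputable def eT9453 (i : Nat) : Nat := Bool.rec (eL9459 i) (eT9452 i) (Nat.ble 9687040 i)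
noncomputable def eT9454 (i : Nat) : Nat := Bool.rec (eT9451 i) (eT9453 i) (Nat.ble 9686016 i)
noncomputable def eT9455 (i : Nat) : Nat := Bool.rec (eT9450 i) (eT9454 i) (Nat.ble 9683968 i)
noncomputable def eT9456 (i : Nat) : Nat := Bool.rec (eL9462 i) (eL9463 i) (Nat.ble 9690112 i)
noncomputable def eT9457 (i : Nat) : Nat := Bool.rec (eL9465 i) (eL9466 i) (Nat.ble 9693184 i)
noncomputable def eT9458 (i : Nat) : Nat := Bool.rec (eL9464 i) (eT9457 i) (Nat.ble 9692160 i)
noncomputable def eT9459 (i : Nat) : Nat := Bool.rec (eT9456 i) (eT9458 i) (Nat.ble 9691136 i)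
noncomputable def eT9460 (i : Nat) : Nat := Bool.rec (eL9467 i) (eL9468 i) (Nat.ble 9695232 i)
noncomputable def eT9461 (i : Nat) : Nat := Bool.rec (eL9470 i) (eL9471 i) (Nat.ble 9698304 i)
noncomputable def eT9462 (i : Nat) : Nat := Bool.rec (eL9469 i) (eT9461 i) (Nat.ble 9697280 i)
noncomputable def eT9463 (i : Nat) : Nat := Bool.rec (eT9460 i) (eT9462 i) (Nat.ble 9696256 i)
noncomputable def eT9464 (i : Nat) : Nat := Bool.rec (eT9459 i) (eT9463 i) (Nat.ble 9694208 i)
noncomputable def eT9465 (i : Nat) : Nat := Bool.rec (eT9455 i) (eT9464 i) (Nat.ble 9689088 i)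
noncomputable def eT9466 (i : Nat) : Nat := Bool.rec (eL9472 i) (eL9473 i) (Nat.ble 9700352 i)
noncomputable def eT9467 (i : Nat) : Nat := Bool.rec (eL9475 i) (eL9476 i) (Nat.ble 9703424 i)
noncomputable def eT9468 (i : Nat) : Nat := Bool.rec (eL9474 i) (eT9467 i) (Nat.ble 9702400 i)
noncomputable def eT9469 (i : Nat) : Nat := Bool.rec (eT9466 i) (eT9468 i) (Nat.ble 9701376 i)
noncomputable def eT9470 (i : Nat) : Nat := Bool.rec (eL9477 i) (eL9478 i) (Nat.ble 9705472 i)
noncomputable def eT9471 (i : Nat) : Nat := Bool.rec (eL9480 i) (eL9481 i) (Nat.ble 9708544 i)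
noncomputable def eT9472 (i : Nat) : Nat := Bool.rec (eL9479 i) (eT9471 i) (Nat.ble 9707520 i)
noncomputable def eT9473 (i : Nat) : Nat := Bool.rec (eT9470 i) (eT9472 i) (Nat.ble 9706496 i)
noncomputable def eT9474 (i : Nat) : Nat := Bool.rec (eT9469 i) (eT9473 i) (Nat.ble 9704448 i)
noncomputable def eT9475 (i : Nat) : Nat := Bool.rec (eL9482 i) (eL9483 i) (Nat.ble 9710592 i)
noncomputable def eT9476 (i : Nat) : Nat := Bool.rec (eL9485 i) (eL9486 i) (Nat.ble 9713664 i)
noncomputable def eT9477 (i : Nat) : Nat := Bool.rec (eL9484 i) (eT9476 i) (Nat.ble 9712640 i)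
noncomputable def eT9478 (i : Nat) : Nat := Bool.rec (eT9475 i) (eT9477 i) (Nat.ble 9711616 i)
noncomputable def eT9479 (i : Nat) : Nat := Bool.rec (eL9488 i) (eL9489 i) (Nat.ble 9716736 i)
noncomputable def eT9480 (i : Nat) : Nat := Bool.rec (eL9487 i) (eT9479 i) (Nat.ble 9715712 i)
noncomputable def eT9481 (i : Nat) : Nat := Bool.rec (eL9491 i) (eL9492 i) (Nat.ble 9719808 i)
noncomputable def eT9482 (i : Nat) : Nat := Bool.rec (eL9490 i) (eT9481 i) (Nat.ble 9718784 i)
noncomputable def eT9483 (i : Nat) : Nat := Bool.rec (eT9480 i) (eT9482 i) (Nat.ble 9717760 i)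
noncomputable def eT9484 (i : Nat) : Nat := Bool.rec (eT9478 i) (eT9483 i) (Nat.ble 9714688 i)
noncomputable def eT9485 (i : Nat) : Nat := Bool.rec (eT9474 i) (eT9484 i) (Nat.ble 9709568 i)
noncomputable def eT9486 (i : Nat) : Nat := Bool.rec (eT9465 i) (eT9485 i) (Nat.ble 9699328 i)
noncomputable def eT9487 (i : Nat) : Nat := Bool.rec (eL9493 i) (eL9494 i) (Nat.ble 9721856 i)
noncomputable def eT9488 (i : Nat) : Nat := Bool.rec (eL9496 i) (eL9497 i) (Nat.ble 9724928 i)
noncomputable def eT9489 (i : Nat) : Nat := Bool.rec (eL9495 i) (eT9488 i) (Nat.ble 9723904 i)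
noncomputable def eT9490 (i : Nat) : Nat := Bool.rec (eT9487 i) (eT9489 i) (Nat.ble 9722880 i)
noncomputable def eT9491 (i : Nat) : Nat := Bool.rec (eL9498 i) (eL9499 i) (Nat.ble 9726976 i)
noncomputable def eT9492 (i : Nat) : Nat := Bool.rec (eL9501 i) (eL9502 i) (Nat.ble 9730048 i)
noncomputable def eT9493 (i : Nat) : Nat := Bool.rec (eL9500 i) (eT9492 i) (Nat.ble 9729024 i)
noncomputable def eT9494 (i : Nat) : Nat := Bool.rec (eT9491 i) (eT9493 i) (Nat.ble 9728000 i)
noncomputable def eT9495 (i : Nat) : Nat := Bool.rec (eT9490 i) (eT9494 i) (Nat.ble 9725952 i)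
noncomputable def eT9496 (i : Nat) : Nat := Bool.rec (eL9503 i) (eL9504 i) (Nat.ble 9732096 i)
noncomputable def eT9497 (i : Nat) : Nat := Bool.rec (eL9506 i) (eL9507 i) (Nat.ble 9735168 i)
noncomputable def eT9498 (i : Nat) : Nat := Bool.rec (eL9505 i) (eT9497 i) (Nat.ble 9734144 i)
noncomputable def eT9499 (i : Nat) : Nat := Bool.rec (eT9496 i) (eT9498 i) (Nat.ble 9733120 i)
noncomputable def eT9500 (i : Nat) : Nat := Bool.rec (eL9509 i) (eL9510 i) (Nat.ble 9738240 i)
noncomputable def eT9501 (i : Nat) : Nat := Bool.rec (eL9508 i) (eT9500 i) (Nat.ble 9737216 i)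
noncomputable def eT9502 (i : Nat) : Nat := Bool.rec (eL9512 i) (eL9513 i) (Nat.ble 9741312 i)
noncomputable def eT9503 (i : Nat) : Nat := Bool.rec (eL9511 i) (eT9502 i) (Nat.ble 9740288 i)
noncomputable def eT9504 (i : Nat) : Nat := Bool.rec (eT9501 i) (eT9503 i) (Nat.ble 9739264 i)
noncomputable def eT9505 (i : Nat) : Nat := Bool.rec (eT9499 i) (eT9504 i) (Nat.ble 9736192 i)
noncomputable def eT9506 (i : Nat) : Nat := Bool.rec (eT9495 i) (eT9505 i) (Nat.ble 9731072 i)
noncomputable def eT9507 (i : Nat) : Nat := Bool.rec (eL9514 i) (eL9515 i) (Nat.ble 9743360 i)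
noncomputable def eT9508 (i : Nat) : Nat := Bool.rec (eL9517 i) (eL9518 i) (Nat.ble 9746432 i)
noncomputable def eT9509 (i : Nat) : Nat := Bool.rec (eL9516 i) (eT9508 i) (Nat.ble 9745408 i)
noncomputable def eT9510 (i : Nat) : Nat := Bool.rec (eT9507 i) (eT9509 i) (Nat.ble 9744384 i)
noncomputable def eT9511 (i : Nat) : Nat := Bool.rec (eL9519 i) (eL9520 i) (Nat.ble 9748480 i)
noncomputable def eT9512 (i : Nat) : Nat := Bool.rec (eL9522 i) (eL9523 i) (Nat.ble 9751552 i)
noncomputable def eT9513 (i : Nat) : Nat := Bool.rec (eL9521 i) (eT9512 i) (Nat.ble 9750528 i)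
noncomputable def eT9514 (i : Nat) : Nat := Bool.rec (eT9511 i) (eT9513 i) (Nat.ble 9749504 i)
noncomputable def eT9515 (i : Nat) : Nat := Bool.rec (eT9510 i) (eT9514 i) (Nat.ble 9747456 i)
noncomputable def eT9516 (i : Nat) : Nat := Bool.rec (eL9524 i) (eL9525 i) (Nat.ble 9753600 i)
noncomputable def eT9517 (i : Nat) : Nat := Bool.rec (eL9527 i) (eL9528 i) (Nat.ble 9756672 i)
noncomputable def eT9518 (i : Nat) : Nat := Bool.rec (eL9526 i) (eT9517 i) (Nat.ble 9755648 i)
noncomputable def eT9519 (i : Nat) : Nat := Bool.rec (eT9516 i) (eT9518 i) (Nat.ble 9754624 i)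
noncomputable def eT9520 (i : Nat) : Nat := Bool.rec (eL9530 i) (eL9531 i) (Nat.ble 9759744 i)
noncomputable def eT9521 (i : Nat) : Nat := Bool.rec (eL9529 i) (eT9520 i) (Nat.ble 9758720 i)
noncomputable def eT9522 (i : Nat) : Nat := Bool.rec (eL9533 i) (eL9534 i) (Nat.ble 9762816 i)
noncomputable def eT9523 (i : Nat) : Nat := Bool.rec (eL9532 i) (eT9522 i) (Nat.ble 9761792 i)
noncomputable def eT9524 (i : Nat) : Nat := Bool.rec (eT9521 i) (eT9523 i) (Nat.ble 9760768 i)
noncomputable def eT9525 (i : Nat) : Nat := Bool.rec (eT9519 i) (eT9524 i) (Nat.ble 9757696 i)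
noncomputable def eT9526 (i : Nat) : Nat := Bool.rec (eT9515 i) (eT9525 i) (Nat.ble 9752576 i)
noncomputable def eT9527 (i : Nat) : Nat := Bool.rec (eT9506 i) (eT9526 i) (Nat.ble 9742336 i)
noncomputable def eT9528 (i : Nat) : Nat := Bool.rec (eT9486 i) (eT9527 i) (Nat.ble 9720832 i)
noncomputable def eT9529 (i : Nat) : Nat := Bool.rec (eT9446 i) (eT9528 i) (Nat.ble 9678848 i)
noncomputable def eT9530 (i : Nat) : Nat := Bool.rec (eT9365 i) (eT9529 i) (Nat.ble 9594880 i)
noncomputable def eT9531 (i : Nat) : Nat := Bool.rec (eL9535 i) (eL9536 i) (Nat.ble 9764864 i)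
noncomputable def eT9532 (i : Nat) : Nat := Bool.rec (eL9538 i) (eL9539 i) (Nat.ble 9767936 i)
noncomputable def eT9533 (i : Nat) : Nat := Bool.rec (eL9537 i) (eT9532 i) (Nat.ble 9766912 i)
noncomputable def eT9534 (i : Nat) : Nat := Bool.rec (eT9531 i) (eT9533 i) (Nat.ble 9765888 i)
noncomputable def eT9535 (i : Nat) : Nat := Bool.rec (eL9540 i) (eL9541 i) (Nat.ble 9769984 i)
noncomputable def eT9536 (i : Nat) : Nat := Bool.rec (eL9543 i) (eL9544 i) (Nat.ble 9773056 i)
noncomputable def eT9537 (i : Nat) : Nat := Bool.rec (eL9542 i) (eT9536 i) (Nat.ble 9772032 i)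
noncomputable def eT9538 (i : Nat) : Nat := Bool.rec (eT9535 i) (eT9537 i) (Nat.ble 9771008 i)
noncomputable def eT9539 (i : Nat) : Nat := Bool.rec (eT9534 i) (eT9538 i) (Nat.ble 9768960 i)
noncomputable def eT9540 (i : Nat) : Nat := Bool.rec (eL9545 i) (eL9546 i) (Nat.ble 9775104 i)
noncomputable def eT9541 (i : Nat) : Nat := Bool.rec (eL9548 i) (eL9549 i) (Nat.ble 9778176 i)
noncomputable def eT9542 (i : Nat) : Nat := Bool.rec (eL9547 i) (eT9541 i) (Nat.ble 9777152 i)
noncomputable def eT9543 (i : Nat) : Nat := Bool.rec (eT9540 i) (eT9542 i) (Nat.ble 9776128 i)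
noncomputable def eT9544 (i : Nat) : Nat := Bool.rec (eL9550 i) (eL9551 i) (Nat.ble 9780224 i)
noncomputable def eT9545 (i : Nat) : Nat := Bool.rec (eL9553 i) (eL9554 i) (Nat.ble 9783296 i)
noncomputable def eT9546 (i : Nat) : Nat := Bool.rec (eL9552 i) (eT9545 i) (Nat.ble 9782272 i)
noncomputable def eT9547 (i : Nat) : Nat := Bool.rec (eT9544 i) (eT9546 i) (Nat.ble 9781248 i)
noncomputable def eT9548 (i : Nat) : Nat := Bool.rec (eT9543 i) (eT9547 i) (Nat.ble 9779200 i)
noncomputable def eT9549 (i : Nat) : Nat := Bool.rec (eT9539 i) (eT9548 i) (Nat.ble 9774080 i)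
noncomputable def eT9550 (i : Nat) : Nat := Bool.rec (eL9555 i) (eL9556 i) (Nat.ble 9785344 i)
noncomputable def eT9551 (i : Nat) : Nat := Bool.rec (eL9558 i) (eL9559 i) (Nat.ble 9788416 i)
noncomputable def eT9552 (i : Nat) : Nat := Bool.rec (eL9557 i) (eT9551 i) (Nat.ble 9787392 i)
noncomputable def eT9553 (i : Nat) : Nat := Bool.rec (eT9550 i) (eT9552 i) (Nat.ble 9786368 i)
noncomputable def eT9554 (i : Nat) : Nat := Bool.rec (eL9560 i) (eL9561 i) (Nat.ble 9790464 i)
noncomputable def eT9555 (i : Nat) : Nat := Bool.rec (eL9563 i) (eL9564 i) (Nat.ble 9793536 i)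
noncomputable def eT9556 (i : Nat) : Nat := Bool.rec (eL9562 i) (eT9555 i) (Nat.ble 9792512 i)
noncomputable def eT9557 (i : Nat) : Nat := Bool.rec (eT9554 i) (eT9556 i) (Nat.ble 9791488 i)
noncomputable def eT9558 (i : Nat) : Nat := Bool.rec (eT9553 i) (eT9557 i) (Nat.ble 9789440 i)
noncomputable def eT9559 (i : Nat) : Nat := Bool.rec (eL9565 i) (eL9566 i) (Nat.ble 9795584 i)
noncomputable def eT9560 (i : Nat) : Nat := Bool.rec (eL9568 i) (eL9569 i) (Nat.ble 9798656 i)
noncomputable def eT9561 (i : Nat) : Nat := Bool.rec (eL9567 i) (eT9560 i) (Nat.ble 9797632 i)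
noncomputable def eT9562 (i : Nat) : Nat := Bool.rec (eT9559 i) (eT9561 i) (Nat.ble 9796608 i)
noncomputable def eT9563 (i : Nat) : Nat := Bool.rec (eL9571 i) (eL9572 i) (Nat.ble 9801728 i)
noncomputable def eT9564 (i : Nat) : Nat := Bool.rec (eL9570 i) (eT9563 i) (Nat.ble 9800704 i)
noncomputable def eT9565 (i : Nat) : Nat := Bool.rec (eL9574 i) (eL9575 i) (Nat.ble 9804800 i)
noncomputable def eT9566 (i : Nat) : Nat := Bool.rec (eL9573 i) (eT9565 i) (Nat.ble 9803776 i)
noncomputable def eT9567 (i : Nat) : Nat := Bool.rec (eT9564 i) (eT9566 i) (Nat.ble 9802752 i)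
noncomputable def eT9568 (i : Nat) : Nat := Bool.rec (eT9562 i) (eT9567 i) (Nat.ble 9799680 i)
noncomputable def eT9569 (i : Nat) : Nat := Bool.rec (eT9558 i) (eT9568 i) (Nat.ble 9794560 i)
noncomputable def eT9570 (i : Nat) : Nat := Bool.rec (eT9549 i) (eT9569 i) (Nat.ble 9784320 i)
noncomputable def eT9571 (i : Nat) : Nat := Bool.rec (eL9576 i) (eL9577 i) (Nat.ble 9806848 i)
noncomputable def eT9572 (i : Nat) : Nat := Bool.rec (eL9579 i) (eL9580 i) (Nat.ble 9809920 i)
noncomputable def eT9573 (i : Nat) : Nat := Bool.rec (eL9578 i) (eT9572 i) (Nat.ble 9808896 i)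
noncomputable def eT9574 (i : Nat) : Nat := Bool.rec (eT9571 i) (eT9573 i) (Nat.ble 9807872 i)
noncomputable def eT9575 (i : Nat) : Nat := Bool.rec (eL9581 i) (eL9582 i) (Nat.ble 9811968 i)
noncomputable def eT9576 (i : Nat) : Nat := Bool.rec (eL9584 i) (eL9585 i) (Nat.ble 9815040 i)
noncomputable def eT9577 (i : Nat) : Nat := Bool.rec (eL9583 i) (eT9576 i) (Nat.ble 9814016 i)
noncomputable def eT9578 (i : Nat) : Nat := Bool.rec (eT9575 i) (eT9577 i) (Nat.ble 9812992 i)
noncomputable def eT9579 (i : Nat) : Nat := Bool.rec (eT9574 i) (eT9578 i) (Nat.ble 9810944 i)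
noncomputable def eT9580 (i : Nat) : Nat := Bool.rec (eL9586 i) (eL9587 i) (Nat.ble 9817088 i)
noncomputable def eT9581 (i : Nat) : Nat := Bool.rec (eL9589 i) (eL9590 i) (Nat.ble 9820160 i)
noncomputable def eT9582 (i : Nat) : Nat := Bool.rec (eL9588 i) (eT9581 i) (Nat.ble 9819136 i)
noncomputable def eT9583 (i : Nat) : Nat := Bool.rec (eT9580 i) (eT9582 i) (Nat.ble 9818112 i)
noncomputable def eT9584 (i : Nat) : Nat := Bool.rec (eL9591 i) (eL9592 i) (Nat.ble 9822208 i)
noncomputable def eT9585 (i : Nat) : Nat := Bool.rec (eL9594 i) (eL9595 i) (Nat.ble 9825280 i)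
noncomputable def eT9586 (i : Nat) : Nat := Bool.rec (eL9593 i) (eT9585 i) (Nat.ble 9824256 i)
noncomputable def eT9587 (i : Nat) : Nat := Bool.rec (eT9584 i) (eT9586 i) (Nat.ble 9823232 i)
noncomputable def eT9588 (i : Nat) : Nat := Bool.rec (eT9583 i) (eT9587 i) (Nat.ble 9821184 i)
noncomputable def eT9589 (i : Nat) : Nat := Bool.rec (eT9579 i) (eT9588 i) (Nat.ble 9816064 i)
noncomputable def eT9590 (i : Nat) : Nat := Bool.rec (eL9596 i) (eL9597 i) (Nat.ble 9827328 i)
noncomputable def eT9591 (i : Nat) : Nat := Bool.rec (eL9599 i) (eL9600 i) (Nat.ble 9830400 i)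
noncomputable def eT9592 (i : Nat) : Nat := Bool.rec (eL9598 i) (eT9591 i) (Nat.ble 9829376 i)
noncomputable def eT9593 (i : Nat) : Nat := Bool.rec (eT9590 i) (eT9592 i) (Nat.ble 9828352 i)
noncomputable def eT9594 (i : Nat) : Nat := Bool.rec (eL9601 i) (eL9602 i) (Nat.ble 9832448 i)
noncomputable def eT9595 (i : Nat) : Nat := Bool.rec (eL9604 i) (eL9605 i) (Nat.ble 9835520 i)
noncomputable def eT9596 (i : Nat) : Nat := Bool.rec (eL9603 i) (eT9595 i) (Nat.ble 9834496 i)
noncomputable def eT9597 (i : Nat) : Nat := Bool.rec (eT9594 i) (eT9596 i) (Nat.ble 9833472 i)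
noncomputable def eT9598 (i : Nat) : Nat := Bool.rec (eT9593 i) (eT9597 i) (Nat.ble 9831424 i)
noncomputable def eT9599 (i : Nat) : Nat := Bool.rec (eL9606 i) (eL9607 i) (Nat.ble 9837568 i)
noncomputable def eT9600 (i : Nat) : Nat := Bool.rec (eL9609 i) (eL9610 i) (Nat.ble 9840640 i)
noncomputable def eT9601 (i : Nat) : Nat := Bool.rec (eL9608 i) (eT9600 i) (Nat.ble 9839616 i)
noncomputable def eT9602 (i : Nat) : Nat := Bool.rec (eT9599 i) (eT9601 i) (Nat.ble 9838592 i)
noncomputable def eT9603 (i : Nat) : Nat := Bool.rec (eL9612 i) (eL9613 i) (Nat.ble 9843712 i)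
noncomputable def eT9604 (i : Nat) : Nat := Bool.rec (eL9611 i) (eT9603 i) (Nat.ble 9842688 i)
noncomputable def eT9605 (i : Nat) : Nat := Bool.rec (eL9615 i) (eL9616 i) (Nat.ble 9846784 i)
noncomputable def eT9606 (i : Nat) : Nat := Bool.rec (eL9614 i) (eT9605 i) (Nat.ble 9845760 i)
noncomputable def eT9607 (i : Nat) : Nat := Bool.rec (eT9604 i) (eT9606 i) (Nat.ble 9844736 i)
noncomputable def eT9608 (i : Nat) : Nat := Bool.rec (eT9602 i) (eT9607 i) (Nat.ble 9841664 i)
noncomputable def eT9609 (i : Nat) : Nat := Bool.rec (eT9598 i) (eT9608 i) (Nat.ble 9836544 i)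
noncomputable def eT9610 (i : Nat) : Nat := Bool.rec (eT9589 i) (eT9609 i) (Nat.ble 9826304 i)
noncomputable def eT9611 (i : Nat) : Nat := Bool.rec (eT9570 i) (eT9610 i) (Nat.ble 9805824 i)
noncomputable def eT9612 (i : Nat) : Nat := Bool.rec (eL9617 i) (eL9618 i) (Nat.ble 9848832 i)
noncomputable def eT9613 (i : Nat) : Nat := Bool.rec (eL9620 i) (eL9621 i) (Nat.ble 9851904 i)
noncomputable def eT9614 (i : Nat) : Nat := Bool.rec (eL9619 i) (eT9613 i) (Nat.ble 9850880 i)
noncomputable def eT9615 (i : Nat) : Nat := Bool.rec (eT9612 i) (eT9614 i) (Nat.ble 9849856 i)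
noncomputable def eT9616 (i : Nat) : Nat := Bool.rec (eL9622 i) (eL9623 i) (Nat.ble 9853952 i)
noncomputable def eT9617 (i : Nat) : Nat := Bool.rec (eL9625 i) (eL9626 i) (Nat.ble 9857024 i)
noncomputable def eT9618 (i : Nat) : Nat := Bool.rec (eL9624 i) (eT9617 i) (Nat.ble 9856000 i)
noncomputable def eT9619 (i : Nat) : Nat := Bool.rec (eT9616 i) (eT9618 i) (Nat.ble 9854976 i)
noncomputable def eT9620 (i : Nat) : Nat := Bool.rec (eT9615 i) (eT9619 i) (Nat.ble 9852928 i)
noncomputable def eT9621 (i : Nat) : Nat := Bool.rec (eL9627 i) (eL9628 i) (Nat.ble 9859072 i)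
noncomputable def eT9622 (i : Nat) : Nat := Bool.rec (eL9630 i) (eL9631 i) (Nat.ble 9862144 i)
noncomputable def eT9623 (i : Nat) : Nat := Bool.rec (eL9629 i) (eT9622 i) (Nat.ble 9861120 i)
noncomputable def eT9624 (i : Nat) : Nat := Bool.rec (eT9621 i) (eT9623 i) (Nat.ble 9860096 i)
noncomputable def eT9625 (i : Nat) : Nat := Bool.rec (eL9632 i) (eL9633 i) (Nat.ble 9864192 i)
noncomputable def eT9626 (i : Nat) : Nat := Bool.rec (eL9635 i) (eL9636 i) (Nat.ble 9867264 i)
noncomputable def eT9627 (i : Nat) : Nat := Bool.rec (eL9634 i) (eT9626 i) (Nat.ble 9866240 i)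
noncomputable def eT9628 (i : Nat) : Nat := Bool.rec (eT9625 i) (eT9627 i) (Nat.ble 9865216 i)
noncomputable def eT9629 (i : Nat) : Nat := Bool.rec (eT9624 i) (eT9628 i) (Nat.ble 9863168 i)
noncomputable def eT9630 (i : Nat) : Nat := Bool.rec (eT9620 i) (eT9629 i) (Nat.ble 9858048 i)
noncomputable def eT9631 (i : Nat) : Nat := Bool.rec (eL9637 i) (eL9638 i) (Nat.ble 9869312 i)
noncomputable def eT9632 (i : Nat) : Nat := Bool.rec (eL9640 i) (eL9641 i) (Nat.ble 9872384 i)
noncomputable def eT9633 (i : Nat) : Nat := Bool.rec (eL9639 i) (eT9632 i) (Nat.ble 9871360 i)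
noncomputable def eT9634 (i : Nat) : Nat := Bool.rec (eT9631 i) (eT9633 i) (Nat.ble 9870336 i)
noncomputable def eT9635 (i : Nat) : Nat := Bool.rec (eL9642 i) (eL9643 i) (Nat.ble 9874432 i)
noncomputable def eT9636 (i : Nat) : Nat := Bool.rec (eL9645 i) (eL9646 i) (Nat.ble 9877504 i)
noncomputable def eT9637 (i : Nat) : Nat := Bool.rec (eL9644 i) (eT9636 i) (Nat.ble 9876480 i)
noncomputable def eT9638 (i : Nat) : Nat := Bool.rec (eT9635 i) (eT9637 i) (Nat.ble 9875456 i)
noncomputable def eT9639 (i : Nat) : Nat := Bool.rec (eT9634 i) (eT9638 i) (Nat.ble 9873408 i)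
noncomputable def eT9640 (i : Nat) : Nat := Bool.rec (eL9647 i) (eL9648 i) (Nat.ble 9879552 i)
noncomputable def eT9641 (i : Nat) : Nat := Bool.rec (eL9650 i) (eL9651 i) (Nat.ble 9882624 i)
noncomputable def eT9642 (i : Nat) : Nat := Bool.rec (eL9649 i) (eT9641 i) (Nat.ble 9881600 i)
noncomputable def eT9643 (i : Nat) : Nat := Bool.rec (eT9640 i) (eT9642 i) (Nat.ble 9880576 i)
noncomputable def eT9644 (i : Nat) : Nat := Bool.rec (eL9653 i) (eL9654 i) (Nat.ble 9885696 i)
noncomputable def eT9645 (i : Nat) : Nat := Bool.rec (eL9652 i) (eT9644 i) (Nat.ble 9884672 i)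
noncomputable def eT9646 (i : Nat) : Nat := Bool.rec (eL9656 i) (eL9657 i) (Nat.ble 9888768 i)
noncomputable def eT9647 (i : Nat) : Nat := Bool.rec (eL9655 i) (eT9646 i) (Nat.ble 9887744 i)
noncomputable def eT9648 (i : Nat) : Nat := Bool.rec (eT9645 i) (eT9647 i) (Nat.ble 9886720 i)
noncomputable def eT9649 (i : Nat) : Nat := Bool.rec (eT9643 i) (eT9648 i) (Nat.ble 9883648 i)
noncomputable def eT9650 (i : Nat) : Nat := Bool.rec (eT9639 i) (eT9649 i) (Nat.ble 9878528 i)
noncomputable def eT9651 (i : Nat) : Nat := Bool.rec (eT9630 i) (eT9650 i) (Nat.ble 9868288 i)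
noncomputable def eT9652 (i : Nat) : Nat := Bool.rec (eL9658 i) (eL9659 i) (Nat.ble 9890816 i)
noncomputable def eT9653 (i : Nat) : Nat := Bool.rec (eL9661 i) (eL9662 i) (Nat.ble 9893888 i)
noncomputable def eT9654 (i : Nat) : Nat := Bool.rec (eL9660 i) (eT9653 i) (Nat.ble 9892864 i)
noncomputable def eT9655 (i : Nat) : Nat := Bool.rec (eT9652 i) (eT9654 i) (Nat.ble 9891840 i)
noncomputable def eT9656 (i : Nat) : Nat := Bool.rec (eL9663 i) (eL9664 i) (Nat.ble 9895936 i)
noncomputable def eT9657 (i : Nat) : Nat := Bool.rec (eL9666 i) (eL9667 i) (Nat.ble 9899008 i)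
noncomputable def eT9658 (i : Nat) : Nat := Bool.rec (eL9665 i) (eT9657 i) (Nat.ble 9897984 i)
noncomputable def eT9659 (i : Nat) : Nat := Bool.rec (eT9656 i) (eT9658 i) (Nat.ble 9896960 i)
noncomputable def eT9660 (i : Nat) : Nat := Bool.rec (eT9655 i) (eT9659 i) (Nat.ble 9894912 i)
noncomputable def eT9661 (i : Nat) : Nat := Bool.rec (eL9668 i) (eL9669 i) (Nat.ble 9901056 i)
noncomputable def eT9662 (i : Nat) : Nat := Bool.rec (eL9671 i) (eL9672 i) (Nat.ble 9904128 i)
noncomputable def eT9663 (i : Nat) : Nat := Bool.rec (eL9670 i) (eT9662 i) (Nat.ble 9903104 i)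
noncomputable def eT9664 (i : Nat) : Nat := Bool.rec (eT9661 i) (eT9663 i) (Nat.ble 9902080 i)
noncomputable def eT9665 (i : Nat) : Nat := Bool.rec (eL9673 i) (eL9674 i) (Nat.ble 9906176 i)
noncomputable def eT9666 (i : Nat) : Nat := Bool.rec (eL9676 i) (eL9677 i) (Nat.ble 9909248 i)
noncomputable def eT9667 (i : Nat) : Nat := Bool.rec (eL9675 i) (eT9666 i) (Nat.ble 9908224 i)
noncomputable def eT9668 (i : Nat) : Nat := Bool.rec (eT9665 i) (eT9667 i) (Nat.ble 9907200 i)
noncomputable def eT9669 (i : Nat) : Nat := Bool.rec (eT9664 i) (eT9668 i) (Nat.ble 9905152 i)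
noncomputable def eT9670 (i : Nat) : Nat := Bool.rec (eT9660 i) (eT9669 i) (Nat.ble 9900032 i)
noncomputable def eT9671 (i : Nat) : Nat := Bool.rec (eL9678 i) (eL9679 i) (Nat.ble 9911296 i)
noncomputable def eT9672 (i : Nat) : Nat := Bool.rec (eL9681 i) (eL9682 i) (Nat.ble 9914368 i)
noncomputable def eT9673 (i : Nat) : Nat := Bool.rec (eL9680 i) (eT9672 i) (Nat.ble 9913344 i)
noncomputable def eT9674 (i : Nat) : Nat := Bool.rec (eT9671 i) (eT9673 i) (Nat.ble 9912320 i)
noncomputable def eT9675 (i : Nat) : Nat := Bool.rec (eL9683 i) (eL9684 i) (Nat.ble 9916416 i)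
noncomputable def eT9676 (i : Nat) : Nat := Bool.rec (eL9686 i) (eL9687 i) (Nat.ble 9919488 i)
noncomputable def eT9677 (i : Nat) : Nat := Bool.rec (eL9685 i) (eT9676 i) (Nat.ble 9918464 i)
noncomputable def eT9678 (i : Nat) : Nat := Bool.rec (eT9675 i) (eT9677 i) (Nat.ble 9917440 i)
noncomputable def eT9679 (i : Nat) : Nat := Bool.rec (eT9674 i) (eT9678 i) (Nat.ble 9915392 i)
noncomputable def eT9680 (i : Nat) : Nat := Bool.rec (eL9688 i) (eL9689 i) (Nat.ble 9921536 i)
noncomputable def eT9681 (i : Nat) : Nat := Bool.rec (eL9691 i) (eL9692 i) (Nat.ble 9924608 i)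
noncomputable def eT9682 (i : Nat) : Nat := Bool.rec (eL9690 i) (eT9681 i) (Nat.ble 9923584 i)
noncomputable def eT9683 (i : Nat) : Nat := Bool.rec (eT9680 i) (eT9682 i) (Nat.ble 9922560 i)
noncomputable def eT9684 (i : Nat) : Nat := Bool.rec (eL9694 i) (eL9695 i) (Nat.ble 9927680 i)
noncomputable def eT9685 (i : Nat) : Nat := Bool.rec (eL9693 i) (eT9684 i) (Nat.ble 9926656 i)
noncomputable def eT9686 (i : Nat) : Nat := Bool.rec (eL9697 i) (eL9698 i) (Nat.ble 9930752 i)
noncomputable def eT9687 (i : Nat) : Nat := Bool.rec (eL9696 i) (eT9686 i) (Nat.ble 9929728 i)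
noncomputable def eT9688 (i : Nat) : Nat := Bool.rec (eT9685 i) (eT9687 i) (Nat.ble 9928704 i)
noncomputable def eT9689 (i : Nat) : Nat := Bool.rec (eT9683 i) (eT9688 i) (Nat.ble 9925632 i)
noncomputable def eT9690 (i : Nat) : Nat := Bool.rec (eT9679 i) (eT9689 i) (Nat.ble 9920512 i)
noncomputable def eT9691 (i : Nat) : Nat := Bool.rec (eT9670 i) (eT9690 i) (Nat.ble 9910272 i)
noncomputable def eT9692 (i : Nat) : Nat := Bool.rec (eT9651 i) (eT9691 i) (Nat.ble 9889792 i)
noncomputable def eT9693 (i : Nat) : Nat := Bool.rec (eT9611 i) (eT9692 i) (Nat.ble 9847808 i)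
noncomputable def eT9694 (i : Nat) : Nat := Bool.rec (eL9699 i) (eL9700 i) (Nat.ble 9932800 i)
noncomputable def eT9695 (i : Nat) : Nat := Bool.rec (eL9702 i) (eL9703 i) (Nat.ble 9935872 i)
noncomputable def eT9696 (i : Nat) : Nat := Bool.rec (eL9701 i) (eT9695 i) (Nat.ble 9934848 i)
noncomputable def eT9697 (i : Nat) : Nat := Bool.rec (eT9694 i) (eT9696 i) (Nat.ble 9933824 i)
noncomputable def eT9698 (i : Nat) : Nat := Bool.rec (eL9704 i) (eL9705 i) (Nat.ble 9937920 i)
noncomputable def eT9699 (i : Nat) : Nat := Bool.rec (eL9707 i) (eL9708 i) (Nat.ble 9940992 i)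
noncomputable def eT9700 (i : Nat) : Nat := Bool.rec (eL9706 i) (eT9699 i) (Nat.ble 9939968 i)
noncomputable def eT9701 (i : Nat) : Nat := Bool.rec (eT9698 i) (eT9700 i) (Nat.ble 9938944 i)
noncomputable def eT9702 (i : Nat) : Nat := Bool.rec (eT9697 i) (eT9701 i) (Nat.ble 9936896 i)
noncomputable def eT9703 (i : Nat) : Nat := Bool.rec (eL9709 i) (eL9710 i) (Nat.ble 9943040 i)
noncomputable def eT9704 (i : Nat) : Nat := Bool.rec (eL9712 i) (eL9713 i) (Nat.ble 9946112 i)
noncomputable def eT9705 (i : Nat) : Nat := Bool.rec (eL9711 i) (eT9704 i) (Nat.ble 9945088 i)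
noncomputable def eT9706 (i : Nat) : Nat := Bool.rec (eT9703 i) (eT9705 i) (Nat.ble 9944064 i)
noncomputable def eT9707 (i : Nat) : Nat := Bool.rec (eL9714 i) (eL9715 i) (Nat.ble 9948160 i)
noncomputable def eT9708 (i : Nat) : Nat := Bool.rec (eL9717 i) (eL9718 i) (Nat.ble 9951232 i)
noncomputable def eT9709 (i : Nat) : Nat := Bool.rec (eL9716 i) (eT9708 i) (Nat.ble 9950208 i)
noncomputable def eT9710 (i : Nat) : Nat := Bool.rec (eT9707 i) (eT9709 i) (Nat.ble 9949184 i)
noncomputable def eT9711 (i : Nat) : Nat := Bool.rec (eT9706 i) (eT9710 i) (Nat.ble 9947136 i)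
noncomputable def eT9712 (i : Nat) : Nat := Bool.rec (eT9702 i) (eT9711 i) (Nat.ble 9942016 i)
noncomputable def eT9713 (i : Nat) : Nat := Bool.rec (eL9719 i) (eL9720 i) (Nat.ble 9953280 i)
noncomputable def eT9714 (i : Nat) : Nat := Bool.rec (eL9722 i) (eL9723 i) (Nat.ble 9956352 i)
noncomputable def eT9715 (i : Nat) : Nat := Bool.rec (eL9721 i) (eT9714 i) (Nat.ble 9955328 i)
noncomputable def eT9716 (i : Nat) : Nat := Bool.rec (eT9713 i) (eT9715 i) (Nat.ble 9954304 i)
noncomputable def eT9717 (i : Nat) : Nat := Bool.rec (eL9724 i) (eL9725 i) (Nat.ble 9958400 i)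
noncomputable def eT9718 (i : Nat) : Nat := Bool.rec (eL9727 i) (eL9728 i) (Nat.ble 9961472 i)
noncomputable def eT9719 (i : Nat) : Nat := Bool.rec (eL9726 i) (eT9718 i) (Nat.ble 9960448 i)
noncomputable def eT9720 (i : Nat) : Nat := Bool.rec (eT9717 i) (eT9719 i) (Nat.ble 9959424 i)
noncomputable def eT9721 (i : Nat) : Nat := Bool.rec (eT9716 i) (eT9720 i) (Nat.ble 9957376 i)
noncomputable def eT9722 (i : Nat) : Nat := Bool.rec (eL9729 i) (eL9730 i) (Nat.ble 9963520 i)
noncomputable def eT9723 (i : Nat) : Nat := Bool.rec (eL9732 i) (eL9733 i) (Nat.ble 9966592 i)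
noncomputable def eT9724 (i : Nat) : Nat := Bool.rec (eL9731 i) (eT9723 i) (Nat.ble 9965568 i)
noncomputable def eT9725 (i : Nat) : Nat := Bool.rec (eT9722 i) (eT9724 i) (Nat.ble 9964544 i)
noncomputable def eT9726 (i : Nat) : Nat := Bool.rec (eL9735 i) (eL9736 i) (Nat.ble 9969664 i)
noncomputable def eT9727 (i : Nat) : Nat := Bool.rec (eL9734 i) (eT9726 i) (Nat.ble 9968640 i)
noncomputable def eT9728 (i : Nat) : Nat := Bool.rec (eL9738 i) (eL9739 i) (Nat.ble 9972736 i)
noncomputable def eT9729 (i : Nat) : Nat := Bool.rec (eL9737 i) (eT9728 i) (Nat.ble 9971712 i)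
noncomputable def eT9730 (i : Nat) : Nat := Bool.rec (eT9727 i) (eT9729 i) (Nat.ble 9970688 i)
noncomputable def eT9731 (i : Nat) : Nat := Bool.rec (eT9725 i) (eT9730 i) (Nat.ble 9967616 i)
noncomputable def eT9732 (i : Nat) : Nat := Bool.rec (eT9721 i) (eT9731 i) (Nat.ble 9962496 i)
noncomputable def eT9733 (i : Nat) : Nat := Bool.rec (eT9712 i) (eT9732 i) (Nat.ble 9952256 i)
noncomputable def eT9734 (i : Nat) : Nat := Bool.rec (eL9740 i) (eL9741 i) (Nat.ble 9974784 i)
noncomputable def eT9735 (i : Nat) : Nat := Bool.rec (eL9743 i) (eL9744 i) (Nat.ble 9977856 i)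
noncomputable def eT9736 (i : Nat) : Nat := Bool.rec (eL9742 i) (eT9735 i) (Nat.ble 9976832 i)
noncomputable def eT9737 (i : Nat) : Nat := Bool.rec (eT9734 i) (eT9736 i) (Nat.ble 9975808 i)
noncomputable def eT9738 (i : Nat) : Nat := Bool.rec (eL9745 i) (eL9746 i) (Nat.ble 9979904 i)
noncomputable def eT9739 (i : Nat) : Nat := Bool.rec (eL9748 i) (eL9749 i) (Nat.ble 9982976 i)
noncomputable def eT9740 (i : Nat) : Nat := Bool.rec (eL9747 i) (eT9739 i) (Nat.ble 9981952 i)
noncomputable def eT9741 (i : Nat) : Nat := Bool.rec (eT9738 i) (eT9740 i) (Nat.ble 9980928 i)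
noncomputable def eT9742 (i : Nat) : Nat := Bool.rec (eT9737 i) (eT9741 i) (Nat.ble 9978880 i)
noncomputable def eT9743 (i : Nat) : Nat := Bool.rec (eL9750 i) (eL9751 i) (Nat.ble 9985024 i)
noncomputable def eT9744 (i : Nat) : Nat := Bool.rec (eL9753 i) (eL9754 i) (Nat.ble 9988096 i)
noncomputable def eT9745 (i : Nat) : Nat := Bool.rec (eL9752 i) (eT9744 i) (Nat.ble 9987072 i)
noncomputable def eT9746 (i : Nat) : Nat := Bool.rec (eT9743 i) (eT9745 i) (Nat.ble 9986048 i)
noncomputable def eT9747 (i : Nat) : Nat := Bool.rec (eL9755 i) (eL9756 i) (Nat.ble 9990144 i)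
noncomputable def eT9748 (i : Nat) : Nat := Bool.rec (eL9758 i) (eL9759 i) (Nat.ble 9993216 i)
noncomputable def eT9749 (i : Nat) : Nat := Bool.rec (eL9757 i) (eT9748 i) (Nat.ble 9992192 i)
noncomputable def eT9750 (i : Nat) : Nat := Bool.rec (eT9747 i) (eT9749 i) (Nat.ble 9991168 i)
noncomputable def eT9751 (i : Nat) : Nat := Bool.rec (eT9746 i) (eT9750 i) (Nat.ble 9989120 i)
noncomputable def eT9752 (i : Nat) : Nat := Bool.rec (eT9742 i) (eT9751 i) (Nat.ble 9984000 i)
noncomputable def eT9753 (i : Nat) : Nat := Bool.rec (eL9760 i) (eL9761 i) (Nat.ble 9995264 i)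
noncomputable def eT9754 (i : Nat) : Nat := Bool.rec (eL9763 i) (eL9764 i) (Nat.ble 9998336 i)
noncomputable def eT9755 (i : Nat) : Nat := Bool.rec (eL9762 i) (eT9754 i) (Nat.ble 9997312 i)
noncomputable def eT9756 (i : Nat) : Nat := Bool.rec (eT9753 i) (eT9755 i) (Nat.ble 9996288 i)
noncomputable def eT9757 (i : Nat) : Nat := Bool.rec (eL9765 i) (eL9766 i) (Nat.ble 10000384 i)
noncomputable def eT9758 (i : Nat) : Nat := Bool.rec (eL9768 i) (eL9769 i) (Nat.ble 10003456 i)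
noncomputable def eT9759 (i : Nat) : Nat := Bool.rec (eL9767 i) (eT9758 i) (Nat.ble 10002432 i)
noncomputable def eT9760 (i : Nat) : Nat := Bool.rec (eT9757 i) (eT9759 i) (Nat.ble 10001408 i)
noncomputable def eT9761 (i : Nat) : Nat := Bool.rec (eT9756 i) (eT9760 i) (Nat.ble 9999360 i)
noncomputable def eT9762 (i : Nat) : Nat := Bool.rec (eL9770 i) (eL9771 i) (Nat.ble 10005504 i)
noncomputable def eT9763 (i : Nat) : Nat := Bool.rec (eL9773 i) (eL9774 i) (Nat.ble 10008576 i)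
noncomputable def eT9764 (i : Nat) : Nat := Bool.rec (eL9772 i) (eT9763 i) (Nat.ble 10007552 i)
noncomputable def eT9765 (i : Nat) : Nat := Bool.rec (eT9762 i) (eT9764 i) (Nat.ble 10006528 i)
noncomputable def eT9766 (i : Nat) : Nat := Bool.rec (eL9776 i) (eL9777 i) (Nat.ble 10011648 i)
noncomputable def eT9767 (i : Nat) : Nat := Bool.rec (eL9775 i) (eT9766 i) (Nat.ble 10010624 i)
noncomputable def eT9768 (i : Nat) : Nat := Bool.rec (eL9779 i) (eL9780 i) (Nat.ble 10014720 i)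
noncomputable def eT9769 (i : Nat) : Nat := Bool.rec (eL9778 i) (eT9768 i) (Nat.ble 10013696 i)
noncomputable def eT9770 (i : Nat) : Nat := Bool.rec (eT9767 i) (eT9769 i) (Nat.ble 10012672 i)
noncomputable def eT9771 (i : Nat) : Nat := Bool.rec (eT9765 i) (eT9770 i) (Nat.ble 10009600 i)
noncomputable def eT9772 (i : Nat) : Nat := Bool.rec (eT9761 i) (eT9771 i) (Nat.ble 10004480 i)
noncomputable def eT9773 (i : Nat) : Nat := Bool.rec (eT9752 i) (eT9772 i) (Nat.ble 9994240 i)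
noncomputable def eT9774 (i : Nat) : Nat := Bool.rec (eT9733 i) (eT9773 i) (Nat.ble 9973760 i)
noncomputable def eT9775 (i : Nat) : Nat := Bool.rec (eL9781 i) (eL9782 i) (Nat.ble 10016768 i)
noncomputable def eT9776 (i : Nat) : Nat := Bool.rec (eL9784 i) (eL9785 i) (Nat.ble 10019840 i)
noncomputable def eT9777 (i : Nat) : Nat := Bool.rec (eL9783 i) (eT9776 i) (Nat.ble 10018816 i)
noncomputable def eT9778 (i : Nat) : Nat := Bool.rec (eT9775 i) (eT9777 i) (Nat.ble 10017792 i)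
noncomputable def eT9779 (i : Nat) : Nat := Bool.rec (eL9786 i) (eL9787 i) (Nat.ble 10021888 i)
noncomputable def eT9780 (i : Nat) : Nat := Bool.rec (eL9789 i) (eL9790 i) (Nat.ble 10024960 i)
noncomputable def eT9781 (i : Nat) : Nat := Bool.rec (eL9788 i) (eT9780 i) (Nat.ble 10023936 i)
noncomputable def eT9782 (i : Nat) : Nat := Bool.rec (eT9779 i) (eT9781 i) (Nat.ble 10022912 i)
noncomputable def eT9783 (i : Nat) : Nat := Bool.rec (eT9778 i) (eT9782 i) (Nat.ble 10020864 i)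
noncomputable def eT9784 (i : Nat) : Nat := Bool.rec (eL9791 i) (eL9792 i) (Nat.ble 10027008 i)
noncomputable def eT9785 (i : Nat) : Nat := Bool.rec (eL9794 i) (eL9795 i) (Nat.ble 10030080 i)
noncomputable def eT9786 (i : Nat) : Nat := Bool.rec (eL9793 i) (eT9785 i) (Nat.ble 10029056 i)
noncomputable def eT9787 (i : Nat) : Nat := Bool.rec (eT9784 i) (eT9786 i) (Nat.ble 10028032 i)
noncomputable def eT9788 (i : Nat) : Nat := Bool.rec (eL9796 i) (eL9797 i) (Nat.ble 10032128 i)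
noncomputable def eT9789 (i : Nat) : Nat := Bool.rec (eL9799 i) (eL9800 i) (Nat.ble 10035200 i)
noncomputable def eT9790 (i : Nat) : Nat := Bool.rec (eL9798 i) (eT9789 i) (Nat.ble 10034176 i)
noncomputable def eT9791 (i : Nat) : Nat := Bool.rec (eT9788 i) (eT9790 i) (Nat.ble 10033152 i)
noncomputable def eT9792 (i : Nat) : Nat := Bool.rec (eT9787 i) (eT9791 i) (Nat.ble 10031104 i)
noncomputable def eT9793 (i : Nat) : Nat := Bool.rec (eT9783 i) (eT9792 i) (Nat.ble 10025984 i)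
noncomputable def eT9794 (i : Nat) : Nat := Bool.rec (eL9801 i) (eL9802 i) (Nat.ble 10037248 i)
noncomputable def eT9795 (i : Nat) : Nat := Bool.rec (eL9804 i) (eL9805 i) (Nat.ble 10040320 i)
noncomputable def eT9796 (i : Nat) : Nat := Bool.rec (eL9803 i) (eT9795 i) (Nat.ble 10039296 i)
noncomputable def eT9797 (i : Nat) : Nat := Bool.rec (eT9794 i) (eT9796 i) (Nat.ble 10038272 i)
noncomputable def eT9798 (i : Nat) : Nat := Bool.rec (eL9806 i) (eL9807 i) (Nat.ble 10042368 i)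
noncomputable def eT9799 (i : Nat) : Nat := Bool.rec (eL9809 i) (eL9810 i) (Nat.ble 10045440 i)
noncomputable def eT9800 (i : Nat) : Nat := Bool.rec (eL9808 i) (eT9799 i) (Nat.ble 10044416 i)
noncomputable def eT9801 (i : Nat) : Nat := Bool.rec (eT9798 i) (eT9800 i) (Nat.ble 10043392 i)
noncomputable def eT9802 (i : Nat) : Nat := Bool.rec (eT9797 i) (eT9801 i) (Nat.ble 10041344 i)
noncomputable def eT9803 (i : Nat) : Nat := Bool.rec (eL9811 i) (eL9812 i) (Nat.ble 10047488 i)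
noncomputable def eT9804 (i : Nat) : Nat := Bool.rec (eL9814 i) (eL9815 i) (Nat.ble 10050560 i)
noncomputable def eT9805 (i : Nat) : Nat := Bool.rec (eL9813 i) (eT9804 i) (Nat.ble 10049536 i)
noncomputable def eT9806 (i : Nat) : Nat := Bool.rec (eT9803 i) (eT9805 i) (Nat.ble 10048512 i)
noncomputable def eT9807 (i : Nat) : Nat := Bool.rec (eL9817 i) (eL9818 i) (Nat.ble 10053632 i)
noncomputable def eT9808 (i : Nat) : Nat := Bool.rec (eL9816 i) (eT9807 i) (Nat.ble 10052608 i)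
noncomputable def eT9809 (i : Nat) : Nat := Bool.rec (eL9820 i) (eL9821 i) (Nat.ble 10056704 i)
noncomputable def eT9810 (i : Nat) : Nat := Bool.rec (eL9819 i) (eT9809 i) (Nat.ble 10055680 i)
noncomputable def eT9811 (i : Nat) : Nat := Bool.rec (eT9808 i) (eT9810 i) (Nat.ble 10054656 i)
noncomputable def eT9812 (i : Nat) : Nat := Bool.rec (eT9806 i) (eT9811 i) (Nat.ble 10051584 i)
noncomputable def eT9813 (i : Nat) : Nat := Bool.rec (eT9802 i) (eT9812 i) (Nat.ble 10046464 i)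
noncomputable def eT9814 (i : Nat) : Nat := Bool.rec (eT9793 i) (eT9813 i) (Nat.ble 10036224 i)
noncomputable def eT9815 (i : Nat) : Nat := Bool.rec (eL9822 i) (eL9823 i) (Nat.ble 10058752 i)
noncomputable def eT9816 (i : Nat) : Nat := Bool.rec (eL9825 i) (eL9826 i) (Nat.ble 10061824 i)
noncomputable def eT9817 (i : Nat) : Nat := Bool.rec (eL9824 i) (eT9816 i) (Nat.ble 10060800 i)
noncomputable def eT9818 (i : Nat) : Nat := Bool.rec (eT9815 i) (eT9817 i) (Nat.ble 10059776 i)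
noncomputable def eT9819 (i : Nat) : Nat := Bool.rec (eL9827 i) (eL9828 i) (Nat.ble 10063872 i)
noncomputable def eT9820 (i : Nat) : Nat := Bool.rec (eL9830 i) (eL9831 i) (Nat.ble 10066944 i)
noncomputable def eT9821 (i : Nat) : Nat := Bool.rec (eL9829 i) (eT9820 i) (Nat.ble 10065920 i)
noncomputable def eT9822 (i : Nat) : Nat := Bool.rec (eT9819 i) (eT9821 i) (Nat.ble 10064896 i)
noncomputable def eT9823 (i : Nat) : Nat := Bool.rec (eT9818 i) (eT9822 i) (Nat.ble 10062848 i)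
noncomputable def eT9824 (i : Nat) : Nat := Bool.rec (eL9832 i) (eL9833 i) (Nat.ble 10068992 i)
noncomputable def eT9825 (i : Nat) : Nat := Bool.rec (eL9835 i) (eL9836 i) (Nat.ble 10072064 i)
noncomputable def eT9826 (i : Nat) : Nat := Bool.rec (eL9834 i) (eT9825 i) (Nat.ble 10071040 i)
noncomputable def eT9827 (i : Nat) : Nat := Bool.rec (eT9824 i) (eT9826 i) (Nat.ble 10070016 i)
noncomputable def eT9828 (i : Nat) : Nat := Bool.rec (eL9838 i) (eL9839 i) (Nat.ble 10075136 i)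
noncomputable def eT9829 (i : Nat) : Nat := Bool.rec (eL9837 i) (eT9828 i) (Nat.ble 10074112 i)
noncomputable def eT9830 (i : Nat) : Nat := Bool.rec (eL9841 i) (eL9842 i) (Nat.ble 10078208 i)
noncomputable def eT9831 (i : Nat) : Nat := Bool.rec (eL9840 i) (eT9830 i) (Nat.ble 10077184 i)
noncomputable def eT9832 (i : Nat) : Nat := Bool.rec (eT9829 i) (eT9831 i) (Nat.ble 10076160 i)
noncomputable def eT9833 (i : Nat) : Nat := Bool.rec (eT9827 i) (eT9832 i) (Nat.ble 10073088 i)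
noncomputable def eT9834 (i : Nat) : Nat := Bool.rec (eT9823 i) (eT9833 i) (Nat.ble 10067968 i)
noncomputable def eT9835 (i : Nat) : Nat := Bool.rec (eL9843 i) (eL9844 i) (Nat.ble 10080256 i)
noncomputable def eT9836 (i : Nat) : Nat := Bool.rec (eL9846 i) (eL9847 i) (Nat.ble 10083328 i)
noncomputable def eT9837 (i : Nat) : Nat := Bool.rec (eL9845 i) (eT9836 i) (Nat.ble 10082304 i)
noncomputable def eT9838 (i : Nat) : Nat := Bool.rec (eT9835 i) (eT9837 i) (Nat.ble 10081280 i)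
noncomputable def eT9839 (i : Nat) : Nat := Bool.rec (eL9848 i) (eL9849 i) (Nat.ble 10085376 i)
noncomputable def eT9840 (i : Nat) : Nat := Bool.rec (eL9851 i) (eL9852 i) (Nat.ble 10088448 i)
noncomputable def eT9841 (i : Nat) : Nat := Bool.rec (eL9850 i) (eT9840 i) (Nat.ble 10087424 i)
noncomputable def eT9842 (i : Nat) : Nat := Bool.rec (eT9839 i) (eT9841 i) (Nat.ble 10086400 i)
noncomputable def eT9843 (i : Nat) : Nat := Bool.rec (eT9838 i) (eT9842 i) (Nat.ble 10084352 i)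
noncomputable def eT9844 (i : Nat) : Nat := Bool.rec (eL9853 i) (eL9854 i) (Nat.ble 10090496 i)
noncomputable def eT9845 (i : Nat) : Nat := Bool.rec (eL9856 i) (eL9857 i) (Nat.ble 10093568 i)
noncomputable def eT9846 (i : Nat) : Nat := Bool.rec (eL9855 i) (eT9845 i) (Nat.ble 10092544 i)
noncomputable def eT9847 (i : Nat) : Nat := Bool.rec (eT9844 i) (eT9846 i) (Nat.ble 10091520 i)
noncomputable def eT9848 (i : Nat) : Nat := Bool.rec (eL9859 i) (eL9860 i) (Nat.ble 10096640 i)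
noncomputable def eT9849 (i : Nat) : Nat := Bool.rec (eL9858 i) (eT9848 i) (Nat.ble 10095616 i)
noncomputable def eT9850 (i : Nat) : Nat := Bool.rec (eL9862 i) (eL9863 i) (Nat.ble 10099712 i)
noncomputable def eT9851 (i : Nat) : Nat := Bool.rec (eL9861 i) (eT9850 i) (Nat.ble 10098688 i)
noncomputable def eT9852 (i : Nat) : Nat := Bool.rec (eT9849 i) (eT9851 i) (Nat.ble 10097664 i)
noncomputable def eT9853 (i : Nat) : Nat := Bool.rec (eT9847 i) (eT9852 i) (Nat.ble 10094592 i)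
noncomputable def eT9854 (i : Nat) : Nat := Bool.rec (eT9843 i) (eT9853 i) (Nat.ble 10089472 i)
noncomputable def eT9855 (i : Nat) : Nat := Bool.rec (eT9834 i) (eT9854 i) (Nat.ble 10079232 i)
noncomputable def eT9856 (i : Nat) : Nat := Bool.rec (eT9814 i) (eT9855 i) (Nat.ble 10057728 i)
noncomputable def eT9857 (i : Nat) : Nat := Bool.rec (eT9774 i) (eT9856 i) (Nat.ble 10015744 i)
noncomputable def eT9858 (i : Nat) : Nat := Bool.rec (eT9693 i) (eT9857 i) (Nat.ble 9931776 i)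
noncomputable def eT9859 (i : Nat) : Nat := Bool.rec (eT9530 i) (eT9858 i) (Nat.ble 9763840 i)
noncomputable def eT9860 (i : Nat) : Nat := Bool.rec (eL9864 i) (eL9865 i) (Nat.ble 10101760 i)
noncomputable def eT9861 (i : Nat) : Nat := Bool.rec (eL9867 i) (eL9868 i) (Nat.ble 10104832 i)
noncomputable def eT9862 (i : Nat) : Nat := Bool.rec (eL9866 i) (eT9861 i) (Nat.ble 10103808 i)
noncomputable def eT9863 (i : Nat) : Nat := Bool.rec (eT9860 i) (eT9862 i) (Nat.ble 10102784 i)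
noncomputable def eT9864 (i : Nat) : Nat := Bool.rec (eL9869 i) (eL9870 i) (Nat.ble 10106880 i)
noncomputable def eT9865 (i : Nat) : Nat := Bool.rec (eL9872 i) (eL9873 i) (Nat.ble 10109952 i)
noncomputable def eT9866 (i : Nat) : Nat := Bool.rec (eL9871 i) (eT9865 i) (Nat.ble 10108928 i)
noncomputable def eT9867 (i : Nat) : Nat := Bool.rec (eT9864 i) (eT9866 i) (Nat.ble 10107904 i)
noncomputable def eT9868 (i : Nat) : Nat := Bool.rec (eT9863 i) (eT9867 i) (Nat.ble 10105856 i)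
noncomputable def eT9869 (i : Nat) : Nat := Bool.rec (eL9874 i) (eL9875 i) (Nat.ble 10112000 i)
noncomputable def eT9870 (i : Nat) : Nat := Bool.rec (eL9877 i) (eL9878 i) (Nat.ble 10115072 i)
noncomputable def eT9871 (i : Nat) : Nat := Bool.rec (eL9876 i) (eT9870 i) (Nat.ble 10114048 i)
noncomputable def eT9872 (i : Nat) : Nat := Bool.rec (eT9869 i) (eT9871 i) (Nat.ble 10113024 i)
noncomputable def eT9873 (i : Nat) : Nat := Bool.rec (eL9879 i) (eL9880 i) (Nat.ble 10117120 i)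
noncomputable def eT9874 (i : Nat) : Nat := Bool.rec (eL9882 i) (eL9883 i) (Nat.ble 10120192 i)
noncomputable def eT9875 (i : Nat) : Nat := Bool.rec (eL9881 i) (eT9874 i) (Nat.ble 10119168 i)
noncomputable def eT9876 (i : Nat) : Nat := Bool.rec (eT9873 i) (eT9875 i) (Nat.ble 10118144 i)
noncomputable def eT9877 (i : Nat) : Nat := Bool.rec (eT9872 i) (eT9876 i) (Nat.ble 10116096 i)
noncomputable def eT9878 (i : Nat) : Nat := Bool.rec (eT9868 i) (eT9877 i) (Nat.ble 10110976 i)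
noncomputable def eT9879 (i : Nat) : Nat := Bool.rec (eL9884 i) (eL9885 i) (Nat.ble 10122240 i)
noncomputable def eT9880 (i : Nat) : Nat := Bool.rec (eL9887 i) (eL9888 i) (Nat.ble 10125312 i)
noncomputable def eT9881 (i : Nat) : Nat := Bool.rec (eL9886 i) (eT9880 i) (Nat.ble 10124288 i)
noncomputable def eT9882 (i : Nat) : Nat := Bool.rec (eT9879 i) (eT9881 i) (Nat.ble 10123264 i)
noncomputable def eT9883 (i : Nat) : Nat := Bool.rec (eL9889 i) (eL9890 i) (Nat.ble 10127360 i)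
noncomputable def eT9884 (i : Nat) : Nat := Bool.rec (eL9892 i) (eL9893 i) (Nat.ble 10130432 i)
noncomputable def eT9885 (i : Nat) : Nat := Bool.rec (eL9891 i) (eT9884 i) (Nat.ble 10129408 i)
noncomputable def eT9886 (i : Nat) : Nat := Bool.rec (eT9883 i) (eT9885 i) (Nat.ble 10128384 i)
noncomputable def eT9887 (i : Nat) : Nat := Bool.rec (eT9882 i) (eT9886 i) (Nat.ble 10126336 i)
noncomputable def eT9888 (i : Nat) : Nat := Bool.rec (eL9894 i) (eL9895 i) (Nat.ble 10132480 i)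
noncomputable def eT9889 (i : Nat) : Nat := Bool.rec (eL9897 i) (eL9898 i) (Nat.ble 10135552 i)
noncomputable def eT9890 (i : Nat) : Nat := Bool.rec (eL9896 i) (eT9889 i) (Nat.ble 10134528 i)
noncomputable def eT9891 (i : Nat) : Nat := Bool.rec (eT9888 i) (eT9890 i) (Nat.ble 10133504 i)
noncomputable def eT9892 (i : Nat) : Nat := Bool.rec (eL9900 i) (eL9901 i) (Nat.ble 10138624 i)
noncomputable def eT9893 (i : Nat) : Nat := Bool.rec (eL9899 i) (eT9892 i) (Nat.ble 10137600 i)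
noncomputable def eT9894 (i : Nat) : Nat := Bool.rec (eL9903 i) (eL9904 i) (Nat.ble 10141696 i)
noncomputable def eT9895 (i : Nat) : Nat := Bool.rec (eL9902 i) (eT9894 i) (Nat.ble 10140672 i)
noncomputable def eT9896 (i : Nat) : Nat := Bool.rec (eT9893 i) (eT9895 i) (Nat.ble 10139648 i)
noncomputable def eT9897 (i : Nat) : Nat := Bool.rec (eT9891 i) (eT9896 i) (Nat.ble 10136576 i)
noncomputable def eT9898 (i : Nat) : Nat := Bool.rec (eT9887 i) (eT9897 i) (Nat.ble 10131456 i)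
noncomputable def eT9899 (i : Nat) : Nat := Bool.rec (eT9878 i) (eT9898 i) (Nat.ble 10121216 i)
noncomputable def eT9900 (i : Nat) : Nat := Bool.rec (eL9905 i) (eL9906 i) (Nat.ble 10143744 i)
noncomputable def eT9901 (i : Nat) : Nat := Bool.rec (eL9908 i) (eL9909 i) (Nat.ble 10146816 i)
noncomputable def eT9902 (i : Nat) : Nat := Bool.rec (eL9907 i) (eT9901 i) (Nat.ble 10145792 i)
noncomputable def eT9903 (i : Nat) : Nat := Bool.rec (eT9900 i) (eT9902 i) (Nat.ble 10144768 i)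
noncomputable def eT9904 (i : Nat) : Nat := Bool.rec (eL9910 i) (eL9911 i) (Nat.ble 10148864 i)
noncomputable def eT9905 (i : Nat) : Nat := Bool.rec (eL9913 i) (eL9914 i) (Nat.ble 10151936 i)
noncomputable def eT9906 (i : Nat) : Nat := Bool.rec (eL9912 i) (eT9905 i) (Nat.ble 10150912 i)
noncomputable def eT9907 (i : Nat) : Nat := Bool.rec (eT9904 i) (eT9906 i) (Nat.ble 10149888 i)
noncomputable def eT9908 (i : Nat) : Nat := Bool.rec (eT9903 i) (eT9907 i) (Nat.ble 10147840 i)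
noncomputable def eT9909 (i : Nat) : Nat := Bool.rec (eL9915 i) (eL9916 i) (Nat.ble 10153984 i)
noncomputable def eT9910 (i : Nat) : Nat := Bool.rec (eL9918 i) (eL9919 i) (Nat.ble 10157056 i)
noncomputable def eT9911 (i : Nat) : Nat := Bool.rec (eL9917 i) (eT9910 i) (Nat.ble 10156032 i)
noncomputable def eT9912 (i : Nat) : Nat := Bool.rec (eT9909 i) (eT9911 i) (Nat.ble 10155008 i)
noncomputable def eT9913 (i : Nat) : Nat := Bool.rec (eL9920 i) (eL9921 i) (Nat.ble 10159104 i)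
noncomputable def eT9914 (i : Nat) : Nat := Bool.rec (eL9923 i) (eL9924 i) (Nat.ble 10162176 i)
noncomputable def eT9915 (i : Nat) : Nat := Bool.rec (eL9922 i) (eT9914 i) (Nat.ble 10161152 i)
noncomputable def eT9916 (i : Nat) : Nat := Bool.rec (eT9913 i) (eT9915 i) (Nat.ble 10160128 i)
noncomputable def eT9917 (i : Nat) : Nat := Bool.rec (eT9912 i) (eT9916 i) (Nat.ble 10158080 i)
noncomputable def eT9918 (i : Nat) : Nat := Bool.rec (eT9908 i) (eT9917 i) (Nat.ble 10152960 i)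
noncomputable def eT9919 (i : Nat) : Nat := Bool.rec (eL9925 i) (eL9926 i) (Nat.ble 10164224 i)
noncomputable def eT9920 (i : Nat) : Nat := Bool.rec (eL9928 i) (eL9929 i) (Nat.ble 10167296 i)
noncomputable def eT9921 (i : Nat) : Nat := Bool.rec (eL9927 i) (eT9920 i) (Nat.ble 10166272 i)
noncomputable def eT9922 (i : Nat) : Nat := Bool.rec (eT9919 i) (eT9921 i) (Nat.ble 10165248 i)
noncomputable def eT9923 (i : Nat) : Nat := Bool.rec (eL9930 i) (eL9931 i) (Nat.ble 10169344 i)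
noncomputable def eT9924 (i : Nat) : Nat := Bool.rec (eL9933 i) (eL9934 i) (Nat.ble 10172416 i)
noncomputable def eT9925 (i : Nat) : Nat := Bool.rec (eL9932 i) (eT9924 i) (Nat.ble 10171392 i)
noncomputable def eT9926 (i : Nat) : Nat := Bool.rec (eT9923 i) (eT9925 i) (Nat.ble 10170368 i)
noncomputable def eT9927 (i : Nat) : Nat := Bool.rec (eT9922 i) (eT9926 i) (Nat.ble 10168320 i)
noncomputable def eT9928 (i : Nat) : Nat := Bool.rec (eL9935 i) (eL9936 i) (Nat.ble 10174464 i)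
noncomputable def eT9929 (i : Nat) : Nat := Bool.rec (eL9938 i) (eL9939 i) (Nat.ble 10177536 i)
noncomputable def eT9930 (i : Nat) : Nat := Bool.rec (eL9937 i) (eT9929 i) (Nat.ble 10176512 i)
noncomputable def eT9931 (i : Nat) : Nat := Bool.rec (eT9928 i) (eT9930 i) (Nat.ble 10175488 i)
noncomputable def eT9932 (i : Nat) : Nat := Bool.rec (eL9941 i) (eL9942 i) (Nat.ble 10180608 i)
noncomputable def eT9933 (i : Nat) : Nat := Bool.rec (eL9940 i) (eT9932 i) (Nat.ble 10179584 i)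
noncomputable def eT9934 (i : Nat) : Nat := Bool.rec (eL9944 i) (eL9945 i) (Nat.ble 10183680 i)
noncomputable def eT9935 (i : Nat) : Nat := Bool.rec (eL9943 i) (eT9934 i) (Nat.ble 10182656 i)
noncomputable def eT9936 (i : Nat) : Nat := Bool.rec (eT9933 i) (eT9935 i) (Nat.ble 10181632 i)
noncomputable def eT9937 (i : Nat) : Nat := Bool.rec (eT9931 i) (eT9936 i) (Nat.ble 10178560 i)
noncomputable def eT9938 (i : Nat) : Nat := Bool.rec (eT9927 i) (eT9937 i) (Nat.ble 10173440 i)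
noncomputable def eT9939 (i : Nat) : Nat := Bool.rec (eT9918 i) (eT9938 i) (Nat.ble 10163200 i)
noncomputable def eT9940 (i : Nat) : Nat := Bool.rec (eT9899 i) (eT9939 i) (Nat.ble 10142720 i)
noncomputable def eT9941 (i : Nat) : Nat := Bool.rec (eL9946 i) (eL9947 i) (Nat.ble 10185728 i)
noncomputable def eT9942 (i : Nat) : Nat := Bool.rec (eL9949 i) (eL9950 i) (Nat.ble 10188800 i)
noncomputable def eT9943 (i : Nat) : Nat := Bool.rec (eL9948 i) (eT9942 i) (Nat.ble 10187776 i)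
noncomputable def eT9944 (i : Nat) : Nat := Bool.rec (eT9941 i) (eT9943 i) (Nat.ble 10186752 i)
noncomputable def eT9945 (i : Nat) : Nat := Bool.rec (eL9951 i) (eL9952 i) (Nat.ble 10190848 i)
noncomputable def eT9946 (i : Nat) : Nat := Bool.rec (eL9954 i) (eL9955 i) (Nat.ble 10193920 i)
noncomputable def eT9947 (i : Nat) : Nat := Bool.rec (eL9953 i) (eT9946 i) (Nat.ble 10192896 i)
noncomputable def eT9948 (i : Nat) : Nat := Bool.rec (eT9945 i) (eT9947 i) (Nat.ble 10191872 i)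
noncomputable def eT9949 (i : Nat) : Nat := Bool.rec (eT9944 i) (eT9948 i) (Nat.ble 10189824 i)
noncomputable def eT9950 (i : Nat) : Nat := Bool.rec (eL9956 i) (eL9957 i) (Nat.ble 10195968 i)
noncomputable def eT9951 (i : Nat) : Nat := Bool.rec (eL9959 i) (eL9960 i) (Nat.ble 10199040 i)
noncomputable def eT9952 (i : Nat) : Nat := Bool.rec (eL9958 i) (eT9951 i) (Nat.ble 10198016 i)
noncomputable def eT9953 (i : Nat) : Nat := Bool.rec (eT9950 i) (eT9952 i) (Nat.ble 10196992 i)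
noncomputable def eT9954 (i : Nat) : Nat := Bool.rec (eL9961 i) (eL9962 i) (Nat.ble 10201088 i)
noncomputable def eT9955 (i : Nat) : Nat := Bool.rec (eL9964 i) (eL9965 i) (Nat.ble 10204160 i)
noncomputable def eT9956 (i : Nat) : Nat := Bool.rec (eL9963 i) (eT9955 i) (Nat.ble 10203136 i)
noncomputable def eT9957 (i : Nat) : Nat := Bool.rec (eT9954 i) (eT9956 i) (Nat.ble 10202112 i)
noncomputable def eT9958 (i : Nat) : Nat := Bool.rec (eT9953 i) (eT9957 i) (Nat.ble 10200064 i)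
noncomputable def eT9959 (i : Nat) : Nat := Bool.rec (eT9949 i) (eT9958 i) (Nat.ble 10194944 i)
noncomputable def eT9960 (i : Nat) : Nat := Bool.rec (eL9966 i) (eL9967 i) (Nat.ble 10206208 i)
noncomputable def eT9961 (i : Nat) : Nat := Bool.rec (eL9969 i) (eL9970 i) (Nat.ble 10209280 i)
noncomputable def eT9962 (i : Nat) : Nat := Bool.rec (eL9968 i) (eT9961 i) (Nat.ble 10208256 i)
noncomputable def eT9963 (i : Nat) : Nat := Bool.rec (eT9960 i) (eT9962 i) (Nat.ble 10207232 i)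
noncomputable def eT9964 (i : Nat) : Nat := Bool.rec (eL9971 i) (eL9972 i) (Nat.ble 10211328 i)
noncomputable def eT9965 (i : Nat) : Nat := Bool.rec (eL9974 i) (eL9975 i) (Nat.ble 10214400 i)
noncomputable def eT9966 (i : Nat) : Nat := Bool.rec (eL9973 i) (eT9965 i) (Nat.ble 10213376 i)
noncomputable def eT9967 (i : Nat) : Nat := Bool.rec (eT9964 i) (eT9966 i) (Nat.ble 10212352 i)
noncomputable def eT9968 (i : Nat) : Nat := Bool.rec (eT9963 i) (eT9967 i) (Nat.ble 10210304 i)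
noncomputable def eT9969 (i : Nat) : Nat := Bool.rec (eL9976 i) (eL9977 i) (Nat.ble 10216448 i)
noncomputable def eT9970 (i : Nat) : Nat := Bool.rec (eL9979 i) (eL9980 i) (Nat.ble 10219520 i)
noncomputable def eT9971 (i : Nat) : Nat := Bool.rec (eL9978 i) (eT9970 i) (Nat.ble 10218496 i)
noncomputable def eT9972 (i : Nat) : Nat := Bool.rec (eT9969 i) (eT9971 i) (Nat.ble 10217472 i)
noncomputable def eT9973 (i : Nat) : Nat := Bool.rec (eL9982 i) (eL9983 i) (Nat.ble 10222592 i)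
noncomputable def eT9974 (i : Nat) : Nat := Bool.rec (eL9981 i) (eT9973 i) (Nat.ble 10221568 i)
noncomputable def eT9975 (i : Nat) : Nat := Bool.rec (eL9985 i) (eL9986 i) (Nat.ble 10225664 i)
noncomputable def eT9976 (i : Nat) : Nat := Bool.rec (eL9984 i) (eT9975 i) (Nat.ble 10224640 i)
noncomputable def eT9977 (i : Nat) : Nat := Bool.rec (eT9974 i) (eT9976 i) (Nat.ble 10223616 i)
noncomputable def eT9978 (i : Nat) : Nat := Bool.rec (eT9972 i) (eT9977 i) (Nat.ble 10220544 i)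
noncomputable def eT9979 (i : Nat) : Nat := Bool.rec (eT9968 i) (eT9978 i) (Nat.ble 10215424 i)
noncomputable def eT9980 (i : Nat) : Nat := Bool.rec (eT9959 i) (eT9979 i) (Nat.ble 10205184 i)
noncomputable def eT9981 (i : Nat) : Nat := Bool.rec (eL9987 i) (eL9988 i) (Nat.ble 10227712 i)
noncomputable def eT9982 (i : Nat) : Nat := Bool.rec (eL9990 i) (eL9991 i) (Nat.ble 10230784 i)
noncomputable def eT9983 (i : Nat) : Nat := Bool.rec (eL9989 i) (eT9982 i) (Nat.ble 10229760 i)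
noncomputable def eT9984 (i : Nat) : Nat := Bool.rec (eT9981 i) (eT9983 i) (Nat.ble 10228736 i)
noncomputable def eT9985 (i : Nat) : Nat := Bool.rec (eL9992 i) (eL9993 i) (Nat.ble 10232832 i)
noncomputable def eT9986 (i : Nat) : Nat := Bool.rec (eL9995 i) (eL9996 i) (Nat.ble 10235904 i)
noncomputable def eT9987 (i : Nat) : Nat := Bool.rec (eL9994 i) (eT9986 i) (Nat.ble 10234880 i)
noncomputable def eT9988 (i : Nat) : Nat := Bool.rec (eT9985 i) (eT9987 i) (Nat.ble 10233856 i)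
noncomputable def eT9989 (i : Nat) : Nat := Bool.rec (eT9984 i) (eT9988 i) (Nat.ble 10231808 i)
noncomputable def eT9990 (i : Nat) : Nat := Bool.rec (eL9997 i) (eL9998 i) (Nat.ble 10237952 i)
noncomputable def eT9991 (i : Nat) : Nat := Bool.rec (eL10000 i) (eL10001 i) (Nat.ble 10241024 i)
noncomputable def eT9992 (i : Nat) : Nat := Bool.rec (eL9999 i) (eT9991 i) (Nat.ble 10240000 i)
noncomputable def eT9993 (i : Nat) : Nat := Bool.rec (eT9990 i) (eT9992 i) (Nat.ble 10238976 i)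
noncomputable def eT9994 (i : Nat) : Nat := Bool.rec (eL10002 i) (eL10003 i) (Nat.ble 10243072 i)
noncomputable def eT9995 (i : Nat) : Nat := Bool.rec (eL10005 i) (eL10006 i) (Nat.ble 10246144 i)
noncomputable def eT9996 (i : Nat) : Nat := Bool.rec (eL10004 i) (eT9995 i) (Nat.ble 10245120 i)
noncomputable def eT9997 (i : Nat) : Nat := Bool.rec (eT9994 i) (eT9996 i) (Nat.ble 10244096 i)
noncomputable def eT9998 (i : Nat) : Nat := Bool.rec (eT9993 i) (eT9997 i) (Nat.ble 10242048 i)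
noncomputable def eT9999 (i : Nat) : Nat := Bool.rec (eT9989 i) (eT9998 i) (Nat.ble 10236928 i)
noncomputable def eT10000 (i : Nat) : Nat := Bool.rec (eL10007 i) (eL10008 i) (Nat.ble 10248192 i)
noncomputable def eT10001 (i : Nat) : Nat := Bool.rec (eL10010 i) (eL10011 i) (Nat.ble 10251264 i)
noncomputable def eT10002 (i : Nat) : Nat := Bool.rec (eL10009 i) (eT10001 i) (Nat.ble 10250240 i)
noncomputable def eT10003 (i : Nat) : Nat := Bool.rec (eT10000 i) (eT10002 i) (Nat.ble 10249216 i)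
noncomputable def eT10004 (i : Nat) : Nat := Bool.rec (eL10012 i) (eL10013 i) (Nat.ble 10253312 i)
noncomputable def eT10005 (i : Nat) : Nat := Bool.rec (eL10015 i) (eL10016 i) (Nat.ble 10256384 i)
noncomputable def eT10006 (i : Nat) : Nat := Bool.rec (eL10014 i) (eT10005 i) (Nat.ble 10255360 i)
noncomputable def eT10007 (i : Nat) : Nat := Bool.rec (eT10004 i) (eT10006 i) (Nat.ble 10254336 i)
noncomputable def eT10008 (i : Nat) : Nat := Bool.rec (eT10003 i) (eT10007 i) (Nat.ble 10252288 i)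
noncomputable def eT10009 (i : Nat) : Nat := Bool.rec (eL10017 i) (eL10018 i) (Nat.ble 10258432 i)
noncomputable def eT10010 (i : Nat) : Nat := Bool.rec (eL10020 i) (eL10021 i) (Nat.ble 10261504 i)
noncomputable def eT10011 (i : Nat) : Nat := Bool.rec (eL10019 i) (eT10010 i) (Nat.ble 10260480 i)
noncomputable def eT10012 (i : Nat) : Nat := Bool.rec (eT10009 i) (eT10011 i) (Nat.ble 10259456 i)
noncomputable def eT10013 (i : Nat) : Nat := Bool.rec (eL10023 i) (eL10024 i) (Nat.ble 10264576 i)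
noncomputable def eT10014 (i : Nat) : Nat := Bool.rec (eL10022 i) (eT10013 i) (Nat.ble 10263552 i)
noncomputable def eT10015 (i : Nat) : Nat := Bool.rec (eL10026 i) (eL10027 i) (Nat.ble 10267648 i)
noncomputable def eT10016 (i : Nat) : Nat := Bool.rec (eL10025 i) (eT10015 i) (Nat.ble 10266624 i)
noncomputable def eT10017 (i : Nat) : Nat := Bool.rec (eT10014 i) (eT10016 i) (Nat.ble 10265600 i)
noncomputable def eT10018 (i : Nat) : Nat := Bool.rec (eT10012 i) (eT10017 i) (Nat.ble 10262528 i)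
noncomputable def eT10019 (i : Nat) : Nat := Bool.rec (eT10008 i) (eT10018 i) (Nat.ble 10257408 i)
noncomputable def eT10020 (i : Nat) : Nat := Bool.rec (eT9999 i) (eT10019 i) (Nat.ble 10247168 i)
noncomputable def eT10021 (i : Nat) : Nat := Bool.rec (eT9980 i) (eT10020 i) (Nat.ble 10226688 i)
noncomputable def eT10022 (i : Nat) : Nat := Bool.rec (eT9940 i) (eT10021 i) (Nat.ble 10184704 i)
noncomputable def eT10023 (i : Nat) : Nat := Bool.rec (eL10028 i) (eL10029 i) (Nat.ble 10269696 i)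
noncomputable def eT10024 (i : Nat) : Nat := Bool.rec (eL10031 i) (eL10032 i) (Nat.ble 10272768 i)
noncomputable def eT10025 (i : Nat) : Nat := Bool.rec (eL10030 i) (eT10024 i) (Nat.ble 10271744 i)
noncomputable def eT10026 (i : Nat) : Nat := Bool.rec (eT10023 i) (eT10025 i) (Nat.ble 10270720 i)
noncomputable def eT10027 (i : Nat) : Nat := Bool.rec (eL10033 i) (eL10034 i) (Nat.ble 10274816 i)
noncomputable def eT10028 (i : Nat) : Nat := Bool.rec (eL10036 i) (eL10037 i) (Nat.ble 10277888 i)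
noncomputable def eT10029 (i : Nat) : Nat := Bool.rec (eL10035 i) (eT10028 i) (Nat.ble 10276864 i)
noncomputable def eT10030 (i : Nat) : Nat := Bool.rec (eT10027 i) (eT10029 i) (Nat.ble 10275840 i)
noncomputable def eT10031 (i : Nat) : Nat := Bool.rec (eT10026 i) (eT10030 i) (Nat.ble 10273792 i)
noncomputable def eT10032 (i : Nat) : Nat := Bool.rec (eL10038 i) (eL10039 i) (Nat.ble 10279936 i)
noncomputable def eT10033 (i : Nat) : Nat := Bool.rec (eL10041 i) (eL10042 i) (Nat.ble 10283008 i)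
noncomputable def eT10034 (i : Nat) : Nat := Bool.rec (eL10040 i) (eT10033 i) (Nat.ble 10281984 i)
noncomputable def eT10035 (i : Nat) : Nat := Bool.rec (eT10032 i) (eT10034 i) (Nat.ble 10280960 i)
noncomputable def eT10036 (i : Nat) : Nat := Bool.rec (eL10043 i) (eL10044 i) (Nat.ble 10285056 i)
noncomputable def eT10037 (i : Nat) : Nat := Bool.rec (eL10046 i) (eL10047 i) (Nat.ble 10288128 i)
noncomputable def eT10038 (i : Nat) : Nat := Bool.rec (eL10045 i) (eT10037 i) (Nat.ble 10287104 i)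
noncomputable def eT10039 (i : Nat) : Nat := Bool.rec (eT10036 i) (eT10038 i) (Nat.ble 10286080 i)
noncomputable def eT10040 (i : Nat) : Nat := Bool.rec (eT10035 i) (eT10039 i) (Nat.ble 10284032 i)
noncomputable def eT10041 (i : Nat) : Nat := Bool.rec (eT10031 i) (eT10040 i) (Nat.ble 10278912 i)
noncomputable def eT10042 (i : Nat) : Nat := Bool.rec (eL10048 i) (eL10049 i) (Nat.ble 10290176 i)
noncomputable def eT10043 (i : Nat) : Nat := Bool.rec (eL10051 i) (eL10052 i) (Nat.ble 10293248 i)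
noncomputable def eT10044 (i : Nat) : Nat := Bool.rec (eL10050 i) (eT10043 i) (Nat.ble 10292224 i)
noncomputable def eT10045 (i : Nat) : Nat := Bool.rec (eT10042 i) (eT10044 i) (Nat.ble 10291200 i)
noncomputable def eT10046 (i : Nat) : Nat := Bool.rec (eL10053 i) (eL10054 i) (Nat.ble 10295296 i)
noncomputable def eT10047 (i : Nat) : Nat := Bool.rec (eL10056 i) (eL10057 i) (Nat.ble 10298368 i)
noncomputable def eT10048 (i : Nat) : Nat := Bool.rec (eL10055 i) (eT10047 i) (Nat.ble 10297344 i)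
noncomputable def eT10049 (i : Nat) : Nat := Bool.rec (eT10046 i) (eT10048 i) (Nat.ble 10296320 i)
noncomputable def eT10050 (i : Nat) : Nat := Bool.rec (eT10045 i) (eT10049 i) (Nat.ble 10294272 i)
noncomputable def eT10051 (i : Nat) : Nat := Bool.rec (eL10058 i) (eL10059 i) (Nat.ble 10300416 i)
noncomputable def eT10052 (i : Nat) : Nat := Bool.rec (eL10061 i) (eL10062 i) (Nat.ble 10303488 i)
noncomputable def eT10053 (i : Nat) : Nat := Bool.rec (eL10060 i) (eT10052 i) (Nat.ble 10302464 i)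
noncomputable def eT10054 (i : Nat) : Nat := Bool.rec (eT10051 i) (eT10053 i) (Nat.ble 10301440 i)
noncomputable def eT10055 (i : Nat) : Nat := Bool.rec (eL10064 i) (eL10065 i) (Nat.ble 10306560 i)
noncomputable def eT10056 (i : Nat) : Nat := Bool.rec (eL10063 i) (eT10055 i) (Nat.ble 10305536 i)
noncomputable def eT10057 (i : Nat) : Nat := Bool.rec (eL10067 i) (eL10068 i) (Nat.ble 10309632 i)
noncomputable def eT10058 (i : Nat) : Nat := Bool.rec (eL10066 i) (eT10057 i) (Nat.ble 10308608 i)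
noncomputable def eT10059 (i : Nat) : Nat := Bool.rec (eT10056 i) (eT10058 i) (Nat.ble 10307584 i)
noncomputable def eT10060 (i : Nat) : Nat := Bool.rec (eT10054 i) (eT10059 i) (Nat.ble 10304512 i)
noncomputable def eT10061 (i : Nat) : Nat := Bool.rec (eT10050 i) (eT10060 i) (Nat.ble 10299392 i)
noncomputable def eT10062 (i : Nat) : Nat := Bool.rec (eT10041 i) (eT10061 i) (Nat.ble 10289152 i)
noncomputable def eT10063 (i : Nat) : Nat := Bool.rec (eL10069 i) (eL10070 i) (Nat.ble 10311680 i)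
noncomputable def eT10064 (i : Nat) : Nat := Bool.rec (eL10072 i) (eL10073 i) (Nat.ble 10314752 i)
noncomputable def eT10065 (i : Nat) : Nat := Bool.rec (eL10071 i) (eT10064 i) (Nat.ble 10313728 i)
noncomputable def eT10066 (i : Nat) : Nat := Bool.rec (eT10063 i) (eT10065 i) (Nat.ble 10312704 i)
noncomputable def eT10067 (i : Nat) : Nat := Bool.rec (eL10074 i) (eL10075 i) (Nat.ble 10316800 i)
noncomputable def eT10068 (i : Nat) : Nat := Bool.rec (eL10077 i) (eL10078 i) (Nat.ble 10319872 i)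
noncomputable def eT10069 (i : Nat) : Nat := Bool.rec (eL10076 i) (eT10068 i) (Nat.ble 10318848 i)
noncomputable def eT10070 (i : Nat) : Nat := Bool.rec (eT10067 i) (eT10069 i) (Nat.ble 10317824 i)
noncomputable def eT10071 (i : Nat) : Nat := Bool.rec (eT10066 i) (eT10070 i) (Nat.ble 10315776 i)
noncomputable def eT10072 (i : Nat) : Nat := Bool.rec (eL10079 i) (eL10080 i) (Nat.ble 10321920 i)
noncomputable def eT10073 (i : Nat) : Nat := Bool.rec (eL10082 i) (eL10083 i) (Nat.ble 10324992 i)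
noncomputable def eT10074 (i : Nat) : Nat := Bool.rec (eL10081 i) (eT10073 i) (Nat.ble 10323968 i)
noncomputable def eT10075 (i : Nat) : Nat := Bool.rec (eT10072 i) (eT10074 i) (Nat.ble 10322944 i)
noncomputable def eT10076 (i : Nat) : Nat := Bool.rec (eL10084 i) (eL10085 i) (Nat.ble 10327040 i)
noncomputable def eT10077 (i : Nat) : Nat := Bool.rec (eL10087 i) (eL10088 i) (Nat.ble 10330112 i)
noncomputable def eT10078 (i : Nat) : Nat := Bool.rec (eL10086 i) (eT10077 i) (Nat.ble 10329088 i)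
noncomputable def eT10079 (i : Nat) : Nat := Bool.rec (eT10076 i) (eT10078 i) (Nat.ble 10328064 i)
noncomputable def eT10080 (i : Nat) : Nat := Bool.rec (eT10075 i) (eT10079 i) (Nat.ble 10326016 i)
noncomputable def eT10081 (i : Nat) : Nat := Bool.rec (eT10071 i) (eT10080 i) (Nat.ble 10320896 i)
noncomputable def eT10082 (i : Nat) : Nat := Bool.rec (eL10089 i) (eL10090 i) (Nat.ble 10332160 i)
noncomputable def eT10083 (i : Nat) : Nat := Bool.rec (eL10092 i) (eL10093 i) (Nat.ble 10335232 i)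
noncomputable def eT10084 (i : Nat) : Nat := Bool.rec (eL10091 i) (eT10083 i) (Nat.ble 10334208 i)
noncomputable def eT10085 (i : Nat) : Nat := Bool.rec (eT10082 i) (eT10084 i) (Nat.ble 10333184 i)
noncomputable def eT10086 (i : Nat) : Nat := Bool.rec (eL10094 i) (eL10095 i) (Nat.ble 10337280 i)
noncomputable def eT10087 (i : Nat) : Nat := Bool.rec (eL10097 i) (eL10098 i) (Nat.ble 10340352 i)
noncomputable def eT10088 (i : Nat) : Nat := Bool.rec (eL10096 i) (eT10087 i) (Nat.ble 10339328 i)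
noncomputable def eT10089 (i : Nat) : Nat := Bool.rec (eT10086 i) (eT10088 i) (Nat.ble 10338304 i)
noncomputable def eT10090 (i : Nat) : Nat := Bool.rec (eT10085 i) (eT10089 i) (Nat.ble 10336256 i)
noncomputable def eT10091 (i : Nat) : Nat := Bool.rec (eL10099 i) (eL10100 i) (Nat.ble 10342400 i)
noncomputable def eT10092 (i : Nat) : Nat := Bool.rec (eL10102 i) (eL10103 i) (Nat.ble 10345472 i)
noncomputable def eT10093 (i : Nat) : Nat := Bool.rec (eL10101 i) (eT10092 i) (Nat.ble 10344448 i)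
noncomputable def eT10094 (i : Nat) : Nat := Bool.rec (eT10091 i) (eT10093 i) (Nat.ble 10343424 i)
noncomputable def eT10095 (i : Nat) : Nat := Bool.rec (eL10105 i) (eL10106 i) (Nat.ble 10348544 i)
noncomputable def eT10096 (i : Nat) : Nat := Bool.rec (eL10104 i) (eT10095 i) (Nat.ble 10347520 i)
noncomputable def eT10097 (i : Nat) : Nat := Bool.rec (eL10108 i) (eL10109 i) (Nat.ble 10351616 i)
noncomputable def eT10098 (i : Nat) : Nat := Bool.rec (eL10107 i) (eT10097 i) (Nat.ble 10350592 i)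
noncomputable def eT10099 (i : Nat) : Nat := Bool.rec (eT10096 i) (eT10098 i) (Nat.ble 10349568 i)
noncomputable def eT10100 (i : Nat) : Nat := Bool.rec (eT10094 i) (eT10099 i) (Nat.ble 10346496 i)
noncomputable def eT10101 (i : Nat) : Nat := Bool.rec (eT10090 i) (eT10100 i) (Nat.ble 10341376 i)
noncomputable def eT10102 (i : Nat) : Nat := Bool.rec (eT10081 i) (eT10101 i) (Nat.ble 10331136 i)
noncomputable def eT10103 (i : Nat) : Nat := Bool.rec (eT10062 i) (eT10102 i) (Nat.ble 10310656 i)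
noncomputable def eT10104 (i : Nat) : Nat := Bool.rec (eL10110 i) (eL10111 i) (Nat.ble 10353664 i)
noncomputable def eT10105 (i : Nat) : Nat := Bool.rec (eL10113 i) (eL10114 i) (Nat.ble 10356736 i)
noncomputable def eT10106 (i : Nat) : Nat := Bool.rec (eL10112 i) (eT10105 i) (Nat.ble 10355712 i)
noncomputable def eT10107 (i : Nat) : Nat := Bool.rec (eT10104 i) (eT10106 i) (Nat.ble 10354688 i)
noncomputable def eT10108 (i : Nat) : Nat := Bool.rec (eL10115 i) (eL10116 i) (Nat.ble 10358784 i)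
noncomputable def eT10109 (i : Nat) : Nat := Bool.rec (eL10118 i) (eL10119 i) (Nat.ble 10361856 i)
noncomputable def eT10110 (i : Nat) : Nat := Bool.rec (eL10117 i) (eT10109 i) (Nat.ble 10360832 i)
noncomputable def eT10111 (i : Nat) : Nat := Bool.rec (eT10108 i) (eT10110 i) (Nat.ble 10359808 i)
noncomputable def eT10112 (i : Nat) : Nat := Bool.rec (eT10107 i) (eT10111 i) (Nat.ble 10357760 i)
noncomputable def eT10113 (i : Nat) : Nat := Bool.rec (eL10120 i) (eL10121 i) (Nat.ble 10363904 i)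
noncomputable def eT10114 (i : Nat) : Nat := Bool.rec (eL10123 i) (eL10124 i) (Nat.ble 10366976 i)
noncomputable def eT10115 (i : Nat) : Nat := Bool.rec (eL10122 i) (eT10114 i) (Nat.ble 10365952 i)
noncomputable def eT10116 (i : Nat) : Nat := Bool.rec (eT10113 i) (eT10115 i) (Nat.ble 10364928 i)
noncomputable def eT10117 (i : Nat) : Nat := Bool.rec (eL10125 i) (eL10126 i) (Nat.ble 10369024 i)
noncomputable def eT10118 (i : Nat) : Nat := Bool.rec (eL10128 i) (eL10129 i) (Nat.ble 10372096 i)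
noncomputable def eT10119 (i : Nat) : Nat := Bool.rec (eL10127 i) (eT10118 i) (Nat.ble 10371072 i)
noncomputable def eT10120 (i : Nat) : Nat := Bool.rec (eT10117 i) (eT10119 i) (Nat.ble 10370048 i)
noncomputable def eT10121 (i : Nat) : Nat := Bool.rec (eT10116 i) (eT10120 i) (Nat.ble 10368000 i)
noncomputable def eT10122 (i : Nat) : Nat := Bool.rec (eT10112 i) (eT10121 i) (Nat.ble 10362880 i)
noncomputable def eT10123 (i : Nat) : Nat := Bool.rec (eL10130 i) (eL10131 i) (Nat.ble 10374144 i)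
noncomputable def eT10124 (i : Nat) : Nat := Bool.rec (eL10133 i) (eL10134 i) (Nat.ble 10377216 i)
noncomputable def eT10125 (i : Nat) : Nat := Bool.rec (eL10132 i) (eT10124 i) (Nat.ble 10376192 i)
noncomputable def eT10126 (i : Nat) : Nat := Bool.rec (eT10123 i) (eT10125 i) (Nat.ble 10375168 i)
noncomputable def eT10127 (i : Nat) : Nat := Bool.rec (eL10135 i) (eL10136 i) (Nat.ble 10379264 i)
noncomputable def eT10128 (i : Nat) : Nat := Bool.rec (eL10138 i) (eL10139 i) (Nat.ble 10382336 i)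
noncomputable def eT10129 (i : Nat) : Nat := Bool.rec (eL10137 i) (eT10128 i) (Nat.ble 10381312 i)
noncomputable def eT10130 (i : Nat) : Nat := Bool.rec (eT10127 i) (eT10129 i) (Nat.ble 10380288 i)
noncomputable def eT10131 (i : Nat) : Nat := Bool.rec (eT10126 i) (eT10130 i) (Nat.ble 10378240 i)
noncomputable def eT10132 (i : Nat) : Nat := Bool.rec (eL10140 i) (eL10141 i) (Nat.ble 10384384 i)
noncomputable def eT10133 (i : Nat) : Nat := Bool.rec (eL10143 i) (eL10144 i) (Nat.ble 10387456 i)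
noncomputable def eT10134 (i : Nat) : Nat := Bool.rec (eL10142 i) (eT10133 i) (Nat.ble 10386432 i)
noncomputable def eT10135 (i : Nat) : Nat := Bool.rec (eT10132 i) (eT10134 i) (Nat.ble 10385408 i)
noncomputable def eT10136 (i : Nat) : Nat := Bool.rec (eL10146 i) (eL10147 i) (Nat.ble 10390528 i)
noncomputable def eT10137 (i : Nat) : Nat := Bool.rec (eL10145 i) (eT10136 i) (Nat.ble 10389504 i)
noncomputable def eT10138 (i : Nat) : Nat := Bool.rec (eL10149 i) (eL10150 i) (Nat.ble 10393600 i)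
noncomputable def eT10139 (i : Nat) : Nat := Bool.rec (eL10148 i) (eT10138 i) (Nat.ble 10392576 i)
noncomputable def eT10140 (i : Nat) : Nat := Bool.rec (eT10137 i) (eT10139 i) (Nat.ble 10391552 i)
noncomputable def eT10141 (i : Nat) : Nat := Bool.rec (eT10135 i) (eT10140 i) (Nat.ble 10388480 i)
noncomputable def eT10142 (i : Nat) : Nat := Bool.rec (eT10131 i) (eT10141 i) (Nat.ble 10383360 i)
noncomputable def eT10143 (i : Nat) : Nat := Bool.rec (eT10122 i) (eT10142 i) (Nat.ble 10373120 i)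
noncomputable def eT10144 (i : Nat) : Nat := Bool.rec (eL10151 i) (eL10152 i) (Nat.ble 10395648 i)
noncomputable def eT10145 (i : Nat) : Nat := Bool.rec (eL10154 i) (eL10155 i) (Nat.ble 10398720 i)
noncomputable def eT10146 (i : Nat) : Nat := Bool.rec (eL10153 i) (eT10145 i) (Nat.ble 10397696 i)
noncomputable def eT10147 (i : Nat) : Nat := Bool.rec (eT10144 i) (eT10146 i) (Nat.ble 10396672 i)
noncomputable def eT10148 (i : Nat) : Nat := Bool.rec (eL10156 i) (eL10157 i) (Nat.ble 10400768 i)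
noncomputable def eT10149 (i : Nat) : Nat := Bool.rec (eL10159 i) (eL10160 i) (Nat.ble 10403840 i)
noncomputable def eT10150 (i : Nat) : Nat := Bool.rec (eL10158 i) (eT10149 i) (Nat.ble 10402816 i)
noncomputable def eT10151 (i : Nat) : Nat := Bool.rec (eT10148 i) (eT10150 i) (Nat.ble 10401792 i)
noncomputable def eT10152 (i : Nat) : Nat := Bool.rec (eT10147 i) (eT10151 i) (Nat.ble 10399744 i)
noncomputable def eT10153 (i : Nat) : Nat := Bool.rec (eL10161 i) (eL10162 i) (Nat.ble 10405888 i)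
noncomputable def eT10154 (i : Nat) : Nat := Bool.rec (eL10164 i) (eL10165 i) (Nat.ble 10408960 i)
noncomputable def eT10155 (i : Nat) : Nat := Bool.rec (eL10163 i) (eT10154 i) (Nat.ble 10407936 i)
noncomputable def eT10156 (i : Nat) : Nat := Bool.rec (eT10153 i) (eT10155 i) (Nat.ble 10406912 i)
noncomputable def eT10157 (i : Nat) : Nat := Bool.rec (eL10167 i) (eL10168 i) (Nat.ble 10412032 i)
noncomputable def eT10158 (i : Nat) : Nat := Bool.rec (eL10166 i) (eT10157 i) (Nat.ble 10411008 i)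
noncomputable def eT10159 (i : Nat) : Nat := Bool.rec (eL10170 i) (eL10171 i) (Nat.ble 10415104 i)
noncomputable def eT10160 (i : Nat) : Nat := Bool.rec (eL10169 i) (eT10159 i) (Nat.ble 10414080 i)
noncomputable def eT10161 (i : Nat) : Nat := Bool.rec (eT10158 i) (eT10160 i) (Nat.ble 10413056 i)
noncomputable def eT10162 (i : Nat) : Nat := Bool.rec (eT10156 i) (eT10161 i) (Nat.ble 10409984 i)
noncomputable def eT10163 (i : Nat) : Nat := Bool.rec (eT10152 i) (eT10162 i) (Nat.ble 10404864 i)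
noncomputable def eT10164 (i : Nat) : Nat := Bool.rec (eL10172 i) (eL10173 i) (Nat.ble 10417152 i)
noncomputable def eT10165 (i : Nat) : Nat := Bool.rec (eL10175 i) (eL10176 i) (Nat.ble 10420224 i)
noncomputable def eT10166 (i : Nat) : Nat := Bool.rec (eL10174 i) (eT10165 i) (Nat.ble 10419200 i)
noncomputable def eT10167 (i : Nat) : Nat := Bool.rec (eT10164 i) (eT10166 i) (Nat.ble 10418176 i)
noncomputable def eT10168 (i : Nat) : Nat := Bool.rec (eL10177 i) (eL10178 i) (Nat.ble 10422272 i)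
noncomputable def eT10169 (i : Nat) : Nat := Bool.rec (eL10180 i) (eL10181 i) (Nat.ble 10425344 i)
noncomputable def eT10170 (i : Nat) : Nat := Bool.rec (eL10179 i) (eT10169 i) (Nat.ble 10424320 i)
noncomputable def eT10171 (i : Nat) : Nat := Bool.rec (eT10168 i) (eT10170 i) (Nat.ble 10423296 i)
noncomputable def eT10172 (i : Nat) : Nat := Bool.rec (eT10167 i) (eT10171 i) (Nat.ble 10421248 i)
noncomputable def eT10173 (i : Nat) : Nat := Bool.rec (eL10182 i) (eL10183 i) (Nat.ble 10427392 i)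
noncomputable def eT10174 (i : Nat) : Nat := Bool.rec (eL10185 i) (eL10186 i) (Nat.ble 10430464 i)
noncomputable def eT10175 (i : Nat) : Nat := Bool.rec (eL10184 i) (eT10174 i) (Nat.ble 10429440 i)
noncomputable def eT10176 (i : Nat) : Nat := Bool.rec (eT10173 i) (eT10175 i) (Nat.ble 10428416 i)
noncomputable def eT10177 (i : Nat) : Nat := Bool.rec (eL10188 i) (eL10189 i) (Nat.ble 10433536 i)
noncomputable def eT10178 (i : Nat) : Nat := Bool.rec (eL10187 i) (eT10177 i) (Nat.ble 10432512 i)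
noncomputable def eT10179 (i : Nat) : Nat := Bool.rec (eL10191 i) (eL10192 i) (Nat.ble 10436608 i)
noncomputable def eT10180 (i : Nat) : Nat := Bool.rec (eL10190 i) (eT10179 i) (Nat.ble 10435584 i)
noncomputable def eT10181 (i : Nat) : Nat := Bool.rec (eT10178 i) (eT10180 i) (Nat.ble 10434560 i)
noncomputable def eT10182 (i : Nat) : Nat := Bool.rec (eT10176 i) (eT10181 i) (Nat.ble 10431488 i)
noncomputable def eT10183 (i : Nat) : Nat := Bool.rec (eT10172 i) (eT10182 i) (Nat.ble 10426368 i)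
noncomputable def eT10184 (i : Nat) : Nat := Bool.rec (eT10163 i) (eT10183 i) (Nat.ble 10416128 i)
noncomputable def eT10185 (i : Nat) : Nat := Bool.rec (eT10143 i) (eT10184 i) (Nat.ble 10394624 i)
noncomputable def eT10186 (i : Nat) : Nat := Bool.rec (eT10103 i) (eT10185 i) (Nat.ble 10352640 i)
noncomputable def eT10187 (i : Nat) : Nat := Bool.rec (eT10022 i) (eT10186 i) (Nat.ble 10268672 i)
noncomputable def eT10188 (i : Nat) : Nat := Bool.rec (eL10193 i) (eL10194 i) (Nat.ble 10438656 i)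
noncomputable def eT10189 (i : Nat) : Nat := Bool.rec (eL10196 i) (eL10197 i) (Nat.ble 10441728 i)
noncomputable def eT10190 (i : Nat) : Nat := Bool.rec (eL10195 i) (eT10189 i) (Nat.ble 10440704 i)
noncomputable def eT10191 (i : Nat) : Nat := Bool.rec (eT10188 i) (eT10190 i) (Nat.ble 10439680 i)
noncomputable def eT10192 (i : Nat) : Nat := Bool.rec (eL10198 i) (eL10199 i) (Nat.ble 10443776 i)
noncomputable def eT10193 (i : Nat) : Nat := Bool.rec (eL10201 i) (eL10202 i) (Nat.ble 10446848 i)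
noncomputable def eT10194 (i : Nat) : Nat := Bool.rec (eL10200 i) (eT10193 i) (Nat.ble 10445824 i)
noncomputable def eT10195 (i : Nat) : Nat := Bool.rec (eT10192 i) (eT10194 i) (Nat.ble 10444800 i)
noncomputable def eT10196 (i : Nat) : Nat := Bool.rec (eT10191 i) (eT10195 i) (Nat.ble 10442752 i)
noncomputable def eT10197 (i : Nat) : Nat := Bool.rec (eL10203 i) (eL10204 i) (Nat.ble 10448896 i)
noncomputable def eT10198 (i : Nat) : Nat := Bool.rec (eL10206 i) (eL10207 i) (Nat.ble 10451968 i)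
noncomputable def eT10199 (i : Nat) : Nat := Bool.rec (eL10205 i) (eT10198 i) (Nat.ble 10450944 i)
noncomputable def eT10200 (i : Nat) : Nat := Bool.rec (eT10197 i) (eT10199 i) (Nat.ble 10449920 i)
noncomputable def eT10201 (i : Nat) : Nat := Bool.rec (eL10208 i) (eL10209 i) (Nat.ble 10454016 i)
noncomputable def eT10202 (i : Nat) : Nat := Bool.rec (eL10211 i) (eL10212 i) (Nat.ble 10457088 i)
noncomputable def eT10203 (i : Nat) : Nat := Bool.rec (eL10210 i) (eT10202 i) (Nat.ble 10456064 i)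
noncomputable def eT10204 (i : Nat) : Nat := Bool.rec (eT10201 i) (eT10203 i) (Nat.ble 10455040 i)
noncomputable def eT10205 (i : Nat) : Nat := Bool.rec (eT10200 i) (eT10204 i) (Nat.ble 10452992 i)
noncomputable def eT10206 (i : Nat) : Nat := Bool.rec (eT10196 i) (eT10205 i) (Nat.ble 10447872 i)
noncomputable def eT10207 (i : Nat) : Nat := Bool.rec (eL10213 i) (eL10214 i) (Nat.ble 10459136 i)
noncomputable def eT10208 (i : Nat) : Nat := Bool.rec (eL10216 i) (eL10217 i) (Nat.ble 10462208 i)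
noncomputable def eT10209 (i : Nat) : Nat := Bool.rec (eL10215 i) (eT10208 i) (Nat.ble 10461184 i)
noncomputable def eT10210 (i : Nat) : Nat := Bool.rec (eT10207 i) (eT10209 i) (Nat.ble 10460160 i)
noncomputable def eT10211 (i : Nat) : Nat := Bool.rec (eL10218 i) (eL10219 i) (Nat.ble 10464256 i)
noncomputable def eT10212 (i : Nat) : Nat := Bool.rec (eL10221 i) (eL10222 i) (Nat.ble 10467328 i)
noncomputable def eT10213 (i : Nat) : Nat := Bool.rec (eL10220 i) (eT10212 i) (Nat.ble 10466304 i)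
noncomputable def eT10214 (i : Nat) : Nat := Bool.rec (eT10211 i) (eT10213 i) (Nat.ble 10465280 i)
noncomputable def eT10215 (i : Nat) : Nat := Bool.rec (eT10210 i) (eT10214 i) (Nat.ble 10463232 i)
noncomputable def eT10216 (i : Nat) : Nat := Bool.rec (eL10223 i) (eL10224 i) (Nat.ble 10469376 i)
noncomputable def eT10217 (i : Nat) : Nat := Bool.rec (eL10226 i) (eL10227 i) (Nat.ble 10472448 i)
noncomputable def eT10218 (i : Nat) : Nat := Bool.rec (eL10225 i) (eT10217 i) (Nat.ble 10471424 i)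
noncomputable def eT10219 (i : Nat) : Nat := Bool.rec (eT10216 i) (eT10218 i) (Nat.ble 10470400 i)
noncomputable def eT10220 (i : Nat) : Nat := Bool.rec (eL10229 i) (eL10230 i) (Nat.ble 10475520 i)
noncomputable def eT10221 (i : Nat) : Nat := Bool.rec (eL10228 i) (eT10220 i) (Nat.ble 10474496 i)
noncomputable def eT10222 (i : Nat) : Nat := Bool.rec (eL10232 i) (eL10233 i) (Nat.ble 10478592 i)
noncomputable def eT10223 (i : Nat) : Nat := Bool.rec (eL10231 i) (eT10222 i) (Nat.ble 10477568 i)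
noncomputable def eT10224 (i : Nat) : Nat := Bool.rec (eT10221 i) (eT10223 i) (Nat.ble 10476544 i)
noncomputable def eT10225 (i : Nat) : Nat := Bool.rec (eT10219 i) (eT10224 i) (Nat.ble 10473472 i)
noncomputable def eT10226 (i : Nat) : Nat := Bool.rec (eT10215 i) (eT10225 i) (Nat.ble 10468352 i)
noncomputable def eT10227 (i : Nat) : Nat := Bool.rec (eT10206 i) (eT10226 i) (Nat.ble 10458112 i)
noncomputable def eT10228 (i : Nat) : Nat := Bool.rec (eL10234 i) (eL10235 i) (Nat.ble 10480640 i)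
noncomputable def eT10229 (i : Nat) : Nat := Bool.rec (eL10237 i) (eL10238 i) (Nat.ble 10483712 i)
noncomputable def eT10230 (i : Nat) : Nat := Bool.rec (eL10236 i) (eT10229 i) (Nat.ble 10482688 i)
noncomputable def eT10231 (i : Nat) : Nat := Bool.rec (eT10228 i) (eT10230 i) (Nat.ble 10481664 i)
noncomputable def eT10232 (i : Nat) : Nat := Bool.rec (eL10239 i) (eL10240 i) (Nat.ble 10485760 i)
noncomputable def eT10233 (i : Nat) : Nat := Bool.rec (eL10242 i) (eL10243 i) (Nat.ble 10488832 i)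
noncomputable def eT10234 (i : Nat) : Nat := Bool.rec (eL10241 i) (eT10233 i) (Nat.ble 10487808 i)
noncomputable def eT10235 (i : Nat) : Nat := Bool.rec (eT10232 i) (eT10234 i) (Nat.ble 10486784 i)
noncomputable def eT10236 (i : Nat) : Nat := Bool.rec (eT10231 i) (eT10235 i) (Nat.ble 10484736 i)
noncomputable def eT10237 (i : Nat) : Nat := Bool.rec (eL10244 i) (eL10245 i) (Nat.ble 10490880 i)
noncomputable def eT10238 (i : Nat) : Nat := Bool.rec (eL10247 i) (eL10248 i) (Nat.ble 10493952 i)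
noncomputable def eT10239 (i : Nat) : Nat := Bool.rec (eL10246 i) (eT10238 i) (Nat.ble 10492928 i)
noncomputable def eT10240 (i : Nat) : Nat := Bool.rec (eT10237 i) (eT10239 i) (Nat.ble 10491904 i)
noncomputable def eT10241 (i : Nat) : Nat := Bool.rec (eL10249 i) (eL10250 i) (Nat.ble 10496000 i)
noncomputable def eT10242 (i : Nat) : Nat := Bool.rec (eL10252 i) (eL10253 i) (Nat.ble 10499072 i)
noncomputable def eT10243 (i : Nat) : Nat := Bool.rec (eL10251 i) (eT10242 i) (Nat.ble 10498048 i)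
noncomputable def eT10244 (i : Nat) : Nat := Bool.rec (eT10241 i) (eT10243 i) (Nat.ble 10497024 i)
noncomputable def eT10245 (i : Nat) : Nat := Bool.rec (eT10240 i) (eT10244 i) (Nat.ble 10494976 i)
noncomputable def eT10246 (i : Nat) : Nat := Bool.rec (eT10236 i) (eT10245 i) (Nat.ble 10489856 i)
noncomputable def eT10247 (i : Nat) : Nat := Bool.rec (eL10254 i) (eL10255 i) (Nat.ble 10501120 i)
noncomputable def eT10248 (i : Nat) : Nat := Bool.rec (eL10257 i) (eL10258 i) (Nat.ble 10504192 i)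
noncomputable def eT10249 (i : Nat) : Nat := Bool.rec (eL10256 i) (eT10248 i) (Nat.ble 10503168 i)
noncomputable def eT10250 (i : Nat) : Nat := Bool.rec (eT10247 i) (eT10249 i) (Nat.ble 10502144 i)
noncomputable def eT10251 (i : Nat) : Nat := Bool.rec (eL10259 i) (eL10260 i) (Nat.ble 10506240 i)
noncomputable def eT10252 (i : Nat) : Nat := Bool.rec (eL10262 i) (eL10263 i) (Nat.ble 10509312 i)
noncomputable def eT10253 (i : Nat) : Nat := Bool.rec (eL10261 i) (eT10252 i) (Nat.ble 10508288 i)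
noncomputable def eT10254 (i : Nat) : Nat := Bool.rec (eT10251 i) (eT10253 i) (Nat.ble 10507264 i)
noncomputable def eT10255 (i : Nat) : Nat := Bool.rec (eT10250 i) (eT10254 i) (Nat.ble 10505216 i)
noncomputable def eT10256 (i : Nat) : Nat := Bool.rec (eL10264 i) (eL10265 i) (Nat.ble 10511360 i)
noncomputable def eT10257 (i : Nat) : Nat := Bool.rec (eL10267 i) (eL10268 i) (Nat.ble 10514432 i)
noncomputable def eT10258 (i : Nat) : Nat := Bool.rec (eL10266 i) (eT10257 i) (Nat.ble 10513408 i)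
noncomputable def eT10259 (i : Nat) : Nat := Bool.rec (eT10256 i) (eT10258 i) (Nat.ble 10512384 i)
noncomputable def eT10260 (i : Nat) : Nat := Bool.rec (eL10270 i) (eL10271 i) (Nat.ble 10517504 i)
noncomputable def eT10261 (i : Nat) : Nat := Bool.rec (eL10269 i) (eT10260 i) (Nat.ble 10516480 i)
noncomputable def eT10262 (i : Nat) : Nat := Bool.rec (eL10273 i) (eL10274 i) (Nat.ble 10520576 i)
noncomputable def eT10263 (i : Nat) : Nat := Bool.rec (eL10272 i) (eT10262 i) (Nat.ble 10519552 i)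
noncomputable def eT10264 (i : Nat) : Nat := Bool.rec (eT10261 i) (eT10263 i) (Nat.ble 10518528 i)
noncomputable def eT10265 (i : Nat) : Nat := Bool.rec (eT10259 i) (eT10264 i) (Nat.ble 10515456 i)
noncomputable def eT10266 (i : Nat) : Nat := Bool.rec (eT10255 i) (eT10265 i) (Nat.ble 10510336 i)
noncomputable def eT10267 (i : Nat) : Nat := Bool.rec (eT10246 i) (eT10266 i) (Nat.ble 10500096 i)
noncomputable def eT10268 (i : Nat) : Nat := Bool.rec (eT10227 i) (eT10267 i) (Nat.ble 10479616 i)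
noncomputable def eT10269 (i : Nat) : Nat := Bool.rec (eL10275 i) (eL10276 i) (Nat.ble 10522624 i)
noncomputable def eT10270 (i : Nat) : Nat := Bool.rec (eL10278 i) (eL10279 i) (Nat.ble 10525696 i)
noncomputable def eT10271 (i : Nat) : Nat := Bool.rec (eL10277 i) (eT10270 i) (Nat.ble 10524672 i)
noncomputable def eT10272 (i : Nat) : Nat := Bool.rec (eT10269 i) (eT10271 i) (Nat.ble 10523648 i)
noncomputable def eT10273 (i : Nat) : Nat := Bool.rec (eL10280 i) (eL10281 i) (Nat.ble 10527744 i)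
noncomputable def eT10274 (i : Nat) : Nat := Bool.rec (eL10283 i) (eL10284 i) (Nat.ble 10530816 i)
noncomputable def eT10275 (i : Nat) : Nat := Bool.rec (eL10282 i) (eT10274 i) (Nat.ble 10529792 i)
noncomputable def eT10276 (i : Nat) : Nat := Bool.rec (eT10273 i) (eT10275 i) (Nat.ble 10528768 i)
noncomputable def eT10277 (i : Nat) : Nat := Bool.rec (eT10272 i) (eT10276 i) (Nat.ble 10526720 i)
noncomputable def eT10278 (i : Nat) : Nat := Bool.rec (eL10285 i) (eL10286 i) (Nat.ble 10532864 i)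
noncomputable def eT10279 (i : Nat) : Nat := Bool.rec (eL10288 i) (eL10289 i) (Nat.ble 10535936 i)
noncomputable def eT10280 (i : Nat) : Nat := Bool.rec (eL10287 i) (eT10279 i) (Nat.ble 10534912 i)
noncomputable def eT10281 (i : Nat) : Nat := Bool.rec (eT10278 i) (eT10280 i) (Nat.ble 10533888 i)
noncomputable def eT10282 (i : Nat) : Nat := Bool.rec (eL10290 i) (eL10291 i) (Nat.ble 10537984 i)
noncomputable def eT10283 (i : Nat) : Nat := Bool.rec (eL10293 i) (eL10294 i) (Nat.ble 10541056 i)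
noncomputable def eT10284 (i : Nat) : Nat := Bool.rec (eL10292 i) (eT10283 i) (Nat.ble 10540032 i)
noncomputable def eT10285 (i : Nat) : Nat := Bool.rec (eT10282 i) (eT10284 i) (Nat.ble 10539008 i)
noncomputable def eT10286 (i : Nat) : Nat := Bool.rec (eT10281 i) (eT10285 i) (Nat.ble 10536960 i)
noncomputable def eT10287 (i : Nat) : Nat := Bool.rec (eT10277 i) (eT10286 i) (Nat.ble 10531840 i)
noncomputable def eT10288 (i : Nat) : Nat := Bool.rec (eL10295 i) (eL10296 i) (Nat.ble 10543104 i)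
noncomputable def eT10289 (i : Nat) : Nat := Bool.rec (eL10298 i) (eL10299 i) (Nat.ble 10546176 i)
noncomputable def eT10290 (i : Nat) : Nat := Bool.rec (eL10297 i) (eT10289 i) (Nat.ble 10545152 i)
noncomputable def eT10291 (i : Nat) : Nat := Bool.rec (eT10288 i) (eT10290 i) (Nat.ble 10544128 i)
noncomputable def eT10292 (i : Nat) : Nat := Bool.rec (eL10300 i) (eL10301 i) (Nat.ble 10548224 i)
noncomputable def eT10293 (i : Nat) : Nat := Bool.rec (eL10303 i) (eL10304 i) (Nat.ble 10551296 i)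
noncomputable def eT10294 (i : Nat) : Nat := Bool.rec (eL10302 i) (eT10293 i) (Nat.ble 10550272 i)
noncomputable def eT10295 (i : Nat) : Nat := Bool.rec (eT10292 i) (eT10294 i) (Nat.ble 10549248 i)
noncomputable def eT10296 (i : Nat) : Nat := Bool.rec (eT10291 i) (eT10295 i) (Nat.ble 10547200 i)
noncomputable def eT10297 (i : Nat) : Nat := Bool.rec (eL10305 i) (eL10306 i) (Nat.ble 10553344 i)
noncomputable def eT10298 (i : Nat) : Nat := Bool.rec (eL10308 i) (eL10309 i) (Nat.ble 10556416 i)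
noncomputable def eT10299 (i : Nat) : Nat := Bool.rec (eL10307 i) (eT10298 i) (Nat.ble 10555392 i)
noncomputable def eT10300 (i : Nat) : Nat := Bool.rec (eT10297 i) (eT10299 i) (Nat.ble 10554368 i)
noncomputable def eT10301 (i : Nat) : Nat := Bool.rec (eL10311 i) (eL10312 i) (Nat.ble 10559488 i)
noncomputable def eT10302 (i : Nat) : Nat := Bool.rec (eL10310 i) (eT10301 i) (Nat.ble 10558464 i)
noncomputable def eT10303 (i : Nat) : Nat := Bool.rec (eL10314 i) (eL10315 i) (Nat.ble 10562560 i)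
noncomputable def eT10304 (i : Nat) : Nat := Bool.rec (eL10313 i) (eT10303 i) (Nat.ble 10561536 i)
noncomputable def eT10305 (i : Nat) : Nat := Bool.rec (eT10302 i) (eT10304 i) (Nat.ble 10560512 i)
noncomputable def eT10306 (i : Nat) : Nat := Bool.rec (eT10300 i) (eT10305 i) (Nat.ble 10557440 i)
noncomputable def eT10307 (i : Nat) : Nat := Bool.rec (eT10296 i) (eT10306 i) (Nat.ble 10552320 i)
noncomputable def eT10308 (i : Nat) : Nat := Bool.rec (eT10287 i) (eT10307 i) (Nat.ble 10542080 i)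
noncomputable def eT10309 (i : Nat) : Nat := Bool.rec (eL10316 i) (eL10317 i) (Nat.ble 10564608 i)
noncomputable def eT10310 (i : Nat) : Nat := Bool.rec (eL10319 i) (eL10320 i) (Nat.ble 10567680 i)
noncomputable def eT10311 (i : Nat) : Nat := Bool.rec (eL10318 i) (eT10310 i) (Nat.ble 10566656 i)
noncomputable def eT10312 (i : Nat) : Nat := Bool.rec (eT10309 i) (eT10311 i) (Nat.ble 10565632 i)
noncomputable def eT10313 (i : Nat) : Nat := Bool.rec (eL10321 i) (eL10322 i) (Nat.ble 10569728 i)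
noncomputable def eT10314 (i : Nat) : Nat := Bool.rec (eL10324 i) (eL10325 i) (Nat.ble 10572800 i)
noncomputable def eT10315 (i : Nat) : Nat := Bool.rec (eL10323 i) (eT10314 i) (Nat.ble 10571776 i)
noncomputable def eT10316 (i : Nat) : Nat := Bool.rec (eT10313 i) (eT10315 i) (Nat.ble 10570752 i)
noncomputable def eT10317 (i : Nat) : Nat := Bool.rec (eT10312 i) (eT10316 i) (Nat.ble 10568704 i)
noncomputable def eT10318 (i : Nat) : Nat := Bool.rec (eL10326 i) (eL10327 i) (Nat.ble 10574848 i)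
noncomputable def eT10319 (i : Nat) : Nat := Bool.rec (eL10329 i) (eL10330 i) (Nat.ble 10577920 i)
noncomputable def eT10320 (i : Nat) : Nat := Bool.rec (eL10328 i) (eT10319 i) (Nat.ble 10576896 i)
noncomputable def eT10321 (i : Nat) : Nat := Bool.rec (eT10318 i) (eT10320 i) (Nat.ble 10575872 i)
noncomputable def eT10322 (i : Nat) : Nat := Bool.rec (eL10331 i) (eL10332 i) (Nat.ble 10579968 i)
noncomputable def eT10323 (i : Nat) : Nat := Bool.rec (eL10334 i) (eL10335 i) (Nat.ble 10583040 i)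
noncomputable def eT10324 (i : Nat) : Nat := Bool.rec (eL10333 i) (eT10323 i) (Nat.ble 10582016 i)
noncomputable def eT10325 (i : Nat) : Nat := Bool.rec (eT10322 i) (eT10324 i) (Nat.ble 10580992 i)
noncomputable def eT10326 (i : Nat) : Nat := Bool.rec (eT10321 i) (eT10325 i) (Nat.ble 10578944 i)
noncomputable def eT10327 (i : Nat) : Nat := Bool.rec (eT10317 i) (eT10326 i) (Nat.ble 10573824 i)
noncomputable def eT10328 (i : Nat) : Nat := Bool.rec (eL10336 i) (eL10337 i) (Nat.ble 10585088 i)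
noncomputable def eT10329 (i : Nat) : Nat := Bool.rec (eL10339 i) (eL10340 i) (Nat.ble 10588160 i)
noncomputable def eT10330 (i : Nat) : Nat := Bool.rec (eL10338 i) (eT10329 i) (Nat.ble 10587136 i)
noncomputable def eT10331 (i : Nat) : Nat := Bool.rec (eT10328 i) (eT10330 i) (Nat.ble 10586112 i)
noncomputable def eT10332 (i : Nat) : Nat := Bool.rec (eL10341 i) (eL10342 i) (Nat.ble 10590208 i)
noncomputable def eT10333 (i : Nat) : Nat := Bool.rec (eL10344 i) (eL10345 i) (Nat.ble 10593280 i)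
noncomputable def eT10334 (i : Nat) : Nat := Bool.rec (eL10343 i) (eT10333 i) (Nat.ble 10592256 i)
noncomputable def eT10335 (i : Nat) : Nat := Bool.rec (eT10332 i) (eT10334 i) (Nat.ble 10591232 i)
noncomputable def eT10336 (i : Nat) : Nat := Bool.rec (eT10331 i) (eT10335 i) (Nat.ble 10589184 i)
noncomputable def eT10337 (i : Nat) : Nat := Bool.rec (eL10346 i) (eL10347 i) (Nat.ble 10595328 i)
noncomputable def eT10338 (i : Nat) : Nat := Bool.rec (eL10349 i) (eL10350 i) (Nat.ble 10598400 i)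
noncomputable def eT10339 (i : Nat) : Nat := Bool.rec (eL10348 i) (eT10338 i) (Nat.ble 10597376 i)
noncomputable def eT10340 (i : Nat) : Nat := Bool.rec (eT10337 i) (eT10339 i) (Nat.ble 10596352 i)
noncomputable def eT10341 (i : Nat) : Nat := Bool.rec (eL10352 i) (eL10353 i) (Nat.ble 10601472 i)
noncomputable def eT10342 (i : Nat) : Nat := Bool.rec (eL10351 i) (eT10341 i) (Nat.ble 10600448 i)
noncomputable def eT10343 (i : Nat) : Nat := Bool.rec (eL10355 i) (eL10356 i) (Nat.ble 10604544 i)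
noncomputable def eT10344 (i : Nat) : Nat := Bool.rec (eL10354 i) (eT10343 i) (Nat.ble 10603520 i)
noncomputable def eT10345 (i : Nat) : Nat := Bool.rec (eT10342 i) (eT10344 i) (Nat.ble 10602496 i)
noncomputable def eT10346 (i : Nat) : Nat := Bool.rec (eT10340 i) (eT10345 i) (Nat.ble 10599424 i)
noncomputable def eT10347 (i : Nat) : Nat := Bool.rec (eT10336 i) (eT10346 i) (Nat.ble 10594304 i)
noncomputable def eT10348 (i : Nat) : Nat := Bool.rec (eT10327 i) (eT10347 i) (Nat.ble 10584064 i)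
noncomputable def eT10349 (i : Nat) : Nat := Bool.rec (eT10308 i) (eT10348 i) (Nat.ble 10563584 i)
noncomputable def eT10350 (i : Nat) : Nat := Bool.rec (eT10268 i) (eT10349 i) (Nat.ble 10521600 i)
noncomputable def eT10351 (i : Nat) : Nat := Bool.rec (eL10357 i) (eL10358 i) (Nat.ble 10606592 i)
noncomputable def eT10352 (i : Nat) : Nat := Bool.rec (eL10360 i) (eL10361 i) (Nat.ble 10609664 i)
noncomputable def eT10353 (i : Nat) : Nat := Bool.rec (eL10359 i) (eT10352 i) (Nat.ble 10608640 i)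
noncomputable def eT10354 (i : Nat) : Nat := Bool.rec (eT10351 i) (eT10353 i) (Nat.ble 10607616 i)
noncomputable def eT10355 (i : Nat) : Nat := Bool.rec (eL10362 i) (eL10363 i) (Nat.ble 10611712 i)
noncomputable def eT10356 (i : Nat) : Nat := Bool.rec (eL10365 i) (eL10366 i) (Nat.ble 10614784 i)
noncomputable def eT10357 (i : Nat) : Nat := Bool.rec (eL10364 i) (eT10356 i) (Nat.ble 10613760 i)
noncomputable def eT10358 (i : Nat) : Nat := Bool.rec (eT10355 i) (eT10357 i) (Nat.ble 10612736 i)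
noncomputable def eT10359 (i : Nat) : Nat := Bool.rec (eT10354 i) (eT10358 i) (Nat.ble 10610688 i)
noncomputable def eT10360 (i : Nat) : Nat := Bool.rec (eL10367 i) (eL10368 i) (Nat.ble 10616832 i)
noncomputable def eT10361 (i : Nat) : Nat := Bool.rec (eL10370 i) (eL10371 i) (Nat.ble 10619904 i)
noncomputable def eT10362 (i : Nat) : Nat := Bool.rec (eL10369 i) (eT10361 i) (Nat.ble 10618880 i)
noncomputable def eT10363 (i : Nat) : Nat := Bool.rec (eT10360 i) (eT10362 i) (Nat.ble 10617856 i)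
noncomputable def eT10364 (i : Nat) : Nat := Bool.rec (eL10372 i) (eL10373 i) (Nat.ble 10621952 i)
noncomputable def eT10365 (i : Nat) : Nat := Bool.rec (eL10375 i) (eL10376 i) (Nat.ble 10625024 i)
noncomputable def eT10366 (i : Nat) : Nat := Bool.rec (eL10374 i) (eT10365 i) (Nat.ble 10624000 i)
noncomputable def eT10367 (i : Nat) : Nat := Bool.rec (eT10364 i) (eT10366 i) (Nat.ble 10622976 i)
noncomputable def eT10368 (i : Nat) : Nat := Bool.rec (eT10363 i) (eT10367 i) (Nat.ble 10620928 i)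
noncomputable def eT10369 (i : Nat) : Nat := Bool.rec (eT10359 i) (eT10368 i) (Nat.ble 10615808 i)
noncomputable def eT10370 (i : Nat) : Nat := Bool.rec (eL10377 i) (eL10378 i) (Nat.ble 10627072 i)
noncomputable def eT10371 (i : Nat) : Nat := Bool.rec (eL10380 i) (eL10381 i) (Nat.ble 10630144 i)
noncomputable def eT10372 (i : Nat) : Nat := Bool.rec (eL10379 i) (eT10371 i) (Nat.ble 10629120 i)
noncomputable def eT10373 (i : Nat) : Nat := Bool.rec (eT10370 i) (eT10372 i) (Nat.ble 10628096 i)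
noncomputable def eT10374 (i : Nat) : Nat := Bool.rec (eL10382 i) (eL10383 i) (Nat.ble 10632192 i)
noncomputable def eT10375 (i : Nat) : Nat := Bool.rec (eL10385 i) (eL10386 i) (Nat.ble 10635264 i)
noncomputable def eT10376 (i : Nat) : Nat := Bool.rec (eL10384 i) (eT10375 i) (Nat.ble 10634240 i)
noncomputable def eT10377 (i : Nat) : Nat := Bool.rec (eT10374 i) (eT10376 i) (Nat.ble 10633216 i)
noncomputable def eT10378 (i : Nat) : Nat := Bool.rec (eT10373 i) (eT10377 i) (Nat.ble 10631168 i)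
noncomputable def eT10379 (i : Nat) : Nat := Bool.rec (eL10387 i) (eL10388 i) (Nat.ble 10637312 i)
noncomputable def eT10380 (i : Nat) : Nat := Bool.rec (eL10390 i) (eL10391 i) (Nat.ble 10640384 i)
noncomputable def eT10381 (i : Nat) : Nat := Bool.rec (eL10389 i) (eT10380 i) (Nat.ble 10639360 i)
noncomputable def eT10382 (i : Nat) : Nat := Bool.rec (eT10379 i) (eT10381 i) (Nat.ble 10638336 i)
noncomputable def eT10383 (i : Nat) : Nat := Bool.rec (eL10393 i) (eL10394 i) (Nat.ble 10643456 i)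
noncomputable def eT10384 (i : Nat) : Nat := Bool.rec (eL10392 i) (eT10383 i) (Nat.ble 10642432 i)
noncomputable def eT10385 (i : Nat) : Nat := Bool.rec (eL10396 i) (eL10397 i) (Nat.ble 10646528 i)
noncomputable def eT10386 (i : Nat) : Nat := Bool.rec (eL10395 i) (eT10385 i) (Nat.ble 10645504 i)
noncomputable def eT10387 (i : Nat) : Nat := Bool.rec (eT10384 i) (eT10386 i) (Nat.ble 10644480 i)
noncomputable def eT10388 (i : Nat) : Nat := Bool.rec (eT10382 i) (eT10387 i) (Nat.ble 10641408 i)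
noncomputable def eT10389 (i : Nat) : Nat := Bool.rec (eT10378 i) (eT10388 i) (Nat.ble 10636288 i)
noncomputable def eT10390 (i : Nat) : Nat := Bool.rec (eT10369 i) (eT10389 i) (Nat.ble 10626048 i)
noncomputable def eT10391 (i : Nat) : Nat := Bool.rec (eL10398 i) (eL10399 i) (Nat.ble 10648576 i)
noncomputable def eT10392 (i : Nat) : Nat := Bool.rec (eL10401 i) (eL10402 i) (Nat.ble 10651648 i)
noncomputable def eT10393 (i : Nat) : Nat := Bool.rec (eL10400 i) (eT10392 i) (Nat.ble 10650624 i)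
noncomputable def eT10394 (i : Nat) : Nat := Bool.rec (eT10391 i) (eT10393 i) (Nat.ble 10649600 i)
noncomputable def eT10395 (i : Nat) : Nat := Bool.rec (eL10403 i) (eL10404 i) (Nat.ble 10653696 i)
noncomputable def eT10396 (i : Nat) : Nat := Bool.rec (eL10406 i) (eL10407 i) (Nat.ble 10656768 i)
noncomputable def eT10397 (i : Nat) : Nat := Bool.rec (eL10405 i) (eT10396 i) (Nat.ble 10655744 i)
noncomputable def eT10398 (i : Nat) : Nat := Bool.rec (eT10395 i) (eT10397 i) (Nat.ble 10654720 i)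
noncomputable def eT10399 (i : Nat) : Nat := Bool.rec (eT10394 i) (eT10398 i) (Nat.ble 10652672 i)
noncomputable def eT10400 (i : Nat) : Nat := Bool.rec (eL10408 i) (eL10409 i) (Nat.ble 10658816 i)
noncomputable def eT10401 (i : Nat) : Nat := Bool.rec (eL10411 i) (eL10412 i) (Nat.ble 10661888 i)
noncomputable def eT10402 (i : Nat) : Nat := Bool.rec (eL10410 i) (eT10401 i) (Nat.ble 10660864 i)
noncomputable def eT10403 (i : Nat) : Nat := Bool.rec (eT10400 i) (eT10402 i) (Nat.ble 10659840 i)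
noncomputable def eT10404 (i : Nat) : Nat := Bool.rec (eL10413 i) (eL10414 i) (Nat.ble 10663936 i)
noncomputable def eT10405 (i : Nat) : Nat := Bool.rec (eL10416 i) (eL10417 i) (Nat.ble 10667008 i)
noncomputable def eT10406 (i : Nat) : Nat := Bool.rec (eL10415 i) (eT10405 i) (Nat.ble 10665984 i)
noncomputable def eT10407 (i : Nat) : Nat := Bool.rec (eT10404 i) (eT10406 i) (Nat.ble 10664960 i)
noncomputable def eT10408 (i : Nat) : Nat := Bool.rec (eT10403 i) (eT10407 i) (Nat.ble 10662912 i)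
noncomputable def eT10409 (i : Nat) : Nat := Bool.rec (eT10399 i) (eT10408 i) (Nat.ble 10657792 i)
noncomputable def eT10410 (i : Nat) : Nat := Bool.rec (eL10418 i) (eL10419 i) (Nat.ble 10669056 i)
noncomputable def eT10411 (i : Nat) : Nat := Bool.rec (eL10421 i) (eL10422 i) (Nat.ble 10672128 i)
noncomputable def eT10412 (i : Nat) : Nat := Bool.rec (eL10420 i) (eT10411 i) (Nat.ble 10671104 i)
noncomputable def eT10413 (i : Nat) : Nat := Bool.rec (eT10410 i) (eT10412 i) (Nat.ble 10670080 i)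
noncomputable def eT10414 (i : Nat) : Nat := Bool.rec (eL10423 i) (eL10424 i) (Nat.ble 10674176 i)
noncomputable def eT10415 (i : Nat) : Nat := Bool.rec (eL10426 i) (eL10427 i) (Nat.ble 10677248 i)
noncomputable def eT10416 (i : Nat) : Nat := Bool.rec (eL10425 i) (eT10415 i) (Nat.ble 10676224 i)
noncomputable def eT10417 (i : Nat) : Nat := Bool.rec (eT10414 i) (eT10416 i) (Nat.ble 10675200 i)
noncomputable def eT10418 (i : Nat) : Nat := Bool.rec (eT10413 i) (eT10417 i) (Nat.ble 10673152 i)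
noncomputable def eT10419 (i : Nat) : Nat := Bool.rec (eL10428 i) (eL10429 i) (Nat.ble 10679296 i)
noncomputable def eT10420 (i : Nat) : Nat := Bool.rec (eL10431 i) (eL10432 i) (Nat.ble 10682368 i)
noncomputable def eT10421 (i : Nat) : Nat := Bool.rec (eL10430 i) (eT10420 i) (Nat.ble 10681344 i)
noncomputable def eT10422 (i : Nat) : Nat := Bool.rec (eT10419 i) (eT10421 i) (Nat.ble 10680320 i)
noncomputable def eT10423 (i : Nat) : Nat := Bool.rec (eL10434 i) (eL10435 i) (Nat.ble 10685440 i)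
noncomputable def eT10424 (i : Nat) : Nat := Bool.rec (eL10433 i) (eT10423 i) (Nat.ble 10684416 i)
noncomputable def eT10425 (i : Nat) : Nat := Bool.rec (eL10437 i) (eL10438 i) (Nat.ble 10688512 i)
noncomputable def eT10426 (i : Nat) : Nat := Bool.rec (eL10436 i) (eT10425 i) (Nat.ble 10687488 i)
noncomputable def eT10427 (i : Nat) : Nat := Bool.rec (eT10424 i) (eT10426 i) (Nat.ble 10686464 i)
noncomputable def eT10428 (i : Nat) : Nat := Bool.rec (eT10422 i) (eT10427 i) (Nat.ble 10683392 i)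
noncomputable def eT10429 (i : Nat) : Nat := Bool.rec (eT10418 i) (eT10428 i) (Nat.ble 10678272 i)
noncomputable def eT10430 (i : Nat) : Nat := Bool.rec (eT10409 i) (eT10429 i) (Nat.ble 10668032 i)
noncomputable def eT10431 (i : Nat) : Nat := Bool.rec (eT10390 i) (eT10430 i) (Nat.ble 10647552 i)
noncomputable def eT10432 (i : Nat) : Nat := Bool.rec (eL10439 i) (eL10440 i) (Nat.ble 10690560 i)
noncomputable def eT10433 (i : Nat) : Nat := Bool.rec (eL10442 i) (eL10443 i) (Nat.ble 10693632 i)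
noncomputable def eT10434 (i : Nat) : Nat := Bool.rec (eL10441 i) (eT10433 i) (Nat.ble 10692608 i)
noncomputable def eT10435 (i : Nat) : Nat := Bool.rec (eT10432 i) (eT10434 i) (Nat.ble 10691584 i)
noncomputable def eT10436 (i : Nat) : Nat := Bool.rec (eL10444 i) (eL10445 i) (Nat.ble 10695680 i)
noncomputable def eT10437 (i : Nat) : Nat := Bool.rec (eL10447 i) (eL10448 i) (Nat.ble 10698752 i)
noncomputable def eT10438 (i : Nat) : Nat := Bool.rec (eL10446 i) (eT10437 i) (Nat.ble 10697728 i)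
noncomputable def eT10439 (i : Nat) : Nat := Bool.rec (eT10436 i) (eT10438 i) (Nat.ble 10696704 i)
noncomputable def eT10440 (i : Nat) : Nat := Bool.rec (eT10435 i) (eT10439 i) (Nat.ble 10694656 i)
noncomputable def eT10441 (i : Nat) : Nat := Bool.rec (eL10449 i) (eL10450 i) (Nat.ble 10700800 i)
noncomputable def eT10442 (i : Nat) : Nat := Bool.rec (eL10452 i) (eL10453 i) (Nat.ble 10703872 i)
noncomputable def eT10443 (i : Nat) : Nat := Bool.rec (eL10451 i) (eT10442 i) (Nat.ble 10702848 i)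
noncomputable def eT10444 (i : Nat) : Nat := Bool.rec (eT10441 i) (eT10443 i) (Nat.ble 10701824 i)
noncomputable def eT10445 (i : Nat) : Nat := Bool.rec (eL10454 i) (eL10455 i) (Nat.ble 10705920 i)
noncomputable def eT10446 (i : Nat) : Nat := Bool.rec (eL10457 i) (eL10458 i) (Nat.ble 10708992 i)
noncomputable def eT10447 (i : Nat) : Nat := Bool.rec (eL10456 i) (eT10446 i) (Nat.ble 10707968 i)
noncomputable def eT10448 (i : Nat) : Nat := Bool.rec (eT10445 i) (eT10447 i) (Nat.ble 10706944 i)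
noncomputable def eT10449 (i : Nat) : Nat := Bool.rec (eT10444 i) (eT10448 i) (Nat.ble 10704896 i)
noncomputable def eT10450 (i : Nat) : Nat := Bool.rec (eT10440 i) (eT10449 i) (Nat.ble 10699776 i)
noncomputable def eT10451 (i : Nat) : Nat := Bool.rec (eL10459 i) (eL10460 i) (Nat.ble 10711040 i)
noncomputable def eT10452 (i : Nat) : Nat := Bool.rec (eL10462 i) (eL10463 i) (Nat.ble 10714112 i)
noncomputable def eT10453 (i : Nat) : Nat := Bool.rec (eL10461 i) (eT10452 i) (Nat.ble 10713088 i)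
noncomputable def eT10454 (i : Nat) : Nat := Bool.rec (eT10451 i) (eT10453 i) (Nat.ble 10712064 i)
noncomputable def eT10455 (i : Nat) : Nat := Bool.rec (eL10464 i) (eL10465 i) (Nat.ble 10716160 i)
noncomputable def eT10456 (i : Nat) : Nat := Bool.rec (eL10467 i) (eL10468 i) (Nat.ble 10719232 i)
noncomputable def eT10457 (i : Nat) : Nat := Bool.rec (eL10466 i) (eT10456 i) (Nat.ble 10718208 i)
noncomputable def eT10458 (i : Nat) : Nat := Bool.rec (eT10455 i) (eT10457 i) (Nat.ble 10717184 i)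
noncomputable def eT10459 (i : Nat) : Nat := Bool.rec (eT10454 i) (eT10458 i) (Nat.ble 10715136 i)
noncomputable def eT10460 (i : Nat) : Nat := Bool.rec (eL10469 i) (eL10470 i) (Nat.ble 10721280 i)
noncomputable def eT10461 (i : Nat) : Nat := Bool.rec (eL10472 i) (eL10473 i) (Nat.ble 10724352 i)
noncomputable def eT10462 (i : Nat) : Nat := Bool.rec (eL10471 i) (eT10461 i) (Nat.ble 10723328 i)
noncomputable def eT10463 (i : Nat) : Nat := Bool.rec (eT10460 i) (eT10462 i) (Nat.ble 10722304 i)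
noncomputable def eT10464 (i : Nat) : Nat := Bool.rec (eL10475 i) (eL10476 i) (Nat.ble 10727424 i)
noncomputable def eT10465 (i : Nat) : Nat := Bool.rec (eL10474 i) (eT10464 i) (Nat.ble 10726400 i)
noncomputable def eT10466 (i : Nat) : Nat := Bool.rec (eL10478 i) (eL10479 i) (Nat.ble 10730496 i)
noncomputable def eT10467 (i : Nat) : Nat := Bool.rec (eL10477 i) (eT10466 i) (Nat.ble 10729472 i)
noncomputable def eT10468 (i : Nat) : Nat := Bool.rec (eT10465 i) (eT10467 i) (Nat.ble 10728448 i)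
noncomputable def eT10469 (i : Nat) : Nat := Bool.rec (eT10463 i) (eT10468 i) (Nat.ble 10725376 i)
noncomputable def eT10470 (i : Nat) : Nat := Bool.rec (eT10459 i) (eT10469 i) (Nat.ble 10720256 i)
noncomputable def eT10471 (i : Nat) : Nat := Bool.rec (eT10450 i) (eT10470 i) (Nat.ble 10710016 i)
noncomputable def eT10472 (i : Nat) : Nat := Bool.rec (eL10480 i) (eL10481 i) (Nat.ble 10732544 i)
noncomputable def eT10473 (i : Nat) : Nat := Bool.rec (eL10483 i) (eL10484 i) (Nat.ble 10735616 i)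
noncomputable def eT10474 (i : Nat) : Nat := Bool.rec (eL10482 i) (eT10473 i) (Nat.ble 10734592 i)
noncomputable def eT10475 (i : Nat) : Nat := Bool.rec (eT10472 i) (eT10474 i) (Nat.ble 10733568 i)
noncomputable def eT10476 (i : Nat) : Nat := Bool.rec (eL10485 i) (eL10486 i) (Nat.ble 10737664 i)
noncomputable def eT10477 (i : Nat) : Nat := Bool.rec (eL10488 i) (eL10489 i) (Nat.ble 10740736 i)
noncomputable def eT10478 (i : Nat) : Nat := Bool.rec (eL10487 i) (eT10477 i) (Nat.ble 10739712 i)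
noncomputable def eT10479 (i : Nat) : Nat := Bool.rec (eT10476 i) (eT10478 i) (Nat.ble 10738688 i)
noncomputable def eT10480 (i : Nat) : Nat := Bool.rec (eT10475 i) (eT10479 i) (Nat.ble 10736640 i)
noncomputable def eT10481 (i : Nat) : Nat := Bool.rec (eL10490 i) (eL10491 i) (Nat.ble 10742784 i)
noncomputable def eT10482 (i : Nat) : Nat := Bool.rec (eL10493 i) (eL10494 i) (Nat.ble 10745856 i)
noncomputable def eT10483 (i : Nat) : Nat := Bool.rec (eL10492 i) (eT10482 i) (Nat.ble 10744832 i)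
noncomputable def eT10484 (i : Nat) : Nat := Bool.rec (eT10481 i) (eT10483 i) (Nat.ble 10743808 i)
noncomputable def eT10485 (i : Nat) : Nat := Bool.rec (eL10496 i) (eL10497 i) (Nat.ble 10748928 i)
noncomputable def eT10486 (i : Nat) : Nat := Bool.rec (eL10495 i) (eT10485 i) (Nat.ble 10747904 i)
noncomputable def eT10487 (i : Nat) : Nat := Bool.rec (eL10499 i) (eL10500 i) (Nat.ble 10752000 i)
noncomputable def eT10488 (i : Nat) : Nat := Bool.rec (eL10498 i) (eT10487 i) (Nat.ble 10750976 i)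
noncomputable def eT10489 (i : Nat) : Nat := Bool.rec (eT10486 i) (eT10488 i) (Nat.ble 10749952 i)
noncomputable def eT10490 (i : Nat) : Nat := Bool.rec (eT10484 i) (eT10489 i) (Nat.ble 10746880 i)
noncomputable def eT10491 (i : Nat) : Nat := Bool.rec (eT10480 i) (eT10490 i) (Nat.ble 10741760 i)
noncomputable def eT10492 (i : Nat) : Nat := Bool.rec (eL10501 i) (eL10502 i) (Nat.ble 10754048 i)
noncomputable def eT10493 (i : Nat) : Nat := Bool.rec (eL10504 i) (eL10505 i) (Nat.ble 10757120 i)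
noncomputable def eT10494 (i : Nat) : Nat := Bool.rec (eL10503 i) (eT10493 i) (Nat.ble 10756096 i)
noncomputable def eT10495 (i : Nat) : Nat := Bool.rec (eT10492 i) (eT10494 i) (Nat.ble 10755072 i)
noncomputable def eT10496 (i : Nat) : Nat := Bool.rec (eL10506 i) (eL10507 i) (Nat.ble 10759168 i)
noncomputable def eT10497 (i : Nat) : Nat := Bool.rec (eL10509 i) (eL10510 i) (Nat.ble 10762240 i)
noncomputable def eT10498 (i : Nat) : Nat := Bool.rec (eL10508 i) (eT10497 i) (Nat.ble 10761216 i)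
noncomputable def eT10499 (i : Nat) : Nat := Bool.rec (eT10496 i) (eT10498 i) (Nat.ble 10760192 i)
noncomputable def eT10500 (i : Nat) : Nat := Bool.rec (eT10495 i) (eT10499 i) (Nat.ble 10758144 i)
noncomputable def eT10501 (i : Nat) : Nat := Bool.rec (eL10511 i) (eL10512 i) (Nat.ble 10764288 i)
noncomputable def eT10502 (i : Nat) : Nat := Bool.rec (eL10514 i) (eL10515 i) (Nat.ble 10767360 i)
noncomputable def eT10503 (i : Nat) : Nat := Bool.rec (eL10513 i) (eT10502 i) (Nat.ble 10766336 i)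
noncomputable def eT10504 (i : Nat) : Nat := Bool.rec (eT10501 i) (eT10503 i) (Nat.ble 10765312 i)
noncomputable def eT10505 (i : Nat) : Nat := Bool.rec (eL10517 i) (eL10518 i) (Nat.ble 10770432 i)
noncomputable def eT10506 (i : Nat) : Nat := Bool.rec (eL10516 i) (eT10505 i) (Nat.ble 10769408 i)
noncomputable def eT10507 (i : Nat) : Nat := Bool.rec (eL10520 i) (eL10521 i) (Nat.ble 10773504 i)
noncomputable def eT10508 (i : Nat) : Nat := Bool.rec (eL10519 i) (eT10507 i) (Nat.ble 10772480 i)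
noncomputable def eT10509 (i : Nat) : Nat := Bool.rec (eT10506 i) (eT10508 i) (Nat.ble 10771456 i)
noncomputable def eT10510 (i : Nat) : Nat := Bool.rec (eT10504 i) (eT10509 i) (Nat.ble 10768384 i)
noncomputable def eT10511 (i : Nat) : Nat := Bool.rec (eT10500 i) (eT10510 i) (Nat.ble 10763264 i)
noncomputable def eT10512 (i : Nat) : Nat := Bool.rec (eT10491 i) (eT10511 i) (Nat.ble 10753024 i)
noncomputable def eT10513 (i : Nat) : Nat := Bool.rec (eT10471 i) (eT10512 i) (Nat.ble 10731520 i)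
noncomputable def eT10514 (i : Nat) : Nat := Bool.rec (eT10431 i) (eT10513 i) (Nat.ble 10689536 i)
noncomputable def eT10515 (i : Nat) : Nat := Bool.rec (eT10350 i) (eT10514 i) (Nat.ble 10605568 i)
noncomputable def eT10516 (i : Nat) : Nat := Bool.rec (eT10187 i) (eT10515 i) (Nat.ble 10437632 i)
noncomputable def eT10517 (i : Nat) : Nat := Bool.rec (eT9859 i) (eT10516 i) (Nat.ble 10100736 i)
noncomputable def eT10518 (i : Nat) : Nat := Bool.rec (eT9202 i) (eT10517 i) (Nat.ble 9426944 i)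
noncomputable def eT10519 (i : Nat) : Nat := Bool.rec (eT7888 i) (eT10518 i) (Nat.ble 8080384 i)
noncomputable def eT10520 (i : Nat) : Nat := Bool.rec (eT5259 i) (eT10519 i) (Nat.ble 5387264 i)
/-- the entry of an unknown -/
noncomputable def ent (i : Nat) : Nat := eT10520 i

end Cfsg.Agent.Lib.Helper2.HNMult.P2
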