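import Cfsg.Agent.Lib.Helper2.HNMult.P2.Cert
set_option autoImplicit false
set_option maxRecDepth 1000000
set_option Elab.async false
namespace Cfsg.Agent.Lib.Helper2.HNMult.P2
open Cfsg.Agent.Lib.Helper4.Sparse Cfsg.Agent.Lib.Helper2.SparseF
theorem ck_0 : chkURangeF D C relF 796 1237356000 0 2048 = true := by decide +kernel
theorem ck_1 : chkURangeF D C relF 796 1237356000 2048 2048 = true := by decide +kernel
theorem ck_2 : chkURangeF D C relF 796 1237356000 4096 2048 = true := by decide +kernel
theorem ck_3 : chkURangeF D C relF 796 1237356000 6144 2048 = true := by decide +kernel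
theorem ck_4 : chkURangeF D C relF 796 1237356000 8192 2048 = true := by decide +kernel
theorem ck_5 : chkURangeF D C relF 796 1237356000 10240 2048 = true := by decide +kernel
theorem ck_6 : chkURangeF D C relF 796 1237356000 12288 2048 = true := by decide +kernel
theorem ck_7 : chkURangeF D C relF 796 1237356000 14336 2048 = true := by decide +kernel
theorem ck_8 : chkURangeF D C relF 796 1237356000 16384 2048 = true := by decide +kernel
theorem ck_9 : chkURangeF D C relF 796 1237356000 18432 2048 = true := by decide +kernel
theorem ck_10 : chkURangeF D C relF 796 1237356000 20480 2048 = true := by decide +kernel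
theorem ck_11 : chkURangeF D C relF 796 1237356000 22528 2048 = true := by decide +kernel
theorem ck_12 : chkURangeF D C relF 796 1237356000 24576 2048 = true := by decide +kernel
theorem ck_13 : chkURangeF D C relF 796 1237356000 26624 2048 = true := by decide +kernel
theorem ck_14 : chkURangeF D C relF 796 1237356000 28672 2048 = true := by decide +kernel
theorem ck_15 : chkURangeF D C relF 796 1237356000 30720 2048 = true := by decide +kernel
theorem ck_16 : chkURangeF D C relF 796 1237356000 32768 2048 = true := by decide +kernel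
theorem ck_17 : chkURangeF D C relF 796 1237356000 34816 2048 = true := by decide +kernel
theorem ck_18 : chkURangeF D C relF 796 1237356000 36864 2048 = true := by decide +kernel
theorem ck_19 : chkURangeF D C relF 796 1237356000 38912 2048 = true := by decide +kernel
theorem ck_20 : chkURangeF D C relF 796 1237356000 40960 2048 = true := by decide +kernel
theorem ck_21 : chkURangeF D C relF 796 1237356000 43008 2048 = true := by decide +kernel
theorem ck_22 : chkURangeF D C relF 796 1237356000 45056 2048 = true := by decide +kernel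
theorem ck_23 : chkURangeF D C relF 796 1237356000 47104 2048 = true := by decide +kernel
theorem chkU_0 (b : ℕ) (h1 : 0 ≤ b) (h2 : b < 49152) : chkU D C b = true := by
  rcases Nat.lt_or_ge b 2048 with g0 | g0
  · exact chkURangeF_spec C relF_hyp 1237356000 tc_eq 0 2048 ck_0 b (by omega) (by omega)
  rcases Nat.lt_or_ge b 4096 with g1 | g1
  · exact chkURangeF_spec C relF_hyp 1237356000 tc_eq 2048 2048 ck_1 b (by omega) (by omega)
  rcases Nat.lt_or_ge b 6144 with g2 | g2
  · exact chkURangeF_spec C relF_hyp 1237356000 tc_eq 4096 2048 ck_2 b (by omega) (by omega)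
  rcases Nat.lt_or_ge b 8192 with g3 | g3
  · exact chkURangeF_spec C relF_hyp 1237356000 tc_eq 6144 2048 ck_3 b (by omega) (by omega)
  rcases Nat.lt_or_ge b 10240 with g4 | g4
  · exact chkURangeF_spec C relF_hyp 1237356000 tc_eq 8192 2048 ck_4 b (by omega) (by omega)
  rcases Nat.lt_or_ge b 12288 with g5 | g5
  · exact chkURangeF_spec C relF_hyp 1237356000 tc_eq 10240 2048 ck_5 b (by omega) (by omega)
  rcases Nat.lt_or_ge b 14336 with g6 | g6
  · exact chkURangeF_spec C relF_hyp 1237356000 tc_eq 12288 2048 ck_6 b (by omega) (by omega)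
  rcases Nat.lt_or_ge b 16384 with g7 | g7
  · exact chkURangeF_spec C relF_hyp 1237356000 tc_eq 14336 2048 ck_7 b (by omega) (by omega)
  rcases Nat.lt_or_ge b 18432 with g8 | g8
  · exact chkURangeF_spec C relF_hyp 1237356000 tc_eq 16384 2048 ck_8 b (by omega) (by omega)
  rcases Nat.lt_or_ge b 20480 with g9 | g9
  · exact chkURangeF_spec C relF_hyp 1237356000 tc_eq 18432 2048 ck_9 b (by omega) (by omega)
  rcases Nat.lt_or_ge b 22528 with g10 | g10
  · exact chkURangeF_spec C relF_hyp 1237356000 tc_eq 20480 2048 ck_10 b (by omega) (by omega)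
  rcases Nat.lt_or_ge b 24576 with g11 | g11
  · exact chkURangeF_spec C relF_hyp 1237356000 tc_eq 22528 2048 ck_11 b (by omega) (by omega)
  rcases Nat.lt_or_ge b 26624 with g12 | g12
  · exact chkURangeF_spec C relF_hyp 1237356000 tc_eq 24576 2048 ck_12 b (by omega) (by omega)
  rcases Nat.lt_or_ge b 28672 with g13 | g13
  · exact chkURangeF_spec C relF_hyp 1237356000 tc_eq 26624 2048 ck_13 b (by omega) (by omega)
  rcases Nat.lt_or_ge b 30720 with g14 | g14
  · exact chkURangeF_spec C relF_hyp 1237356000 tc_eq 28672 2048 ck_14 b (by omega) (by omega)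
  rcases Nat.lt_or_ge b 32768 with g15 | g15
  · exact chkURangeF_spec C relF_hyp 1237356000 tc_eq 30720 2048 ck_15 b (by omega) (by omega)
  rcases Nat.lt_or_ge b 34816 with g16 | g16
  · exact chkURangeF_spec C relF_hyp 1237356000 tc_eq 32768 2048 ck_16 b (by omega) (by omega)
  rcases Nat.lt_or_ge b 36864 with g17 | g17
  · exact chkURangeF_spec C relF_hyp 1237356000 tc_eq 34816 2048 ck_17 b (by omega) (by omega)
  rcases Nat.lt_or_ge b 38912 with g18 | g18
  · exact chkURangeF_spec C relF_hyp 1237356000 tc_eq 36864 2048 ck_18 b (by omega) (by omega)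
  rcases Nat.lt_or_ge b 40960 with g19 | g19
  · exact chkURangeF_spec C relF_hyp 1237356000 tc_eq 38912 2048 ck_19 b (by omega) (by omega)
  rcases Nat.lt_or_ge b 43008 with g20 | g20
  · exact chkURangeF_spec C relF_hyp 1237356000 tc_eq 40960 2048 ck_20 b (by omega) (by omega)
  rcases Nat.lt_or_ge b 45056 with g21 | g21
  · exact chkURangeF_spec C relF_hyp 1237356000 tc_eq 43008 2048 ck_21 b (by omega) (by omega)
  rcases Nat.lt_or_ge b 47104 with g22 | g22
  · exact chkURangeF_spec C relF_hyp 1237356000 tc_eq 45056 2048 ck_22 b (by omega) (by omega)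
  exact chkURangeF_spec C relF_hyp 1237356000 tc_eq 47104 2048 ck_23 b (by omega) (by omega)
end Cfsg.Agent.Lib.Helper2.HNMult.P2
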