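import Cfsg.Agent.Lib.Helper2.HNMult.P2.Cert
set_option autoImplicit false
set_option maxRecDepth 1000000
set_option Elab.async false
namespace Cfsg.Agent.Lib.Helper2.HNMult.P2
open Cfsg.Agent.Lib.Helper4.Sparse Cfsg.Agent.Lib.Helper2.SparseF
theorem ck_2544 : chkURangeF D C relF 796 1237356000 5210112 2048 = true := by decide +kernel
theorem ck_2545 : chkURangeF D C relF 796 1237356000 5212160 2048 = true := by decide +kernel
theorem ck_2546 : chkURangeF D C relF 796 1237356000 5214208 2048 = true := by decide +kernel
theorem ck_2547 : chkURangeF D C relF 796 1237356000 5216256 2048 = true := by decide +kernel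
theorem ck_2548 : chkURangeF D C relF 796 1237356000 5218304 2048 = true := by decide +kernel
theorem ck_2549 : chkURangeF D C relF 796 1237356000 5220352 2048 = true := by decide +kernel
theorem ck_2550 : chkURangeF D C relF 796 1237356000 5222400 2048 = true := by decide +kernel
theorem ck_2551 : chkURangeF D C relF 796 1237356000 5224448 2048 = true := by decide +kernel
theorem ck_2552 : chkURangeF D C relF 796 1237356000 5226496 2048 = true := by decide +kernel
theorem ck_2553 : chkURangeF D C relF 796 1237356000 5228544 2048 = true := by decide +kernel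
theorem ck_2554 : chkURangeF D C relF 796 1237356000 5230592 2048 = true := by decide +kernel
theorem ck_2555 : chkURangeF D C relF 796 1237356000 5232640 2048 = true := by decide +kernel
theorem ck_2556 : chkURangeF D C relF 796 1237356000 5234688 2048 = true := by decide +kernel
theorem ck_2557 : chkURangeF D C relF 796 1237356000 5236736 2048 = true := by decide +kernel
theorem ck_2558 : chkURangeF D C relF 796 1237356000 5238784 2048 = true := by decide +kernel
theorem ck_2559 : chkURangeF D C relF 796 1237356000 5240832 2048 = true := by decide +kernel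
theorem ck_2560 : chkURangeF D C relF 796 1237356000 5242880 2048 = true := by decide +kernel
theorem ck_2561 : chkURangeF D C relF 796 1237356000 5244928 2048 = true := by decide +kernel
theorem ck_2562 : chkURangeF D C relF 796 1237356000 5246976 2048 = true := by decide +kernel
theorem ck_2563 : chkURangeF D C relF 796 1237356000 5249024 2048 = true := by decide +kernel
theorem ck_2564 : chkURangeF D C relF 796 1237356000 5251072 2048 = true := by decide +kernel
theorem ck_2565 : chkURangeF D C relF 796 1237356000 5253120 2048 = true := by decide +kernel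
theorem ck_2566 : chkURangeF D C relF 796 1237356000 5255168 2048 = true := by decide +kernel
theorem ck_2567 : chkURangeF D C relF 796 1237356000 5257216 2048 = true := by decide +kernel
theorem chkU_106 (b : ℕ) (h1 : 5210112 ≤ b) (h2 : b < 5259264) : chkU D C b = true := by
  rcases Nat.lt_or_ge b 5212160 with g0 | g0
  · exact chkURangeF_spec C relF_hyp 1237356000 tc_eq 5210112 2048 ck_2544 b (by omega) (by omega)
  rcases Nat.lt_or_ge b 5214208 with g1 | g1
  · exact chkURangeF_spec C relF_hyp 1237356000 tc_eq 5212160 2048 ck_2545 b (by omega) (by omega)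
  rcases Nat.lt_or_ge b 5216256 with g2 | g2
  · exact chkURangeF_spec C relF_hyp 1237356000 tc_eq 5214208 2048 ck_2546 b (by omega) (by omega)
  rcases Nat.lt_or_ge b 5218304 with g3 | g3
  · exact chkURangeF_spec C relF_hyp 1237356000 tc_eq 5216256 2048 ck_2547 b (by omega) (by omega)
  rcases Nat.lt_or_ge b 5220352 with g4 | g4
  · exact chkURangeF_spec C relF_hyp 1237356000 tc_eq 5218304 2048 ck_2548 b (by omega) (by omega)
  rcases Nat.lt_or_ge b 5222400 with g5 | g5
  · exact chkURangeF_spec C relF_hyp 1237356000 tc_eq 5220352 2048 ck_2549 b (by omega) (by omega)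
  rcases Nat.lt_or_ge b 5224448 with g6 | g6
  · exact chkURangeF_spec C relF_hyp 1237356000 tc_eq 5222400 2048 ck_2550 b (by omega) (by omega)
  rcases Nat.lt_or_ge b 5226496 with g7 | g7
  · exact chkURangeF_spec C relF_hyp 1237356000 tc_eq 5224448 2048 ck_2551 b (by omega) (by omega)
  rcases Nat.lt_or_ge b 5228544 with g8 | g8
  · exact chkURangeF_spec C relF_hyp 1237356000 tc_eq 5226496 2048 ck_2552 b (by omega) (by omega)
  rcases Nat.lt_or_ge b 5230592 with g9 | g9
  · exact chkURangeF_spec C relF_hyp 1237356000 tc_eq 5228544 2048 ck_2553 b (by omega) (by omega)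
  rcases Nat.lt_or_ge b 5232640 with g10 | g10
  · exact chkURangeF_spec C relF_hyp 1237356000 tc_eq 5230592 2048 ck_2554 b (by omega) (by omega)
  rcases Nat.lt_or_ge b 5234688 with g11 | g11
  · exact chkURangeF_spec C relF_hyp 1237356000 tc_eq 5232640 2048 ck_2555 b (by omega) (by omega)
  rcases Nat.lt_or_ge b 5236736 with g12 | g12
  · exact chkURangeF_spec C relF_hyp 1237356000 tc_eq 5234688 2048 ck_2556 b (by omega) (by omega)
  rcases Nat.lt_or_ge b 5238784 with g13 | g13
  · exact chkURangeF_spec C relF_hyp 1237356000 tc_eq 5236736 2048 ck_2557 b (by omega) (by omega)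
  rcases Nat.lt_or_ge b 5240832 with g14 | g14
  · exact chkURangeF_spec C relF_hyp 1237356000 tc_eq 5238784 2048 ck_2558 b (by omega) (by omega)
  rcases Nat.lt_or_ge b 5242880 with g15 | g15
  · exact chkURangeF_spec C relF_hyp 1237356000 tc_eq 5240832 2048 ck_2559 b (by omega) (by omega)
  rcases Nat.lt_or_ge b 5244928 with g16 | g16
  · exact chkURangeF_spec C relF_hyp 1237356000 tc_eq 5242880 2048 ck_2560 b (by omega) (by omega)
  rcases Nat.lt_or_ge b 5246976 with g17 | g17
  · exact chkURangeF_spec C relF_hyp 1237356000 tc_eq 5244928 2048 ck_2561 b (by omega) (by omega)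
  rcases Nat.lt_or_ge b 5249024 with g18 | g18
  · exact chkURangeF_spec C relF_hyp 1237356000 tc_eq 5246976 2048 ck_2562 b (by omega) (by omega)
  rcases Nat.lt_or_ge b 5251072 with g19 | g19
  · exact chkURangeF_spec C relF_hyp 1237356000 tc_eq 5249024 2048 ck_2563 b (by omega) (by omega)
  rcases Nat.lt_or_ge b 5253120 with g20 | g20
  · exact chkURangeF_spec C relF_hyp 1237356000 tc_eq 5251072 2048 ck_2564 b (by omega) (by omega)
  rcases Nat.lt_or_ge b 5255168 with g21 | g21
  · exact chkURangeF_spec C relF_hyp 1237356000 tc_eq 5253120 2048 ck_2565 b (by omega) (by omega)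
  rcases Nat.lt_or_ge b 5257216 with g22 | g22
  · exact chkURangeF_spec C relF_hyp 1237356000 tc_eq 5255168 2048 ck_2566 b (by omega) (by omega)
  exact chkURangeF_spec C relF_hyp 1237356000 tc_eq 5257216 2048 ck_2567 b (by omega) (by omega)
end Cfsg.Agent.Lib.Helper2.HNMult.P2
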