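import Cfsg.Agent.Lib.Helper2.HNMult.P2.Cert
set_option autoImplicit false
set_option maxRecDepth 1000000
set_option Elab.async false
namespace Cfsg.Agent.Lib.Helper2.HNMult.P2
open Cfsg.Agent.Lib.Helper4.Sparse Cfsg.Agent.Lib.Helper2.SparseF
theorem ck_3336 : chkURangeF D C relF 796 1237356000 6832128 2048 = true := by decide +kernel
theorem ck_3337 : chkURangeF D C relF 796 1237356000 6834176 2048 = true := by decide +kernel
theorem ck_3338 : chkURangeF D C relF 796 1237356000 6836224 2048 = true := by decide +kernel
theorem ck_3339 : chkURangeF D C relF 796 1237356000 6838272 2048 = true := by decide +kernel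
theorem ck_3340 : chkURangeF D C relF 796 1237356000 6840320 2048 = true := by decide +kernel
theorem ck_3341 : chkURangeF D C relF 796 1237356000 6842368 2048 = true := by decide +kernel
theorem ck_3342 : chkURangeF D C relF 796 1237356000 6844416 2048 = true := by decide +kernel
theorem ck_3343 : chkURangeF D C relF 796 1237356000 6846464 2048 = true := by decide +kernel
theorem ck_3344 : chkURangeF D C relF 796 1237356000 6848512 2048 = true := by decide +kernel
theorem ck_3345 : chkURangeF D C relF 796 1237356000 6850560 2048 = true := by decide +kernel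
theorem ck_3346 : chkURangeF D C relF 796 1237356000 6852608 2048 = true := by decide +kernel
theorem ck_3347 : chkURangeF D C relF 796 1237356000 6854656 2048 = true := by decide +kernel
theorem ck_3348 : chkURangeF D C relF 796 1237356000 6856704 2048 = true := by decide +kernel
theorem ck_3349 : chkURangeF D C relF 796 1237356000 6858752 2048 = true := by decide +kernel
theorem ck_3350 : chkURangeF D C relF 796 1237356000 6860800 2048 = true := by decide +kernel
theorem ck_3351 : chkURangeF D C relF 796 1237356000 6862848 2048 = true := by decide +kernel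
theorem ck_3352 : chkURangeF D C relF 796 1237356000 6864896 2048 = true := by decide +kernel
theorem ck_3353 : chkURangeF D C relF 796 1237356000 6866944 2048 = true := by decide +kernel
theorem ck_3354 : chkURangeF D C relF 796 1237356000 6868992 2048 = true := by decide +kernel
theorem ck_3355 : chkURangeF D C relF 796 1237356000 6871040 2048 = true := by decide +kernel
theorem ck_3356 : chkURangeF D C relF 796 1237356000 6873088 2048 = true := by decide +kernel
theorem ck_3357 : chkURangeF D C relF 796 1237356000 6875136 2048 = true := by decide +kernel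
theorem ck_3358 : chkURangeF D C relF 796 1237356000 6877184 2048 = true := by decide +kernel
theorem ck_3359 : chkURangeF D C relF 796 1237356000 6879232 2048 = true := by decide +kernel
theorem chkU_139 (b : ℕ) (h1 : 6832128 ≤ b) (h2 : b < 6881280) : chkU D C b = true := by
  rcases Nat.lt_or_ge b 6834176 with g0 | g0
  · exact chkURangeF_spec C relF_hyp 1237356000 tc_eq 6832128 2048 ck_3336 b (by omega) (by omega)
  rcases Nat.lt_or_ge b 6836224 with g1 | g1
  · exact chkURangeF_spec C relF_hyp 1237356000 tc_eq 6834176 2048 ck_3337 b (by omega) (by omega)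
  rcases Nat.lt_or_ge b 6838272 with g2 | g2
  · exact chkURangeF_spec C relF_hyp 1237356000 tc_eq 6836224 2048 ck_3338 b (by omega) (by omega)
  rcases Nat.lt_or_ge b 6840320 with g3 | g3
  · exact chkURangeF_spec C relF_hyp 1237356000 tc_eq 6838272 2048 ck_3339 b (by omega) (by omega)
  rcases Nat.lt_or_ge b 6842368 with g4 | g4
  · exact chkURangeF_spec C relF_hyp 1237356000 tc_eq 6840320 2048 ck_3340 b (by omega) (by omega)
  rcases Nat.lt_or_ge b 6844416 with g5 | g5
  · exact chkURangeF_spec C relF_hyp 1237356000 tc_eq 6842368 2048 ck_3341 b (by omega) (by omega)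
  rcases Nat.lt_or_ge b 6846464 with g6 | g6
  · exact chkURangeF_spec C relF_hyp 1237356000 tc_eq 6844416 2048 ck_3342 b (by omega) (by omega)
  rcases Nat.lt_or_ge b 6848512 with g7 | g7
  · exact chkURangeF_spec C relF_hyp 1237356000 tc_eq 6846464 2048 ck_3343 b (by omega) (by omega)
  rcases Nat.lt_or_ge b 6850560 with g8 | g8
  · exact chkURangeF_spec C relF_hyp 1237356000 tc_eq 6848512 2048 ck_3344 b (by omega) (by omega)
  rcases Nat.lt_or_ge b 6852608 with g9 | g9
  · exact chkURangeF_spec C relF_hyp 1237356000 tc_eq 6850560 2048 ck_3345 b (by omega) (by omega)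
  rcases Nat.lt_or_ge b 6854656 with g10 | g10
  · exact chkURangeF_spec C relF_hyp 1237356000 tc_eq 6852608 2048 ck_3346 b (by omega) (by omega)
  rcases Nat.lt_or_ge b 6856704 with g11 | g11
  · exact chkURangeF_spec C relF_hyp 1237356000 tc_eq 6854656 2048 ck_3347 b (by omega) (by omega)
  rcases Nat.lt_or_ge b 6858752 with g12 | g12
  · exact chkURangeF_spec C relF_hyp 1237356000 tc_eq 6856704 2048 ck_3348 b (by omega) (by omega)
  rcases Nat.lt_or_ge b 6860800 with g13 | g13
  · exact chkURangeF_spec C relF_hyp 1237356000 tc_eq 6858752 2048 ck_3349 b (by omega) (by omega)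
  rcases Nat.lt_or_ge b 6862848 with g14 | g14
  · exact chkURangeF_spec C relF_hyp 1237356000 tc_eq 6860800 2048 ck_3350 b (by omega) (by omega)
  rcases Nat.lt_or_ge b 6864896 with g15 | g15
  · exact chkURangeF_spec C relF_hyp 1237356000 tc_eq 6862848 2048 ck_3351 b (by omega) (by omega)
  rcases Nat.lt_or_ge b 6866944 with g16 | g16
  · exact chkURangeF_spec C relF_hyp 1237356000 tc_eq 6864896 2048 ck_3352 b (by omega) (by omega)
  rcases Nat.lt_or_ge b 6868992 with g17 | g17
  · exact chkURangeF_spec C relF_hyp 1237356000 tc_eq 6866944 2048 ck_3353 b (by omega) (by omega)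
  rcases Nat.lt_or_ge b 6871040 with g18 | g18
  · exact chkURangeF_spec C relF_hyp 1237356000 tc_eq 6868992 2048 ck_3354 b (by omega) (by omega)
  rcases Nat.lt_or_ge b 6873088 with g19 | g19
  · exact chkURangeF_spec C relF_hyp 1237356000 tc_eq 6871040 2048 ck_3355 b (by omega) (by omega)
  rcases Nat.lt_or_ge b 6875136 with g20 | g20
  · exact chkURangeF_spec C relF_hyp 1237356000 tc_eq 6873088 2048 ck_3356 b (by omega) (by omega)
  rcases Nat.lt_or_ge b 6877184 with g21 | g21
  · exact chkURangeF_spec C relF_hyp 1237356000 tc_eq 6875136 2048 ck_3357 b (by omega) (by omega)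
  rcases Nat.lt_or_ge b 6879232 with g22 | g22
  · exact chkURangeF_spec C relF_hyp 1237356000 tc_eq 6877184 2048 ck_3358 b (by omega) (by omega)
  exact chkURangeF_spec C relF_hyp 1237356000 tc_eq 6879232 2048 ck_3359 b (by omega) (by omega)
end Cfsg.Agent.Lib.Helper2.HNMult.P2
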