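import Cfsg.Agent.Lib.Helper2.HNMult.P2.Cert
set_option autoImplicit false
set_option maxRecDepth 1000000
set_option Elab.async false
namespace Cfsg.Agent.Lib.Helper2.HNMult.P2
open Cfsg.Agent.Lib.Helper4.Sparse Cfsg.Agent.Lib.Helper2.SparseF
theorem ck_3600 : chkURangeF D C relF 796 1237356000 7372800 2048 = true := by decide +kernel
theorem ck_3601 : chkURangeF D C relF 796 1237356000 7374848 2048 = true := by decide +kernel
theorem ck_3602 : chkURangeF D C relF 796 1237356000 7376896 2048 = true := by decide +kernel
theorem ck_3603 : chkURangeF D C relF 796 1237356000 7378944 2048 = true := by decide +kernel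
theorem ck_3604 : chkURangeF D C relF 796 1237356000 7380992 2048 = true := by decide +kernel
theorem ck_3605 : chkURangeF D C relF 796 1237356000 7383040 2048 = true := by decide +kernel
theorem ck_3606 : chkURangeF D C relF 796 1237356000 7385088 2048 = true := by decide +kernel
theorem ck_3607 : chkURangeF D C relF 796 1237356000 7387136 2048 = true := by decide +kernel
theorem ck_3608 : chkURangeF D C relF 796 1237356000 7389184 2048 = true := by decide +kernel
theorem ck_3609 : chkURangeF D C relF 796 1237356000 7391232 2048 = true := by decide +kernel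
theorem ck_3610 : chkURangeF D C relF 796 1237356000 7393280 2048 = true := by decide +kernel
theorem ck_3611 : chkURangeF D C relF 796 1237356000 7395328 2048 = true := by decide +kernel
theorem ck_3612 : chkURangeF D C relF 796 1237356000 7397376 2048 = true := by decide +kernel
theorem ck_3613 : chkURangeF D C relF 796 1237356000 7399424 2048 = true := by decide +kernel
theorem ck_3614 : chkURangeF D C relF 796 1237356000 7401472 2048 = true := by decide +kernel
theorem ck_3615 : chkURangeF D C relF 796 1237356000 7403520 2048 = true := by decide +kernel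
theorem ck_3616 : chkURangeF D C relF 796 1237356000 7405568 2048 = true := by decide +kernel
theorem ck_3617 : chkURangeF D C relF 796 1237356000 7407616 2048 = true := by decide +kernel
theorem ck_3618 : chkURangeF D C relF 796 1237356000 7409664 2048 = true := by decide +kernel
theorem ck_3619 : chkURangeF D C relF 796 1237356000 7411712 2048 = true := by decide +kernel
theorem ck_3620 : chkURangeF D C relF 796 1237356000 7413760 2048 = true := by decide +kernel
theorem ck_3621 : chkURangeF D C relF 796 1237356000 7415808 2048 = true := by decide +kernel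
theorem ck_3622 : chkURangeF D C relF 796 1237356000 7417856 2048 = true := by decide +kernel
theorem ck_3623 : chkURangeF D C relF 796 1237356000 7419904 2048 = true := by decide +kernel
theorem chkU_150 (b : ℕ) (h1 : 7372800 ≤ b) (h2 : b < 7421952) : chkU D C b = true := by
  rcases Nat.lt_or_ge b 7374848 with g0 | g0
  · exact chkURangeF_spec C relF_hyp 1237356000 tc_eq 7372800 2048 ck_3600 b (by omega) (by omega)
  rcases Nat.lt_or_ge b 7376896 with g1 | g1
  · exact chkURangeF_spec C relF_hyp 1237356000 tc_eq 7374848 2048 ck_3601 b (by omega) (by omega)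
  rcases Nat.lt_or_ge b 7378944 with g2 | g2
  · exact chkURangeF_spec C relF_hyp 1237356000 tc_eq 7376896 2048 ck_3602 b (by omega) (by omega)
  rcases Nat.lt_or_ge b 7380992 with g3 | g3
  · exact chkURangeF_spec C relF_hyp 1237356000 tc_eq 7378944 2048 ck_3603 b (by omega) (by omega)
  rcases Nat.lt_or_ge b 7383040 with g4 | g4
  · exact chkURangeF_spec C relF_hyp 1237356000 tc_eq 7380992 2048 ck_3604 b (by omega) (by omega)
  rcases Nat.lt_or_ge b 7385088 with g5 | g5
  · exact chkURangeF_spec C relF_hyp 1237356000 tc_eq 7383040 2048 ck_3605 b (by omega) (by omega)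
  rcases Nat.lt_or_ge b 7387136 with g6 | g6
  · exact chkURangeF_spec C relF_hyp 1237356000 tc_eq 7385088 2048 ck_3606 b (by omega) (by omega)
  rcases Nat.lt_or_ge b 7389184 with g7 | g7
  · exact chkURangeF_spec C relF_hyp 1237356000 tc_eq 7387136 2048 ck_3607 b (by omega) (by omega)
  rcases Nat.lt_or_ge b 7391232 with g8 | g8
  · exact chkURangeF_spec C relF_hyp 1237356000 tc_eq 7389184 2048 ck_3608 b (by omega) (by omega)
  rcases Nat.lt_or_ge b 7393280 with g9 | g9
  · exact chkURangeF_spec C relF_hyp 1237356000 tc_eq 7391232 2048 ck_3609 b (by omega) (by omega)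
  rcases Nat.lt_or_ge b 7395328 with g10 | g10
  · exact chkURangeF_spec C relF_hyp 1237356000 tc_eq 7393280 2048 ck_3610 b (by omega) (by omega)
  rcases Nat.lt_or_ge b 7397376 with g11 | g11
  · exact chkURangeF_spec C relF_hyp 1237356000 tc_eq 7395328 2048 ck_3611 b (by omega) (by omega)
  rcases Nat.lt_or_ge b 7399424 with g12 | g12
  · exact chkURangeF_spec C relF_hyp 1237356000 tc_eq 7397376 2048 ck_3612 b (by omega) (by omega)
  rcases Nat.lt_or_ge b 7401472 with g13 | g13
  · exact chkURangeF_spec C relF_hyp 1237356000 tc_eq 7399424 2048 ck_3613 b (by omega) (by omega)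
  rcases Nat.lt_or_ge b 7403520 with g14 | g14
  · exact chkURangeF_spec C relF_hyp 1237356000 tc_eq 7401472 2048 ck_3614 b (by omega) (by omega)
  rcases Nat.lt_or_ge b 7405568 with g15 | g15
  · exact chkURangeF_spec C relF_hyp 1237356000 tc_eq 7403520 2048 ck_3615 b (by omega) (by omega)
  rcases Nat.lt_or_ge b 7407616 with g16 | g16
  · exact chkURangeF_spec C relF_hyp 1237356000 tc_eq 7405568 2048 ck_3616 b (by omega) (by omega)
  rcases Nat.lt_or_ge b 7409664 with g17 | g17
  · exact chkURangeF_spec C relF_hyp 1237356000 tc_eq 7407616 2048 ck_3617 b (by omega) (by omega)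
  rcases Nat.lt_or_ge b 7411712 with g18 | g18
  · exact chkURangeF_spec C relF_hyp 1237356000 tc_eq 7409664 2048 ck_3618 b (by omega) (by omega)
  rcases Nat.lt_or_ge b 7413760 with g19 | g19
  · exact chkURangeF_spec C relF_hyp 1237356000 tc_eq 7411712 2048 ck_3619 b (by omega) (by omega)
  rcases Nat.lt_or_ge b 7415808 with g20 | g20
  · exact chkURangeF_spec C relF_hyp 1237356000 tc_eq 7413760 2048 ck_3620 b (by omega) (by omega)
  rcases Nat.lt_or_ge b 7417856 with g21 | g21
  · exact chkURangeF_spec C relF_hyp 1237356000 tc_eq 7415808 2048 ck_3621 b (by omega) (by omega)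
  rcases Nat.lt_or_ge b 7419904 with g22 | g22
  · exact chkURangeF_spec C relF_hyp 1237356000 tc_eq 7417856 2048 ck_3622 b (by omega) (by omega)
  exact chkURangeF_spec C relF_hyp 1237356000 tc_eq 7419904 2048 ck_3623 b (by omega) (by omega)
end Cfsg.Agent.Lib.Helper2.HNMult.P2
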