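import Cfsg.Agent.Lib.Helper2.HNMult.P2.Cert
set_option autoImplicit false
set_option maxRecDepth 1000000
set_option Elab.async false
namespace Cfsg.Agent.Lib.Helper2.HNMult.P2
open Cfsg.Agent.Lib.Helper4.Sparse Cfsg.Agent.Lib.Helper2.SparseF
theorem ck_4392 : chkURangeF D C relF 796 1237356000 8994816 2048 = true := by decide +kernel
theorem ck_4393 : chkURangeF D C relF 796 1237356000 8996864 2048 = true := by decide +kernel
theorem ck_4394 : chkURangeF D C relF 796 1237356000 8998912 2048 = true := by decide +kernel
theorem ck_4395 : chkURangeF D C relF 796 1237356000 9000960 2048 = true := by decide +kernel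
theorem ck_4396 : chkURangeF D C relF 796 1237356000 9003008 2048 = true := by decide +kernel
theorem ck_4397 : chkURangeF D C relF 796 1237356000 9005056 2048 = true := by decide +kernel
theorem ck_4398 : chkURangeF D C relF 796 1237356000 9007104 2048 = true := by decide +kernel
theorem ck_4399 : chkURangeF D C relF 796 1237356000 9009152 2048 = true := by decide +kernel
theorem ck_4400 : chkURangeF D C relF 796 1237356000 9011200 2048 = true := by decide +kernel
theorem ck_4401 : chkURangeF D C relF 796 1237356000 9013248 2048 = true := by decide +kernel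
theorem ck_4402 : chkURangeF D C relF 796 1237356000 9015296 2048 = true := by decide +kernel
theorem ck_4403 : chkURangeF D C relF 796 1237356000 9017344 2048 = true := by decide +kernel
theorem ck_4404 : chkURangeF D C relF 796 1237356000 9019392 2048 = true := by decide +kernel
theorem ck_4405 : chkURangeF D C relF 796 1237356000 9021440 2048 = true := by decide +kernel
theorem ck_4406 : chkURangeF D C relF 796 1237356000 9023488 2048 = true := by decide +kernel
theorem ck_4407 : chkURangeF D C relF 796 1237356000 9025536 2048 = true := by decide +kernel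
theorem ck_4408 : chkURangeF D C relF 796 1237356000 9027584 2048 = true := by decide +kernel
theorem ck_4409 : chkURangeF D C relF 796 1237356000 9029632 2048 = true := by decide +kernel
theorem ck_4410 : chkURangeF D C relF 796 1237356000 9031680 2048 = true := by decide +kernel
theorem ck_4411 : chkURangeF D C relF 796 1237356000 9033728 2048 = true := by decide +kernel
theorem ck_4412 : chkURangeF D C relF 796 1237356000 9035776 2048 = true := by decide +kernel
theorem ck_4413 : chkURangeF D C relF 796 1237356000 9037824 2048 = true := by decide +kernel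
theorem ck_4414 : chkURangeF D C relF 796 1237356000 9039872 2048 = true := by decide +kernel
theorem ck_4415 : chkURangeF D C relF 796 1237356000 9041920 2048 = true := by decide +kernel
theorem chkU_183 (b : ℕ) (h1 : 8994816 ≤ b) (h2 : b < 9043968) : chkU D C b = true := by
  rcases Nat.lt_or_ge b 8996864 with g0 | g0
  · exact chkURangeF_spec C relF_hyp 1237356000 tc_eq 8994816 2048 ck_4392 b (by omega) (by omega)
  rcases Nat.lt_or_ge b 8998912 with g1 | g1
  · exact chkURangeF_spec C relF_hyp 1237356000 tc_eq 8996864 2048 ck_4393 b (by omega) (by omega)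
  rcases Nat.lt_or_ge b 9000960 with g2 | g2
  · exact chkURangeF_spec C relF_hyp 1237356000 tc_eq 8998912 2048 ck_4394 b (by omega) (by omega)
  rcases Nat.lt_or_ge b 9003008 with g3 | g3
  · exact chkURangeF_spec C relF_hyp 1237356000 tc_eq 9000960 2048 ck_4395 b (by omega) (by omega)
  rcases Nat.lt_or_ge b 9005056 with g4 | g4
  · exact chkURangeF_spec C relF_hyp 1237356000 tc_eq 9003008 2048 ck_4396 b (by omega) (by omega)
  rcases Nat.lt_or_ge b 9007104 with g5 | g5
  · exact chkURangeF_spec C relF_hyp 1237356000 tc_eq 9005056 2048 ck_4397 b (by omega) (by omega)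
  rcases Nat.lt_or_ge b 9009152 with g6 | g6
  · exact chkURangeF_spec C relF_hyp 1237356000 tc_eq 9007104 2048 ck_4398 b (by omega) (by omega)
  rcases Nat.lt_or_ge b 9011200 with g7 | g7
  · exact chkURangeF_spec C relF_hyp 1237356000 tc_eq 9009152 2048 ck_4399 b (by omega) (by omega)
  rcases Nat.lt_or_ge b 9013248 with g8 | g8
  · exact chkURangeF_spec C relF_hyp 1237356000 tc_eq 9011200 2048 ck_4400 b (by omega) (by omega)
  rcases Nat.lt_or_ge b 9015296 with g9 | g9
  · exact chkURangeF_spec C relF_hyp 1237356000 tc_eq 9013248 2048 ck_4401 b (by omega) (by omega)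
  rcases Nat.lt_or_ge b 9017344 with g10 | g10
  · exact chkURangeF_spec C relF_hyp 1237356000 tc_eq 9015296 2048 ck_4402 b (by omega) (by omega)
  rcases Nat.lt_or_ge b 9019392 with g11 | g11
  · exact chkURangeF_spec C relF_hyp 1237356000 tc_eq 9017344 2048 ck_4403 b (by omega) (by omega)
  rcases Nat.lt_or_ge b 9021440 with g12 | g12
  · exact chkURangeF_spec C relF_hyp 1237356000 tc_eq 9019392 2048 ck_4404 b (by omega) (by omega)
  rcases Nat.lt_or_ge b 9023488 with g13 | g13
  · exact chkURangeF_spec C relF_hyp 1237356000 tc_eq 9021440 2048 ck_4405 b (by omega) (by omega)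
  rcases Nat.lt_or_ge b 9025536 with g14 | g14
  · exact chkURangeF_spec C relF_hyp 1237356000 tc_eq 9023488 2048 ck_4406 b (by omega) (by omega)
  rcases Nat.lt_or_ge b 9027584 with g15 | g15
  · exact chkURangeF_spec C relF_hyp 1237356000 tc_eq 9025536 2048 ck_4407 b (by omega) (by omega)
  rcases Nat.lt_or_ge b 9029632 with g16 | g16
  · exact chkURangeF_spec C relF_hyp 1237356000 tc_eq 9027584 2048 ck_4408 b (by omega) (by omega)
  rcases Nat.lt_or_ge b 9031680 with g17 | g17
  · exact chkURangeF_spec C relF_hyp 1237356000 tc_eq 9029632 2048 ck_4409 b (by omega) (by omega)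
  rcases Nat.lt_or_ge b 9033728 with g18 | g18
  · exact chkURangeF_spec C relF_hyp 1237356000 tc_eq 9031680 2048 ck_4410 b (by omega) (by omega)
  rcases Nat.lt_or_ge b 9035776 with g19 | g19
  · exact chkURangeF_spec C relF_hyp 1237356000 tc_eq 9033728 2048 ck_4411 b (by omega) (by omega)
  rcases Nat.lt_or_ge b 9037824 with g20 | g20
  · exact chkURangeF_spec C relF_hyp 1237356000 tc_eq 9035776 2048 ck_4412 b (by omega) (by omega)
  rcases Nat.lt_or_ge b 9039872 with g21 | g21
  · exact chkURangeF_spec C relF_hyp 1237356000 tc_eq 9037824 2048 ck_4413 b (by omega) (by omega)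
  rcases Nat.lt_or_ge b 9041920 with g22 | g22
  · exact chkURangeF_spec C relF_hyp 1237356000 tc_eq 9039872 2048 ck_4414 b (by omega) (by omega)
  exact chkURangeF_spec C relF_hyp 1237356000 tc_eq 9041920 2048 ck_4415 b (by omega) (by omega)
end Cfsg.Agent.Lib.Helper2.HNMult.P2
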