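import Cfsg.Agent.Lib.Helper2.HNMult.P2.Cert
set_option autoImplicit false
set_option maxRecDepth 1000000
set_option Elab.async false
namespace Cfsg.Agent.Lib.Helper2.HNMult.P2
open Cfsg.Agent.Lib.Helper4.Sparse Cfsg.Agent.Lib.Helper2.SparseF
theorem ck_5184 : chkURangeF D C relF 796 1237356000 10616832 2048 = true := by decide +kernel
theorem ck_5185 : chkURangeF D C relF 796 1237356000 10618880 2048 = true := by decide +kernel
theorem ck_5186 : chkURangeF D C relF 796 1237356000 10620928 2048 = true := by decide +kernel
theorem ck_5187 : chkURangeF D C relF 796 1237356000 10622976 2048 = true := by decide +kernel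
theorem ck_5188 : chkURangeF D C relF 796 1237356000 10625024 2048 = true := by decide +kernel
theorem ck_5189 : chkURangeF D C relF 796 1237356000 10627072 2048 = true := by decide +kernel
theorem ck_5190 : chkURangeF D C relF 796 1237356000 10629120 2048 = true := by decide +kernel
theorem ck_5191 : chkURangeF D C relF 796 1237356000 10631168 2048 = true := by decide +kernel
theorem ck_5192 : chkURangeF D C relF 796 1237356000 10633216 2048 = true := by decide +kernel
theorem ck_5193 : chkURangeF D C relF 796 1237356000 10635264 2048 = true := by decide +kernel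
theorem ck_5194 : chkURangeF D C relF 796 1237356000 10637312 2048 = true := by decide +kernel
theorem ck_5195 : chkURangeF D C relF 796 1237356000 10639360 2048 = true := by decide +kernel
theorem ck_5196 : chkURangeF D C relF 796 1237356000 10641408 2048 = true := by decide +kernel
theorem ck_5197 : chkURangeF D C relF 796 1237356000 10643456 2048 = true := by decide +kernel
theorem ck_5198 : chkURangeF D C relF 796 1237356000 10645504 2048 = true := by decide +kernel
theorem ck_5199 : chkURangeF D C relF 796 1237356000 10647552 2048 = true := by decide +kernel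
theorem ck_5200 : chkURangeF D C relF 796 1237356000 10649600 2048 = true := by decide +kernel
theorem ck_5201 : chkURangeF D C relF 796 1237356000 10651648 2048 = true := by decide +kernel
theorem ck_5202 : chkURangeF D C relF 796 1237356000 10653696 2048 = true := by decide +kernel
theorem ck_5203 : chkURangeF D C relF 796 1237356000 10655744 2048 = true := by decide +kernel
theorem ck_5204 : chkURangeF D C relF 796 1237356000 10657792 2048 = true := by decide +kernel
theorem ck_5205 : chkURangeF D C relF 796 1237356000 10659840 2048 = true := by decide +kernel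
theorem ck_5206 : chkURangeF D C relF 796 1237356000 10661888 2048 = true := by decide +kernel
theorem ck_5207 : chkURangeF D C relF 796 1237356000 10663936 2048 = true := by decide +kernel
theorem chkU_216 (b : ℕ) (h1 : 10616832 ≤ b) (h2 : b < 10665984) : chkU D C b = true := by
  rcases Nat.lt_or_ge b 10618880 with g0 | g0
  · exact chkURangeF_spec C relF_hyp 1237356000 tc_eq 10616832 2048 ck_5184 b (by omega) (by omega)
  rcases Nat.lt_or_ge b 10620928 with g1 | g1
  · exact chkURangeF_spec C relF_hyp 1237356000 tc_eq 10618880 2048 ck_5185 b (by omega) (by omega)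
  rcases Nat.lt_or_ge b 10622976 with g2 | g2
  · exact chkURangeF_spec C relF_hyp 1237356000 tc_eq 10620928 2048 ck_5186 b (by omega) (by omega)
  rcases Nat.lt_or_ge b 10625024 with g3 | g3
  · exact chkURangeF_spec C relF_hyp 1237356000 tc_eq 10622976 2048 ck_5187 b (by omega) (by omega)
  rcases Nat.lt_or_ge b 10627072 with g4 | g4
  · exact chkURangeF_spec C relF_hyp 1237356000 tc_eq 10625024 2048 ck_5188 b (by omega) (by omega)
  rcases Nat.lt_or_ge b 10629120 with g5 | g5
  · exact chkURangeF_spec C relF_hyp 1237356000 tc_eq 10627072 2048 ck_5189 b (by omega) (by omega)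
  rcases Nat.lt_or_ge b 10631168 with g6 | g6
  · exact chkURangeF_spec C relF_hyp 1237356000 tc_eq 10629120 2048 ck_5190 b (by omega) (by omega)
  rcases Nat.lt_or_ge b 10633216 with g7 | g7
  · exact chkURangeF_spec C relF_hyp 1237356000 tc_eq 10631168 2048 ck_5191 b (by omega) (by omega)
  rcases Nat.lt_or_ge b 10635264 with g8 | g8
  · exact chkURangeF_spec C relF_hyp 1237356000 tc_eq 10633216 2048 ck_5192 b (by omega) (by omega)
  rcases Nat.lt_or_ge b 10637312 with g9 | g9
  · exact chkURangeF_spec C relF_hyp 1237356000 tc_eq 10635264 2048 ck_5193 b (by omega) (by omega)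
  rcases Nat.lt_or_ge b 10639360 with g10 | g10
  · exact chkURangeF_spec C relF_hyp 1237356000 tc_eq 10637312 2048 ck_5194 b (by omega) (by omega)
  rcases Nat.lt_or_ge b 10641408 with g11 | g11
  · exact chkURangeF_spec C relF_hyp 1237356000 tc_eq 10639360 2048 ck_5195 b (by omega) (by omega)
  rcases Nat.lt_or_ge b 10643456 with g12 | g12
  · exact chkURangeF_spec C relF_hyp 1237356000 tc_eq 10641408 2048 ck_5196 b (by omega) (by omega)
  rcases Nat.lt_or_ge b 10645504 with g13 | g13
  · exact chkURangeF_spec C relF_hyp 1237356000 tc_eq 10643456 2048 ck_5197 b (by omega) (by omega)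
  rcases Nat.lt_or_ge b 10647552 with g14 | g14
  · exact chkURangeF_spec C relF_hyp 1237356000 tc_eq 10645504 2048 ck_5198 b (by omega) (by omega)
  rcases Nat.lt_or_ge b 10649600 with g15 | g15
  · exact chkURangeF_spec C relF_hyp 1237356000 tc_eq 10647552 2048 ck_5199 b (by omega) (by omega)
  rcases Nat.lt_or_ge b 10651648 with g16 | g16
  · exact chkURangeF_spec C relF_hyp 1237356000 tc_eq 10649600 2048 ck_5200 b (by omega) (by omega)
  rcases Nat.lt_or_ge b 10653696 with g17 | g17
  · exact chkURangeF_spec C relF_hyp 1237356000 tc_eq 10651648 2048 ck_5201 b (by omega) (by omega)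
  rcases Nat.lt_or_ge b 10655744 with g18 | g18
  · exact chkURangeF_spec C relF_hyp 1237356000 tc_eq 10653696 2048 ck_5202 b (by omega) (by omega)
  rcases Nat.lt_or_ge b 10657792 with g19 | g19
  · exact chkURangeF_spec C relF_hyp 1237356000 tc_eq 10655744 2048 ck_5203 b (by omega) (by omega)
  rcases Nat.lt_or_ge b 10659840 with g20 | g20
  · exact chkURangeF_spec C relF_hyp 1237356000 tc_eq 10657792 2048 ck_5204 b (by omega) (by omega)
  rcases Nat.lt_or_ge b 10661888 with g21 | g21
  · exact chkURangeF_spec C relF_hyp 1237356000 tc_eq 10659840 2048 ck_5205 b (by omega) (by omega)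
  rcases Nat.lt_or_ge b 10663936 with g22 | g22
  · exact chkURangeF_spec C relF_hyp 1237356000 tc_eq 10661888 2048 ck_5206 b (by omega) (by omega)
  exact chkURangeF_spec C relF_hyp 1237356000 tc_eq 10663936 2048 ck_5207 b (by omega) (by omega)
end Cfsg.Agent.Lib.Helper2.HNMult.P2
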