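import Cfsg.Agent.Lib.Helper2.HNMult.P2.Cert
set_option autoImplicit false
set_option maxRecDepth 1000000
set_option Elab.async false
namespace Cfsg.Agent.Lib.Helper2.HNMult.P2
open Cfsg.Agent.Lib.Helper4.Sparse
theorem tr_1 : chkTreeRange 7 piT parT 3 1 8192 = true := by decide +kernel
theorem tr_8193 : chkTreeRange 7 piT parT 3 8193 8192 = true := by decide +kernel
theorem tr_16385 : chkTreeRange 7 piT parT 3 16385 8192 = true := by decide +kernel
theorem tr_24577 : chkTreeRange 7 piT parT 3 24577 8192 = true := by decide +kernel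
theorem tr_32769 : chkTreeRange 7 piT parT 3 32769 8192 = true := by decide +kernel
theorem tr_40961 : chkTreeRange 7 piT parT 3 40961 8192 = true := by decide +kernel
theorem tr_49153 : chkTreeRange 7 piT parT 3 49153 8192 = true := by decide +kernel
theorem tr_57345 : chkTreeRange 7 piT parT 3 57345 8192 = true := by decide +kernel
theorem tr_65537 : chkTreeRange 7 piT parT 3 65537 8192 = true := by decide +kernel
theorem tr_73729 : chkTreeRange 7 piT parT 3 73729 8192 = true := by decide +kernel
theorem tr_81921 : chkTreeRange 7 piT parT 3 81921 8192 = true := by decide +kernel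
theorem tr_90113 : chkTreeRange 7 piT parT 3 90113 8192 = true := by decide +kernel
theorem tr_98305 : chkTreeRange 7 piT parT 3 98305 8192 = true := by decide +kernel
theorem tr_106497 : chkTreeRange 7 piT parT 3 106497 8192 = true := by decide +kernel
theorem tr_114689 : chkTreeRange 7 piT parT 3 114689 8192 = true := by decide +kernel
theorem treeP0 (j : ℕ) (h1 : 1 ≤ j) (h2 : j < 122881) : chkTreeAt 7 piT parT 3 j = true := by
  rcases Nat.lt_or_ge j 8193 with g0 | g0
  · exact chkTreeRange_spec 7 piT parT 3 1 8192 tr_1 j (by omega) (by omega)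
  rcases Nat.lt_or_ge j 16385 with g1 | g1
  · exact chkTreeRange_spec 7 piT parT 3 8193 8192 tr_8193 j (by omega) (by omega)
  rcases Nat.lt_or_ge j 24577 with g2 | g2
  · exact chkTreeRange_spec 7 piT parT 3 16385 8192 tr_16385 j (by omega) (by omega)
  rcases Nat.lt_or_ge j 32769 with g3 | g3
  · exact chkTreeRange_spec 7 piT parT 3 24577 8192 tr_24577 j (by omega) (by omega)
  rcases Nat.lt_or_ge j 40961 with g4 | g4
  · exact chkTreeRange_spec 7 piT parT 3 32769 8192 tr_32769 j (by omega) (by omega)
  rcases Nat.lt_or_ge j 49153 with g5 | g5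
  · exact chkTreeRange_spec 7 piT parT 3 40961 8192 tr_40961 j (by omega) (by omega)
  rcases Nat.lt_or_ge j 57345 with g6 | g6
  · exact chkTreeRange_spec 7 piT parT 3 49153 8192 tr_49153 j (by omega) (by omega)
  rcases Nat.lt_or_ge j 65537 with g7 | g7
  · exact chkTreeRange_spec 7 piT parT 3 57345 8192 tr_57345 j (by omega) (by omega)
  rcases Nat.lt_or_ge j 73729 with g8 | g8
  · exact chkTreeRange_spec 7 piT parT 3 65537 8192 tr_65537 j (by omega) (by omega)
  rcases Nat.lt_or_ge j 81921 with g9 | g9
  · exact chkTreeRange_spec 7 piT parT 3 73729 8192 tr_73729 j (by omega) (by omega)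
  rcases Nat.lt_or_ge j 90113 with g10 | g10
  · exact chkTreeRange_spec 7 piT parT 3 81921 8192 tr_81921 j (by omega) (by omega)
  rcases Nat.lt_or_ge j 98305 with g11 | g11
  · exact chkTreeRange_spec 7 piT parT 3 90113 8192 tr_90113 j (by omega) (by omega)
  rcases Nat.lt_or_ge j 106497 with g12 | g12
  · exact chkTreeRange_spec 7 piT parT 3 98305 8192 tr_98305 j (by omega) (by omega)
  rcases Nat.lt_or_ge j 114689 with g13 | g13
  · exact chkTreeRange_spec 7 piT parT 3 106497 8192 tr_106497 j (by omega) (by omega)
  exact chkTreeRange_spec 7 piT parT 3 114689 8192 tr_114689 j (by omega) (by omega)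
end Cfsg.Agent.Lib.Helper2.HNMult.P2
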