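import Cfsg.Agent.Lib.Helper2.HNMult.P2.Cert
set_option autoImplicit false
set_option maxRecDepth 1000000

/-! # The residual relations between the distinguished unknowns -/

namespace Cfsg.Agent.Lib.Helper2.HNMult.P2
open Cfsg.Agent.Lib.Helper4.Sparse

theorem res_0 : chkResid D C 7 135 256 = true := by decide +kernel
theorem res_1 : chkResid D C 7 5 2 = true := by decide +kernel
theorem res_2 : chkResid D C 7 417 65537 = true := by decide +kernel
theorem res_3 : chkResid D C 7 9518 16777216 = true := by decide +kernel
theorem res_4 : chkResid D C 7 1020 4294967297 = true := by decide +kernel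
theorem res_5 : chkResid D C 7 1620 1099511627777 = true := by decide +kernel

/-- the residual relations -/
def res : List (ℕ × ℕ × ℕ) :=
  [(7, 135, 256), (7, 5, 2), (7, 417, 65537), (7, 9518, 16777216), (7, 1020, 4294967297), (7, 1620, 1099511627777)]

theorem hres : ∀ x ∈ res, chkResid D C x.1 x.2.1 x.2.2 = true := by
  intro x hx
  simp only [res, List.mem_cons, List.mem_nil_iff, or_false] at hx
  rcases hx with rfl | rfl | rfl | rfl | rfl | rfl
  · exact res_0
  · exact res_1
  · exact res_2
  · exact res_3
  · exact res_4
  · exact res_5

/-- the target relations -/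
def tgt : ℕ → ℕ := fun i => List.getD [2, 256, 65539, 16777216, 4294967299, 1099511627779] i 0

/-- the combinations of the residual relations giving the target relations -/
def comb : ℕ → List ℕ := fun i => List.getD [[1], [0], [2, 1], [3], [4, 1], [5, 1]] i []

end Cfsg.Agent.Lib.Helper2.HNMult.P2
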